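import Cfsg.Agent.Lib.Helper16.HNP.TabD0
import Cfsg.Agent.Lib.Helper16.HNP.TabD1
import Cfsg.Agent.Lib.Helper16.HNP.TabD2
import Cfsg.Agent.Lib.Helper16.HNP.TabD3
import Cfsg.Agent.Lib.Helper16.HNP.TabD4
import Cfsg.Agent.Lib.Helper16.HNP.TabD5
import Cfsg.Agent.Lib.Helper16.HNP.TabD6
import Cfsg.Agent.Lib.Helper16.HNP.TabD7
import Cfsg.Agent.Lib.Helper16.HNP.TabD8
import Cfsg.Agent.Lib.Helper16.HNP.TabD9
import Cfsg.Agent.Lib.Helper16.HNP.TabD10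
import Cfsg.Agent.Lib.Helper16.HNP.TabD11
import Cfsg.Agent.Lib.Helper16.HNP.TabD12
import Cfsg.Agent.Lib.Helper16.HNP.TabD13
import Cfsg.Agent.Lib.Helper16.HNP.TabD14
import Cfsg.Agent.Lib.Helper16.HNP.TabD15
import Cfsg.Agent.Lib.Helper16.HNP.TabD16
import Cfsg.Agent.Lib.Helper28.TC2Orbit
set_option autoImplicit false
set_option maxRecDepth 100000

namespace Cfsg.Agent.Lib.Helper16.HNP.Table
open Cfsg.Agent.Lib.Helper28.TC2Upper Cfsg.Agent.Lib.Helper28.TC2Lower Cfsg.Agent.Lib.Helper28.TC2Orbit Cfsg.Agent.Lib.Helper16.HNP.TabD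

/-- table chunks -/
noncomputable def colTT_0 : BT ℕ := (BT.node 82 (BT.node 41 (BT.node 20 (BT.node 10 (BT.node 5 (BT.node 2 (BT.node 1 (BT.node 0 (BT.leaf cT0) (BT.leaf cT1)) (BT.leaf cT2)) (BT.node 4 (BT.node 3 (BT.leaf cT3) (BT.leaf cT4)) (BT.leaf cT5))) (BT.node 8 (BT.node 7 (BT.node 6 (BT.leaf cT6) (BT.leaf cT7)) (BT.leaf cT8)) (BT.node 9 (BT.leaf cT9) (BT.leaf cT10)))) (BT.node 15 (BT.node 13 (BT.node 12 (BT.node 11 (BT.leaf cT11) (BT.leaf cT12)) (BT.leaf cT13)) (BT.node 14 (BT.leaf cT14) (BT.leaf cT15))) (BT.node 18 (BT.node 17 (BT.node 16 (BT.leaf cT16) (BT.leaf cT17)) (BT.leaf cT18)) (BT.node 19 (BT.leaf cT19) (BT.leaf cT20))))) (BT.node 31 (BT.node 26 (BT.node 23 (BT.node 22 (BT.node 21 (BT.leaf cT21) (BT.leaf cT22)) (BT.leaf cT23)) (BT.node 25 (BT.node 24 (BT.leaf cT24) (BT.leaf cT25)) (BT.leaf cT26))) (BT.node 29 (BT.node 28 (BT.node 27 (BT.leaf cT27) (BT.leaf cT28))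 (BT.leaf cT29)) (BT.node 30 (BT.leaf cT30) (BT.leaf cT31)))) (BT.node 36 (BT.node 34 (BT.node 33 (BT.node 32 (BT.leaf cT32) (BT.leaf cT33)) (BT.leaf cT34)) (BT.node 35 (BT.leaf cT35) (BT.leaf cT36))) (BT.node 39 (BT.node 38 (BT.node 37 (BT.leaf cT37) (BT.leaf cT38)) (BT.leaf cT39)) (BT.node 40 (BT.leaf cT40) (BT.leaf cT41)))))) (BT.node 62 (BT.node 52 (BT.node 47 (BT.node 44 (BT.node 43 (BT.node 42 (BT.leaf cT42) (BT.leaf cT43)) (BT.leaf cT44)) (BT.node 46 (BT.node 45 (BT.leaf cT45) (BT.leaf cT46)) (BT.leaf cT47))) (BT.node 50 (BT.node 49 (BT.node 48 (BT.leaf cT48) (BT.leaf cT49)) (BT.leaf cT50)) (BT.node 51 (BT.leaf cT51) (BT.leaf cT52)))) (BT.node 57 (BT.node 55 (BT.node 54 (BT.node 53 (BT.leaf cT53) (BT.leaf cT54)) (BT.leaf cT55)) (BT.node 56 (BT.leaf cT56) (BT.leaf cT57))) (BT.node 60 (BT.node 59 (BT.node 58 (BT.leaf cT58) (BT.leaf cT59)) (BT.leaf cT60)) (BT.node 61 (BT.leaf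 cT61) (BT.leaf cT62))))) (BT.node 72 (BT.node 67 (BT.node 65 (BT.node 64 (BT.node 63 (BT.leaf cT63) (BT.leaf cT64)) (BT.leaf cT65)) (BT.node 66 (BT.leaf cT66) (BT.leaf cT67))) (BT.node 70 (BT.node 69 (BT.node 68 (BT.leaf cT68) (BT.leaf cT69)) (BT.leaf cT70)) (BT.node 71 (BT.leaf cT71) (BT.leaf cT72)))) (BT.node 77 (BT.node 75 (BT.node 74 (BT.node 73 (BT.leaf cT73) (BT.leaf cT74)) (BT.leaf cT75)) (BT.node 76 (BT.leaf cT76) (BT.leaf cT77))) (BT.node 80 (BT.node 79 (BT.node 78 (BT.leaf cT78) (BT.leaf cT79)) (BT.leaf cT80)) (BT.node 81 (BT.leaf cT81) (BT.leaf cT82))))))) (BT.node 123 (BT.node 103 (BT.node 93 (BT.node 88 (BT.node 85 (BT.node 84 (BT.node 83 (BT.leaf cT83) (BT.leaf cT84)) (BT.leaf cT85)) (BT.node 87 (BT.node 86 (BT.leaf cT86) (BT.leaf cT87)) (BT.leaf cT88))) (BT.node 91 (BT.node 90 (BT.node 89 (BT.leaf cT89) (BT.leaf cT90)) (BT.leaf cT91)) (BT.node 92 (BT.leaf cT92)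 (BT.leaf cT93)))) (BT.node 98 (BT.node 96 (BT.node 95 (BT.node 94 (BT.leaf cT94) (BT.leaf cT95)) (BT.leaf cT96)) (BT.node 97 (BT.leaf cT97) (BT.leaf cT98))) (BT.node 101 (BT.node 100 (BT.node 99 (BT.leaf cT99) (BT.leaf cT100)) (BT.leaf cT101)) (BT.node 102 (BT.leaf cT102) (BT.leaf cT103))))) (BT.node 113 (BT.node 108 (BT.node 106 (BT.node 105 (BT.node 104 (BT.leaf cT104) (BT.leaf cT105)) (BT.leaf cT106)) (BT.node 107 (BT.leaf cT107) (BT.leaf cT108))) (BT.node 111 (BT.node 110 (BT.node 109 (BT.leaf cT109) (BT.leaf cT110)) (BT.leaf cT111)) (BT.node 112 (BT.leaf cT112) (BT.leaf cT113)))) (BT.node 118 (BT.node 116 (BT.node 115 (BT.node 114 (BT.leaf cT114) (BT.leaf cT115)) (BT.leaf cT116)) (BT.node 117 (BT.leaf cT117) (BT.leaf cT118))) (BT.node 121 (BT.node 120 (BT.node 119 (BT.leaf cT119) (BT.leaf cT120)) (BT.leaf cT121)) (BT.node 122 (BT.leaf cT122) (BT.leaf cT123)))))) (BT.node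 144 (BT.node 134 (BT.node 129 (BT.node 126 (BT.node 125 (BT.node 124 (BT.leaf cT124) (BT.leaf cT125)) (BT.leaf cT126)) (BT.node 128 (BT.node 127 (BT.leaf cT127) (BT.leaf cT128)) (BT.leaf cT129))) (BT.node 132 (BT.node 131 (BT.node 130 (BT.leaf cT130) (BT.leaf cT131)) (BT.leaf cT132)) (BT.node 133 (BT.leaf cT133) (BT.leaf cT134)))) (BT.node 139 (BT.node 137 (BT.node 136 (BT.node 135 (BT.leaf cT135) (BT.leaf cT136)) (BT.leaf cT137)) (BT.node 138 (BT.leaf cT138) (BT.leaf cT139))) (BT.node 142 (BT.node 141 (BT.node 140 (BT.leaf cT140) (BT.leaf cT141)) (BT.leaf cT142)) (BT.node 143 (BT.leaf cT143) (BT.leaf cT144))))) (BT.node 154 (BT.node 149 (BT.node 147 (BT.node 146 (BT.node 145 (BT.leaf cT145) (BT.leaf cT146)) (BT.leaf cT147)) (BT.node 148 (BT.leaf cT148) (BT.leaf cT149))) (BT.node 152 (BT.node 151 (BT.node 150 (BT.leaf cT150) (BT.leaf cT151)) (BT.leaf cT152)) (BT.node 153 (BT.leaf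 cT153) (BT.leaf cT154)))) (BT.node 159 (BT.node 157 (BT.node 156 (BT.node 155 (BT.leaf cT155) (BT.leaf cT156)) (BT.leaf cT157)) (BT.node 158 (BT.leaf cT158) (BT.leaf cT159))) (BT.node 162 (BT.node 161 (BT.node 160 (BT.leaf cT160) (BT.leaf cT161)) (BT.leaf cT162)) (BT.node 163 (BT.leaf cT163) (BT.leaf cT164))))))))
noncomputable def colTT_1 : BT ℕ := (BT.node 246 (BT.node 205 (BT.node 185 (BT.node 175 (BT.node 170 (BT.node 167 (BT.node 166 (BT.node 165 (BT.leaf cT165) (BT.leaf cT166)) (BT.leaf cT167)) (BT.node 169 (BT.node 168 (BT.leaf cT168) (BT.leaf cT169)) (BT.leaf cT170))) (BT.node 173 (BT.node 172 (BT.node 171 (BT.leaf cT171) (BT.leaf cT172)) (BT.leaf cT173)) (BT.node 174 (BT.leaf cT174) (BT.leaf cT175)))) (BT.node 180 (BT.node 178 (BT.node 177 (BT.node 176 (BT.leaf cT176) (BT.leaf cT177)) (BT.leaf cT178)) (BT.node 179 (BT.leaf cT179) (BT.leaf cT180))) (BT.node 183 (BT.node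 182 (BT.node 181 (BT.leaf cT181) (BT.leaf cT182)) (BT.leaf cT183)) (BT.node 184 (BT.leaf cT184) (BT.leaf cT185))))) (BT.node 195 (BT.node 190 (BT.node 188 (BT.node 187 (BT.node 186 (BT.leaf cT186) (BT.leaf cT187)) (BT.leaf cT188)) (BT.node 189 (BT.leaf cT189) (BT.leaf cT190))) (BT.node 193 (BT.node 192 (BT.node 191 (BT.leaf cT191) (BT.leaf cT192)) (BT.leaf cT193)) (BT.node 194 (BT.leaf cT194) (BT.leaf cT195)))) (BT.node 200 (BT.node 198 (BT.node 197 (BT.node 196 (BT.leaf cT196) (BT.leaf cT197)) (BT.leaf cT198)) (BT.node 199 (BT.leaf cT199) (BT.leaf cT200))) (BT.node 203 (BT.node 202 (BT.node 201 (BT.leaf cT201) (BT.leaf cT202)) (BT.leaf cT203)) (BT.node 204 (BT.leaf cT204) (BT.leaf cT205)))))) (BT.node 226 (BT.node 216 (BT.node 211 (BT.node 208 (BT.node 207 (BT.node 206 (BT.leaf cT206) (BT.leaf cT207)) (BT.leaf cT208)) (BT.node 210 (BT.node 209 (BT.leaf cT209) (BT.leaf cT210))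 (BT.leaf cT211))) (BT.node 214 (BT.node 213 (BT.node 212 (BT.leaf cT212) (BT.leaf cT213)) (BT.leaf cT214)) (BT.node 215 (BT.leaf cT215) (BT.leaf cT216)))) (BT.node 221 (BT.node 219 (BT.node 218 (BT.node 217 (BT.leaf cT217) (BT.leaf cT218)) (BT.leaf cT219)) (BT.node 220 (BT.leaf cT220) (BT.leaf cT221))) (BT.node 224 (BT.node 223 (BT.node 222 (BT.leaf cT222) (BT.leaf cT223)) (BT.leaf cT224)) (BT.node 225 (BT.leaf cT225) (BT.leaf cT226))))) (BT.node 236 (BT.node 231 (BT.node 229 (BT.node 228 (BT.node 227 (BT.leaf cT227) (BT.leaf cT228)) (BT.leaf cT229)) (BT.node 230 (BT.leaf cT230) (BT.leaf cT231))) (BT.node 234 (BT.node 233 (BT.node 232 (BT.leaf cT232) (BT.leaf cT233)) (BT.leaf cT234)) (BT.node 235 (BT.leaf cT235) (BT.leaf cT236)))) (BT.node 241 (BT.node 239 (BT.node 238 (BT.node 237 (BT.leaf cT237) (BT.leaf cT238)) (BT.leaf cT239)) (BT.node 240 (BT.leaf cT240) (BT.leaf cT241)))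 (BT.node 244 (BT.node 243 (BT.node 242 (BT.leaf cT242) (BT.leaf cT243)) (BT.leaf cT244)) (BT.node 245 (BT.leaf cT245) (BT.leaf cT246))))))) (BT.node 287 (BT.node 267 (BT.node 257 (BT.node 252 (BT.node 249 (BT.node 248 (BT.node 247 (BT.leaf cT247) (BT.leaf cT248)) (BT.leaf cT249)) (BT.node 251 (BT.node 250 (BT.leaf cT250) (BT.leaf cT251)) (BT.leaf cT252))) (BT.node 255 (BT.node 254 (BT.node 253 (BT.leaf cT253) (BT.leaf cT254)) (BT.leaf cT255)) (BT.node 256 (BT.leaf cT256) (BT.leaf cT257)))) (BT.node 262 (BT.node 260 (BT.node 259 (BT.node 258 (BT.leaf cT258) (BT.leaf cT259)) (BT.leaf cT260)) (BT.node 261 (BT.leaf cT261) (BT.leaf cT262))) (BT.node 265 (BT.node 264 (BT.node 263 (BT.leaf cT263) (BT.leaf cT264)) (BT.leaf cT265)) (BT.node 266 (BT.leaf cT266) (BT.leaf cT267))))) (BT.node 277 (BT.node 272 (BT.node 270 (BT.node 269 (BT.node 268 (BT.leaf cT268) (BT.leaf cT269)) (BT.leaf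 cT270)) (BT.node 271 (BT.leaf cT271) (BT.leaf cT272))) (BT.node 275 (BT.node 274 (BT.node 273 (BT.leaf cT273) (BT.leaf cT274)) (BT.leaf cT275)) (BT.node 276 (BT.leaf cT276) (BT.leaf cT277)))) (BT.node 282 (BT.node 280 (BT.node 279 (BT.node 278 (BT.leaf cT278) (BT.leaf cT279)) (BT.leaf cT280)) (BT.node 281 (BT.leaf cT281) (BT.leaf cT282))) (BT.node 285 (BT.node 284 (BT.node 283 (BT.leaf cT283) (BT.leaf cT284)) (BT.leaf cT285)) (BT.node 286 (BT.leaf cT286) (BT.leaf cT287)))))) (BT.node 308 (BT.node 298 (BT.node 293 (BT.node 290 (BT.node 289 (BT.node 288 (BT.leaf cT288) (BT.leaf cT289)) (BT.leaf cT290)) (BT.node 292 (BT.node 291 (BT.leaf cT291) (BT.leaf cT292)) (BT.leaf cT293))) (BT.node 296 (BT.node 295 (BT.node 294 (BT.leaf cT294) (BT.leaf cT295)) (BT.leaf cT296)) (BT.node 297 (BT.leaf cT297) (BT.leaf cT298)))) (BT.node 303 (BT.node 301 (BT.node 300 (BT.node 299 (BT.leaf cT299)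 (BT.leaf cT300)) (BT.leaf cT301)) (BT.node 302 (BT.leaf cT302) (BT.leaf cT303))) (BT.node 306 (BT.node 305 (BT.node 304 (BT.leaf cT304) (BT.leaf cT305)) (BT.leaf cT306)) (BT.node 307 (BT.leaf cT307) (BT.leaf cT308))))) (BT.node 318 (BT.node 313 (BT.node 311 (BT.node 310 (BT.node 309 (BT.leaf cT309) (BT.leaf cT310)) (BT.leaf cT311)) (BT.node 312 (BT.leaf cT312) (BT.leaf cT313))) (BT.node 316 (BT.node 315 (BT.node 314 (BT.leaf cT314) (BT.leaf cT315)) (BT.leaf cT316)) (BT.node 317 (BT.leaf cT317) (BT.leaf cT318)))) (BT.node 323 (BT.node 321 (BT.node 320 (BT.node 319 (BT.leaf cT319) (BT.leaf cT320)) (BT.leaf cT321)) (BT.node 322 (BT.leaf cT322) (BT.leaf cT323))) (BT.node 326 (BT.node 325 (BT.node 324 (BT.leaf cT324) (BT.leaf cT325)) (BT.leaf cT326)) (BT.node 327 (BT.leaf cT327) (BT.leaf cT328))))))))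
noncomputable def colTT_2 : BT ℕ := (BT.node 411 (BT.node 370 (BT.node 349 (BT.node 339 (BT.node 334 (BT.node 331 (BT.node 330 (BT.node 329 (BT.leaf cT329) (BT.leaf cT330)) (BT.leaf cT331)) (BT.node 333 (BT.node 332 (BT.leaf cT332) (BT.leaf cT333)) (BT.leaf cT334))) (BT.node 337 (BT.node 336 (BT.node 335 (BT.leaf cT335) (BT.leaf cT336)) (BT.leaf cT337)) (BT.node 338 (BT.leaf cT338) (BT.leaf cT339)))) (BT.node 344 (BT.node 342 (BT.node 341 (BT.node 340 (BT.leaf cT340) (BT.leaf cT341)) (BT.leaf cT342)) (BT.node 343 (BT.leaf cT343) (BT.leaf cT344))) (BT.node 347 (BT.node 346 (BT.node 345 (BT.leaf cT345) (BT.leaf cT346)) (BT.leaf cT347)) (BT.node 348 (BT.leaf cT348) (BT.leaf cT349))))) (BT.node 360 (BT.node 355 (BT.node 352 (BT.node 351 (BT.node 350 (BT.leaf cT350) (BT.leaf cT351)) (BT.leaf cT352)) (BT.node 354 (BT.node 353 (BT.leaf cT353) (BT.leaf cT354)) (BT.leaf cT355))) (BT.node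 358 (BT.node 357 (BT.node 356 (BT.leaf cT356) (BT.leaf cT357)) (BT.leaf cT358)) (BT.node 359 (BT.leaf cT359) (BT.leaf cT360)))) (BT.node 365 (BT.node 363 (BT.node 362 (BT.node 361 (BT.leaf cT361) (BT.leaf cT362)) (BT.leaf cT363)) (BT.node 364 (BT.leaf cT364) (BT.leaf cT365))) (BT.node 368 (BT.node 367 (BT.node 366 (BT.leaf cT366) (BT.leaf cT367)) (BT.leaf cT368)) (BT.node 369 (BT.leaf cT369) (BT.leaf cT370)))))) (BT.node 391 (BT.node 381 (BT.node 376 (BT.node 373 (BT.node 372 (BT.node 371 (BT.leaf cT371) (BT.leaf cT372)) (BT.leaf cT373)) (BT.node 375 (BT.node 374 (BT.leaf cT374) (BT.leaf cT375)) (BT.leaf cT376))) (BT.node 379 (BT.node 378 (BT.node 377 (BT.leaf cT377) (BT.leaf cT378)) (BT.leaf cT379)) (BT.node 380 (BT.leaf cT380) (BT.leaf cT381)))) (BT.node 386 (BT.node 384 (BT.node 383 (BT.node 382 (BT.leaf cT382) (BT.leaf cT383)) (BT.leaf cT384)) (BT.node 385 (BT.leaf cT385)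 (BT.leaf cT386))) (BT.node 389 (BT.node 388 (BT.node 387 (BT.leaf cT387) (BT.leaf cT388)) (BT.leaf cT389)) (BT.node 390 (BT.leaf cT390) (BT.leaf cT391))))) (BT.node 401 (BT.node 396 (BT.node 394 (BT.node 393 (BT.node 392 (BT.leaf cT392) (BT.leaf cT393)) (BT.leaf cT394)) (BT.node 395 (BT.leaf cT395) (BT.leaf cT396))) (BT.node 399 (BT.node 398 (BT.node 397 (BT.leaf cT397) (BT.leaf cT398)) (BT.leaf cT399)) (BT.node 400 (BT.leaf cT400) (BT.leaf cT401)))) (BT.node 406 (BT.node 404 (BT.node 403 (BT.node 402 (BT.leaf cT402) (BT.leaf cT403)) (BT.leaf cT404)) (BT.node 405 (BT.leaf cT405) (BT.leaf cT406))) (BT.node 409 (BT.node 408 (BT.node 407 (BT.leaf cT407) (BT.leaf cT408)) (BT.leaf cT409)) (BT.node 410 (BT.leaf cT410) (BT.leaf cT411))))))) (BT.node 452 (BT.node 432 (BT.node 422 (BT.node 417 (BT.node 414 (BT.node 413 (BT.node 412 (BT.leaf cT412) (BT.leaf cT413)) (BT.leaf cT414)) (BT.node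 416 (BT.node 415 (BT.leaf cT415) (BT.leaf cT416)) (BT.leaf cT417))) (BT.node 420 (BT.node 419 (BT.node 418 (BT.leaf cT418) (BT.leaf cT419)) (BT.leaf cT420)) (BT.node 421 (BT.leaf cT421) (BT.leaf cT422)))) (BT.node 427 (BT.node 425 (BT.node 424 (BT.node 423 (BT.leaf cT423) (BT.leaf cT424)) (BT.leaf cT425)) (BT.node 426 (BT.leaf cT426) (BT.leaf cT427))) (BT.node 430 (BT.node 429 (BT.node 428 (BT.leaf cT428) (BT.leaf cT429)) (BT.leaf cT430)) (BT.node 431 (BT.leaf cT431) (BT.leaf cT432))))) (BT.node 442 (BT.node 437 (BT.node 435 (BT.node 434 (BT.node 433 (BT.leaf cT433) (BT.leaf cT434)) (BT.leaf cT435)) (BT.node 436 (BT.leaf cT436) (BT.leaf cT437))) (BT.node 440 (BT.node 439 (BT.node 438 (BT.leaf cT438) (BT.leaf cT439)) (BT.leaf cT440)) (BT.node 441 (BT.leaf cT441) (BT.leaf cT442)))) (BT.node 447 (BT.node 445 (BT.node 444 (BT.node 443 (BT.leaf cT443) (BT.leaf cT444)) (BT.leaf cT445))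 (BT.node 446 (BT.leaf cT446) (BT.leaf cT447))) (BT.node 450 (BT.node 449 (BT.node 448 (BT.leaf cT448) (BT.leaf cT449)) (BT.leaf cT450)) (BT.node 451 (BT.leaf cT451) (BT.leaf cT452)))))) (BT.node 473 (BT.node 463 (BT.node 458 (BT.node 455 (BT.node 454 (BT.node 453 (BT.leaf cT453) (BT.leaf cT454)) (BT.leaf cT455)) (BT.node 457 (BT.node 456 (BT.leaf cT456) (BT.leaf cT457)) (BT.leaf cT458))) (BT.node 461 (BT.node 460 (BT.node 459 (BT.leaf cT459) (BT.leaf cT460)) (BT.leaf cT461)) (BT.node 462 (BT.leaf cT462) (BT.leaf cT463)))) (BT.node 468 (BT.node 466 (BT.node 465 (BT.node 464 (BT.leaf cT464) (BT.leaf cT465)) (BT.leaf cT466)) (BT.node 467 (BT.leaf cT467) (BT.leaf cT468))) (BT.node 471 (BT.node 470 (BT.node 469 (BT.leaf cT469) (BT.leaf cT470)) (BT.leaf cT471)) (BT.node 472 (BT.leaf cT472) (BT.leaf cT473))))) (BT.node 483 (BT.node 478 (BT.node 476 (BT.node 475 (BT.node 474 (BT.leaf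 cT474) (BT.leaf cT475)) (BT.leaf cT476)) (BT.node 477 (BT.leaf cT477) (BT.leaf cT478))) (BT.node 481 (BT.node 480 (BT.node 479 (BT.leaf cT479) (BT.leaf cT480)) (BT.leaf cT481)) (BT.node 482 (BT.leaf cT482) (BT.leaf cT483)))) (BT.node 488 (BT.node 486 (BT.node 485 (BT.node 484 (BT.leaf cT484) (BT.leaf cT485)) (BT.leaf cT486)) (BT.node 487 (BT.leaf cT487) (BT.leaf cT488))) (BT.node 491 (BT.node 490 (BT.node 489 (BT.leaf cT489) (BT.leaf cT490)) (BT.leaf cT491)) (BT.node 492 (BT.leaf cT492) (BT.leaf cT493))))))))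
noncomputable def colTT_3 : BT ℕ := (BT.node 575 (BT.node 534 (BT.node 514 (BT.node 504 (BT.node 499 (BT.node 496 (BT.node 495 (BT.node 494 (BT.leaf cT494) (BT.leaf cT495)) (BT.leaf cT496)) (BT.node 498 (BT.node 497 (BT.leaf cT497) (BT.leaf cT498)) (BT.leaf cT499))) (BT.node 502 (BT.node 501 (BT.node 500 (BT.leaf cT500) (BT.leaf cT501)) (BT.leaf cT502)) (BT.node 503 (BT.leaf cT503) (BT.leaf cT504)))) (BT.node 509 (BT.node 507 (BT.node 506 (BT.node 505 (BT.leaf cT505) (BT.leaf cT506)) (BT.leaf cT507)) (BT.node 508 (BT.leaf cT508) (BT.leaf cT509))) (BT.node 512 (BT.node 511 (BT.node 510 (BT.leaf cT510) (BT.leaf cT511)) (BT.leaf cT512)) (BT.node 513 (BT.leaf cT513) (BT.leaf cT514))))) (BT.node 524 (BT.node 519 (BT.node 517 (BT.node 516 (BT.node 515 (BT.leaf cT515) (BT.leaf cT516)) (BT.leaf cT517)) (BT.node 518 (BT.leaf cT518) (BT.leaf cT519))) (BT.node 522 (BT.node 521 (BT.node 520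 (BT.leaf cT520) (BT.leaf cT521)) (BT.leaf cT522)) (BT.node 523 (BT.leaf cT523) (BT.leaf cT524)))) (BT.node 529 (BT.node 527 (BT.node 526 (BT.node 525 (BT.leaf cT525) (BT.leaf cT526)) (BT.leaf cT527)) (BT.node 528 (BT.leaf cT528) (BT.leaf cT529))) (BT.node 532 (BT.node 531 (BT.node 530 (BT.leaf cT530) (BT.leaf cT531)) (BT.leaf cT532)) (BT.node 533 (BT.leaf cT533) (BT.leaf cT534)))))) (BT.node 555 (BT.node 545 (BT.node 540 (BT.node 537 (BT.node 536 (BT.node 535 (BT.leaf cT535) (BT.leaf cT536)) (BT.leaf cT537)) (BT.node 539 (BT.node 538 (BT.leaf cT538) (BT.leaf cT539)) (BT.leaf cT540))) (BT.node 543 (BT.node 542 (BT.node 541 (BT.leaf cT541) (BT.leaf cT542)) (BT.leaf cT543)) (BT.node 544 (BT.leaf cT544) (BT.leaf cT545)))) (BT.node 550 (BT.node 548 (BT.node 547 (BT.node 546 (BT.leaf cT546) (BT.leaf cT547)) (BT.leaf cT548)) (BT.node 549 (BT.leaf cT549) (BT.leaf cT550))) (BT.node 553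 (BT.node 552 (BT.node 551 (BT.leaf cT551) (BT.leaf cT552)) (BT.leaf cT553)) (BT.node 554 (BT.leaf cT554) (BT.leaf cT555))))) (BT.node 565 (BT.node 560 (BT.node 558 (BT.node 557 (BT.node 556 (BT.leaf cT556) (BT.leaf cT557)) (BT.leaf cT558)) (BT.node 559 (BT.leaf cT559) (BT.leaf cT560))) (BT.node 563 (BT.node 562 (BT.node 561 (BT.leaf cT561) (BT.leaf cT562)) (BT.leaf cT563)) (BT.node 564 (BT.leaf cT564) (BT.leaf cT565)))) (BT.node 570 (BT.node 568 (BT.node 567 (BT.node 566 (BT.leaf cT566) (BT.leaf cT567)) (BT.leaf cT568)) (BT.node 569 (BT.leaf cT569) (BT.leaf cT570))) (BT.node 573 (BT.node 572 (BT.node 571 (BT.leaf cT571) (BT.leaf cT572)) (BT.leaf cT573)) (BT.node 574 (BT.leaf cT574) (BT.leaf cT575))))))) (BT.node 616 (BT.node 596 (BT.node 586 (BT.node 581 (BT.node 578 (BT.node 577 (BT.node 576 (BT.leaf cT576) (BT.leaf cT577)) (BT.leaf cT578)) (BT.node 580 (BT.node 579 (BT.leaf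 cT579) (BT.leaf cT580)) (BT.leaf cT581))) (BT.node 584 (BT.node 583 (BT.node 582 (BT.leaf cT582) (BT.leaf cT583)) (BT.leaf cT584)) (BT.node 585 (BT.leaf cT585) (BT.leaf cT586)))) (BT.node 591 (BT.node 589 (BT.node 588 (BT.node 587 (BT.leaf cT587) (BT.leaf cT588)) (BT.leaf cT589)) (BT.node 590 (BT.leaf cT590) (BT.leaf cT591))) (BT.node 594 (BT.node 593 (BT.node 592 (BT.leaf cT592) (BT.leaf cT593)) (BT.leaf cT594)) (BT.node 595 (BT.leaf cT595) (BT.leaf cT596))))) (BT.node 606 (BT.node 601 (BT.node 599 (BT.node 598 (BT.node 597 (BT.leaf cT597) (BT.leaf cT598)) (BT.leaf cT599)) (BT.node 600 (BT.leaf cT600) (BT.leaf cT601))) (BT.node 604 (BT.node 603 (BT.node 602 (BT.leaf cT602) (BT.leaf cT603)) (BT.leaf cT604)) (BT.node 605 (BT.leaf cT605) (BT.leaf cT606)))) (BT.node 611 (BT.node 609 (BT.node 608 (BT.node 607 (BT.leaf cT607) (BT.leaf cT608)) (BT.leaf cT609)) (BT.node 610 (BT.leaf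 cT610) (BT.leaf cT611))) (BT.node 614 (BT.node 613 (BT.node 612 (BT.leaf cT612) (BT.leaf cT613)) (BT.leaf cT614)) (BT.node 615 (BT.leaf cT615) (BT.leaf cT616)))))) (BT.node 637 (BT.node 627 (BT.node 622 (BT.node 619 (BT.node 618 (BT.node 617 (BT.leaf cT617) (BT.leaf cT618)) (BT.leaf cT619)) (BT.node 621 (BT.node 620 (BT.leaf cT620) (BT.leaf cT621)) (BT.leaf cT622))) (BT.node 625 (BT.node 624 (BT.node 623 (BT.leaf cT623) (BT.leaf cT624)) (BT.leaf cT625)) (BT.node 626 (BT.leaf cT626) (BT.leaf cT627)))) (BT.node 632 (BT.node 630 (BT.node 629 (BT.node 628 (BT.leaf cT628) (BT.leaf cT629)) (BT.leaf cT630)) (BT.node 631 (BT.leaf cT631) (BT.leaf cT632))) (BT.node 635 (BT.node 634 (BT.node 633 (BT.leaf cT633) (BT.leaf cT634)) (BT.leaf cT635)) (BT.node 636 (BT.leaf cT636) (BT.leaf cT637))))) (BT.node 647 (BT.node 642 (BT.node 640 (BT.node 639 (BT.node 638 (BT.leaf cT638) (BT.leaf cT639))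 (BT.leaf cT640)) (BT.node 641 (BT.leaf cT641) (BT.leaf cT642))) (BT.node 645 (BT.node 644 (BT.node 643 (BT.leaf cT643) (BT.leaf cT644)) (BT.leaf cT645)) (BT.node 646 (BT.leaf cT646) (BT.leaf cT647)))) (BT.node 652 (BT.node 650 (BT.node 649 (BT.node 648 (BT.leaf cT648) (BT.leaf cT649)) (BT.leaf cT650)) (BT.node 651 (BT.leaf cT651) (BT.leaf cT652))) (BT.node 655 (BT.node 654 (BT.node 653 (BT.leaf cT653) (BT.leaf cT654)) (BT.leaf cT655)) (BT.node 656 (BT.leaf cT656) (BT.leaf cT657))))))))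
noncomputable def colTT_4 : BT ℕ := (BT.node 740 (BT.node 699 (BT.node 678 (BT.node 668 (BT.node 663 (BT.node 660 (BT.node 659 (BT.node 658 (BT.leaf cT658) (BT.leaf cT659)) (BT.leaf cT660)) (BT.node 662 (BT.node 661 (BT.leaf cT661) (BT.leaf cT662)) (BT.leaf cT663))) (BT.node 666 (BT.node 665 (BT.node 664 (BT.leaf cT664) (BT.leaf cT665)) (BT.leaf cT666)) (BT.node 667 (BT.leaf cT667) (BT.leaf cT668)))) (BT.node 673 (BT.node 671 (BT.node 670 (BT.node 669 (BT.leaf cT669) (BT.leaf cT670)) (BT.leaf cT671)) (BT.node 672 (BT.leaf cT672) (BT.leaf cT673))) (BT.node 676 (BT.node 675 (BT.node 674 (BT.leaf cT674) (BT.leaf cT675)) (BT.leaf cT676)) (BT.node 677 (BT.leaf cT677) (BT.leaf cT678))))) (BT.node 689 (BT.node 684 (BT.node 681 (BT.node 680 (BT.node 679 (BT.leaf cT679) (BT.leaf cT680)) (BT.leaf cT681)) (BT.node 683 (BT.node 682 (BT.leaf cT682) (BT.leaf cT683)) (BT.leaf cT684))) (BT.node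 687 (BT.node 686 (BT.node 685 (BT.leaf cT685) (BT.leaf cT686)) (BT.leaf cT687)) (BT.node 688 (BT.leaf cT688) (BT.leaf cT689)))) (BT.node 694 (BT.node 692 (BT.node 691 (BT.node 690 (BT.leaf cT690) (BT.leaf cT691)) (BT.leaf cT692)) (BT.node 693 (BT.leaf cT693) (BT.leaf cT694))) (BT.node 697 (BT.node 696 (BT.node 695 (BT.leaf cT695) (BT.leaf cT696)) (BT.leaf cT697)) (BT.node 698 (BT.leaf cT698) (BT.leaf cT699)))))) (BT.node 720 (BT.node 710 (BT.node 705 (BT.node 702 (BT.node 701 (BT.node 700 (BT.leaf cT700) (BT.leaf cT701)) (BT.leaf cT702)) (BT.node 704 (BT.node 703 (BT.leaf cT703) (BT.leaf cT704)) (BT.leaf cT705))) (BT.node 708 (BT.node 707 (BT.node 706 (BT.leaf cT706) (BT.leaf cT707)) (BT.leaf cT708)) (BT.node 709 (BT.leaf cT709) (BT.leaf cT710)))) (BT.node 715 (BT.node 713 (BT.node 712 (BT.node 711 (BT.leaf cT711) (BT.leaf cT712)) (BT.leaf cT713)) (BT.node 714 (BT.leaf cT714)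 (BT.leaf cT715))) (BT.node 718 (BT.node 717 (BT.node 716 (BT.leaf cT716) (BT.leaf cT717)) (BT.leaf cT718)) (BT.node 719 (BT.leaf cT719) (BT.leaf cT720))))) (BT.node 730 (BT.node 725 (BT.node 723 (BT.node 722 (BT.node 721 (BT.leaf cT721) (BT.leaf cT722)) (BT.leaf cT723)) (BT.node 724 (BT.leaf cT724) (BT.leaf cT725))) (BT.node 728 (BT.node 727 (BT.node 726 (BT.leaf cT726) (BT.leaf cT727)) (BT.leaf cT728)) (BT.node 729 (BT.leaf cT729) (BT.leaf cT730)))) (BT.node 735 (BT.node 733 (BT.node 732 (BT.node 731 (BT.leaf cT731) (BT.leaf cT732)) (BT.leaf cT733)) (BT.node 734 (BT.leaf cT734) (BT.leaf cT735))) (BT.node 738 (BT.node 737 (BT.node 736 (BT.leaf cT736) (BT.leaf cT737)) (BT.leaf cT738)) (BT.node 739 (BT.leaf cT739) (BT.leaf cT740))))))) (BT.node 781 (BT.node 761 (BT.node 751 (BT.node 746 (BT.node 743 (BT.node 742 (BT.node 741 (BT.leaf cT741) (BT.leaf cT742)) (BT.leaf cT743)) (BT.node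 745 (BT.node 744 (BT.leaf cT744) (BT.leaf cT745)) (BT.leaf cT746))) (BT.node 749 (BT.node 748 (BT.node 747 (BT.leaf cT747) (BT.leaf cT748)) (BT.leaf cT749)) (BT.node 750 (BT.leaf cT750) (BT.leaf cT751)))) (BT.node 756 (BT.node 754 (BT.node 753 (BT.node 752 (BT.leaf cT752) (BT.leaf cT753)) (BT.leaf cT754)) (BT.node 755 (BT.leaf cT755) (BT.leaf cT756))) (BT.node 759 (BT.node 758 (BT.node 757 (BT.leaf cT757) (BT.leaf cT758)) (BT.leaf cT759)) (BT.node 760 (BT.leaf cT760) (BT.leaf cT761))))) (BT.node 771 (BT.node 766 (BT.node 764 (BT.node 763 (BT.node 762 (BT.leaf cT762) (BT.leaf cT763)) (BT.leaf cT764)) (BT.node 765 (BT.leaf cT765) (BT.leaf cT766))) (BT.node 769 (BT.node 768 (BT.node 767 (BT.leaf cT767) (BT.leaf cT768)) (BT.leaf cT769)) (BT.node 770 (BT.leaf cT770) (BT.leaf cT771)))) (BT.node 776 (BT.node 774 (BT.node 773 (BT.node 772 (BT.leaf cT772) (BT.leaf cT773)) (BT.leaf cT774))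 (BT.node 775 (BT.leaf cT775) (BT.leaf cT776))) (BT.node 779 (BT.node 778 (BT.node 777 (BT.leaf cT777) (BT.leaf cT778)) (BT.leaf cT779)) (BT.node 780 (BT.leaf cT780) (BT.leaf cT781)))))) (BT.node 802 (BT.node 792 (BT.node 787 (BT.node 784 (BT.node 783 (BT.node 782 (BT.leaf cT782) (BT.leaf cT783)) (BT.leaf cT784)) (BT.node 786 (BT.node 785 (BT.leaf cT785) (BT.leaf cT786)) (BT.leaf cT787))) (BT.node 790 (BT.node 789 (BT.node 788 (BT.leaf cT788) (BT.leaf cT789)) (BT.leaf cT790)) (BT.node 791 (BT.leaf cT791) (BT.leaf cT792)))) (BT.node 797 (BT.node 795 (BT.node 794 (BT.node 793 (BT.leaf cT793) (BT.leaf cT794)) (BT.leaf cT795)) (BT.node 796 (BT.leaf cT796) (BT.leaf cT797))) (BT.node 800 (BT.node 799 (BT.node 798 (BT.leaf cT798) (BT.leaf cT799)) (BT.leaf cT800)) (BT.node 801 (BT.leaf cT801) (BT.leaf cT802))))) (BT.node 812 (BT.node 807 (BT.node 805 (BT.node 804 (BT.node 803 (BT.leaf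 cT803) (BT.leaf cT804)) (BT.leaf cT805)) (BT.node 806 (BT.leaf cT806) (BT.leaf cT807))) (BT.node 810 (BT.node 809 (BT.node 808 (BT.leaf cT808) (BT.leaf cT809)) (BT.leaf cT810)) (BT.node 811 (BT.leaf cT811) (BT.leaf cT812)))) (BT.node 817 (BT.node 815 (BT.node 814 (BT.node 813 (BT.leaf cT813) (BT.leaf cT814)) (BT.leaf cT815)) (BT.node 816 (BT.leaf cT816) (BT.leaf cT817))) (BT.node 820 (BT.node 819 (BT.node 818 (BT.leaf cT818) (BT.leaf cT819)) (BT.leaf cT820)) (BT.node 821 (BT.leaf cT821) (BT.leaf cT822))))))))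
noncomputable def colTT_5 : BT ℕ := (BT.node 904 (BT.node 863 (BT.node 843 (BT.node 833 (BT.node 828 (BT.node 825 (BT.node 824 (BT.node 823 (BT.leaf cT823) (BT.leaf cT824)) (BT.leaf cT825)) (BT.node 827 (BT.node 826 (BT.leaf cT826) (BT.leaf cT827)) (BT.leaf cT828))) (BT.node 831 (BT.node 830 (BT.node 829 (BT.leaf cT829) (BT.leaf cT830)) (BT.leaf cT831)) (BT.node 832 (BT.leaf cT832) (BT.leaf cT833)))) (BT.node 838 (BT.node 836 (BT.node 835 (BT.node 834 (BT.leaf cT834) (BT.leaf cT835)) (BT.leaf cT836)) (BT.node 837 (BT.leaf cT837) (BT.leaf cT838))) (BT.node 841 (BT.node 840 (BT.node 839 (BT.leaf cT839) (BT.leaf cT840)) (BT.leaf cT841)) (BT.node 842 (BT.leaf cT842) (BT.leaf cT843))))) (BT.node 853 (BT.node 848 (BT.node 846 (BT.node 845 (BT.node 844 (BT.leaf cT844) (BT.leaf cT845)) (BT.leaf cT846)) (BT.node 847 (BT.leaf cT847) (BT.leaf cT848))) (BT.node 851 (BT.node 850 (BT.node 849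 (BT.leaf cT849) (BT.leaf cT850)) (BT.leaf cT851)) (BT.node 852 (BT.leaf cT852) (BT.leaf cT853)))) (BT.node 858 (BT.node 856 (BT.node 855 (BT.node 854 (BT.leaf cT854) (BT.leaf cT855)) (BT.leaf cT856)) (BT.node 857 (BT.leaf cT857) (BT.leaf cT858))) (BT.node 861 (BT.node 860 (BT.node 859 (BT.leaf cT859) (BT.leaf cT860)) (BT.leaf cT861)) (BT.node 862 (BT.leaf cT862) (BT.leaf cT863)))))) (BT.node 884 (BT.node 874 (BT.node 869 (BT.node 866 (BT.node 865 (BT.node 864 (BT.leaf cT864) (BT.leaf cT865)) (BT.leaf cT866)) (BT.node 868 (BT.node 867 (BT.leaf cT867) (BT.leaf cT868)) (BT.leaf cT869))) (BT.node 872 (BT.node 871 (BT.node 870 (BT.leaf cT870) (BT.leaf cT871)) (BT.leaf cT872)) (BT.node 873 (BT.leaf cT873) (BT.leaf cT874)))) (BT.node 879 (BT.node 877 (BT.node 876 (BT.node 875 (BT.leaf cT875) (BT.leaf cT876)) (BT.leaf cT877)) (BT.node 878 (BT.leaf cT878) (BT.leaf cT879))) (BT.node 882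 (BT.node 881 (BT.node 880 (BT.leaf cT880) (BT.leaf cT881)) (BT.leaf cT882)) (BT.node 883 (BT.leaf cT883) (BT.leaf cT884))))) (BT.node 894 (BT.node 889 (BT.node 887 (BT.node 886 (BT.node 885 (BT.leaf cT885) (BT.leaf cT886)) (BT.leaf cT887)) (BT.node 888 (BT.leaf cT888) (BT.leaf cT889))) (BT.node 892 (BT.node 891 (BT.node 890 (BT.leaf cT890) (BT.leaf cT891)) (BT.leaf cT892)) (BT.node 893 (BT.leaf cT893) (BT.leaf cT894)))) (BT.node 899 (BT.node 897 (BT.node 896 (BT.node 895 (BT.leaf cT895) (BT.leaf cT896)) (BT.leaf cT897)) (BT.node 898 (BT.leaf cT898) (BT.leaf cT899))) (BT.node 902 (BT.node 901 (BT.node 900 (BT.leaf cT900) (BT.leaf cT901)) (BT.leaf cT902)) (BT.node 903 (BT.leaf cT903) (BT.leaf cT904))))))) (BT.node 945 (BT.node 925 (BT.node 915 (BT.node 910 (BT.node 907 (BT.node 906 (BT.node 905 (BT.leaf cT905) (BT.leaf cT906)) (BT.leaf cT907)) (BT.node 909 (BT.node 908 (BT.leaf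 cT908) (BT.leaf cT909)) (BT.leaf cT910))) (BT.node 913 (BT.node 912 (BT.node 911 (BT.leaf cT911) (BT.leaf cT912)) (BT.leaf cT913)) (BT.node 914 (BT.leaf cT914) (BT.leaf cT915)))) (BT.node 920 (BT.node 918 (BT.node 917 (BT.node 916 (BT.leaf cT916) (BT.leaf cT917)) (BT.leaf cT918)) (BT.node 919 (BT.leaf cT919) (BT.leaf cT920))) (BT.node 923 (BT.node 922 (BT.node 921 (BT.leaf cT921) (BT.leaf cT922)) (BT.leaf cT923)) (BT.node 924 (BT.leaf cT924) (BT.leaf cT925))))) (BT.node 935 (BT.node 930 (BT.node 928 (BT.node 927 (BT.node 926 (BT.leaf cT926) (BT.leaf cT927)) (BT.leaf cT928)) (BT.node 929 (BT.leaf cT929) (BT.leaf cT930))) (BT.node 933 (BT.node 932 (BT.node 931 (BT.leaf cT931) (BT.leaf cT932)) (BT.leaf cT933)) (BT.node 934 (BT.leaf cT934) (BT.leaf cT935)))) (BT.node 940 (BT.node 938 (BT.node 937 (BT.node 936 (BT.leaf cT936) (BT.leaf cT937)) (BT.leaf cT938)) (BT.node 939 (BT.leaf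 cT939) (BT.leaf cT940))) (BT.node 943 (BT.node 942 (BT.node 941 (BT.leaf cT941) (BT.leaf cT942)) (BT.leaf cT943)) (BT.node 944 (BT.leaf cT944) (BT.leaf cT945)))))) (BT.node 966 (BT.node 956 (BT.node 951 (BT.node 948 (BT.node 947 (BT.node 946 (BT.leaf cT946) (BT.leaf cT947)) (BT.leaf cT948)) (BT.node 950 (BT.node 949 (BT.leaf cT949) (BT.leaf cT950)) (BT.leaf cT951))) (BT.node 954 (BT.node 953 (BT.node 952 (BT.leaf cT952) (BT.leaf cT953)) (BT.leaf cT954)) (BT.node 955 (BT.leaf cT955) (BT.leaf cT956)))) (BT.node 961 (BT.node 959 (BT.node 958 (BT.node 957 (BT.leaf cT957) (BT.leaf cT958)) (BT.leaf cT959)) (BT.node 960 (BT.leaf cT960) (BT.leaf cT961))) (BT.node 964 (BT.node 963 (BT.node 962 (BT.leaf cT962) (BT.leaf cT963)) (BT.leaf cT964)) (BT.node 965 (BT.leaf cT965) (BT.leaf cT966))))) (BT.node 976 (BT.node 971 (BT.node 969 (BT.node 968 (BT.node 967 (BT.leaf cT967) (BT.leaf cT968))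 (BT.leaf cT969)) (BT.node 970 (BT.leaf cT970) (BT.leaf cT971))) (BT.node 974 (BT.node 973 (BT.node 972 (BT.leaf cT972) (BT.leaf cT973)) (BT.leaf cT974)) (BT.node 975 (BT.leaf cT975) (BT.leaf cT976)))) (BT.node 981 (BT.node 979 (BT.node 978 (BT.node 977 (BT.leaf cT977) (BT.leaf cT978)) (BT.leaf cT979)) (BT.node 980 (BT.leaf cT980) (BT.leaf cT981))) (BT.node 984 (BT.node 983 (BT.node 982 (BT.leaf cT982) (BT.leaf cT983)) (BT.leaf cT984)) (BT.node 985 (BT.leaf cT985) (BT.leaf cT986))))))))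
noncomputable def colTT_6 : BT ℕ := (BT.node 1069 (BT.node 1028 (BT.node 1007 (BT.node 997 (BT.node 992 (BT.node 989 (BT.node 988 (BT.node 987 (BT.leaf cT987) (BT.leaf cT988)) (BT.leaf cT989)) (BT.node 991 (BT.node 990 (BT.leaf cT990) (BT.leaf cT991)) (BT.leaf cT992))) (BT.node 995 (BT.node 994 (BT.node 993 (BT.leaf cT993) (BT.leaf cT994)) (BT.leaf cT995)) (BT.node 996 (BT.leaf cT996) (BT.leaf cT997)))) (BT.node 1002 (BT.node 1000 (BT.node 999 (BT.node 998 (BT.leaf cT998) (BT.leaf cT999)) (BT.leaf cT1000)) (BT.node 1001 (BT.leaf cT1001) (BT.leaf cT1002))) (BT.node 1005 (BT.node 1004 (BT.node 1003 (BT.leaf cT1003) (BT.leaf cT1004)) (BT.leaf cT1005)) (BT.node 1006 (BT.leaf cT1006) (BT.leaf cT1007))))) (BT.node 1018 (BT.node 1013 (BT.node 1010 (BT.node 1009 (BT.node 1008 (BT.leaf cT1008) (BT.leaf cT1009)) (BT.leaf cT1010)) (BT.node 1012 (BT.node 1011 (BT.leaf cT1011) (BT.leaf cT1012))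 (BT.leaf cT1013))) (BT.node 1016 (BT.node 1015 (BT.node 1014 (BT.leaf cT1014) (BT.leaf cT1015)) (BT.leaf cT1016)) (BT.node 1017 (BT.leaf cT1017) (BT.leaf cT1018)))) (BT.node 1023 (BT.node 1021 (BT.node 1020 (BT.node 1019 (BT.leaf cT1019) (BT.leaf cT1020)) (BT.leaf cT1021)) (BT.node 1022 (BT.leaf cT1022) (BT.leaf cT1023))) (BT.node 1026 (BT.node 1025 (BT.node 1024 (BT.leaf cT1024) (BT.leaf cT1025)) (BT.leaf cT1026)) (BT.node 1027 (BT.leaf cT1027) (BT.leaf cT1028)))))) (BT.node 1049 (BT.node 1039 (BT.node 1034 (BT.node 1031 (BT.node 1030 (BT.node 1029 (BT.leaf cT1029) (BT.leaf cT1030)) (BT.leaf cT1031)) (BT.node 1033 (BT.node 1032 (BT.leaf cT1032) (BT.leaf cT1033)) (BT.leaf cT1034))) (BT.node 1037 (BT.node 1036 (BT.node 1035 (BT.leaf cT1035) (BT.leaf cT1036)) (BT.leaf cT1037)) (BT.node 1038 (BT.leaf cT1038) (BT.leaf cT1039)))) (BT.node 1044 (BT.node 1042 (BT.node 1041 (BT.node 1040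 (BT.leaf cT1040) (BT.leaf cT1041)) (BT.leaf cT1042)) (BT.node 1043 (BT.leaf cT1043) (BT.leaf cT1044))) (BT.node 1047 (BT.node 1046 (BT.node 1045 (BT.leaf cT1045) (BT.leaf cT1046)) (BT.leaf cT1047)) (BT.node 1048 (BT.leaf cT1048) (BT.leaf cT1049))))) (BT.node 1059 (BT.node 1054 (BT.node 1052 (BT.node 1051 (BT.node 1050 (BT.leaf cT1050) (BT.leaf cT1051)) (BT.leaf cT1052)) (BT.node 1053 (BT.leaf cT1053) (BT.leaf cT1054))) (BT.node 1057 (BT.node 1056 (BT.node 1055 (BT.leaf cT1055) (BT.leaf cT1056)) (BT.leaf cT1057)) (BT.node 1058 (BT.leaf cT1058) (BT.leaf cT1059)))) (BT.node 1064 (BT.node 1062 (BT.node 1061 (BT.node 1060 (BT.leaf cT1060) (BT.leaf cT1061)) (BT.leaf cT1062)) (BT.node 1063 (BT.leaf cT1063) (BT.leaf cT1064))) (BT.node 1067 (BT.node 1066 (BT.node 1065 (BT.leaf cT1065) (BT.leaf cT1066)) (BT.leaf cT1067)) (BT.node 1068 (BT.leaf cT1068) (BT.leaf cT1069))))))) (BT.node 1110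 (BT.node 1090 (BT.node 1080 (BT.node 1075 (BT.node 1072 (BT.node 1071 (BT.node 1070 (BT.leaf cT1070) (BT.leaf cT1071)) (BT.leaf cT1072)) (BT.node 1074 (BT.node 1073 (BT.leaf cT1073) (BT.leaf cT1074)) (BT.leaf cT1075))) (BT.node 1078 (BT.node 1077 (BT.node 1076 (BT.leaf cT1076) (BT.leaf cT1077)) (BT.leaf cT1078)) (BT.node 1079 (BT.leaf cT1079) (BT.leaf cT1080)))) (BT.node 1085 (BT.node 1083 (BT.node 1082 (BT.node 1081 (BT.leaf cT1081) (BT.leaf cT1082)) (BT.leaf cT1083)) (BT.node 1084 (BT.leaf cT1084) (BT.leaf cT1085))) (BT.node 1088 (BT.node 1087 (BT.node 1086 (BT.leaf cT1086) (BT.leaf cT1087)) (BT.leaf cT1088)) (BT.node 1089 (BT.leaf cT1089) (BT.leaf cT1090))))) (BT.node 1100 (BT.node 1095 (BT.node 1093 (BT.node 1092 (BT.node 1091 (BT.leaf cT1091) (BT.leaf cT1092)) (BT.leaf cT1093)) (BT.node 1094 (BT.leaf cT1094) (BT.leaf cT1095))) (BT.node 1098 (BT.node 1097 (BT.node 1096 (BT.leaf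 cT1096) (BT.leaf cT1097)) (BT.leaf cT1098)) (BT.node 1099 (BT.leaf cT1099) (BT.leaf cT1100)))) (BT.node 1105 (BT.node 1103 (BT.node 1102 (BT.node 1101 (BT.leaf cT1101) (BT.leaf cT1102)) (BT.leaf cT1103)) (BT.node 1104 (BT.leaf cT1104) (BT.leaf cT1105))) (BT.node 1108 (BT.node 1107 (BT.node 1106 (BT.leaf cT1106) (BT.leaf cT1107)) (BT.leaf cT1108)) (BT.node 1109 (BT.leaf cT1109) (BT.leaf cT1110)))))) (BT.node 1131 (BT.node 1121 (BT.node 1116 (BT.node 1113 (BT.node 1112 (BT.node 1111 (BT.leaf cT1111) (BT.leaf cT1112)) (BT.leaf cT1113)) (BT.node 1115 (BT.node 1114 (BT.leaf cT1114) (BT.leaf cT1115)) (BT.leaf cT1116))) (BT.node 1119 (BT.node 1118 (BT.node 1117 (BT.leaf cT1117) (BT.leaf cT1118)) (BT.leaf cT1119)) (BT.node 1120 (BT.leaf cT1120) (BT.leaf cT1121)))) (BT.node 1126 (BT.node 1124 (BT.node 1123 (BT.node 1122 (BT.leaf cT1122) (BT.leaf cT1123)) (BT.leaf cT1124)) (BT.node 1125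 (BT.leaf cT1125) (BT.leaf cT1126))) (BT.node 1129 (BT.node 1128 (BT.node 1127 (BT.leaf cT1127) (BT.leaf cT1128)) (BT.leaf cT1129)) (BT.node 1130 (BT.leaf cT1130) (BT.leaf cT1131))))) (BT.node 1141 (BT.node 1136 (BT.node 1134 (BT.node 1133 (BT.node 1132 (BT.leaf cT1132) (BT.leaf cT1133)) (BT.leaf cT1134)) (BT.node 1135 (BT.leaf cT1135) (BT.leaf cT1136))) (BT.node 1139 (BT.node 1138 (BT.node 1137 (BT.leaf cT1137) (BT.leaf cT1138)) (BT.leaf cT1139)) (BT.node 1140 (BT.leaf cT1140) (BT.leaf cT1141)))) (BT.node 1146 (BT.node 1144 (BT.node 1143 (BT.node 1142 (BT.leaf cT1142) (BT.leaf cT1143)) (BT.leaf cT1144)) (BT.node 1145 (BT.leaf cT1145) (BT.leaf cT1146))) (BT.node 1149 (BT.node 1148 (BT.node 1147 (BT.leaf cT1147) (BT.leaf cT1148)) (BT.leaf cT1149)) (BT.node 1150 (BT.leaf cT1150) (BT.leaf cT1151))))))))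
noncomputable def colTT_7 : BT ℕ := (BT.node 1233 (BT.node 1192 (BT.node 1172 (BT.node 1162 (BT.node 1157 (BT.node 1154 (BT.node 1153 (BT.node 1152 (BT.leaf cT1152) (BT.leaf cT1153)) (BT.leaf cT1154)) (BT.node 1156 (BT.node 1155 (BT.leaf cT1155) (BT.leaf cT1156)) (BT.leaf cT1157))) (BT.node 1160 (BT.node 1159 (BT.node 1158 (BT.leaf cT1158) (BT.leaf cT1159)) (BT.leaf cT1160)) (BT.node 1161 (BT.leaf cT1161) (BT.leaf cT1162)))) (BT.node 1167 (BT.node 1165 (BT.node 1164 (BT.node 1163 (BT.leaf cT1163) (BT.leaf cT1164)) (BT.leaf cT1165)) (BT.node 1166 (BT.leaf cT1166) (BT.leaf cT1167))) (BT.node 1170 (BT.node 1169 (BT.node 1168 (BT.leaf cT1168) (BT.leaf cT1169)) (BT.leaf cT1170)) (BT.node 1171 (BT.leaf cT1171) (BT.leaf cT1172))))) (BT.node 1182 (BT.node 1177 (BT.node 1175 (BT.node 1174 (BT.node 1173 (BT.leaf cT1173) (BT.leaf cT1174)) (BT.leaf cT1175)) (BT.node 1176 (BT.leaf cT1176)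 (BT.leaf cT1177))) (BT.node 1180 (BT.node 1179 (BT.node 1178 (BT.leaf cT1178) (BT.leaf cT1179)) (BT.leaf cT1180)) (BT.node 1181 (BT.leaf cT1181) (BT.leaf cT1182)))) (BT.node 1187 (BT.node 1185 (BT.node 1184 (BT.node 1183 (BT.leaf cT1183) (BT.leaf cT1184)) (BT.leaf cT1185)) (BT.node 1186 (BT.leaf cT1186) (BT.leaf cT1187))) (BT.node 1190 (BT.node 1189 (BT.node 1188 (BT.leaf cT1188) (BT.leaf cT1189)) (BT.leaf cT1190)) (BT.node 1191 (BT.leaf cT1191) (BT.leaf cT1192)))))) (BT.node 1213 (BT.node 1203 (BT.node 1198 (BT.node 1195 (BT.node 1194 (BT.node 1193 (BT.leaf cT1193) (BT.leaf cT1194)) (BT.leaf cT1195)) (BT.node 1197 (BT.node 1196 (BT.leaf cT1196) (BT.leaf cT1197)) (BT.leaf cT1198))) (BT.node 1201 (BT.node 1200 (BT.node 1199 (BT.leaf cT1199) (BT.leaf cT1200)) (BT.leaf cT1201)) (BT.node 1202 (BT.leaf cT1202) (BT.leaf cT1203)))) (BT.node 1208 (BT.node 1206 (BT.node 1205 (BT.node 1204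 (BT.leaf cT1204) (BT.leaf cT1205)) (BT.leaf cT1206)) (BT.node 1207 (BT.leaf cT1207) (BT.leaf cT1208))) (BT.node 1211 (BT.node 1210 (BT.node 1209 (BT.leaf cT1209) (BT.leaf cT1210)) (BT.leaf cT1211)) (BT.node 1212 (BT.leaf cT1212) (BT.leaf cT1213))))) (BT.node 1223 (BT.node 1218 (BT.node 1216 (BT.node 1215 (BT.node 1214 (BT.leaf cT1214) (BT.leaf cT1215)) (BT.leaf cT1216)) (BT.node 1217 (BT.leaf cT1217) (BT.leaf cT1218))) (BT.node 1221 (BT.node 1220 (BT.node 1219 (BT.leaf cT1219) (BT.leaf cT1220)) (BT.leaf cT1221)) (BT.node 1222 (BT.leaf cT1222) (BT.leaf cT1223)))) (BT.node 1228 (BT.node 1226 (BT.node 1225 (BT.node 1224 (BT.leaf cT1224) (BT.leaf cT1225)) (BT.leaf cT1226)) (BT.node 1227 (BT.leaf cT1227) (BT.leaf cT1228))) (BT.node 1231 (BT.node 1230 (BT.node 1229 (BT.leaf cT1229) (BT.leaf cT1230)) (BT.leaf cT1231)) (BT.node 1232 (BT.leaf cT1232) (BT.leaf cT1233))))))) (BT.node 1274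 (BT.node 1254 (BT.node 1244 (BT.node 1239 (BT.node 1236 (BT.node 1235 (BT.node 1234 (BT.leaf cT1234) (BT.leaf cT1235)) (BT.leaf cT1236)) (BT.node 1238 (BT.node 1237 (BT.leaf cT1237) (BT.leaf cT1238)) (BT.leaf cT1239))) (BT.node 1242 (BT.node 1241 (BT.node 1240 (BT.leaf cT1240) (BT.leaf cT1241)) (BT.leaf cT1242)) (BT.node 1243 (BT.leaf cT1243) (BT.leaf cT1244)))) (BT.node 1249 (BT.node 1247 (BT.node 1246 (BT.node 1245 (BT.leaf cT1245) (BT.leaf cT1246)) (BT.leaf cT1247)) (BT.node 1248 (BT.leaf cT1248) (BT.leaf cT1249))) (BT.node 1252 (BT.node 1251 (BT.node 1250 (BT.leaf cT1250) (BT.leaf cT1251)) (BT.leaf cT1252)) (BT.node 1253 (BT.leaf cT1253) (BT.leaf cT1254))))) (BT.node 1264 (BT.node 1259 (BT.node 1257 (BT.node 1256 (BT.node 1255 (BT.leaf cT1255) (BT.leaf cT1256)) (BT.leaf cT1257)) (BT.node 1258 (BT.leaf cT1258) (BT.leaf cT1259))) (BT.node 1262 (BT.node 1261 (BT.node 1260 (BT.leaf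 cT1260) (BT.leaf cT1261)) (BT.leaf cT1262)) (BT.node 1263 (BT.leaf cT1263) (BT.leaf cT1264)))) (BT.node 1269 (BT.node 1267 (BT.node 1266 (BT.node 1265 (BT.leaf cT1265) (BT.leaf cT1266)) (BT.leaf cT1267)) (BT.node 1268 (BT.leaf cT1268) (BT.leaf cT1269))) (BT.node 1272 (BT.node 1271 (BT.node 1270 (BT.leaf cT1270) (BT.leaf cT1271)) (BT.leaf cT1272)) (BT.node 1273 (BT.leaf cT1273) (BT.leaf cT1274)))))) (BT.node 1295 (BT.node 1285 (BT.node 1280 (BT.node 1277 (BT.node 1276 (BT.node 1275 (BT.leaf cT1275) (BT.leaf cT1276)) (BT.leaf cT1277)) (BT.node 1279 (BT.node 1278 (BT.leaf cT1278) (BT.leaf cT1279)) (BT.leaf cT1280))) (BT.node 1283 (BT.node 1282 (BT.node 1281 (BT.leaf cT1281) (BT.leaf cT1282)) (BT.leaf cT1283)) (BT.node 1284 (BT.leaf cT1284) (BT.leaf cT1285)))) (BT.node 1290 (BT.node 1288 (BT.node 1287 (BT.node 1286 (BT.leaf cT1286) (BT.leaf cT1287)) (BT.leaf cT1288)) (BT.node 1289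 (BT.leaf cT1289) (BT.leaf cT1290))) (BT.node 1293 (BT.node 1292 (BT.node 1291 (BT.leaf cT1291) (BT.leaf cT1292)) (BT.leaf cT1293)) (BT.node 1294 (BT.leaf cT1294) (BT.leaf cT1295))))) (BT.node 1305 (BT.node 1300 (BT.node 1298 (BT.node 1297 (BT.node 1296 (BT.leaf cT1296) (BT.leaf cT1297)) (BT.leaf cT1298)) (BT.node 1299 (BT.leaf cT1299) (BT.leaf cT1300))) (BT.node 1303 (BT.node 1302 (BT.node 1301 (BT.leaf cT1301) (BT.leaf cT1302)) (BT.leaf cT1303)) (BT.node 1304 (BT.leaf cT1304) (BT.leaf cT1305)))) (BT.node 1310 (BT.node 1308 (BT.node 1307 (BT.node 1306 (BT.leaf cT1306) (BT.leaf cT1307)) (BT.leaf cT1308)) (BT.node 1309 (BT.leaf cT1309) (BT.leaf cT1310))) (BT.node 1313 (BT.node 1312 (BT.node 1311 (BT.leaf cT1311) (BT.leaf cT1312)) (BT.leaf cT1313)) (BT.node 1314 (BT.leaf cT1314) (BT.leaf cT1315))))))))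
noncomputable def colTT_8 : BT ℕ := (BT.node 1398 (BT.node 1357 (BT.node 1336 (BT.node 1326 (BT.node 1321 (BT.node 1318 (BT.node 1317 (BT.node 1316 (BT.leaf cT1316) (BT.leaf cT1317)) (BT.leaf cT1318)) (BT.node 1320 (BT.node 1319 (BT.leaf cT1319) (BT.leaf cT1320)) (BT.leaf cT1321))) (BT.node 1324 (BT.node 1323 (BT.node 1322 (BT.leaf cT1322) (BT.leaf cT1323)) (BT.leaf cT1324)) (BT.node 1325 (BT.leaf cT1325) (BT.leaf cT1326)))) (BT.node 1331 (BT.node 1329 (BT.node 1328 (BT.node 1327 (BT.leaf cT1327) (BT.leaf cT1328)) (BT.leaf cT1329)) (BT.node 1330 (BT.leaf cT1330) (BT.leaf cT1331))) (BT.node 1334 (BT.node 1333 (BT.node 1332 (BT.leaf cT1332) (BT.leaf cT1333)) (BT.leaf cT1334)) (BT.node 1335 (BT.leaf cT1335) (BT.leaf cT1336))))) (BT.node 1347 (BT.node 1342 (BT.node 1339 (BT.node 1338 (BT.node 1337 (BT.leaf cT1337) (BT.leaf cT1338)) (BT.leaf cT1339)) (BT.node 1341 (BT.node 1340 (BT.leaf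 cT1340) (BT.leaf cT1341)) (BT.leaf cT1342))) (BT.node 1345 (BT.node 1344 (BT.node 1343 (BT.leaf cT1343) (BT.leaf cT1344)) (BT.leaf cT1345)) (BT.node 1346 (BT.leaf cT1346) (BT.leaf cT1347)))) (BT.node 1352 (BT.node 1350 (BT.node 1349 (BT.node 1348 (BT.leaf cT1348) (BT.leaf cT1349)) (BT.leaf cT1350)) (BT.node 1351 (BT.leaf cT1351) (BT.leaf cT1352))) (BT.node 1355 (BT.node 1354 (BT.node 1353 (BT.leaf cT1353) (BT.leaf cT1354)) (BT.leaf cT1355)) (BT.node 1356 (BT.leaf cT1356) (BT.leaf cT1357)))))) (BT.node 1378 (BT.node 1368 (BT.node 1363 (BT.node 1360 (BT.node 1359 (BT.node 1358 (BT.leaf cT1358) (BT.leaf cT1359)) (BT.leaf cT1360)) (BT.node 1362 (BT.node 1361 (BT.leaf cT1361) (BT.leaf cT1362)) (BT.leaf cT1363))) (BT.node 1366 (BT.node 1365 (BT.node 1364 (BT.leaf cT1364) (BT.leaf cT1365)) (BT.leaf cT1366)) (BT.node 1367 (BT.leaf cT1367) (BT.leaf cT1368)))) (BT.node 1373 (BT.node 1371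 (BT.node 1370 (BT.node 1369 (BT.leaf cT1369) (BT.leaf cT1370)) (BT.leaf cT1371)) (BT.node 1372 (BT.leaf cT1372) (BT.leaf cT1373))) (BT.node 1376 (BT.node 1375 (BT.node 1374 (BT.leaf cT1374) (BT.leaf cT1375)) (BT.leaf cT1376)) (BT.node 1377 (BT.leaf cT1377) (BT.leaf cT1378))))) (BT.node 1388 (BT.node 1383 (BT.node 1381 (BT.node 1380 (BT.node 1379 (BT.leaf cT1379) (BT.leaf cT1380)) (BT.leaf cT1381)) (BT.node 1382 (BT.leaf cT1382) (BT.leaf cT1383))) (BT.node 1386 (BT.node 1385 (BT.node 1384 (BT.leaf cT1384) (BT.leaf cT1385)) (BT.leaf cT1386)) (BT.node 1387 (BT.leaf cT1387) (BT.leaf cT1388)))) (BT.node 1393 (BT.node 1391 (BT.node 1390 (BT.node 1389 (BT.leaf cT1389) (BT.leaf cT1390)) (BT.leaf cT1391)) (BT.node 1392 (BT.leaf cT1392) (BT.leaf cT1393))) (BT.node 1396 (BT.node 1395 (BT.node 1394 (BT.leaf cT1394) (BT.leaf cT1395)) (BT.leaf cT1396)) (BT.node 1397 (BT.leaf cT1397) (BT.leaf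 cT1398))))))) (BT.node 1439 (BT.node 1419 (BT.node 1409 (BT.node 1404 (BT.node 1401 (BT.node 1400 (BT.node 1399 (BT.leaf cT1399) (BT.leaf cT1400)) (BT.leaf cT1401)) (BT.node 1403 (BT.node 1402 (BT.leaf cT1402) (BT.leaf cT1403)) (BT.leaf cT1404))) (BT.node 1407 (BT.node 1406 (BT.node 1405 (BT.leaf cT1405) (BT.leaf cT1406)) (BT.leaf cT1407)) (BT.node 1408 (BT.leaf cT1408) (BT.leaf cT1409)))) (BT.node 1414 (BT.node 1412 (BT.node 1411 (BT.node 1410 (BT.leaf cT1410) (BT.leaf cT1411)) (BT.leaf cT1412)) (BT.node 1413 (BT.leaf cT1413) (BT.leaf cT1414))) (BT.node 1417 (BT.node 1416 (BT.node 1415 (BT.leaf cT1415) (BT.leaf cT1416)) (BT.leaf cT1417)) (BT.node 1418 (BT.leaf cT1418) (BT.leaf cT1419))))) (BT.node 1429 (BT.node 1424 (BT.node 1422 (BT.node 1421 (BT.node 1420 (BT.leaf cT1420) (BT.leaf cT1421)) (BT.leaf cT1422)) (BT.node 1423 (BT.leaf cT1423) (BT.leaf cT1424))) (BT.node 1427 (BT.node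 1426 (BT.node 1425 (BT.leaf cT1425) (BT.leaf cT1426)) (BT.leaf cT1427)) (BT.node 1428 (BT.leaf cT1428) (BT.leaf cT1429)))) (BT.node 1434 (BT.node 1432 (BT.node 1431 (BT.node 1430 (BT.leaf cT1430) (BT.leaf cT1431)) (BT.leaf cT1432)) (BT.node 1433 (BT.leaf cT1433) (BT.leaf cT1434))) (BT.node 1437 (BT.node 1436 (BT.node 1435 (BT.leaf cT1435) (BT.leaf cT1436)) (BT.leaf cT1437)) (BT.node 1438 (BT.leaf cT1438) (BT.leaf cT1439)))))) (BT.node 1460 (BT.node 1450 (BT.node 1445 (BT.node 1442 (BT.node 1441 (BT.node 1440 (BT.leaf cT1440) (BT.leaf cT1441)) (BT.leaf cT1442)) (BT.node 1444 (BT.node 1443 (BT.leaf cT1443) (BT.leaf cT1444)) (BT.leaf cT1445))) (BT.node 1448 (BT.node 1447 (BT.node 1446 (BT.leaf cT1446) (BT.leaf cT1447)) (BT.leaf cT1448)) (BT.node 1449 (BT.leaf cT1449) (BT.leaf cT1450)))) (BT.node 1455 (BT.node 1453 (BT.node 1452 (BT.node 1451 (BT.leaf cT1451) (BT.leaf cT1452)) (BT.leaf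 cT1453)) (BT.node 1454 (BT.leaf cT1454) (BT.leaf cT1455))) (BT.node 1458 (BT.node 1457 (BT.node 1456 (BT.leaf cT1456) (BT.leaf cT1457)) (BT.leaf cT1458)) (BT.node 1459 (BT.leaf cT1459) (BT.leaf cT1460))))) (BT.node 1470 (BT.node 1465 (BT.node 1463 (BT.node 1462 (BT.node 1461 (BT.leaf cT1461) (BT.leaf cT1462)) (BT.leaf cT1463)) (BT.node 1464 (BT.leaf cT1464) (BT.leaf cT1465))) (BT.node 1468 (BT.node 1467 (BT.node 1466 (BT.leaf cT1466) (BT.leaf cT1467)) (BT.leaf cT1468)) (BT.node 1469 (BT.leaf cT1469) (BT.leaf cT1470)))) (BT.node 1475 (BT.node 1473 (BT.node 1472 (BT.node 1471 (BT.leaf cT1471) (BT.leaf cT1472)) (BT.leaf cT1473)) (BT.node 1474 (BT.leaf cT1474) (BT.leaf cT1475))) (BT.node 1478 (BT.node 1477 (BT.node 1476 (BT.leaf cT1476) (BT.leaf cT1477)) (BT.leaf cT1478)) (BT.node 1479 (BT.leaf cT1479) (BT.leaf cT1480))))))))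
noncomputable def colTT_9 : BT ℕ := (BT.node 1562 (BT.node 1521 (BT.node 1501 (BT.node 1491 (BT.node 1486 (BT.node 1483 (BT.node 1482 (BT.node 1481 (BT.leaf cT1481) (BT.leaf cT1482)) (BT.leaf cT1483)) (BT.node 1485 (BT.node 1484 (BT.leaf cT1484) (BT.leaf cT1485)) (BT.leaf cT1486))) (BT.node 1489 (BT.node 1488 (BT.node 1487 (BT.leaf cT1487) (BT.leaf cT1488)) (BT.leaf cT1489)) (BT.node 1490 (BT.leaf cT1490) (BT.leaf cT1491)))) (BT.node 1496 (BT.node 1494 (BT.node 1493 (BT.node 1492 (BT.leaf cT1492) (BT.leaf cT1493)) (BT.leaf cT1494)) (BT.node 1495 (BT.leaf cT1495) (BT.leaf cT1496))) (BT.node 1499 (BT.node 1498 (BT.node 1497 (BT.leaf cT1497) (BT.leaf cT1498)) (BT.leaf cT1499)) (BT.node 1500 (BT.leaf cT1500) (BT.leaf cT1501))))) (BT.node 1511 (BT.node 1506 (BT.node 1504 (BT.node 1503 (BT.node 1502 (BT.leaf cT1502) (BT.leaf cT1503)) (BT.leaf cT1504)) (BT.node 1505 (BT.leaf cT1505)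 (BT.leaf cT1506))) (BT.node 1509 (BT.node 1508 (BT.node 1507 (BT.leaf cT1507) (BT.leaf cT1508)) (BT.leaf cT1509)) (BT.node 1510 (BT.leaf cT1510) (BT.leaf cT1511)))) (BT.node 1516 (BT.node 1514 (BT.node 1513 (BT.node 1512 (BT.leaf cT1512) (BT.leaf cT1513)) (BT.leaf cT1514)) (BT.node 1515 (BT.leaf cT1515) (BT.leaf cT1516))) (BT.node 1519 (BT.node 1518 (BT.node 1517 (BT.leaf cT1517) (BT.leaf cT1518)) (BT.leaf cT1519)) (BT.node 1520 (BT.leaf cT1520) (BT.leaf cT1521)))))) (BT.node 1542 (BT.node 1532 (BT.node 1527 (BT.node 1524 (BT.node 1523 (BT.node 1522 (BT.leaf cT1522) (BT.leaf cT1523)) (BT.leaf cT1524)) (BT.node 1526 (BT.node 1525 (BT.leaf cT1525) (BT.leaf cT1526)) (BT.leaf cT1527))) (BT.node 1530 (BT.node 1529 (BT.node 1528 (BT.leaf cT1528) (BT.leaf cT1529)) (BT.leaf cT1530)) (BT.node 1531 (BT.leaf cT1531) (BT.leaf cT1532)))) (BT.node 1537 (BT.node 1535 (BT.node 1534 (BT.node 1533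 (BT.leaf cT1533) (BT.leaf cT1534)) (BT.leaf cT1535)) (BT.node 1536 (BT.leaf cT1536) (BT.leaf cT1537))) (BT.node 1540 (BT.node 1539 (BT.node 1538 (BT.leaf cT1538) (BT.leaf cT1539)) (BT.leaf cT1540)) (BT.node 1541 (BT.leaf cT1541) (BT.leaf cT1542))))) (BT.node 1552 (BT.node 1547 (BT.node 1545 (BT.node 1544 (BT.node 1543 (BT.leaf cT1543) (BT.leaf cT1544)) (BT.leaf cT1545)) (BT.node 1546 (BT.leaf cT1546) (BT.leaf cT1547))) (BT.node 1550 (BT.node 1549 (BT.node 1548 (BT.leaf cT1548) (BT.leaf cT1549)) (BT.leaf cT1550)) (BT.node 1551 (BT.leaf cT1551) (BT.leaf cT1552)))) (BT.node 1557 (BT.node 1555 (BT.node 1554 (BT.node 1553 (BT.leaf cT1553) (BT.leaf cT1554)) (BT.leaf cT1555)) (BT.node 1556 (BT.leaf cT1556) (BT.leaf cT1557))) (BT.node 1560 (BT.node 1559 (BT.node 1558 (BT.leaf cT1558) (BT.leaf cT1559)) (BT.leaf cT1560)) (BT.node 1561 (BT.leaf cT1561) (BT.leaf cT1562))))))) (BT.node 1603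 (BT.node 1583 (BT.node 1573 (BT.node 1568 (BT.node 1565 (BT.node 1564 (BT.node 1563 (BT.leaf cT1563) (BT.leaf cT1564)) (BT.leaf cT1565)) (BT.node 1567 (BT.node 1566 (BT.leaf cT1566) (BT.leaf cT1567)) (BT.leaf cT1568))) (BT.node 1571 (BT.node 1570 (BT.node 1569 (BT.leaf cT1569) (BT.leaf cT1570)) (BT.leaf cT1571)) (BT.node 1572 (BT.leaf cT1572) (BT.leaf cT1573)))) (BT.node 1578 (BT.node 1576 (BT.node 1575 (BT.node 1574 (BT.leaf cT1574) (BT.leaf cT1575)) (BT.leaf cT1576)) (BT.node 1577 (BT.leaf cT1577) (BT.leaf cT1578))) (BT.node 1581 (BT.node 1580 (BT.node 1579 (BT.leaf cT1579) (BT.leaf cT1580)) (BT.leaf cT1581)) (BT.node 1582 (BT.leaf cT1582) (BT.leaf cT1583))))) (BT.node 1593 (BT.node 1588 (BT.node 1586 (BT.node 1585 (BT.node 1584 (BT.leaf cT1584) (BT.leaf cT1585)) (BT.leaf cT1586)) (BT.node 1587 (BT.leaf cT1587) (BT.leaf cT1588))) (BT.node 1591 (BT.node 1590 (BT.node 1589 (BT.leaf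 cT1589) (BT.leaf cT1590)) (BT.leaf cT1591)) (BT.node 1592 (BT.leaf cT1592) (BT.leaf cT1593)))) (BT.node 1598 (BT.node 1596 (BT.node 1595 (BT.node 1594 (BT.leaf cT1594) (BT.leaf cT1595)) (BT.leaf cT1596)) (BT.node 1597 (BT.leaf cT1597) (BT.leaf cT1598))) (BT.node 1601 (BT.node 1600 (BT.node 1599 (BT.leaf cT1599) (BT.leaf cT1600)) (BT.leaf cT1601)) (BT.node 1602 (BT.leaf cT1602) (BT.leaf cT1603)))))) (BT.node 1624 (BT.node 1614 (BT.node 1609 (BT.node 1606 (BT.node 1605 (BT.node 1604 (BT.leaf cT1604) (BT.leaf cT1605)) (BT.leaf cT1606)) (BT.node 1608 (BT.node 1607 (BT.leaf cT1607) (BT.leaf cT1608)) (BT.leaf cT1609))) (BT.node 1612 (BT.node 1611 (BT.node 1610 (BT.leaf cT1610) (BT.leaf cT1611)) (BT.leaf cT1612)) (BT.node 1613 (BT.leaf cT1613) (BT.leaf cT1614)))) (BT.node 1619 (BT.node 1617 (BT.node 1616 (BT.node 1615 (BT.leaf cT1615) (BT.leaf cT1616)) (BT.leaf cT1617)) (BT.node 1618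 (BT.leaf cT1618) (BT.leaf cT1619))) (BT.node 1622 (BT.node 1621 (BT.node 1620 (BT.leaf cT1620) (BT.leaf cT1621)) (BT.leaf cT1622)) (BT.node 1623 (BT.leaf cT1623) (BT.leaf cT1624))))) (BT.node 1634 (BT.node 1629 (BT.node 1627 (BT.node 1626 (BT.node 1625 (BT.leaf cT1625) (BT.leaf cT1626)) (BT.leaf cT1627)) (BT.node 1628 (BT.leaf cT1628) (BT.leaf cT1629))) (BT.node 1632 (BT.node 1631 (BT.node 1630 (BT.leaf cT1630) (BT.leaf cT1631)) (BT.leaf cT1632)) (BT.node 1633 (BT.leaf cT1633) (BT.leaf cT1634)))) (BT.node 1639 (BT.node 1637 (BT.node 1636 (BT.node 1635 (BT.leaf cT1635) (BT.leaf cT1636)) (BT.leaf cT1637)) (BT.node 1638 (BT.leaf cT1638) (BT.leaf cT1639))) (BT.node 1642 (BT.node 1641 (BT.node 1640 (BT.leaf cT1640) (BT.leaf cT1641)) (BT.leaf cT1642)) (BT.node 1643 (BT.leaf cT1643) (BT.leaf cT1644))))))))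
noncomputable def colTT_10 : BT ℕ := (BT.node 1727 (BT.node 1686 (BT.node 1665 (BT.node 1655 (BT.node 1650 (BT.node 1647 (BT.node 1646 (BT.node 1645 (BT.leaf cT1645) (BT.leaf cT1646)) (BT.leaf cT1647)) (BT.node 1649 (BT.node 1648 (BT.leaf cT1648) (BT.leaf cT1649)) (BT.leaf cT1650))) (BT.node 1653 (BT.node 1652 (BT.node 1651 (BT.leaf cT1651) (BT.leaf cT1652)) (BT.leaf cT1653)) (BT.node 1654 (BT.leaf cT1654) (BT.leaf cT1655)))) (BT.node 1660 (BT.node 1658 (BT.node 1657 (BT.node 1656 (BT.leaf cT1656) (BT.leaf cT1657)) (BT.leaf cT1658)) (BT.node 1659 (BT.leaf cT1659) (BT.leaf cT1660))) (BT.node 1663 (BT.node 1662 (BT.node 1661 (BT.leaf cT1661) (BT.leaf cT1662)) (BT.leaf cT1663)) (BT.node 1664 (BT.leaf cT1664) (BT.leaf cT1665))))) (BT.node 1676 (BT.node 1671 (BT.node 1668 (BT.node 1667 (BT.node 1666 (BT.leaf cT1666) (BT.leaf cT1667)) (BT.leaf cT1668)) (BT.node 1670 (BT.node 1669 (BT.leaf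 cT1669) (BT.leaf cT1670)) (BT.leaf cT1671))) (BT.node 1674 (BT.node 1673 (BT.node 1672 (BT.leaf cT1672) (BT.leaf cT1673)) (BT.leaf cT1674)) (BT.node 1675 (BT.leaf cT1675) (BT.leaf cT1676)))) (BT.node 1681 (BT.node 1679 (BT.node 1678 (BT.node 1677 (BT.leaf cT1677) (BT.leaf cT1678)) (BT.leaf cT1679)) (BT.node 1680 (BT.leaf cT1680) (BT.leaf cT1681))) (BT.node 1684 (BT.node 1683 (BT.node 1682 (BT.leaf cT1682) (BT.leaf cT1683)) (BT.leaf cT1684)) (BT.node 1685 (BT.leaf cT1685) (BT.leaf cT1686)))))) (BT.node 1707 (BT.node 1697 (BT.node 1692 (BT.node 1689 (BT.node 1688 (BT.node 1687 (BT.leaf cT1687) (BT.leaf cT1688)) (BT.leaf cT1689)) (BT.node 1691 (BT.node 1690 (BT.leaf cT1690) (BT.leaf cT1691)) (BT.leaf cT1692))) (BT.node 1695 (BT.node 1694 (BT.node 1693 (BT.leaf cT1693) (BT.leaf cT1694)) (BT.leaf cT1695)) (BT.node 1696 (BT.leaf cT1696) (BT.leaf cT1697)))) (BT.node 1702 (BT.node 1700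 (BT.node 1699 (BT.node 1698 (BT.leaf cT1698) (BT.leaf cT1699)) (BT.leaf cT1700)) (BT.node 1701 (BT.leaf cT1701) (BT.leaf cT1702))) (BT.node 1705 (BT.node 1704 (BT.node 1703 (BT.leaf cT1703) (BT.leaf cT1704)) (BT.leaf cT1705)) (BT.node 1706 (BT.leaf cT1706) (BT.leaf cT1707))))) (BT.node 1717 (BT.node 1712 (BT.node 1710 (BT.node 1709 (BT.node 1708 (BT.leaf cT1708) (BT.leaf cT1709)) (BT.leaf cT1710)) (BT.node 1711 (BT.leaf cT1711) (BT.leaf cT1712))) (BT.node 1715 (BT.node 1714 (BT.node 1713 (BT.leaf cT1713) (BT.leaf cT1714)) (BT.leaf cT1715)) (BT.node 1716 (BT.leaf cT1716) (BT.leaf cT1717)))) (BT.node 1722 (BT.node 1720 (BT.node 1719 (BT.node 1718 (BT.leaf cT1718) (BT.leaf cT1719)) (BT.leaf cT1720)) (BT.node 1721 (BT.leaf cT1721) (BT.leaf cT1722))) (BT.node 1725 (BT.node 1724 (BT.node 1723 (BT.leaf cT1723) (BT.leaf cT1724)) (BT.leaf cT1725)) (BT.node 1726 (BT.leaf cT1726) (BT.leaf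 cT1727))))))) (BT.node 1768 (BT.node 1748 (BT.node 1738 (BT.node 1733 (BT.node 1730 (BT.node 1729 (BT.node 1728 (BT.leaf cT1728) (BT.leaf cT1729)) (BT.leaf cT1730)) (BT.node 1732 (BT.node 1731 (BT.leaf cT1731) (BT.leaf cT1732)) (BT.leaf cT1733))) (BT.node 1736 (BT.node 1735 (BT.node 1734 (BT.leaf cT1734) (BT.leaf cT1735)) (BT.leaf cT1736)) (BT.node 1737 (BT.leaf cT1737) (BT.leaf cT1738)))) (BT.node 1743 (BT.node 1741 (BT.node 1740 (BT.node 1739 (BT.leaf cT1739) (BT.leaf cT1740)) (BT.leaf cT1741)) (BT.node 1742 (BT.leaf cT1742) (BT.leaf cT1743))) (BT.node 1746 (BT.node 1745 (BT.node 1744 (BT.leaf cT1744) (BT.leaf cT1745)) (BT.leaf cT1746)) (BT.node 1747 (BT.leaf cT1747) (BT.leaf cT1748))))) (BT.node 1758 (BT.node 1753 (BT.node 1751 (BT.node 1750 (BT.node 1749 (BT.leaf cT1749) (BT.leaf cT1750)) (BT.leaf cT1751)) (BT.node 1752 (BT.leaf cT1752) (BT.leaf cT1753))) (BT.node 1756 (BT.node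 1755 (BT.node 1754 (BT.leaf cT1754) (BT.leaf cT1755)) (BT.leaf cT1756)) (BT.node 1757 (BT.leaf cT1757) (BT.leaf cT1758)))) (BT.node 1763 (BT.node 1761 (BT.node 1760 (BT.node 1759 (BT.leaf cT1759) (BT.leaf cT1760)) (BT.leaf cT1761)) (BT.node 1762 (BT.leaf cT1762) (BT.leaf cT1763))) (BT.node 1766 (BT.node 1765 (BT.node 1764 (BT.leaf cT1764) (BT.leaf cT1765)) (BT.leaf cT1766)) (BT.node 1767 (BT.leaf cT1767) (BT.leaf cT1768)))))) (BT.node 1789 (BT.node 1779 (BT.node 1774 (BT.node 1771 (BT.node 1770 (BT.node 1769 (BT.leaf cT1769) (BT.leaf cT1770)) (BT.leaf cT1771)) (BT.node 1773 (BT.node 1772 (BT.leaf cT1772) (BT.leaf cT1773)) (BT.leaf cT1774))) (BT.node 1777 (BT.node 1776 (BT.node 1775 (BT.leaf cT1775) (BT.leaf cT1776)) (BT.leaf cT1777)) (BT.node 1778 (BT.leaf cT1778) (BT.leaf cT1779)))) (BT.node 1784 (BT.node 1782 (BT.node 1781 (BT.node 1780 (BT.leaf cT1780) (BT.leaf cT1781)) (BT.leaf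 cT1782)) (BT.node 1783 (BT.leaf cT1783) (BT.leaf cT1784))) (BT.node 1787 (BT.node 1786 (BT.node 1785 (BT.leaf cT1785) (BT.leaf cT1786)) (BT.leaf cT1787)) (BT.node 1788 (BT.leaf cT1788) (BT.leaf cT1789))))) (BT.node 1799 (BT.node 1794 (BT.node 1792 (BT.node 1791 (BT.node 1790 (BT.leaf cT1790) (BT.leaf cT1791)) (BT.leaf cT1792)) (BT.node 1793 (BT.leaf cT1793) (BT.leaf cT1794))) (BT.node 1797 (BT.node 1796 (BT.node 1795 (BT.leaf cT1795) (BT.leaf cT1796)) (BT.leaf cT1797)) (BT.node 1798 (BT.leaf cT1798) (BT.leaf cT1799)))) (BT.node 1804 (BT.node 1802 (BT.node 1801 (BT.node 1800 (BT.leaf cT1800) (BT.leaf cT1801)) (BT.leaf cT1802)) (BT.node 1803 (BT.leaf cT1803) (BT.leaf cT1804))) (BT.node 1807 (BT.node 1806 (BT.node 1805 (BT.leaf cT1805) (BT.leaf cT1806)) (BT.leaf cT1807)) (BT.node 1808 (BT.leaf cT1808) (BT.leaf cT1809))))))))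
noncomputable def colTT_11 : BT ℕ := (BT.node 1891 (BT.node 1850 (BT.node 1830 (BT.node 1820 (BT.node 1815 (BT.node 1812 (BT.node 1811 (BT.node 1810 (BT.leaf cT1810) (BT.leaf cT1811)) (BT.leaf cT1812)) (BT.node 1814 (BT.node 1813 (BT.leaf cT1813) (BT.leaf cT1814)) (BT.leaf cT1815))) (BT.node 1818 (BT.node 1817 (BT.node 1816 (BT.leaf cT1816) (BT.leaf cT1817)) (BT.leaf cT1818)) (BT.node 1819 (BT.leaf cT1819) (BT.leaf cT1820)))) (BT.node 1825 (BT.node 1823 (BT.node 1822 (BT.node 1821 (BT.leaf cT1821) (BT.leaf cT1822)) (BT.leaf cT1823)) (BT.node 1824 (BT.leaf cT1824) (BT.leaf cT1825))) (BT.node 1828 (BT.node 1827 (BT.node 1826 (BT.leaf cT1826) (BT.leaf cT1827)) (BT.leaf cT1828)) (BT.node 1829 (BT.leaf cT1829) (BT.leaf cT1830))))) (BT.node 1840 (BT.node 1835 (BT.node 1833 (BT.node 1832 (BT.node 1831 (BT.leaf cT1831) (BT.leaf cT1832)) (BT.leaf cT1833)) (BT.node 1834 (BT.leaf cT1834)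 (BT.leaf cT1835))) (BT.node 1838 (BT.node 1837 (BT.node 1836 (BT.leaf cT1836) (BT.leaf cT1837)) (BT.leaf cT1838)) (BT.node 1839 (BT.leaf cT1839) (BT.leaf cT1840)))) (BT.node 1845 (BT.node 1843 (BT.node 1842 (BT.node 1841 (BT.leaf cT1841) (BT.leaf cT1842)) (BT.leaf cT1843)) (BT.node 1844 (BT.leaf cT1844) (BT.leaf cT1845))) (BT.node 1848 (BT.node 1847 (BT.node 1846 (BT.leaf cT1846) (BT.leaf cT1847)) (BT.leaf cT1848)) (BT.node 1849 (BT.leaf cT1849) (BT.leaf cT1850)))))) (BT.node 1871 (BT.node 1861 (BT.node 1856 (BT.node 1853 (BT.node 1852 (BT.node 1851 (BT.leaf cT1851) (BT.leaf cT1852)) (BT.leaf cT1853)) (BT.node 1855 (BT.node 1854 (BT.leaf cT1854) (BT.leaf cT1855)) (BT.leaf cT1856))) (BT.node 1859 (BT.node 1858 (BT.node 1857 (BT.leaf cT1857) (BT.leaf cT1858)) (BT.leaf cT1859)) (BT.node 1860 (BT.leaf cT1860) (BT.leaf cT1861)))) (BT.node 1866 (BT.node 1864 (BT.node 1863 (BT.node 1862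 (BT.leaf cT1862) (BT.leaf cT1863)) (BT.leaf cT1864)) (BT.node 1865 (BT.leaf cT1865) (BT.leaf cT1866))) (BT.node 1869 (BT.node 1868 (BT.node 1867 (BT.leaf cT1867) (BT.leaf cT1868)) (BT.leaf cT1869)) (BT.node 1870 (BT.leaf cT1870) (BT.leaf cT1871))))) (BT.node 1881 (BT.node 1876 (BT.node 1874 (BT.node 1873 (BT.node 1872 (BT.leaf cT1872) (BT.leaf cT1873)) (BT.leaf cT1874)) (BT.node 1875 (BT.leaf cT1875) (BT.leaf cT1876))) (BT.node 1879 (BT.node 1878 (BT.node 1877 (BT.leaf cT1877) (BT.leaf cT1878)) (BT.leaf cT1879)) (BT.node 1880 (BT.leaf cT1880) (BT.leaf cT1881)))) (BT.node 1886 (BT.node 1884 (BT.node 1883 (BT.node 1882 (BT.leaf cT1882) (BT.leaf cT1883)) (BT.leaf cT1884)) (BT.node 1885 (BT.leaf cT1885) (BT.leaf cT1886))) (BT.node 1889 (BT.node 1888 (BT.node 1887 (BT.leaf cT1887) (BT.leaf cT1888)) (BT.leaf cT1889)) (BT.node 1890 (BT.leaf cT1890) (BT.leaf cT1891))))))) (BT.node 1932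 (BT.node 1912 (BT.node 1902 (BT.node 1897 (BT.node 1894 (BT.node 1893 (BT.node 1892 (BT.leaf cT1892) (BT.leaf cT1893)) (BT.leaf cT1894)) (BT.node 1896 (BT.node 1895 (BT.leaf cT1895) (BT.leaf cT1896)) (BT.leaf cT1897))) (BT.node 1900 (BT.node 1899 (BT.node 1898 (BT.leaf cT1898) (BT.leaf cT1899)) (BT.leaf cT1900)) (BT.node 1901 (BT.leaf cT1901) (BT.leaf cT1902)))) (BT.node 1907 (BT.node 1905 (BT.node 1904 (BT.node 1903 (BT.leaf cT1903) (BT.leaf cT1904)) (BT.leaf cT1905)) (BT.node 1906 (BT.leaf cT1906) (BT.leaf cT1907))) (BT.node 1910 (BT.node 1909 (BT.node 1908 (BT.leaf cT1908) (BT.leaf cT1909)) (BT.leaf cT1910)) (BT.node 1911 (BT.leaf cT1911) (BT.leaf cT1912))))) (BT.node 1922 (BT.node 1917 (BT.node 1915 (BT.node 1914 (BT.node 1913 (BT.leaf cT1913) (BT.leaf cT1914)) (BT.leaf cT1915)) (BT.node 1916 (BT.leaf cT1916) (BT.leaf cT1917))) (BT.node 1920 (BT.node 1919 (BT.node 1918 (BT.leaf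 cT1918) (BT.leaf cT1919)) (BT.leaf cT1920)) (BT.node 1921 (BT.leaf cT1921) (BT.leaf cT1922)))) (BT.node 1927 (BT.node 1925 (BT.node 1924 (BT.node 1923 (BT.leaf cT1923) (BT.leaf cT1924)) (BT.leaf cT1925)) (BT.node 1926 (BT.leaf cT1926) (BT.leaf cT1927))) (BT.node 1930 (BT.node 1929 (BT.node 1928 (BT.leaf cT1928) (BT.leaf cT1929)) (BT.leaf cT1930)) (BT.node 1931 (BT.leaf cT1931) (BT.leaf cT1932)))))) (BT.node 1953 (BT.node 1943 (BT.node 1938 (BT.node 1935 (BT.node 1934 (BT.node 1933 (BT.leaf cT1933) (BT.leaf cT1934)) (BT.leaf cT1935)) (BT.node 1937 (BT.node 1936 (BT.leaf cT1936) (BT.leaf cT1937)) (BT.leaf cT1938))) (BT.node 1941 (BT.node 1940 (BT.node 1939 (BT.leaf cT1939) (BT.leaf cT1940)) (BT.leaf cT1941)) (BT.node 1942 (BT.leaf cT1942) (BT.leaf cT1943)))) (BT.node 1948 (BT.node 1946 (BT.node 1945 (BT.node 1944 (BT.leaf cT1944) (BT.leaf cT1945)) (BT.leaf cT1946)) (BT.node 1947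 (BT.leaf cT1947) (BT.leaf cT1948))) (BT.node 1951 (BT.node 1950 (BT.node 1949 (BT.leaf cT1949) (BT.leaf cT1950)) (BT.leaf cT1951)) (BT.node 1952 (BT.leaf cT1952) (BT.leaf cT1953))))) (BT.node 1963 (BT.node 1958 (BT.node 1956 (BT.node 1955 (BT.node 1954 (BT.leaf cT1954) (BT.leaf cT1955)) (BT.leaf cT1956)) (BT.node 1957 (BT.leaf cT1957) (BT.leaf cT1958))) (BT.node 1961 (BT.node 1960 (BT.node 1959 (BT.leaf cT1959) (BT.leaf cT1960)) (BT.leaf cT1961)) (BT.node 1962 (BT.leaf cT1962) (BT.leaf cT1963)))) (BT.node 1968 (BT.node 1966 (BT.node 1965 (BT.node 1964 (BT.leaf cT1964) (BT.leaf cT1965)) (BT.leaf cT1966)) (BT.node 1967 (BT.leaf cT1967) (BT.leaf cT1968))) (BT.node 1971 (BT.node 1970 (BT.node 1969 (BT.leaf cT1969) (BT.leaf cT1970)) (BT.leaf cT1971)) (BT.node 1972 (BT.leaf cT1972) (BT.leaf cT1973))))))))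
noncomputable def colTT_12 : BT ℕ := (BT.node 2056 (BT.node 2015 (BT.node 1994 (BT.node 1984 (BT.node 1979 (BT.node 1976 (BT.node 1975 (BT.node 1974 (BT.leaf cT1974) (BT.leaf cT1975)) (BT.leaf cT1976)) (BT.node 1978 (BT.node 1977 (BT.leaf cT1977) (BT.leaf cT1978)) (BT.leaf cT1979))) (BT.node 1982 (BT.node 1981 (BT.node 1980 (BT.leaf cT1980) (BT.leaf cT1981)) (BT.leaf cT1982)) (BT.node 1983 (BT.leaf cT1983) (BT.leaf cT1984)))) (BT.node 1989 (BT.node 1987 (BT.node 1986 (BT.node 1985 (BT.leaf cT1985) (BT.leaf cT1986)) (BT.leaf cT1987)) (BT.node 1988 (BT.leaf cT1988) (BT.leaf cT1989))) (BT.node 1992 (BT.node 1991 (BT.node 1990 (BT.leaf cT1990) (BT.leaf cT1991)) (BT.leaf cT1992)) (BT.node 1993 (BT.leaf cT1993) (BT.leaf cT1994))))) (BT.node 2005 (BT.node 2000 (BT.node 1997 (BT.node 1996 (BT.node 1995 (BT.leaf cT1995) (BT.leaf cT1996)) (BT.leaf cT1997)) (BT.node 1999 (BT.node 1998 (BT.leaf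 cT1998) (BT.leaf cT1999)) (BT.leaf cT2000))) (BT.node 2003 (BT.node 2002 (BT.node 2001 (BT.leaf cT2001) (BT.leaf cT2002)) (BT.leaf cT2003)) (BT.node 2004 (BT.leaf cT2004) (BT.leaf cT2005)))) (BT.node 2010 (BT.node 2008 (BT.node 2007 (BT.node 2006 (BT.leaf cT2006) (BT.leaf cT2007)) (BT.leaf cT2008)) (BT.node 2009 (BT.leaf cT2009) (BT.leaf cT2010))) (BT.node 2013 (BT.node 2012 (BT.node 2011 (BT.leaf cT2011) (BT.leaf cT2012)) (BT.leaf cT2013)) (BT.node 2014 (BT.leaf cT2014) (BT.leaf cT2015)))))) (BT.node 2036 (BT.node 2026 (BT.node 2021 (BT.node 2018 (BT.node 2017 (BT.node 2016 (BT.leaf cT2016) (BT.leaf cT2017)) (BT.leaf cT2018)) (BT.node 2020 (BT.node 2019 (BT.leaf cT2019) (BT.leaf cT2020)) (BT.leaf cT2021))) (BT.node 2024 (BT.node 2023 (BT.node 2022 (BT.leaf cT2022) (BT.leaf cT2023)) (BT.leaf cT2024)) (BT.node 2025 (BT.leaf cT2025) (BT.leaf cT2026)))) (BT.node 2031 (BT.node 2029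 (BT.node 2028 (BT.node 2027 (BT.leaf cT2027) (BT.leaf cT2028)) (BT.leaf cT2029)) (BT.node 2030 (BT.leaf cT2030) (BT.leaf cT2031))) (BT.node 2034 (BT.node 2033 (BT.node 2032 (BT.leaf cT2032) (BT.leaf cT2033)) (BT.leaf cT2034)) (BT.node 2035 (BT.leaf cT2035) (BT.leaf cT2036))))) (BT.node 2046 (BT.node 2041 (BT.node 2039 (BT.node 2038 (BT.node 2037 (BT.leaf cT2037) (BT.leaf cT2038)) (BT.leaf cT2039)) (BT.node 2040 (BT.leaf cT2040) (BT.leaf cT2041))) (BT.node 2044 (BT.node 2043 (BT.node 2042 (BT.leaf cT2042) (BT.leaf cT2043)) (BT.leaf cT2044)) (BT.node 2045 (BT.leaf cT2045) (BT.leaf cT2046)))) (BT.node 2051 (BT.node 2049 (BT.node 2048 (BT.node 2047 (BT.leaf cT2047) (BT.leaf cT2048)) (BT.leaf cT2049)) (BT.node 2050 (BT.leaf cT2050) (BT.leaf cT2051))) (BT.node 2054 (BT.node 2053 (BT.node 2052 (BT.leaf cT2052) (BT.leaf cT2053)) (BT.leaf cT2054)) (BT.node 2055 (BT.leaf cT2055) (BT.leaf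 cT2056))))))) (BT.node 2097 (BT.node 2077 (BT.node 2067 (BT.node 2062 (BT.node 2059 (BT.node 2058 (BT.node 2057 (BT.leaf cT2057) (BT.leaf cT2058)) (BT.leaf cT2059)) (BT.node 2061 (BT.node 2060 (BT.leaf cT2060) (BT.leaf cT2061)) (BT.leaf cT2062))) (BT.node 2065 (BT.node 2064 (BT.node 2063 (BT.leaf cT2063) (BT.leaf cT2064)) (BT.leaf cT2065)) (BT.node 2066 (BT.leaf cT2066) (BT.leaf cT2067)))) (BT.node 2072 (BT.node 2070 (BT.node 2069 (BT.node 2068 (BT.leaf cT2068) (BT.leaf cT2069)) (BT.leaf cT2070)) (BT.node 2071 (BT.leaf cT2071) (BT.leaf cT2072))) (BT.node 2075 (BT.node 2074 (BT.node 2073 (BT.leaf cT2073) (BT.leaf cT2074)) (BT.leaf cT2075)) (BT.node 2076 (BT.leaf cT2076) (BT.leaf cT2077))))) (BT.node 2087 (BT.node 2082 (BT.node 2080 (BT.node 2079 (BT.node 2078 (BT.leaf cT2078) (BT.leaf cT2079)) (BT.leaf cT2080)) (BT.node 2081 (BT.leaf cT2081) (BT.leaf cT2082))) (BT.node 2085 (BT.node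 2084 (BT.node 2083 (BT.leaf cT2083) (BT.leaf cT2084)) (BT.leaf cT2085)) (BT.node 2086 (BT.leaf cT2086) (BT.leaf cT2087)))) (BT.node 2092 (BT.node 2090 (BT.node 2089 (BT.node 2088 (BT.leaf cT2088) (BT.leaf cT2089)) (BT.leaf cT2090)) (BT.node 2091 (BT.leaf cT2091) (BT.leaf cT2092))) (BT.node 2095 (BT.node 2094 (BT.node 2093 (BT.leaf cT2093) (BT.leaf cT2094)) (BT.leaf cT2095)) (BT.node 2096 (BT.leaf cT2096) (BT.leaf cT2097)))))) (BT.node 2118 (BT.node 2108 (BT.node 2103 (BT.node 2100 (BT.node 2099 (BT.node 2098 (BT.leaf cT2098) (BT.leaf cT2099)) (BT.leaf cT2100)) (BT.node 2102 (BT.node 2101 (BT.leaf cT2101) (BT.leaf cT2102)) (BT.leaf cT2103))) (BT.node 2106 (BT.node 2105 (BT.node 2104 (BT.leaf cT2104) (BT.leaf cT2105)) (BT.leaf cT2106)) (BT.node 2107 (BT.leaf cT2107) (BT.leaf cT2108)))) (BT.node 2113 (BT.node 2111 (BT.node 2110 (BT.node 2109 (BT.leaf cT2109) (BT.leaf cT2110)) (BT.leaf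 cT2111)) (BT.node 2112 (BT.leaf cT2112) (BT.leaf cT2113))) (BT.node 2116 (BT.node 2115 (BT.node 2114 (BT.leaf cT2114) (BT.leaf cT2115)) (BT.leaf cT2116)) (BT.node 2117 (BT.leaf cT2117) (BT.leaf cT2118))))) (BT.node 2128 (BT.node 2123 (BT.node 2121 (BT.node 2120 (BT.node 2119 (BT.leaf cT2119) (BT.leaf cT2120)) (BT.leaf cT2121)) (BT.node 2122 (BT.leaf cT2122) (BT.leaf cT2123))) (BT.node 2126 (BT.node 2125 (BT.node 2124 (BT.leaf cT2124) (BT.leaf cT2125)) (BT.leaf cT2126)) (BT.node 2127 (BT.leaf cT2127) (BT.leaf cT2128)))) (BT.node 2133 (BT.node 2131 (BT.node 2130 (BT.node 2129 (BT.leaf cT2129) (BT.leaf cT2130)) (BT.leaf cT2131)) (BT.node 2132 (BT.leaf cT2132) (BT.leaf cT2133))) (BT.node 2136 (BT.node 2135 (BT.node 2134 (BT.leaf cT2134) (BT.leaf cT2135)) (BT.leaf cT2136)) (BT.node 2137 (BT.leaf cT2137) (BT.leaf cT2138))))))))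
noncomputable def colTT_13 : BT ℕ := (BT.node 2220 (BT.node 2179 (BT.node 2159 (BT.node 2149 (BT.node 2144 (BT.node 2141 (BT.node 2140 (BT.node 2139 (BT.leaf cT2139) (BT.leaf cT2140)) (BT.leaf cT2141)) (BT.node 2143 (BT.node 2142 (BT.leaf cT2142) (BT.leaf cT2143)) (BT.leaf cT2144))) (BT.node 2147 (BT.node 2146 (BT.node 2145 (BT.leaf cT2145) (BT.leaf cT2146)) (BT.leaf cT2147)) (BT.node 2148 (BT.leaf cT2148) (BT.leaf cT2149)))) (BT.node 2154 (BT.node 2152 (BT.node 2151 (BT.node 2150 (BT.leaf cT2150) (BT.leaf cT2151)) (BT.leaf cT2152)) (BT.node 2153 (BT.leaf cT2153) (BT.leaf cT2154))) (BT.node 2157 (BT.node 2156 (BT.node 2155 (BT.leaf cT2155) (BT.leaf cT2156)) (BT.leaf cT2157)) (BT.node 2158 (BT.leaf cT2158) (BT.leaf cT2159))))) (BT.node 2169 (BT.node 2164 (BT.node 2162 (BT.node 2161 (BT.node 2160 (BT.leaf cT2160) (BT.leaf cT2161)) (BT.leaf cT2162)) (BT.node 2163 (BT.leaf cT2163)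 (BT.leaf cT2164))) (BT.node 2167 (BT.node 2166 (BT.node 2165 (BT.leaf cT2165) (BT.leaf cT2166)) (BT.leaf cT2167)) (BT.node 2168 (BT.leaf cT2168) (BT.leaf cT2169)))) (BT.node 2174 (BT.node 2172 (BT.node 2171 (BT.node 2170 (BT.leaf cT2170) (BT.leaf cT2171)) (BT.leaf cT2172)) (BT.node 2173 (BT.leaf cT2173) (BT.leaf cT2174))) (BT.node 2177 (BT.node 2176 (BT.node 2175 (BT.leaf cT2175) (BT.leaf cT2176)) (BT.leaf cT2177)) (BT.node 2178 (BT.leaf cT2178) (BT.leaf cT2179)))))) (BT.node 2200 (BT.node 2190 (BT.node 2185 (BT.node 2182 (BT.node 2181 (BT.node 2180 (BT.leaf cT2180) (BT.leaf cT2181)) (BT.leaf cT2182)) (BT.node 2184 (BT.node 2183 (BT.leaf cT2183) (BT.leaf cT2184)) (BT.leaf cT2185))) (BT.node 2188 (BT.node 2187 (BT.node 2186 (BT.leaf cT2186) (BT.leaf cT2187)) (BT.leaf cT2188)) (BT.node 2189 (BT.leaf cT2189) (BT.leaf cT2190)))) (BT.node 2195 (BT.node 2193 (BT.node 2192 (BT.node 2191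 (BT.leaf cT2191) (BT.leaf cT2192)) (BT.leaf cT2193)) (BT.node 2194 (BT.leaf cT2194) (BT.leaf cT2195))) (BT.node 2198 (BT.node 2197 (BT.node 2196 (BT.leaf cT2196) (BT.leaf cT2197)) (BT.leaf cT2198)) (BT.node 2199 (BT.leaf cT2199) (BT.leaf cT2200))))) (BT.node 2210 (BT.node 2205 (BT.node 2203 (BT.node 2202 (BT.node 2201 (BT.leaf cT2201) (BT.leaf cT2202)) (BT.leaf cT2203)) (BT.node 2204 (BT.leaf cT2204) (BT.leaf cT2205))) (BT.node 2208 (BT.node 2207 (BT.node 2206 (BT.leaf cT2206) (BT.leaf cT2207)) (BT.leaf cT2208)) (BT.node 2209 (BT.leaf cT2209) (BT.leaf cT2210)))) (BT.node 2215 (BT.node 2213 (BT.node 2212 (BT.node 2211 (BT.leaf cT2211) (BT.leaf cT2212)) (BT.leaf cT2213)) (BT.node 2214 (BT.leaf cT2214) (BT.leaf cT2215))) (BT.node 2218 (BT.node 2217 (BT.node 2216 (BT.leaf cT2216) (BT.leaf cT2217)) (BT.leaf cT2218)) (BT.node 2219 (BT.leaf cT2219) (BT.leaf cT2220))))))) (BT.node 2261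 (BT.node 2241 (BT.node 2231 (BT.node 2226 (BT.node 2223 (BT.node 2222 (BT.node 2221 (BT.leaf cT2221) (BT.leaf cT2222)) (BT.leaf cT2223)) (BT.node 2225 (BT.node 2224 (BT.leaf cT2224) (BT.leaf cT2225)) (BT.leaf cT2226))) (BT.node 2229 (BT.node 2228 (BT.node 2227 (BT.leaf cT2227) (BT.leaf cT2228)) (BT.leaf cT2229)) (BT.node 2230 (BT.leaf cT2230) (BT.leaf cT2231)))) (BT.node 2236 (BT.node 2234 (BT.node 2233 (BT.node 2232 (BT.leaf cT2232) (BT.leaf cT2233)) (BT.leaf cT2234)) (BT.node 2235 (BT.leaf cT2235) (BT.leaf cT2236))) (BT.node 2239 (BT.node 2238 (BT.node 2237 (BT.leaf cT2237) (BT.leaf cT2238)) (BT.leaf cT2239)) (BT.node 2240 (BT.leaf cT2240) (BT.leaf cT2241))))) (BT.node 2251 (BT.node 2246 (BT.node 2244 (BT.node 2243 (BT.node 2242 (BT.leaf cT2242) (BT.leaf cT2243)) (BT.leaf cT2244)) (BT.node 2245 (BT.leaf cT2245) (BT.leaf cT2246))) (BT.node 2249 (BT.node 2248 (BT.node 2247 (BT.leaf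 cT2247) (BT.leaf cT2248)) (BT.leaf cT2249)) (BT.node 2250 (BT.leaf cT2250) (BT.leaf cT2251)))) (BT.node 2256 (BT.node 2254 (BT.node 2253 (BT.node 2252 (BT.leaf cT2252) (BT.leaf cT2253)) (BT.leaf cT2254)) (BT.node 2255 (BT.leaf cT2255) (BT.leaf cT2256))) (BT.node 2259 (BT.node 2258 (BT.node 2257 (BT.leaf cT2257) (BT.leaf cT2258)) (BT.leaf cT2259)) (BT.node 2260 (BT.leaf cT2260) (BT.leaf cT2261)))))) (BT.node 2282 (BT.node 2272 (BT.node 2267 (BT.node 2264 (BT.node 2263 (BT.node 2262 (BT.leaf cT2262) (BT.leaf cT2263)) (BT.leaf cT2264)) (BT.node 2266 (BT.node 2265 (BT.leaf cT2265) (BT.leaf cT2266)) (BT.leaf cT2267))) (BT.node 2270 (BT.node 2269 (BT.node 2268 (BT.leaf cT2268) (BT.leaf cT2269)) (BT.leaf cT2270)) (BT.node 2271 (BT.leaf cT2271) (BT.leaf cT2272)))) (BT.node 2277 (BT.node 2275 (BT.node 2274 (BT.node 2273 (BT.leaf cT2273) (BT.leaf cT2274)) (BT.leaf cT2275)) (BT.node 2276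 (BT.leaf cT2276) (BT.leaf cT2277))) (BT.node 2280 (BT.node 2279 (BT.node 2278 (BT.leaf cT2278) (BT.leaf cT2279)) (BT.leaf cT2280)) (BT.node 2281 (BT.leaf cT2281) (BT.leaf cT2282))))) (BT.node 2292 (BT.node 2287 (BT.node 2285 (BT.node 2284 (BT.node 2283 (BT.leaf cT2283) (BT.leaf cT2284)) (BT.leaf cT2285)) (BT.node 2286 (BT.leaf cT2286) (BT.leaf cT2287))) (BT.node 2290 (BT.node 2289 (BT.node 2288 (BT.leaf cT2288) (BT.leaf cT2289)) (BT.leaf cT2290)) (BT.node 2291 (BT.leaf cT2291) (BT.leaf cT2292)))) (BT.node 2297 (BT.node 2295 (BT.node 2294 (BT.node 2293 (BT.leaf cT2293) (BT.leaf cT2294)) (BT.leaf cT2295)) (BT.node 2296 (BT.leaf cT2296) (BT.leaf cT2297))) (BT.node 2300 (BT.node 2299 (BT.node 2298 (BT.leaf cT2298) (BT.leaf cT2299)) (BT.leaf cT2300)) (BT.node 2301 (BT.leaf cT2301) (BT.leaf cT2302))))))))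
noncomputable def colTT_14 : BT ℕ := (BT.node 2384 (BT.node 2343 (BT.node 2323 (BT.node 2313 (BT.node 2308 (BT.node 2305 (BT.node 2304 (BT.node 2303 (BT.leaf cT2303) (BT.leaf cT2304)) (BT.leaf cT2305)) (BT.node 2307 (BT.node 2306 (BT.leaf cT2306) (BT.leaf cT2307)) (BT.leaf cT2308))) (BT.node 2311 (BT.node 2310 (BT.node 2309 (BT.leaf cT2309) (BT.leaf cT2310)) (BT.leaf cT2311)) (BT.node 2312 (BT.leaf cT2312) (BT.leaf cT2313)))) (BT.node 2318 (BT.node 2316 (BT.node 2315 (BT.node 2314 (BT.leaf cT2314) (BT.leaf cT2315)) (BT.leaf cT2316)) (BT.node 2317 (BT.leaf cT2317) (BT.leaf cT2318))) (BT.node 2321 (BT.node 2320 (BT.node 2319 (BT.leaf cT2319) (BT.leaf cT2320)) (BT.leaf cT2321)) (BT.node 2322 (BT.leaf cT2322) (BT.leaf cT2323))))) (BT.node 2333 (BT.node 2328 (BT.node 2326 (BT.node 2325 (BT.node 2324 (BT.leaf cT2324) (BT.leaf cT2325)) (BT.leaf cT2326)) (BT.node 2327 (BT.leaf cT2327)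 (BT.leaf cT2328))) (BT.node 2331 (BT.node 2330 (BT.node 2329 (BT.leaf cT2329) (BT.leaf cT2330)) (BT.leaf cT2331)) (BT.node 2332 (BT.leaf cT2332) (BT.leaf cT2333)))) (BT.node 2338 (BT.node 2336 (BT.node 2335 (BT.node 2334 (BT.leaf cT2334) (BT.leaf cT2335)) (BT.leaf cT2336)) (BT.node 2337 (BT.leaf cT2337) (BT.leaf cT2338))) (BT.node 2341 (BT.node 2340 (BT.node 2339 (BT.leaf cT2339) (BT.leaf cT2340)) (BT.leaf cT2341)) (BT.node 2342 (BT.leaf cT2342) (BT.leaf cT2343)))))) (BT.node 2364 (BT.node 2354 (BT.node 2349 (BT.node 2346 (BT.node 2345 (BT.node 2344 (BT.leaf cT2344) (BT.leaf cT2345)) (BT.leaf cT2346)) (BT.node 2348 (BT.node 2347 (BT.leaf cT2347) (BT.leaf cT2348)) (BT.leaf cT2349))) (BT.node 2352 (BT.node 2351 (BT.node 2350 (BT.leaf cT2350) (BT.leaf cT2351)) (BT.leaf cT2352)) (BT.node 2353 (BT.leaf cT2353) (BT.leaf cT2354)))) (BT.node 2359 (BT.node 2357 (BT.node 2356 (BT.node 2355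 (BT.leaf cT2355) (BT.leaf cT2356)) (BT.leaf cT2357)) (BT.node 2358 (BT.leaf cT2358) (BT.leaf cT2359))) (BT.node 2362 (BT.node 2361 (BT.node 2360 (BT.leaf cT2360) (BT.leaf cT2361)) (BT.leaf cT2362)) (BT.node 2363 (BT.leaf cT2363) (BT.leaf cT2364))))) (BT.node 2374 (BT.node 2369 (BT.node 2367 (BT.node 2366 (BT.node 2365 (BT.leaf cT2365) (BT.leaf cT2366)) (BT.leaf cT2367)) (BT.node 2368 (BT.leaf cT2368) (BT.leaf cT2369))) (BT.node 2372 (BT.node 2371 (BT.node 2370 (BT.leaf cT2370) (BT.leaf cT2371)) (BT.leaf cT2372)) (BT.node 2373 (BT.leaf cT2373) (BT.leaf cT2374)))) (BT.node 2379 (BT.node 2377 (BT.node 2376 (BT.node 2375 (BT.leaf cT2375) (BT.leaf cT2376)) (BT.leaf cT2377)) (BT.node 2378 (BT.leaf cT2378) (BT.leaf cT2379))) (BT.node 2382 (BT.node 2381 (BT.node 2380 (BT.leaf cT2380) (BT.leaf cT2381)) (BT.leaf cT2382)) (BT.node 2383 (BT.leaf cT2383) (BT.leaf cT2384))))))) (BT.node 2425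 (BT.node 2405 (BT.node 2395 (BT.node 2390 (BT.node 2387 (BT.node 2386 (BT.node 2385 (BT.leaf cT2385) (BT.leaf cT2386)) (BT.leaf cT2387)) (BT.node 2389 (BT.node 2388 (BT.leaf cT2388) (BT.leaf cT2389)) (BT.leaf cT2390))) (BT.node 2393 (BT.node 2392 (BT.node 2391 (BT.leaf cT2391) (BT.leaf cT2392)) (BT.leaf cT2393)) (BT.node 2394 (BT.leaf cT2394) (BT.leaf cT2395)))) (BT.node 2400 (BT.node 2398 (BT.node 2397 (BT.node 2396 (BT.leaf cT2396) (BT.leaf cT2397)) (BT.leaf cT2398)) (BT.node 2399 (BT.leaf cT2399) (BT.leaf cT2400))) (BT.node 2403 (BT.node 2402 (BT.node 2401 (BT.leaf cT2401) (BT.leaf cT2402)) (BT.leaf cT2403)) (BT.node 2404 (BT.leaf cT2404) (BT.leaf cT2405))))) (BT.node 2415 (BT.node 2410 (BT.node 2408 (BT.node 2407 (BT.node 2406 (BT.leaf cT2406) (BT.leaf cT2407)) (BT.leaf cT2408)) (BT.node 2409 (BT.leaf cT2409) (BT.leaf cT2410))) (BT.node 2413 (BT.node 2412 (BT.node 2411 (BT.leaf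 cT2411) (BT.leaf cT2412)) (BT.leaf cT2413)) (BT.node 2414 (BT.leaf cT2414) (BT.leaf cT2415)))) (BT.node 2420 (BT.node 2418 (BT.node 2417 (BT.node 2416 (BT.leaf cT2416) (BT.leaf cT2417)) (BT.leaf cT2418)) (BT.node 2419 (BT.leaf cT2419) (BT.leaf cT2420))) (BT.node 2423 (BT.node 2422 (BT.node 2421 (BT.leaf cT2421) (BT.leaf cT2422)) (BT.leaf cT2423)) (BT.node 2424 (BT.leaf cT2424) (BT.leaf cT2425)))))) (BT.node 2446 (BT.node 2436 (BT.node 2431 (BT.node 2428 (BT.node 2427 (BT.node 2426 (BT.leaf cT2426) (BT.leaf cT2427)) (BT.leaf cT2428)) (BT.node 2430 (BT.node 2429 (BT.leaf cT2429) (BT.leaf cT2430)) (BT.leaf cT2431))) (BT.node 2434 (BT.node 2433 (BT.node 2432 (BT.leaf cT2432) (BT.leaf cT2433)) (BT.leaf cT2434)) (BT.node 2435 (BT.leaf cT2435) (BT.leaf cT2436)))) (BT.node 2441 (BT.node 2439 (BT.node 2438 (BT.node 2437 (BT.leaf cT2437) (BT.leaf cT2438)) (BT.leaf cT2439)) (BT.node 2440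 (BT.leaf cT2440) (BT.leaf cT2441))) (BT.node 2444 (BT.node 2443 (BT.node 2442 (BT.leaf cT2442) (BT.leaf cT2443)) (BT.leaf cT2444)) (BT.node 2445 (BT.leaf cT2445) (BT.leaf cT2446))))) (BT.node 2456 (BT.node 2451 (BT.node 2449 (BT.node 2448 (BT.node 2447 (BT.leaf cT2447) (BT.leaf cT2448)) (BT.leaf cT2449)) (BT.node 2450 (BT.leaf cT2450) (BT.leaf cT2451))) (BT.node 2454 (BT.node 2453 (BT.node 2452 (BT.leaf cT2452) (BT.leaf cT2453)) (BT.leaf cT2454)) (BT.node 2455 (BT.leaf cT2455) (BT.leaf cT2456)))) (BT.node 2461 (BT.node 2459 (BT.node 2458 (BT.node 2457 (BT.leaf cT2457) (BT.leaf cT2458)) (BT.leaf cT2459)) (BT.node 2460 (BT.leaf cT2460) (BT.leaf cT2461))) (BT.node 2464 (BT.node 2463 (BT.node 2462 (BT.leaf cT2462) (BT.leaf cT2463)) (BT.leaf cT2464)) (BT.node 2465 (BT.leaf cT2465) (BT.leaf cT2466))))))))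
noncomputable def colTT_15 : BT ℕ := (BT.node 2548 (BT.node 2507 (BT.node 2487 (BT.node 2477 (BT.node 2472 (BT.node 2469 (BT.node 2468 (BT.node 2467 (BT.leaf cT2467) (BT.leaf cT2468)) (BT.leaf cT2469)) (BT.node 2471 (BT.node 2470 (BT.leaf cT2470) (BT.leaf cT2471)) (BT.leaf cT2472))) (BT.node 2475 (BT.node 2474 (BT.node 2473 (BT.leaf cT2473) (BT.leaf cT2474)) (BT.leaf cT2475)) (BT.node 2476 (BT.leaf cT2476) (BT.leaf cT2477)))) (BT.node 2482 (BT.node 2480 (BT.node 2479 (BT.node 2478 (BT.leaf cT2478) (BT.leaf cT2479)) (BT.leaf cT2480)) (BT.node 2481 (BT.leaf cT2481) (BT.leaf cT2482))) (BT.node 2485 (BT.node 2484 (BT.node 2483 (BT.leaf cT2483) (BT.leaf cT2484)) (BT.leaf cT2485)) (BT.node 2486 (BT.leaf cT2486) (BT.leaf cT2487))))) (BT.node 2497 (BT.node 2492 (BT.node 2490 (BT.node 2489 (BT.node 2488 (BT.leaf cT2488) (BT.leaf cT2489)) (BT.leaf cT2490)) (BT.node 2491 (BT.leaf cT2491)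 (BT.leaf cT2492))) (BT.node 2495 (BT.node 2494 (BT.node 2493 (BT.leaf cT2493) (BT.leaf cT2494)) (BT.leaf cT2495)) (BT.node 2496 (BT.leaf cT2496) (BT.leaf cT2497)))) (BT.node 2502 (BT.node 2500 (BT.node 2499 (BT.node 2498 (BT.leaf cT2498) (BT.leaf cT2499)) (BT.leaf cT2500)) (BT.node 2501 (BT.leaf cT2501) (BT.leaf cT2502))) (BT.node 2505 (BT.node 2504 (BT.node 2503 (BT.leaf cT2503) (BT.leaf cT2504)) (BT.leaf cT2505)) (BT.node 2506 (BT.leaf cT2506) (BT.leaf cT2507)))))) (BT.node 2528 (BT.node 2518 (BT.node 2513 (BT.node 2510 (BT.node 2509 (BT.node 2508 (BT.leaf cT2508) (BT.leaf cT2509)) (BT.leaf cT2510)) (BT.node 2512 (BT.node 2511 (BT.leaf cT2511) (BT.leaf cT2512)) (BT.leaf cT2513))) (BT.node 2516 (BT.node 2515 (BT.node 2514 (BT.leaf cT2514) (BT.leaf cT2515)) (BT.leaf cT2516)) (BT.node 2517 (BT.leaf cT2517) (BT.leaf cT2518)))) (BT.node 2523 (BT.node 2521 (BT.node 2520 (BT.node 2519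 (BT.leaf cT2519) (BT.leaf cT2520)) (BT.leaf cT2521)) (BT.node 2522 (BT.leaf cT2522) (BT.leaf cT2523))) (BT.node 2526 (BT.node 2525 (BT.node 2524 (BT.leaf cT2524) (BT.leaf cT2525)) (BT.leaf cT2526)) (BT.node 2527 (BT.leaf cT2527) (BT.leaf cT2528))))) (BT.node 2538 (BT.node 2533 (BT.node 2531 (BT.node 2530 (BT.node 2529 (BT.leaf cT2529) (BT.leaf cT2530)) (BT.leaf cT2531)) (BT.node 2532 (BT.leaf cT2532) (BT.leaf cT2533))) (BT.node 2536 (BT.node 2535 (BT.node 2534 (BT.leaf cT2534) (BT.leaf cT2535)) (BT.leaf cT2536)) (BT.node 2537 (BT.leaf cT2537) (BT.leaf cT2538)))) (BT.node 2543 (BT.node 2541 (BT.node 2540 (BT.node 2539 (BT.leaf cT2539) (BT.leaf cT2540)) (BT.leaf cT2541)) (BT.node 2542 (BT.leaf cT2542) (BT.leaf cT2543))) (BT.node 2546 (BT.node 2545 (BT.node 2544 (BT.leaf cT2544) (BT.leaf cT2545)) (BT.leaf cT2546)) (BT.node 2547 (BT.leaf cT2547) (BT.leaf cT2548))))))) (BT.node 2589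 (BT.node 2569 (BT.node 2559 (BT.node 2554 (BT.node 2551 (BT.node 2550 (BT.node 2549 (BT.leaf cT2549) (BT.leaf cT2550)) (BT.leaf cT2551)) (BT.node 2553 (BT.node 2552 (BT.leaf cT2552) (BT.leaf cT2553)) (BT.leaf cT2554))) (BT.node 2557 (BT.node 2556 (BT.node 2555 (BT.leaf cT2555) (BT.leaf cT2556)) (BT.leaf cT2557)) (BT.node 2558 (BT.leaf cT2558) (BT.leaf cT2559)))) (BT.node 2564 (BT.node 2562 (BT.node 2561 (BT.node 2560 (BT.leaf cT2560) (BT.leaf cT2561)) (BT.leaf cT2562)) (BT.node 2563 (BT.leaf cT2563) (BT.leaf cT2564))) (BT.node 2567 (BT.node 2566 (BT.node 2565 (BT.leaf cT2565) (BT.leaf cT2566)) (BT.leaf cT2567)) (BT.node 2568 (BT.leaf cT2568) (BT.leaf cT2569))))) (BT.node 2579 (BT.node 2574 (BT.node 2572 (BT.node 2571 (BT.node 2570 (BT.leaf cT2570) (BT.leaf cT2571)) (BT.leaf cT2572)) (BT.node 2573 (BT.leaf cT2573) (BT.leaf cT2574))) (BT.node 2577 (BT.node 2576 (BT.node 2575 (BT.leaf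 cT2575) (BT.leaf cT2576)) (BT.leaf cT2577)) (BT.node 2578 (BT.leaf cT2578) (BT.leaf cT2579)))) (BT.node 2584 (BT.node 2582 (BT.node 2581 (BT.node 2580 (BT.leaf cT2580) (BT.leaf cT2581)) (BT.leaf cT2582)) (BT.node 2583 (BT.leaf cT2583) (BT.leaf cT2584))) (BT.node 2587 (BT.node 2586 (BT.node 2585 (BT.leaf cT2585) (BT.leaf cT2586)) (BT.leaf cT2587)) (BT.node 2588 (BT.leaf cT2588) (BT.leaf cT2589)))))) (BT.node 2610 (BT.node 2600 (BT.node 2595 (BT.node 2592 (BT.node 2591 (BT.node 2590 (BT.leaf cT2590) (BT.leaf cT2591)) (BT.leaf cT2592)) (BT.node 2594 (BT.node 2593 (BT.leaf cT2593) (BT.leaf cT2594)) (BT.leaf cT2595))) (BT.node 2598 (BT.node 2597 (BT.node 2596 (BT.leaf cT2596) (BT.leaf cT2597)) (BT.leaf cT2598)) (BT.node 2599 (BT.leaf cT2599) (BT.leaf cT2600)))) (BT.node 2605 (BT.node 2603 (BT.node 2602 (BT.node 2601 (BT.leaf cT2601) (BT.leaf cT2602)) (BT.leaf cT2603)) (BT.node 2604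 (BT.leaf cT2604) (BT.leaf cT2605))) (BT.node 2608 (BT.node 2607 (BT.node 2606 (BT.leaf cT2606) (BT.leaf cT2607)) (BT.leaf cT2608)) (BT.node 2609 (BT.leaf cT2609) (BT.leaf cT2610))))) (BT.node 2620 (BT.node 2615 (BT.node 2613 (BT.node 2612 (BT.node 2611 (BT.leaf cT2611) (BT.leaf cT2612)) (BT.leaf cT2613)) (BT.node 2614 (BT.leaf cT2614) (BT.leaf cT2615))) (BT.node 2618 (BT.node 2617 (BT.node 2616 (BT.leaf cT2616) (BT.leaf cT2617)) (BT.leaf cT2618)) (BT.node 2619 (BT.leaf cT2619) (BT.leaf cT2620)))) (BT.node 2625 (BT.node 2623 (BT.node 2622 (BT.node 2621 (BT.leaf cT2621) (BT.leaf cT2622)) (BT.leaf cT2623)) (BT.node 2624 (BT.leaf cT2624) (BT.leaf cT2625))) (BT.node 2628 (BT.node 2627 (BT.node 2626 (BT.leaf cT2626) (BT.leaf cT2627)) (BT.leaf cT2628)) (BT.node 2629 (BT.leaf cT2629) (BT.leaf cT2630))))))))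
noncomputable def colTT_16 : BT ℕ := (BT.node 2713 (BT.node 2672 (BT.node 2651 (BT.node 2641 (BT.node 2636 (BT.node 2633 (BT.node 2632 (BT.node 2631 (BT.leaf cT2631) (BT.leaf cT2632)) (BT.leaf cT2633)) (BT.node 2635 (BT.node 2634 (BT.leaf cT2634) (BT.leaf cT2635)) (BT.leaf cT2636))) (BT.node 2639 (BT.node 2638 (BT.node 2637 (BT.leaf cT2637) (BT.leaf cT2638)) (BT.leaf cT2639)) (BT.node 2640 (BT.leaf cT2640) (BT.leaf cT2641)))) (BT.node 2646 (BT.node 2644 (BT.node 2643 (BT.node 2642 (BT.leaf cT2642) (BT.leaf cT2643)) (BT.leaf cT2644)) (BT.node 2645 (BT.leaf cT2645) (BT.leaf cT2646))) (BT.node 2649 (BT.node 2648 (BT.node 2647 (BT.leaf cT2647) (BT.leaf cT2648)) (BT.leaf cT2649)) (BT.node 2650 (BT.leaf cT2650) (BT.leaf cT2651))))) (BT.node 2662 (BT.node 2657 (BT.node 2654 (BT.node 2653 (BT.node 2652 (BT.leaf cT2652) (BT.leaf cT2653)) (BT.leaf cT2654)) (BT.node 2656 (BT.node 2655 (BT.leaf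 cT2655) (BT.leaf cT2656)) (BT.leaf cT2657))) (BT.node 2660 (BT.node 2659 (BT.node 2658 (BT.leaf cT2658) (BT.leaf cT2659)) (BT.leaf cT2660)) (BT.node 2661 (BT.leaf cT2661) (BT.leaf cT2662)))) (BT.node 2667 (BT.node 2665 (BT.node 2664 (BT.node 2663 (BT.leaf cT2663) (BT.leaf cT2664)) (BT.leaf cT2665)) (BT.node 2666 (BT.leaf cT2666) (BT.leaf cT2667))) (BT.node 2670 (BT.node 2669 (BT.node 2668 (BT.leaf cT2668) (BT.leaf cT2669)) (BT.leaf cT2670)) (BT.node 2671 (BT.leaf cT2671) (BT.leaf cT2672)))))) (BT.node 2693 (BT.node 2683 (BT.node 2678 (BT.node 2675 (BT.node 2674 (BT.node 2673 (BT.leaf cT2673) (BT.leaf cT2674)) (BT.leaf cT2675)) (BT.node 2677 (BT.node 2676 (BT.leaf cT2676) (BT.leaf cT2677)) (BT.leaf cT2678))) (BT.node 2681 (BT.node 2680 (BT.node 2679 (BT.leaf cT2679) (BT.leaf cT2680)) (BT.leaf cT2681)) (BT.node 2682 (BT.leaf cT2682) (BT.leaf cT2683)))) (BT.node 2688 (BT.node 2686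 (BT.node 2685 (BT.node 2684 (BT.leaf cT2684) (BT.leaf cT2685)) (BT.leaf cT2686)) (BT.node 2687 (BT.leaf cT2687) (BT.leaf cT2688))) (BT.node 2691 (BT.node 2690 (BT.node 2689 (BT.leaf cT2689) (BT.leaf cT2690)) (BT.leaf cT2691)) (BT.node 2692 (BT.leaf cT2692) (BT.leaf cT2693))))) (BT.node 2703 (BT.node 2698 (BT.node 2696 (BT.node 2695 (BT.node 2694 (BT.leaf cT2694) (BT.leaf cT2695)) (BT.leaf cT2696)) (BT.node 2697 (BT.leaf cT2697) (BT.leaf cT2698))) (BT.node 2701 (BT.node 2700 (BT.node 2699 (BT.leaf cT2699) (BT.leaf cT2700)) (BT.leaf cT2701)) (BT.node 2702 (BT.leaf cT2702) (BT.leaf cT2703)))) (BT.node 2708 (BT.node 2706 (BT.node 2705 (BT.node 2704 (BT.leaf cT2704) (BT.leaf cT2705)) (BT.leaf cT2706)) (BT.node 2707 (BT.leaf cT2707) (BT.leaf cT2708))) (BT.node 2711 (BT.node 2710 (BT.node 2709 (BT.leaf cT2709) (BT.leaf cT2710)) (BT.leaf cT2711)) (BT.node 2712 (BT.leaf cT2712) (BT.leaf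 cT2713))))))) (BT.node 2754 (BT.node 2734 (BT.node 2724 (BT.node 2719 (BT.node 2716 (BT.node 2715 (BT.node 2714 (BT.leaf cT2714) (BT.leaf cT2715)) (BT.leaf cT2716)) (BT.node 2718 (BT.node 2717 (BT.leaf cT2717) (BT.leaf cT2718)) (BT.leaf cT2719))) (BT.node 2722 (BT.node 2721 (BT.node 2720 (BT.leaf cT2720) (BT.leaf cT2721)) (BT.leaf cT2722)) (BT.node 2723 (BT.leaf cT2723) (BT.leaf cT2724)))) (BT.node 2729 (BT.node 2727 (BT.node 2726 (BT.node 2725 (BT.leaf cT2725) (BT.leaf cT2726)) (BT.leaf cT2727)) (BT.node 2728 (BT.leaf cT2728) (BT.leaf cT2729))) (BT.node 2732 (BT.node 2731 (BT.node 2730 (BT.leaf cT2730) (BT.leaf cT2731)) (BT.leaf cT2732)) (BT.node 2733 (BT.leaf cT2733) (BT.leaf cT2734))))) (BT.node 2744 (BT.node 2739 (BT.node 2737 (BT.node 2736 (BT.node 2735 (BT.leaf cT2735) (BT.leaf cT2736)) (BT.leaf cT2737)) (BT.node 2738 (BT.leaf cT2738) (BT.leaf cT2739))) (BT.node 2742 (BT.node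 2741 (BT.node 2740 (BT.leaf cT2740) (BT.leaf cT2741)) (BT.leaf cT2742)) (BT.node 2743 (BT.leaf cT2743) (BT.leaf cT2744)))) (BT.node 2749 (BT.node 2747 (BT.node 2746 (BT.node 2745 (BT.leaf cT2745) (BT.leaf cT2746)) (BT.leaf cT2747)) (BT.node 2748 (BT.leaf cT2748) (BT.leaf cT2749))) (BT.node 2752 (BT.node 2751 (BT.node 2750 (BT.leaf cT2750) (BT.leaf cT2751)) (BT.leaf cT2752)) (BT.node 2753 (BT.leaf cT2753) (BT.leaf cT2754)))))) (BT.node 2775 (BT.node 2765 (BT.node 2760 (BT.node 2757 (BT.node 2756 (BT.node 2755 (BT.leaf cT2755) (BT.leaf cT2756)) (BT.leaf cT2757)) (BT.node 2759 (BT.node 2758 (BT.leaf cT2758) (BT.leaf cT2759)) (BT.leaf cT2760))) (BT.node 2763 (BT.node 2762 (BT.node 2761 (BT.leaf cT2761) (BT.leaf cT2762)) (BT.leaf cT2763)) (BT.node 2764 (BT.leaf cT2764) (BT.leaf cT2765)))) (BT.node 2770 (BT.node 2768 (BT.node 2767 (BT.node 2766 (BT.leaf cT2766) (BT.leaf cT2767)) (BT.leaf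 cT2768)) (BT.node 2769 (BT.leaf cT2769) (BT.leaf cT2770))) (BT.node 2773 (BT.node 2772 (BT.node 2771 (BT.leaf cT2771) (BT.leaf cT2772)) (BT.leaf cT2773)) (BT.node 2774 (BT.leaf cT2774) (BT.leaf cT2775))))) (BT.node 2785 (BT.node 2780 (BT.node 2778 (BT.node 2777 (BT.node 2776 (BT.leaf cT2776) (BT.leaf cT2777)) (BT.leaf cT2778)) (BT.node 2779 (BT.leaf cT2779) (BT.leaf cT2780))) (BT.node 2783 (BT.node 2782 (BT.node 2781 (BT.leaf cT2781) (BT.leaf cT2782)) (BT.leaf cT2783)) (BT.node 2784 (BT.leaf cT2784) (BT.leaf cT2785)))) (BT.node 2790 (BT.node 2788 (BT.node 2787 (BT.node 2786 (BT.leaf cT2786) (BT.leaf cT2787)) (BT.leaf cT2788)) (BT.node 2789 (BT.leaf cT2789) (BT.leaf cT2790))) (BT.node 2793 (BT.node 2792 (BT.node 2791 (BT.leaf cT2791) (BT.leaf cT2792)) (BT.leaf cT2793)) (BT.node 2794 (BT.leaf cT2794) (BT.leaf cT2795))))))))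
noncomputable def colTT_17 : BT ℕ := (BT.node 2877 (BT.node 2836 (BT.node 2816 (BT.node 2806 (BT.node 2801 (BT.node 2798 (BT.node 2797 (BT.node 2796 (BT.leaf cT2796) (BT.leaf cT2797)) (BT.leaf cT2798)) (BT.node 2800 (BT.node 2799 (BT.leaf cT2799) (BT.leaf cT2800)) (BT.leaf cT2801))) (BT.node 2804 (BT.node 2803 (BT.node 2802 (BT.leaf cT2802) (BT.leaf cT2803)) (BT.leaf cT2804)) (BT.node 2805 (BT.leaf cT2805) (BT.leaf cT2806)))) (BT.node 2811 (BT.node 2809 (BT.node 2808 (BT.node 2807 (BT.leaf cT2807) (BT.leaf cT2808)) (BT.leaf cT2809)) (BT.node 2810 (BT.leaf cT2810) (BT.leaf cT2811))) (BT.node 2814 (BT.node 2813 (BT.node 2812 (BT.leaf cT2812) (BT.leaf cT2813)) (BT.leaf cT2814)) (BT.node 2815 (BT.leaf cT2815) (BT.leaf cT2816))))) (BT.node 2826 (BT.node 2821 (BT.node 2819 (BT.node 2818 (BT.node 2817 (BT.leaf cT2817) (BT.leaf cT2818)) (BT.leaf cT2819)) (BT.node 2820 (BT.leaf cT2820)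 (BT.leaf cT2821))) (BT.node 2824 (BT.node 2823 (BT.node 2822 (BT.leaf cT2822) (BT.leaf cT2823)) (BT.leaf cT2824)) (BT.node 2825 (BT.leaf cT2825) (BT.leaf cT2826)))) (BT.node 2831 (BT.node 2829 (BT.node 2828 (BT.node 2827 (BT.leaf cT2827) (BT.leaf cT2828)) (BT.leaf cT2829)) (BT.node 2830 (BT.leaf cT2830) (BT.leaf cT2831))) (BT.node 2834 (BT.node 2833 (BT.node 2832 (BT.leaf cT2832) (BT.leaf cT2833)) (BT.leaf cT2834)) (BT.node 2835 (BT.leaf cT2835) (BT.leaf cT2836)))))) (BT.node 2857 (BT.node 2847 (BT.node 2842 (BT.node 2839 (BT.node 2838 (BT.node 2837 (BT.leaf cT2837) (BT.leaf cT2838)) (BT.leaf cT2839)) (BT.node 2841 (BT.node 2840 (BT.leaf cT2840) (BT.leaf cT2841)) (BT.leaf cT2842))) (BT.node 2845 (BT.node 2844 (BT.node 2843 (BT.leaf cT2843) (BT.leaf cT2844)) (BT.leaf cT2845)) (BT.node 2846 (BT.leaf cT2846) (BT.leaf cT2847)))) (BT.node 2852 (BT.node 2850 (BT.node 2849 (BT.node 2848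 (BT.leaf cT2848) (BT.leaf cT2849)) (BT.leaf cT2850)) (BT.node 2851 (BT.leaf cT2851) (BT.leaf cT2852))) (BT.node 2855 (BT.node 2854 (BT.node 2853 (BT.leaf cT2853) (BT.leaf cT2854)) (BT.leaf cT2855)) (BT.node 2856 (BT.leaf cT2856) (BT.leaf cT2857))))) (BT.node 2867 (BT.node 2862 (BT.node 2860 (BT.node 2859 (BT.node 2858 (BT.leaf cT2858) (BT.leaf cT2859)) (BT.leaf cT2860)) (BT.node 2861 (BT.leaf cT2861) (BT.leaf cT2862))) (BT.node 2865 (BT.node 2864 (BT.node 2863 (BT.leaf cT2863) (BT.leaf cT2864)) (BT.leaf cT2865)) (BT.node 2866 (BT.leaf cT2866) (BT.leaf cT2867)))) (BT.node 2872 (BT.node 2870 (BT.node 2869 (BT.node 2868 (BT.leaf cT2868) (BT.leaf cT2869)) (BT.leaf cT2870)) (BT.node 2871 (BT.leaf cT2871) (BT.leaf cT2872))) (BT.node 2875 (BT.node 2874 (BT.node 2873 (BT.leaf cT2873) (BT.leaf cT2874)) (BT.leaf cT2875)) (BT.node 2876 (BT.leaf cT2876) (BT.leaf cT2877))))))) (BT.node 2918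 (BT.node 2898 (BT.node 2888 (BT.node 2883 (BT.node 2880 (BT.node 2879 (BT.node 2878 (BT.leaf cT2878) (BT.leaf cT2879)) (BT.leaf cT2880)) (BT.node 2882 (BT.node 2881 (BT.leaf cT2881) (BT.leaf cT2882)) (BT.leaf cT2883))) (BT.node 2886 (BT.node 2885 (BT.node 2884 (BT.leaf cT2884) (BT.leaf cT2885)) (BT.leaf cT2886)) (BT.node 2887 (BT.leaf cT2887) (BT.leaf cT2888)))) (BT.node 2893 (BT.node 2891 (BT.node 2890 (BT.node 2889 (BT.leaf cT2889) (BT.leaf cT2890)) (BT.leaf cT2891)) (BT.node 2892 (BT.leaf cT2892) (BT.leaf cT2893))) (BT.node 2896 (BT.node 2895 (BT.node 2894 (BT.leaf cT2894) (BT.leaf cT2895)) (BT.leaf cT2896)) (BT.node 2897 (BT.leaf cT2897) (BT.leaf cT2898))))) (BT.node 2908 (BT.node 2903 (BT.node 2901 (BT.node 2900 (BT.node 2899 (BT.leaf cT2899) (BT.leaf cT2900)) (BT.leaf cT2901)) (BT.node 2902 (BT.leaf cT2902) (BT.leaf cT2903))) (BT.node 2906 (BT.node 2905 (BT.node 2904 (BT.leaf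 cT2904) (BT.leaf cT2905)) (BT.leaf cT2906)) (BT.node 2907 (BT.leaf cT2907) (BT.leaf cT2908)))) (BT.node 2913 (BT.node 2911 (BT.node 2910 (BT.node 2909 (BT.leaf cT2909) (BT.leaf cT2910)) (BT.leaf cT2911)) (BT.node 2912 (BT.leaf cT2912) (BT.leaf cT2913))) (BT.node 2916 (BT.node 2915 (BT.node 2914 (BT.leaf cT2914) (BT.leaf cT2915)) (BT.leaf cT2916)) (BT.node 2917 (BT.leaf cT2917) (BT.leaf cT2918)))))) (BT.node 2939 (BT.node 2929 (BT.node 2924 (BT.node 2921 (BT.node 2920 (BT.node 2919 (BT.leaf cT2919) (BT.leaf cT2920)) (BT.leaf cT2921)) (BT.node 2923 (BT.node 2922 (BT.leaf cT2922) (BT.leaf cT2923)) (BT.leaf cT2924))) (BT.node 2927 (BT.node 2926 (BT.node 2925 (BT.leaf cT2925) (BT.leaf cT2926)) (BT.leaf cT2927)) (BT.node 2928 (BT.leaf cT2928) (BT.leaf cT2929)))) (BT.node 2934 (BT.node 2932 (BT.node 2931 (BT.node 2930 (BT.leaf cT2930) (BT.leaf cT2931)) (BT.leaf cT2932)) (BT.node 2933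 (BT.leaf cT2933) (BT.leaf cT2934))) (BT.node 2937 (BT.node 2936 (BT.node 2935 (BT.leaf cT2935) (BT.leaf cT2936)) (BT.leaf cT2937)) (BT.node 2938 (BT.leaf cT2938) (BT.leaf cT2939))))) (BT.node 2949 (BT.node 2944 (BT.node 2942 (BT.node 2941 (BT.node 2940 (BT.leaf cT2940) (BT.leaf cT2941)) (BT.leaf cT2942)) (BT.node 2943 (BT.leaf cT2943) (BT.leaf cT2944))) (BT.node 2947 (BT.node 2946 (BT.node 2945 (BT.leaf cT2945) (BT.leaf cT2946)) (BT.leaf cT2947)) (BT.node 2948 (BT.leaf cT2948) (BT.leaf cT2949)))) (BT.node 2954 (BT.node 2952 (BT.node 2951 (BT.node 2950 (BT.leaf cT2950) (BT.leaf cT2951)) (BT.leaf cT2952)) (BT.node 2953 (BT.leaf cT2953) (BT.leaf cT2954))) (BT.node 2957 (BT.node 2956 (BT.node 2955 (BT.leaf cT2955) (BT.leaf cT2956)) (BT.leaf cT2957)) (BT.node 2958 (BT.leaf cT2958) (BT.leaf cT2959))))))))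
noncomputable def colTT_18 : BT ℕ := (BT.node 3042 (BT.node 3001 (BT.node 2980 (BT.node 2970 (BT.node 2965 (BT.node 2962 (BT.node 2961 (BT.node 2960 (BT.leaf cT2960) (BT.leaf cT2961)) (BT.leaf cT2962)) (BT.node 2964 (BT.node 2963 (BT.leaf cT2963) (BT.leaf cT2964)) (BT.leaf cT2965))) (BT.node 2968 (BT.node 2967 (BT.node 2966 (BT.leaf cT2966) (BT.leaf cT2967)) (BT.leaf cT2968)) (BT.node 2969 (BT.leaf cT2969) (BT.leaf cT2970)))) (BT.node 2975 (BT.node 2973 (BT.node 2972 (BT.node 2971 (BT.leaf cT2971) (BT.leaf cT2972)) (BT.leaf cT2973)) (BT.node 2974 (BT.leaf cT2974) (BT.leaf cT2975))) (BT.node 2978 (BT.node 2977 (BT.node 2976 (BT.leaf cT2976) (BT.leaf cT2977)) (BT.leaf cT2978)) (BT.node 2979 (BT.leaf cT2979) (BT.leaf cT2980))))) (BT.node 2991 (BT.node 2986 (BT.node 2983 (BT.node 2982 (BT.node 2981 (BT.leaf cT2981) (BT.leaf cT2982)) (BT.leaf cT2983)) (BT.node 2985 (BT.node 2984 (BT.leaf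 cT2984) (BT.leaf cT2985)) (BT.leaf cT2986))) (BT.node 2989 (BT.node 2988 (BT.node 2987 (BT.leaf cT2987) (BT.leaf cT2988)) (BT.leaf cT2989)) (BT.node 2990 (BT.leaf cT2990) (BT.leaf cT2991)))) (BT.node 2996 (BT.node 2994 (BT.node 2993 (BT.node 2992 (BT.leaf cT2992) (BT.leaf cT2993)) (BT.leaf cT2994)) (BT.node 2995 (BT.leaf cT2995) (BT.leaf cT2996))) (BT.node 2999 (BT.node 2998 (BT.node 2997 (BT.leaf cT2997) (BT.leaf cT2998)) (BT.leaf cT2999)) (BT.node 3000 (BT.leaf cT3000) (BT.leaf cT3001)))))) (BT.node 3022 (BT.node 3012 (BT.node 3007 (BT.node 3004 (BT.node 3003 (BT.node 3002 (BT.leaf cT3002) (BT.leaf cT3003)) (BT.leaf cT3004)) (BT.node 3006 (BT.node 3005 (BT.leaf cT3005) (BT.leaf cT3006)) (BT.leaf cT3007))) (BT.node 3010 (BT.node 3009 (BT.node 3008 (BT.leaf cT3008) (BT.leaf cT3009)) (BT.leaf cT3010)) (BT.node 3011 (BT.leaf cT3011) (BT.leaf cT3012)))) (BT.node 3017 (BT.node 3015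 (BT.node 3014 (BT.node 3013 (BT.leaf cT3013) (BT.leaf cT3014)) (BT.leaf cT3015)) (BT.node 3016 (BT.leaf cT3016) (BT.leaf cT3017))) (BT.node 3020 (BT.node 3019 (BT.node 3018 (BT.leaf cT3018) (BT.leaf cT3019)) (BT.leaf cT3020)) (BT.node 3021 (BT.leaf cT3021) (BT.leaf cT3022))))) (BT.node 3032 (BT.node 3027 (BT.node 3025 (BT.node 3024 (BT.node 3023 (BT.leaf cT3023) (BT.leaf cT3024)) (BT.leaf cT3025)) (BT.node 3026 (BT.leaf cT3026) (BT.leaf cT3027))) (BT.node 3030 (BT.node 3029 (BT.node 3028 (BT.leaf cT3028) (BT.leaf cT3029)) (BT.leaf cT3030)) (BT.node 3031 (BT.leaf cT3031) (BT.leaf cT3032)))) (BT.node 3037 (BT.node 3035 (BT.node 3034 (BT.node 3033 (BT.leaf cT3033) (BT.leaf cT3034)) (BT.leaf cT3035)) (BT.node 3036 (BT.leaf cT3036) (BT.leaf cT3037))) (BT.node 3040 (BT.node 3039 (BT.node 3038 (BT.leaf cT3038) (BT.leaf cT3039)) (BT.leaf cT3040)) (BT.node 3041 (BT.leaf cT3041) (BT.leaf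 cT3042))))))) (BT.node 3083 (BT.node 3063 (BT.node 3053 (BT.node 3048 (BT.node 3045 (BT.node 3044 (BT.node 3043 (BT.leaf cT3043) (BT.leaf cT3044)) (BT.leaf cT3045)) (BT.node 3047 (BT.node 3046 (BT.leaf cT3046) (BT.leaf cT3047)) (BT.leaf cT3048))) (BT.node 3051 (BT.node 3050 (BT.node 3049 (BT.leaf cT3049) (BT.leaf cT3050)) (BT.leaf cT3051)) (BT.node 3052 (BT.leaf cT3052) (BT.leaf cT3053)))) (BT.node 3058 (BT.node 3056 (BT.node 3055 (BT.node 3054 (BT.leaf cT3054) (BT.leaf cT3055)) (BT.leaf cT3056)) (BT.node 3057 (BT.leaf cT3057) (BT.leaf cT3058))) (BT.node 3061 (BT.node 3060 (BT.node 3059 (BT.leaf cT3059) (BT.leaf cT3060)) (BT.leaf cT3061)) (BT.node 3062 (BT.leaf cT3062) (BT.leaf cT3063))))) (BT.node 3073 (BT.node 3068 (BT.node 3066 (BT.node 3065 (BT.node 3064 (BT.leaf cT3064) (BT.leaf cT3065)) (BT.leaf cT3066)) (BT.node 3067 (BT.leaf cT3067) (BT.leaf cT3068))) (BT.node 3071 (BT.node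 3070 (BT.node 3069 (BT.leaf cT3069) (BT.leaf cT3070)) (BT.leaf cT3071)) (BT.node 3072 (BT.leaf cT3072) (BT.leaf cT3073)))) (BT.node 3078 (BT.node 3076 (BT.node 3075 (BT.node 3074 (BT.leaf cT3074) (BT.leaf cT3075)) (BT.leaf cT3076)) (BT.node 3077 (BT.leaf cT3077) (BT.leaf cT3078))) (BT.node 3081 (BT.node 3080 (BT.node 3079 (BT.leaf cT3079) (BT.leaf cT3080)) (BT.leaf cT3081)) (BT.node 3082 (BT.leaf cT3082) (BT.leaf cT3083)))))) (BT.node 3104 (BT.node 3094 (BT.node 3089 (BT.node 3086 (BT.node 3085 (BT.node 3084 (BT.leaf cT3084) (BT.leaf cT3085)) (BT.leaf cT3086)) (BT.node 3088 (BT.node 3087 (BT.leaf cT3087) (BT.leaf cT3088)) (BT.leaf cT3089))) (BT.node 3092 (BT.node 3091 (BT.node 3090 (BT.leaf cT3090) (BT.leaf cT3091)) (BT.leaf cT3092)) (BT.node 3093 (BT.leaf cT3093) (BT.leaf cT3094)))) (BT.node 3099 (BT.node 3097 (BT.node 3096 (BT.node 3095 (BT.leaf cT3095) (BT.leaf cT3096)) (BT.leaf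 cT3097)) (BT.node 3098 (BT.leaf cT3098) (BT.leaf cT3099))) (BT.node 3102 (BT.node 3101 (BT.node 3100 (BT.leaf cT3100) (BT.leaf cT3101)) (BT.leaf cT3102)) (BT.node 3103 (BT.leaf cT3103) (BT.leaf cT3104))))) (BT.node 3114 (BT.node 3109 (BT.node 3107 (BT.node 3106 (BT.node 3105 (BT.leaf cT3105) (BT.leaf cT3106)) (BT.leaf cT3107)) (BT.node 3108 (BT.leaf cT3108) (BT.leaf cT3109))) (BT.node 3112 (BT.node 3111 (BT.node 3110 (BT.leaf cT3110) (BT.leaf cT3111)) (BT.leaf cT3112)) (BT.node 3113 (BT.leaf cT3113) (BT.leaf cT3114)))) (BT.node 3119 (BT.node 3117 (BT.node 3116 (BT.node 3115 (BT.leaf cT3115) (BT.leaf cT3116)) (BT.leaf cT3117)) (BT.node 3118 (BT.leaf cT3118) (BT.leaf cT3119))) (BT.node 3122 (BT.node 3121 (BT.node 3120 (BT.leaf cT3120) (BT.leaf cT3121)) (BT.leaf cT3122)) (BT.node 3123 (BT.leaf cT3123) (BT.leaf cT3124))))))))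
noncomputable def colTT_19 : BT ℕ := (BT.node 3206 (BT.node 3165 (BT.node 3145 (BT.node 3135 (BT.node 3130 (BT.node 3127 (BT.node 3126 (BT.node 3125 (BT.leaf cT3125) (BT.leaf cT3126)) (BT.leaf cT3127)) (BT.node 3129 (BT.node 3128 (BT.leaf cT3128) (BT.leaf cT3129)) (BT.leaf cT3130))) (BT.node 3133 (BT.node 3132 (BT.node 3131 (BT.leaf cT3131) (BT.leaf cT3132)) (BT.leaf cT3133)) (BT.node 3134 (BT.leaf cT3134) (BT.leaf cT3135)))) (BT.node 3140 (BT.node 3138 (BT.node 3137 (BT.node 3136 (BT.leaf cT3136) (BT.leaf cT3137)) (BT.leaf cT3138)) (BT.node 3139 (BT.leaf cT3139) (BT.leaf cT3140))) (BT.node 3143 (BT.node 3142 (BT.node 3141 (BT.leaf cT3141) (BT.leaf cT3142)) (BT.leaf cT3143)) (BT.node 3144 (BT.leaf cT3144) (BT.leaf cT3145))))) (BT.node 3155 (BT.node 3150 (BT.node 3148 (BT.node 3147 (BT.node 3146 (BT.leaf cT3146) (BT.leaf cT3147)) (BT.leaf cT3148)) (BT.node 3149 (BT.leaf cT3149)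 (BT.leaf cT3150))) (BT.node 3153 (BT.node 3152 (BT.node 3151 (BT.leaf cT3151) (BT.leaf cT3152)) (BT.leaf cT3153)) (BT.node 3154 (BT.leaf cT3154) (BT.leaf cT3155)))) (BT.node 3160 (BT.node 3158 (BT.node 3157 (BT.node 3156 (BT.leaf cT3156) (BT.leaf cT3157)) (BT.leaf cT3158)) (BT.node 3159 (BT.leaf cT3159) (BT.leaf cT3160))) (BT.node 3163 (BT.node 3162 (BT.node 3161 (BT.leaf cT3161) (BT.leaf cT3162)) (BT.leaf cT3163)) (BT.node 3164 (BT.leaf cT3164) (BT.leaf cT3165)))))) (BT.node 3186 (BT.node 3176 (BT.node 3171 (BT.node 3168 (BT.node 3167 (BT.node 3166 (BT.leaf cT3166) (BT.leaf cT3167)) (BT.leaf cT3168)) (BT.node 3170 (BT.node 3169 (BT.leaf cT3169) (BT.leaf cT3170)) (BT.leaf cT3171))) (BT.node 3174 (BT.node 3173 (BT.node 3172 (BT.leaf cT3172) (BT.leaf cT3173)) (BT.leaf cT3174)) (BT.node 3175 (BT.leaf cT3175) (BT.leaf cT3176)))) (BT.node 3181 (BT.node 3179 (BT.node 3178 (BT.node 3177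 (BT.leaf cT3177) (BT.leaf cT3178)) (BT.leaf cT3179)) (BT.node 3180 (BT.leaf cT3180) (BT.leaf cT3181))) (BT.node 3184 (BT.node 3183 (BT.node 3182 (BT.leaf cT3182) (BT.leaf cT3183)) (BT.leaf cT3184)) (BT.node 3185 (BT.leaf cT3185) (BT.leaf cT3186))))) (BT.node 3196 (BT.node 3191 (BT.node 3189 (BT.node 3188 (BT.node 3187 (BT.leaf cT3187) (BT.leaf cT3188)) (BT.leaf cT3189)) (BT.node 3190 (BT.leaf cT3190) (BT.leaf cT3191))) (BT.node 3194 (BT.node 3193 (BT.node 3192 (BT.leaf cT3192) (BT.leaf cT3193)) (BT.leaf cT3194)) (BT.node 3195 (BT.leaf cT3195) (BT.leaf cT3196)))) (BT.node 3201 (BT.node 3199 (BT.node 3198 (BT.node 3197 (BT.leaf cT3197) (BT.leaf cT3198)) (BT.leaf cT3199)) (BT.node 3200 (BT.leaf cT3200) (BT.leaf cT3201))) (BT.node 3204 (BT.node 3203 (BT.node 3202 (BT.leaf cT3202) (BT.leaf cT3203)) (BT.leaf cT3204)) (BT.node 3205 (BT.leaf cT3205) (BT.leaf cT3206))))))) (BT.node 3247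 (BT.node 3227 (BT.node 3217 (BT.node 3212 (BT.node 3209 (BT.node 3208 (BT.node 3207 (BT.leaf cT3207) (BT.leaf cT3208)) (BT.leaf cT3209)) (BT.node 3211 (BT.node 3210 (BT.leaf cT3210) (BT.leaf cT3211)) (BT.leaf cT3212))) (BT.node 3215 (BT.node 3214 (BT.node 3213 (BT.leaf cT3213) (BT.leaf cT3214)) (BT.leaf cT3215)) (BT.node 3216 (BT.leaf cT3216) (BT.leaf cT3217)))) (BT.node 3222 (BT.node 3220 (BT.node 3219 (BT.node 3218 (BT.leaf cT3218) (BT.leaf cT3219)) (BT.leaf cT3220)) (BT.node 3221 (BT.leaf cT3221) (BT.leaf cT3222))) (BT.node 3225 (BT.node 3224 (BT.node 3223 (BT.leaf cT3223) (BT.leaf cT3224)) (BT.leaf cT3225)) (BT.node 3226 (BT.leaf cT3226) (BT.leaf cT3227))))) (BT.node 3237 (BT.node 3232 (BT.node 3230 (BT.node 3229 (BT.node 3228 (BT.leaf cT3228) (BT.leaf cT3229)) (BT.leaf cT3230)) (BT.node 3231 (BT.leaf cT3231) (BT.leaf cT3232))) (BT.node 3235 (BT.node 3234 (BT.node 3233 (BT.leaf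 cT3233) (BT.leaf cT3234)) (BT.leaf cT3235)) (BT.node 3236 (BT.leaf cT3236) (BT.leaf cT3237)))) (BT.node 3242 (BT.node 3240 (BT.node 3239 (BT.node 3238 (BT.leaf cT3238) (BT.leaf cT3239)) (BT.leaf cT3240)) (BT.node 3241 (BT.leaf cT3241) (BT.leaf cT3242))) (BT.node 3245 (BT.node 3244 (BT.node 3243 (BT.leaf cT3243) (BT.leaf cT3244)) (BT.leaf cT3245)) (BT.node 3246 (BT.leaf cT3246) (BT.leaf cT3247)))))) (BT.node 3268 (BT.node 3258 (BT.node 3253 (BT.node 3250 (BT.node 3249 (BT.node 3248 (BT.leaf cT3248) (BT.leaf cT3249)) (BT.leaf cT3250)) (BT.node 3252 (BT.node 3251 (BT.leaf cT3251) (BT.leaf cT3252)) (BT.leaf cT3253))) (BT.node 3256 (BT.node 3255 (BT.node 3254 (BT.leaf cT3254) (BT.leaf cT3255)) (BT.leaf cT3256)) (BT.node 3257 (BT.leaf cT3257) (BT.leaf cT3258)))) (BT.node 3263 (BT.node 3261 (BT.node 3260 (BT.node 3259 (BT.leaf cT3259) (BT.leaf cT3260)) (BT.leaf cT3261)) (BT.node 3262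 (BT.leaf cT3262) (BT.leaf cT3263))) (BT.node 3266 (BT.node 3265 (BT.node 3264 (BT.leaf cT3264) (BT.leaf cT3265)) (BT.leaf cT3266)) (BT.node 3267 (BT.leaf cT3267) (BT.leaf cT3268))))) (BT.node 3278 (BT.node 3273 (BT.node 3271 (BT.node 3270 (BT.node 3269 (BT.leaf cT3269) (BT.leaf cT3270)) (BT.leaf cT3271)) (BT.node 3272 (BT.leaf cT3272) (BT.leaf cT3273))) (BT.node 3276 (BT.node 3275 (BT.node 3274 (BT.leaf cT3274) (BT.leaf cT3275)) (BT.leaf cT3276)) (BT.node 3277 (BT.leaf cT3277) (BT.leaf cT3278)))) (BT.node 3283 (BT.node 3281 (BT.node 3280 (BT.node 3279 (BT.leaf cT3279) (BT.leaf cT3280)) (BT.leaf cT3281)) (BT.node 3282 (BT.leaf cT3282) (BT.leaf cT3283))) (BT.node 3286 (BT.node 3285 (BT.node 3284 (BT.leaf cT3284) (BT.leaf cT3285)) (BT.leaf cT3286)) (BT.node 3287 (BT.leaf cT3287) (BT.leaf cT3288))))))))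
noncomputable def colTT_20 : BT ℕ := (BT.node 3371 (BT.node 3330 (BT.node 3309 (BT.node 3299 (BT.node 3294 (BT.node 3291 (BT.node 3290 (BT.node 3289 (BT.leaf cT3289) (BT.leaf cT3290)) (BT.leaf cT3291)) (BT.node 3293 (BT.node 3292 (BT.leaf cT3292) (BT.leaf cT3293)) (BT.leaf cT3294))) (BT.node 3297 (BT.node 3296 (BT.node 3295 (BT.leaf cT3295) (BT.leaf cT3296)) (BT.leaf cT3297)) (BT.node 3298 (BT.leaf cT3298) (BT.leaf cT3299)))) (BT.node 3304 (BT.node 3302 (BT.node 3301 (BT.node 3300 (BT.leaf cT3300) (BT.leaf cT3301)) (BT.leaf cT3302)) (BT.node 3303 (BT.leaf cT3303) (BT.leaf cT3304))) (BT.node 3307 (BT.node 3306 (BT.node 3305 (BT.leaf cT3305) (BT.leaf cT3306)) (BT.leaf cT3307)) (BT.node 3308 (BT.leaf cT3308) (BT.leaf cT3309))))) (BT.node 3320 (BT.node 3315 (BT.node 3312 (BT.node 3311 (BT.node 3310 (BT.leaf cT3310) (BT.leaf cT3311)) (BT.leaf cT3312)) (BT.node 3314 (BT.node 3313 (BT.leaf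 cT3313) (BT.leaf cT3314)) (BT.leaf cT3315))) (BT.node 3318 (BT.node 3317 (BT.node 3316 (BT.leaf cT3316) (BT.leaf cT3317)) (BT.leaf cT3318)) (BT.node 3319 (BT.leaf cT3319) (BT.leaf cT3320)))) (BT.node 3325 (BT.node 3323 (BT.node 3322 (BT.node 3321 (BT.leaf cT3321) (BT.leaf cT3322)) (BT.leaf cT3323)) (BT.node 3324 (BT.leaf cT3324) (BT.leaf cT3325))) (BT.node 3328 (BT.node 3327 (BT.node 3326 (BT.leaf cT3326) (BT.leaf cT3327)) (BT.leaf cT3328)) (BT.node 3329 (BT.leaf cT3329) (BT.leaf cT3330)))))) (BT.node 3351 (BT.node 3341 (BT.node 3336 (BT.node 3333 (BT.node 3332 (BT.node 3331 (BT.leaf cT3331) (BT.leaf cT3332)) (BT.leaf cT3333)) (BT.node 3335 (BT.node 3334 (BT.leaf cT3334) (BT.leaf cT3335)) (BT.leaf cT3336))) (BT.node 3339 (BT.node 3338 (BT.node 3337 (BT.leaf cT3337) (BT.leaf cT3338)) (BT.leaf cT3339)) (BT.node 3340 (BT.leaf cT3340) (BT.leaf cT3341)))) (BT.node 3346 (BT.node 3344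 (BT.node 3343 (BT.node 3342 (BT.leaf cT3342) (BT.leaf cT3343)) (BT.leaf cT3344)) (BT.node 3345 (BT.leaf cT3345) (BT.leaf cT3346))) (BT.node 3349 (BT.node 3348 (BT.node 3347 (BT.leaf cT3347) (BT.leaf cT3348)) (BT.leaf cT3349)) (BT.node 3350 (BT.leaf cT3350) (BT.leaf cT3351))))) (BT.node 3361 (BT.node 3356 (BT.node 3354 (BT.node 3353 (BT.node 3352 (BT.leaf cT3352) (BT.leaf cT3353)) (BT.leaf cT3354)) (BT.node 3355 (BT.leaf cT3355) (BT.leaf cT3356))) (BT.node 3359 (BT.node 3358 (BT.node 3357 (BT.leaf cT3357) (BT.leaf cT3358)) (BT.leaf cT3359)) (BT.node 3360 (BT.leaf cT3360) (BT.leaf cT3361)))) (BT.node 3366 (BT.node 3364 (BT.node 3363 (BT.node 3362 (BT.leaf cT3362) (BT.leaf cT3363)) (BT.leaf cT3364)) (BT.node 3365 (BT.leaf cT3365) (BT.leaf cT3366))) (BT.node 3369 (BT.node 3368 (BT.node 3367 (BT.leaf cT3367) (BT.leaf cT3368)) (BT.leaf cT3369)) (BT.node 3370 (BT.leaf cT3370) (BT.leaf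 cT3371))))))) (BT.node 3412 (BT.node 3392 (BT.node 3382 (BT.node 3377 (BT.node 3374 (BT.node 3373 (BT.node 3372 (BT.leaf cT3372) (BT.leaf cT3373)) (BT.leaf cT3374)) (BT.node 3376 (BT.node 3375 (BT.leaf cT3375) (BT.leaf cT3376)) (BT.leaf cT3377))) (BT.node 3380 (BT.node 3379 (BT.node 3378 (BT.leaf cT3378) (BT.leaf cT3379)) (BT.leaf cT3380)) (BT.node 3381 (BT.leaf cT3381) (BT.leaf cT3382)))) (BT.node 3387 (BT.node 3385 (BT.node 3384 (BT.node 3383 (BT.leaf cT3383) (BT.leaf cT3384)) (BT.leaf cT3385)) (BT.node 3386 (BT.leaf cT3386) (BT.leaf cT3387))) (BT.node 3390 (BT.node 3389 (BT.node 3388 (BT.leaf cT3388) (BT.leaf cT3389)) (BT.leaf cT3390)) (BT.node 3391 (BT.leaf cT3391) (BT.leaf cT3392))))) (BT.node 3402 (BT.node 3397 (BT.node 3395 (BT.node 3394 (BT.node 3393 (BT.leaf cT3393) (BT.leaf cT3394)) (BT.leaf cT3395)) (BT.node 3396 (BT.leaf cT3396) (BT.leaf cT3397))) (BT.node 3400 (BT.node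 3399 (BT.node 3398 (BT.leaf cT3398) (BT.leaf cT3399)) (BT.leaf cT3400)) (BT.node 3401 (BT.leaf cT3401) (BT.leaf cT3402)))) (BT.node 3407 (BT.node 3405 (BT.node 3404 (BT.node 3403 (BT.leaf cT3403) (BT.leaf cT3404)) (BT.leaf cT3405)) (BT.node 3406 (BT.leaf cT3406) (BT.leaf cT3407))) (BT.node 3410 (BT.node 3409 (BT.node 3408 (BT.leaf cT3408) (BT.leaf cT3409)) (BT.leaf cT3410)) (BT.node 3411 (BT.leaf cT3411) (BT.leaf cT3412)))))) (BT.node 3433 (BT.node 3423 (BT.node 3418 (BT.node 3415 (BT.node 3414 (BT.node 3413 (BT.leaf cT3413) (BT.leaf cT3414)) (BT.leaf cT3415)) (BT.node 3417 (BT.node 3416 (BT.leaf cT3416) (BT.leaf cT3417)) (BT.leaf cT3418))) (BT.node 3421 (BT.node 3420 (BT.node 3419 (BT.leaf cT3419) (BT.leaf cT3420)) (BT.leaf cT3421)) (BT.node 3422 (BT.leaf cT3422) (BT.leaf cT3423)))) (BT.node 3428 (BT.node 3426 (BT.node 3425 (BT.node 3424 (BT.leaf cT3424) (BT.leaf cT3425)) (BT.leaf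 cT3426)) (BT.node 3427 (BT.leaf cT3427) (BT.leaf cT3428))) (BT.node 3431 (BT.node 3430 (BT.node 3429 (BT.leaf cT3429) (BT.leaf cT3430)) (BT.leaf cT3431)) (BT.node 3432 (BT.leaf cT3432) (BT.leaf cT3433))))) (BT.node 3443 (BT.node 3438 (BT.node 3436 (BT.node 3435 (BT.node 3434 (BT.leaf cT3434) (BT.leaf cT3435)) (BT.leaf cT3436)) (BT.node 3437 (BT.leaf cT3437) (BT.leaf cT3438))) (BT.node 3441 (BT.node 3440 (BT.node 3439 (BT.leaf cT3439) (BT.leaf cT3440)) (BT.leaf cT3441)) (BT.node 3442 (BT.leaf cT3442) (BT.leaf cT3443)))) (BT.node 3448 (BT.node 3446 (BT.node 3445 (BT.node 3444 (BT.leaf cT3444) (BT.leaf cT3445)) (BT.leaf cT3446)) (BT.node 3447 (BT.leaf cT3447) (BT.leaf cT3448))) (BT.node 3451 (BT.node 3450 (BT.node 3449 (BT.leaf cT3449) (BT.leaf cT3450)) (BT.leaf cT3451)) (BT.node 3452 (BT.leaf cT3452) (BT.leaf cT3453))))))))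
noncomputable def colTT_21 : BT ℕ := (BT.node 3535 (BT.node 3494 (BT.node 3474 (BT.node 3464 (BT.node 3459 (BT.node 3456 (BT.node 3455 (BT.node 3454 (BT.leaf cT3454) (BT.leaf cT3455)) (BT.leaf cT3456)) (BT.node 3458 (BT.node 3457 (BT.leaf cT3457) (BT.leaf cT3458)) (BT.leaf cT3459))) (BT.node 3462 (BT.node 3461 (BT.node 3460 (BT.leaf cT3460) (BT.leaf cT3461)) (BT.leaf cT3462)) (BT.node 3463 (BT.leaf cT3463) (BT.leaf cT3464)))) (BT.node 3469 (BT.node 3467 (BT.node 3466 (BT.node 3465 (BT.leaf cT3465) (BT.leaf cT3466)) (BT.leaf cT3467)) (BT.node 3468 (BT.leaf cT3468) (BT.leaf cT3469))) (BT.node 3472 (BT.node 3471 (BT.node 3470 (BT.leaf cT3470) (BT.leaf cT3471)) (BT.leaf cT3472)) (BT.node 3473 (BT.leaf cT3473) (BT.leaf cT3474))))) (BT.node 3484 (BT.node 3479 (BT.node 3477 (BT.node 3476 (BT.node 3475 (BT.leaf cT3475) (BT.leaf cT3476)) (BT.leaf cT3477)) (BT.node 3478 (BT.leaf cT3478)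 (BT.leaf cT3479))) (BT.node 3482 (BT.node 3481 (BT.node 3480 (BT.leaf cT3480) (BT.leaf cT3481)) (BT.leaf cT3482)) (BT.node 3483 (BT.leaf cT3483) (BT.leaf cT3484)))) (BT.node 3489 (BT.node 3487 (BT.node 3486 (BT.node 3485 (BT.leaf cT3485) (BT.leaf cT3486)) (BT.leaf cT3487)) (BT.node 3488 (BT.leaf cT3488) (BT.leaf cT3489))) (BT.node 3492 (BT.node 3491 (BT.node 3490 (BT.leaf cT3490) (BT.leaf cT3491)) (BT.leaf cT3492)) (BT.node 3493 (BT.leaf cT3493) (BT.leaf cT3494)))))) (BT.node 3515 (BT.node 3505 (BT.node 3500 (BT.node 3497 (BT.node 3496 (BT.node 3495 (BT.leaf cT3495) (BT.leaf cT3496)) (BT.leaf cT3497)) (BT.node 3499 (BT.node 3498 (BT.leaf cT3498) (BT.leaf cT3499)) (BT.leaf cT3500))) (BT.node 3503 (BT.node 3502 (BT.node 3501 (BT.leaf cT3501) (BT.leaf cT3502)) (BT.leaf cT3503)) (BT.node 3504 (BT.leaf cT3504) (BT.leaf cT3505)))) (BT.node 3510 (BT.node 3508 (BT.node 3507 (BT.node 3506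 (BT.leaf cT3506) (BT.leaf cT3507)) (BT.leaf cT3508)) (BT.node 3509 (BT.leaf cT3509) (BT.leaf cT3510))) (BT.node 3513 (BT.node 3512 (BT.node 3511 (BT.leaf cT3511) (BT.leaf cT3512)) (BT.leaf cT3513)) (BT.node 3514 (BT.leaf cT3514) (BT.leaf cT3515))))) (BT.node 3525 (BT.node 3520 (BT.node 3518 (BT.node 3517 (BT.node 3516 (BT.leaf cT3516) (BT.leaf cT3517)) (BT.leaf cT3518)) (BT.node 3519 (BT.leaf cT3519) (BT.leaf cT3520))) (BT.node 3523 (BT.node 3522 (BT.node 3521 (BT.leaf cT3521) (BT.leaf cT3522)) (BT.leaf cT3523)) (BT.node 3524 (BT.leaf cT3524) (BT.leaf cT3525)))) (BT.node 3530 (BT.node 3528 (BT.node 3527 (BT.node 3526 (BT.leaf cT3526) (BT.leaf cT3527)) (BT.leaf cT3528)) (BT.node 3529 (BT.leaf cT3529) (BT.leaf cT3530))) (BT.node 3533 (BT.node 3532 (BT.node 3531 (BT.leaf cT3531) (BT.leaf cT3532)) (BT.leaf cT3533)) (BT.node 3534 (BT.leaf cT3534) (BT.leaf cT3535))))))) (BT.node 3576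 (BT.node 3556 (BT.node 3546 (BT.node 3541 (BT.node 3538 (BT.node 3537 (BT.node 3536 (BT.leaf cT3536) (BT.leaf cT3537)) (BT.leaf cT3538)) (BT.node 3540 (BT.node 3539 (BT.leaf cT3539) (BT.leaf cT3540)) (BT.leaf cT3541))) (BT.node 3544 (BT.node 3543 (BT.node 3542 (BT.leaf cT3542) (BT.leaf cT3543)) (BT.leaf cT3544)) (BT.node 3545 (BT.leaf cT3545) (BT.leaf cT3546)))) (BT.node 3551 (BT.node 3549 (BT.node 3548 (BT.node 3547 (BT.leaf cT3547) (BT.leaf cT3548)) (BT.leaf cT3549)) (BT.node 3550 (BT.leaf cT3550) (BT.leaf cT3551))) (BT.node 3554 (BT.node 3553 (BT.node 3552 (BT.leaf cT3552) (BT.leaf cT3553)) (BT.leaf cT3554)) (BT.node 3555 (BT.leaf cT3555) (BT.leaf cT3556))))) (BT.node 3566 (BT.node 3561 (BT.node 3559 (BT.node 3558 (BT.node 3557 (BT.leaf cT3557) (BT.leaf cT3558)) (BT.leaf cT3559)) (BT.node 3560 (BT.leaf cT3560) (BT.leaf cT3561))) (BT.node 3564 (BT.node 3563 (BT.node 3562 (BT.leaf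 cT3562) (BT.leaf cT3563)) (BT.leaf cT3564)) (BT.node 3565 (BT.leaf cT3565) (BT.leaf cT3566)))) (BT.node 3571 (BT.node 3569 (BT.node 3568 (BT.node 3567 (BT.leaf cT3567) (BT.leaf cT3568)) (BT.leaf cT3569)) (BT.node 3570 (BT.leaf cT3570) (BT.leaf cT3571))) (BT.node 3574 (BT.node 3573 (BT.node 3572 (BT.leaf cT3572) (BT.leaf cT3573)) (BT.leaf cT3574)) (BT.node 3575 (BT.leaf cT3575) (BT.leaf cT3576)))))) (BT.node 3597 (BT.node 3587 (BT.node 3582 (BT.node 3579 (BT.node 3578 (BT.node 3577 (BT.leaf cT3577) (BT.leaf cT3578)) (BT.leaf cT3579)) (BT.node 3581 (BT.node 3580 (BT.leaf cT3580) (BT.leaf cT3581)) (BT.leaf cT3582))) (BT.node 3585 (BT.node 3584 (BT.node 3583 (BT.leaf cT3583) (BT.leaf cT3584)) (BT.leaf cT3585)) (BT.node 3586 (BT.leaf cT3586) (BT.leaf cT3587)))) (BT.node 3592 (BT.node 3590 (BT.node 3589 (BT.node 3588 (BT.leaf cT3588) (BT.leaf cT3589)) (BT.leaf cT3590)) (BT.node 3591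 (BT.leaf cT3591) (BT.leaf cT3592))) (BT.node 3595 (BT.node 3594 (BT.node 3593 (BT.leaf cT3593) (BT.leaf cT3594)) (BT.leaf cT3595)) (BT.node 3596 (BT.leaf cT3596) (BT.leaf cT3597))))) (BT.node 3607 (BT.node 3602 (BT.node 3600 (BT.node 3599 (BT.node 3598 (BT.leaf cT3598) (BT.leaf cT3599)) (BT.leaf cT3600)) (BT.node 3601 (BT.leaf cT3601) (BT.leaf cT3602))) (BT.node 3605 (BT.node 3604 (BT.node 3603 (BT.leaf cT3603) (BT.leaf cT3604)) (BT.leaf cT3605)) (BT.node 3606 (BT.leaf cT3606) (BT.leaf cT3607)))) (BT.node 3612 (BT.node 3610 (BT.node 3609 (BT.node 3608 (BT.leaf cT3608) (BT.leaf cT3609)) (BT.leaf cT3610)) (BT.node 3611 (BT.leaf cT3611) (BT.leaf cT3612))) (BT.node 3615 (BT.node 3614 (BT.node 3613 (BT.leaf cT3613) (BT.leaf cT3614)) (BT.leaf cT3615)) (BT.node 3616 (BT.leaf cT3616) (BT.leaf cT3617))))))))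
noncomputable def colTT_22 : BT ℕ := (BT.node 3699 (BT.node 3658 (BT.node 3638 (BT.node 3628 (BT.node 3623 (BT.node 3620 (BT.node 3619 (BT.node 3618 (BT.leaf cT3618) (BT.leaf cT3619)) (BT.leaf cT3620)) (BT.node 3622 (BT.node 3621 (BT.leaf cT3621) (BT.leaf cT3622)) (BT.leaf cT3623))) (BT.node 3626 (BT.node 3625 (BT.node 3624 (BT.leaf cT3624) (BT.leaf cT3625)) (BT.leaf cT3626)) (BT.node 3627 (BT.leaf cT3627) (BT.leaf cT3628)))) (BT.node 3633 (BT.node 3631 (BT.node 3630 (BT.node 3629 (BT.leaf cT3629) (BT.leaf cT3630)) (BT.leaf cT3631)) (BT.node 3632 (BT.leaf cT3632) (BT.leaf cT3633))) (BT.node 3636 (BT.node 3635 (BT.node 3634 (BT.leaf cT3634) (BT.leaf cT3635)) (BT.leaf cT3636)) (BT.node 3637 (BT.leaf cT3637) (BT.leaf cT3638))))) (BT.node 3648 (BT.node 3643 (BT.node 3641 (BT.node 3640 (BT.node 3639 (BT.leaf cT3639) (BT.leaf cT3640)) (BT.leaf cT3641)) (BT.node 3642 (BT.leaf cT3642)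 (BT.leaf cT3643))) (BT.node 3646 (BT.node 3645 (BT.node 3644 (BT.leaf cT3644) (BT.leaf cT3645)) (BT.leaf cT3646)) (BT.node 3647 (BT.leaf cT3647) (BT.leaf cT3648)))) (BT.node 3653 (BT.node 3651 (BT.node 3650 (BT.node 3649 (BT.leaf cT3649) (BT.leaf cT3650)) (BT.leaf cT3651)) (BT.node 3652 (BT.leaf cT3652) (BT.leaf cT3653))) (BT.node 3656 (BT.node 3655 (BT.node 3654 (BT.leaf cT3654) (BT.leaf cT3655)) (BT.leaf cT3656)) (BT.node 3657 (BT.leaf cT3657) (BT.leaf cT3658)))))) (BT.node 3679 (BT.node 3669 (BT.node 3664 (BT.node 3661 (BT.node 3660 (BT.node 3659 (BT.leaf cT3659) (BT.leaf cT3660)) (BT.leaf cT3661)) (BT.node 3663 (BT.node 3662 (BT.leaf cT3662) (BT.leaf cT3663)) (BT.leaf cT3664))) (BT.node 3667 (BT.node 3666 (BT.node 3665 (BT.leaf cT3665) (BT.leaf cT3666)) (BT.leaf cT3667)) (BT.node 3668 (BT.leaf cT3668) (BT.leaf cT3669)))) (BT.node 3674 (BT.node 3672 (BT.node 3671 (BT.node 3670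 (BT.leaf cT3670) (BT.leaf cT3671)) (BT.leaf cT3672)) (BT.node 3673 (BT.leaf cT3673) (BT.leaf cT3674))) (BT.node 3677 (BT.node 3676 (BT.node 3675 (BT.leaf cT3675) (BT.leaf cT3676)) (BT.leaf cT3677)) (BT.node 3678 (BT.leaf cT3678) (BT.leaf cT3679))))) (BT.node 3689 (BT.node 3684 (BT.node 3682 (BT.node 3681 (BT.node 3680 (BT.leaf cT3680) (BT.leaf cT3681)) (BT.leaf cT3682)) (BT.node 3683 (BT.leaf cT3683) (BT.leaf cT3684))) (BT.node 3687 (BT.node 3686 (BT.node 3685 (BT.leaf cT3685) (BT.leaf cT3686)) (BT.leaf cT3687)) (BT.node 3688 (BT.leaf cT3688) (BT.leaf cT3689)))) (BT.node 3694 (BT.node 3692 (BT.node 3691 (BT.node 3690 (BT.leaf cT3690) (BT.leaf cT3691)) (BT.leaf cT3692)) (BT.node 3693 (BT.leaf cT3693) (BT.leaf cT3694))) (BT.node 3697 (BT.node 3696 (BT.node 3695 (BT.leaf cT3695) (BT.leaf cT3696)) (BT.leaf cT3697)) (BT.node 3698 (BT.leaf cT3698) (BT.leaf cT3699))))))) (BT.node 3740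 (BT.node 3720 (BT.node 3710 (BT.node 3705 (BT.node 3702 (BT.node 3701 (BT.node 3700 (BT.leaf cT3700) (BT.leaf cT3701)) (BT.leaf cT3702)) (BT.node 3704 (BT.node 3703 (BT.leaf cT3703) (BT.leaf cT3704)) (BT.leaf cT3705))) (BT.node 3708 (BT.node 3707 (BT.node 3706 (BT.leaf cT3706) (BT.leaf cT3707)) (BT.leaf cT3708)) (BT.node 3709 (BT.leaf cT3709) (BT.leaf cT3710)))) (BT.node 3715 (BT.node 3713 (BT.node 3712 (BT.node 3711 (BT.leaf cT3711) (BT.leaf cT3712)) (BT.leaf cT3713)) (BT.node 3714 (BT.leaf cT3714) (BT.leaf cT3715))) (BT.node 3718 (BT.node 3717 (BT.node 3716 (BT.leaf cT3716) (BT.leaf cT3717)) (BT.leaf cT3718)) (BT.node 3719 (BT.leaf cT3719) (BT.leaf cT3720))))) (BT.node 3730 (BT.node 3725 (BT.node 3723 (BT.node 3722 (BT.node 3721 (BT.leaf cT3721) (BT.leaf cT3722)) (BT.leaf cT3723)) (BT.node 3724 (BT.leaf cT3724) (BT.leaf cT3725))) (BT.node 3728 (BT.node 3727 (BT.node 3726 (BT.leaf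 cT3726) (BT.leaf cT3727)) (BT.leaf cT3728)) (BT.node 3729 (BT.leaf cT3729) (BT.leaf cT3730)))) (BT.node 3735 (BT.node 3733 (BT.node 3732 (BT.node 3731 (BT.leaf cT3731) (BT.leaf cT3732)) (BT.leaf cT3733)) (BT.node 3734 (BT.leaf cT3734) (BT.leaf cT3735))) (BT.node 3738 (BT.node 3737 (BT.node 3736 (BT.leaf cT3736) (BT.leaf cT3737)) (BT.leaf cT3738)) (BT.node 3739 (BT.leaf cT3739) (BT.leaf cT3740)))))) (BT.node 3761 (BT.node 3751 (BT.node 3746 (BT.node 3743 (BT.node 3742 (BT.node 3741 (BT.leaf cT3741) (BT.leaf cT3742)) (BT.leaf cT3743)) (BT.node 3745 (BT.node 3744 (BT.leaf cT3744) (BT.leaf cT3745)) (BT.leaf cT3746))) (BT.node 3749 (BT.node 3748 (BT.node 3747 (BT.leaf cT3747) (BT.leaf cT3748)) (BT.leaf cT3749)) (BT.node 3750 (BT.leaf cT3750) (BT.leaf cT3751)))) (BT.node 3756 (BT.node 3754 (BT.node 3753 (BT.node 3752 (BT.leaf cT3752) (BT.leaf cT3753)) (BT.leaf cT3754)) (BT.node 3755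 (BT.leaf cT3755) (BT.leaf cT3756))) (BT.node 3759 (BT.node 3758 (BT.node 3757 (BT.leaf cT3757) (BT.leaf cT3758)) (BT.leaf cT3759)) (BT.node 3760 (BT.leaf cT3760) (BT.leaf cT3761))))) (BT.node 3771 (BT.node 3766 (BT.node 3764 (BT.node 3763 (BT.node 3762 (BT.leaf cT3762) (BT.leaf cT3763)) (BT.leaf cT3764)) (BT.node 3765 (BT.leaf cT3765) (BT.leaf cT3766))) (BT.node 3769 (BT.node 3768 (BT.node 3767 (BT.leaf cT3767) (BT.leaf cT3768)) (BT.leaf cT3769)) (BT.node 3770 (BT.leaf cT3770) (BT.leaf cT3771)))) (BT.node 3776 (BT.node 3774 (BT.node 3773 (BT.node 3772 (BT.leaf cT3772) (BT.leaf cT3773)) (BT.leaf cT3774)) (BT.node 3775 (BT.leaf cT3775) (BT.leaf cT3776))) (BT.node 3779 (BT.node 3778 (BT.node 3777 (BT.leaf cT3777) (BT.leaf cT3778)) (BT.leaf cT3779)) (BT.node 3780 (BT.leaf cT3780) (BT.leaf cT3781))))))))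
noncomputable def colTT_23 : BT ℕ := (BT.node 3863 (BT.node 3822 (BT.node 3802 (BT.node 3792 (BT.node 3787 (BT.node 3784 (BT.node 3783 (BT.node 3782 (BT.leaf cT3782) (BT.leaf cT3783)) (BT.leaf cT3784)) (BT.node 3786 (BT.node 3785 (BT.leaf cT3785) (BT.leaf cT3786)) (BT.leaf cT3787))) (BT.node 3790 (BT.node 3789 (BT.node 3788 (BT.leaf cT3788) (BT.leaf cT3789)) (BT.leaf cT3790)) (BT.node 3791 (BT.leaf cT3791) (BT.leaf cT3792)))) (BT.node 3797 (BT.node 3795 (BT.node 3794 (BT.node 3793 (BT.leaf cT3793) (BT.leaf cT3794)) (BT.leaf cT3795)) (BT.node 3796 (BT.leaf cT3796) (BT.leaf cT3797))) (BT.node 3800 (BT.node 3799 (BT.node 3798 (BT.leaf cT3798) (BT.leaf cT3799)) (BT.leaf cT3800)) (BT.node 3801 (BT.leaf cT3801) (BT.leaf cT3802))))) (BT.node 3812 (BT.node 3807 (BT.node 3805 (BT.node 3804 (BT.node 3803 (BT.leaf cT3803) (BT.leaf cT3804)) (BT.leaf cT3805)) (BT.node 3806 (BT.leaf cT3806)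 (BT.leaf cT3807))) (BT.node 3810 (BT.node 3809 (BT.node 3808 (BT.leaf cT3808) (BT.leaf cT3809)) (BT.leaf cT3810)) (BT.node 3811 (BT.leaf cT3811) (BT.leaf cT3812)))) (BT.node 3817 (BT.node 3815 (BT.node 3814 (BT.node 3813 (BT.leaf cT3813) (BT.leaf cT3814)) (BT.leaf cT3815)) (BT.node 3816 (BT.leaf cT3816) (BT.leaf cT3817))) (BT.node 3820 (BT.node 3819 (BT.node 3818 (BT.leaf cT3818) (BT.leaf cT3819)) (BT.leaf cT3820)) (BT.node 3821 (BT.leaf cT3821) (BT.leaf cT3822)))))) (BT.node 3843 (BT.node 3833 (BT.node 3828 (BT.node 3825 (BT.node 3824 (BT.node 3823 (BT.leaf cT3823) (BT.leaf cT3824)) (BT.leaf cT3825)) (BT.node 3827 (BT.node 3826 (BT.leaf cT3826) (BT.leaf cT3827)) (BT.leaf cT3828))) (BT.node 3831 (BT.node 3830 (BT.node 3829 (BT.leaf cT3829) (BT.leaf cT3830)) (BT.leaf cT3831)) (BT.node 3832 (BT.leaf cT3832) (BT.leaf cT3833)))) (BT.node 3838 (BT.node 3836 (BT.node 3835 (BT.node 3834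 (BT.leaf cT3834) (BT.leaf cT3835)) (BT.leaf cT3836)) (BT.node 3837 (BT.leaf cT3837) (BT.leaf cT3838))) (BT.node 3841 (BT.node 3840 (BT.node 3839 (BT.leaf cT3839) (BT.leaf cT3840)) (BT.leaf cT3841)) (BT.node 3842 (BT.leaf cT3842) (BT.leaf cT3843))))) (BT.node 3853 (BT.node 3848 (BT.node 3846 (BT.node 3845 (BT.node 3844 (BT.leaf cT3844) (BT.leaf cT3845)) (BT.leaf cT3846)) (BT.node 3847 (BT.leaf cT3847) (BT.leaf cT3848))) (BT.node 3851 (BT.node 3850 (BT.node 3849 (BT.leaf cT3849) (BT.leaf cT3850)) (BT.leaf cT3851)) (BT.node 3852 (BT.leaf cT3852) (BT.leaf cT3853)))) (BT.node 3858 (BT.node 3856 (BT.node 3855 (BT.node 3854 (BT.leaf cT3854) (BT.leaf cT3855)) (BT.leaf cT3856)) (BT.node 3857 (BT.leaf cT3857) (BT.leaf cT3858))) (BT.node 3861 (BT.node 3860 (BT.node 3859 (BT.leaf cT3859) (BT.leaf cT3860)) (BT.leaf cT3861)) (BT.node 3862 (BT.leaf cT3862) (BT.leaf cT3863))))))) (BT.node 3904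 (BT.node 3884 (BT.node 3874 (BT.node 3869 (BT.node 3866 (BT.node 3865 (BT.node 3864 (BT.leaf cT3864) (BT.leaf cT3865)) (BT.leaf cT3866)) (BT.node 3868 (BT.node 3867 (BT.leaf cT3867) (BT.leaf cT3868)) (BT.leaf cT3869))) (BT.node 3872 (BT.node 3871 (BT.node 3870 (BT.leaf cT3870) (BT.leaf cT3871)) (BT.leaf cT3872)) (BT.node 3873 (BT.leaf cT3873) (BT.leaf cT3874)))) (BT.node 3879 (BT.node 3877 (BT.node 3876 (BT.node 3875 (BT.leaf cT3875) (BT.leaf cT3876)) (BT.leaf cT3877)) (BT.node 3878 (BT.leaf cT3878) (BT.leaf cT3879))) (BT.node 3882 (BT.node 3881 (BT.node 3880 (BT.leaf cT3880) (BT.leaf cT3881)) (BT.leaf cT3882)) (BT.node 3883 (BT.leaf cT3883) (BT.leaf cT3884))))) (BT.node 3894 (BT.node 3889 (BT.node 3887 (BT.node 3886 (BT.node 3885 (BT.leaf cT3885) (BT.leaf cT3886)) (BT.leaf cT3887)) (BT.node 3888 (BT.leaf cT3888) (BT.leaf cT3889))) (BT.node 3892 (BT.node 3891 (BT.node 3890 (BT.leaf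 cT3890) (BT.leaf cT3891)) (BT.leaf cT3892)) (BT.node 3893 (BT.leaf cT3893) (BT.leaf cT3894)))) (BT.node 3899 (BT.node 3897 (BT.node 3896 (BT.node 3895 (BT.leaf cT3895) (BT.leaf cT3896)) (BT.leaf cT3897)) (BT.node 3898 (BT.leaf cT3898) (BT.leaf cT3899))) (BT.node 3902 (BT.node 3901 (BT.node 3900 (BT.leaf cT3900) (BT.leaf cT3901)) (BT.leaf cT3902)) (BT.node 3903 (BT.leaf cT3903) (BT.leaf cT3904)))))) (BT.node 3925 (BT.node 3915 (BT.node 3910 (BT.node 3907 (BT.node 3906 (BT.node 3905 (BT.leaf cT3905) (BT.leaf cT3906)) (BT.leaf cT3907)) (BT.node 3909 (BT.node 3908 (BT.leaf cT3908) (BT.leaf cT3909)) (BT.leaf cT3910))) (BT.node 3913 (BT.node 3912 (BT.node 3911 (BT.leaf cT3911) (BT.leaf cT3912)) (BT.leaf cT3913)) (BT.node 3914 (BT.leaf cT3914) (BT.leaf cT3915)))) (BT.node 3920 (BT.node 3918 (BT.node 3917 (BT.node 3916 (BT.leaf cT3916) (BT.leaf cT3917)) (BT.leaf cT3918)) (BT.node 3919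 (BT.leaf cT3919) (BT.leaf cT3920))) (BT.node 3923 (BT.node 3922 (BT.node 3921 (BT.leaf cT3921) (BT.leaf cT3922)) (BT.leaf cT3923)) (BT.node 3924 (BT.leaf cT3924) (BT.leaf cT3925))))) (BT.node 3935 (BT.node 3930 (BT.node 3928 (BT.node 3927 (BT.node 3926 (BT.leaf cT3926) (BT.leaf cT3927)) (BT.leaf cT3928)) (BT.node 3929 (BT.leaf cT3929) (BT.leaf cT3930))) (BT.node 3933 (BT.node 3932 (BT.node 3931 (BT.leaf cT3931) (BT.leaf cT3932)) (BT.leaf cT3933)) (BT.node 3934 (BT.leaf cT3934) (BT.leaf cT3935)))) (BT.node 3940 (BT.node 3938 (BT.node 3937 (BT.node 3936 (BT.leaf cT3936) (BT.leaf cT3937)) (BT.leaf cT3938)) (BT.node 3939 (BT.leaf cT3939) (BT.leaf cT3940))) (BT.node 3943 (BT.node 3942 (BT.node 3941 (BT.leaf cT3941) (BT.leaf cT3942)) (BT.leaf cT3943)) (BT.node 3944 (BT.leaf cT3944) (BT.leaf cT3945))))))))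
noncomputable def colTT_24 : BT ℕ := (BT.node 4028 (BT.node 3987 (BT.node 3966 (BT.node 3956 (BT.node 3951 (BT.node 3948 (BT.node 3947 (BT.node 3946 (BT.leaf cT3946) (BT.leaf cT3947)) (BT.leaf cT3948)) (BT.node 3950 (BT.node 3949 (BT.leaf cT3949) (BT.leaf cT3950)) (BT.leaf cT3951))) (BT.node 3954 (BT.node 3953 (BT.node 3952 (BT.leaf cT3952) (BT.leaf cT3953)) (BT.leaf cT3954)) (BT.node 3955 (BT.leaf cT3955) (BT.leaf cT3956)))) (BT.node 3961 (BT.node 3959 (BT.node 3958 (BT.node 3957 (BT.leaf cT3957) (BT.leaf cT3958)) (BT.leaf cT3959)) (BT.node 3960 (BT.leaf cT3960) (BT.leaf cT3961))) (BT.node 3964 (BT.node 3963 (BT.node 3962 (BT.leaf cT3962) (BT.leaf cT3963)) (BT.leaf cT3964)) (BT.node 3965 (BT.leaf cT3965) (BT.leaf cT3966))))) (BT.node 3977 (BT.node 3972 (BT.node 3969 (BT.node 3968 (BT.node 3967 (BT.leaf cT3967) (BT.leaf cT3968)) (BT.leaf cT3969)) (BT.node 3971 (BT.node 3970 (BT.leaf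 cT3970) (BT.leaf cT3971)) (BT.leaf cT3972))) (BT.node 3975 (BT.node 3974 (BT.node 3973 (BT.leaf cT3973) (BT.leaf cT3974)) (BT.leaf cT3975)) (BT.node 3976 (BT.leaf cT3976) (BT.leaf cT3977)))) (BT.node 3982 (BT.node 3980 (BT.node 3979 (BT.node 3978 (BT.leaf cT3978) (BT.leaf cT3979)) (BT.leaf cT3980)) (BT.node 3981 (BT.leaf cT3981) (BT.leaf cT3982))) (BT.node 3985 (BT.node 3984 (BT.node 3983 (BT.leaf cT3983) (BT.leaf cT3984)) (BT.leaf cT3985)) (BT.node 3986 (BT.leaf cT3986) (BT.leaf cT3987)))))) (BT.node 4008 (BT.node 3998 (BT.node 3993 (BT.node 3990 (BT.node 3989 (BT.node 3988 (BT.leaf cT3988) (BT.leaf cT3989)) (BT.leaf cT3990)) (BT.node 3992 (BT.node 3991 (BT.leaf cT3991) (BT.leaf cT3992)) (BT.leaf cT3993))) (BT.node 3996 (BT.node 3995 (BT.node 3994 (BT.leaf cT3994) (BT.leaf cT3995)) (BT.leaf cT3996)) (BT.node 3997 (BT.leaf cT3997) (BT.leaf cT3998)))) (BT.node 4003 (BT.node 4001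 (BT.node 4000 (BT.node 3999 (BT.leaf cT3999) (BT.leaf cT4000)) (BT.leaf cT4001)) (BT.node 4002 (BT.leaf cT4002) (BT.leaf cT4003))) (BT.node 4006 (BT.node 4005 (BT.node 4004 (BT.leaf cT4004) (BT.leaf cT4005)) (BT.leaf cT4006)) (BT.node 4007 (BT.leaf cT4007) (BT.leaf cT4008))))) (BT.node 4018 (BT.node 4013 (BT.node 4011 (BT.node 4010 (BT.node 4009 (BT.leaf cT4009) (BT.leaf cT4010)) (BT.leaf cT4011)) (BT.node 4012 (BT.leaf cT4012) (BT.leaf cT4013))) (BT.node 4016 (BT.node 4015 (BT.node 4014 (BT.leaf cT4014) (BT.leaf cT4015)) (BT.leaf cT4016)) (BT.node 4017 (BT.leaf cT4017) (BT.leaf cT4018)))) (BT.node 4023 (BT.node 4021 (BT.node 4020 (BT.node 4019 (BT.leaf cT4019) (BT.leaf cT4020)) (BT.leaf cT4021)) (BT.node 4022 (BT.leaf cT4022) (BT.leaf cT4023))) (BT.node 4026 (BT.node 4025 (BT.node 4024 (BT.leaf cT4024) (BT.leaf cT4025)) (BT.leaf cT4026)) (BT.node 4027 (BT.leaf cT4027) (BT.leaf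 cT4028))))))) (BT.node 4069 (BT.node 4049 (BT.node 4039 (BT.node 4034 (BT.node 4031 (BT.node 4030 (BT.node 4029 (BT.leaf cT4029) (BT.leaf cT4030)) (BT.leaf cT4031)) (BT.node 4033 (BT.node 4032 (BT.leaf cT4032) (BT.leaf cT4033)) (BT.leaf cT4034))) (BT.node 4037 (BT.node 4036 (BT.node 4035 (BT.leaf cT4035) (BT.leaf cT4036)) (BT.leaf cT4037)) (BT.node 4038 (BT.leaf cT4038) (BT.leaf cT4039)))) (BT.node 4044 (BT.node 4042 (BT.node 4041 (BT.node 4040 (BT.leaf cT4040) (BT.leaf cT4041)) (BT.leaf cT4042)) (BT.node 4043 (BT.leaf cT4043) (BT.leaf cT4044))) (BT.node 4047 (BT.node 4046 (BT.node 4045 (BT.leaf cT4045) (BT.leaf cT4046)) (BT.leaf cT4047)) (BT.node 4048 (BT.leaf cT4048) (BT.leaf cT4049))))) (BT.node 4059 (BT.node 4054 (BT.node 4052 (BT.node 4051 (BT.node 4050 (BT.leaf cT4050) (BT.leaf cT4051)) (BT.leaf cT4052)) (BT.node 4053 (BT.leaf cT4053) (BT.leaf cT4054))) (BT.node 4057 (BT.node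 4056 (BT.node 4055 (BT.leaf cT4055) (BT.leaf cT4056)) (BT.leaf cT4057)) (BT.node 4058 (BT.leaf cT4058) (BT.leaf cT4059)))) (BT.node 4064 (BT.node 4062 (BT.node 4061 (BT.node 4060 (BT.leaf cT4060) (BT.leaf cT4061)) (BT.leaf cT4062)) (BT.node 4063 (BT.leaf cT4063) (BT.leaf cT4064))) (BT.node 4067 (BT.node 4066 (BT.node 4065 (BT.leaf cT4065) (BT.leaf cT4066)) (BT.leaf cT4067)) (BT.node 4068 (BT.leaf cT4068) (BT.leaf cT4069)))))) (BT.node 4090 (BT.node 4080 (BT.node 4075 (BT.node 4072 (BT.node 4071 (BT.node 4070 (BT.leaf cT4070) (BT.leaf cT4071)) (BT.leaf cT4072)) (BT.node 4074 (BT.node 4073 (BT.leaf cT4073) (BT.leaf cT4074)) (BT.leaf cT4075))) (BT.node 4078 (BT.node 4077 (BT.node 4076 (BT.leaf cT4076) (BT.leaf cT4077)) (BT.leaf cT4078)) (BT.node 4079 (BT.leaf cT4079) (BT.leaf cT4080)))) (BT.node 4085 (BT.node 4083 (BT.node 4082 (BT.node 4081 (BT.leaf cT4081) (BT.leaf cT4082)) (BT.leaf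 cT4083)) (BT.node 4084 (BT.leaf cT4084) (BT.leaf cT4085))) (BT.node 4088 (BT.node 4087 (BT.node 4086 (BT.leaf cT4086) (BT.leaf cT4087)) (BT.leaf cT4088)) (BT.node 4089 (BT.leaf cT4089) (BT.leaf cT4090))))) (BT.node 4100 (BT.node 4095 (BT.node 4093 (BT.node 4092 (BT.node 4091 (BT.leaf cT4091) (BT.leaf cT4092)) (BT.leaf cT4093)) (BT.node 4094 (BT.leaf cT4094) (BT.leaf cT4095))) (BT.node 4098 (BT.node 4097 (BT.node 4096 (BT.leaf cT4096) (BT.leaf cT4097)) (BT.leaf cT4098)) (BT.node 4099 (BT.leaf cT4099) (BT.leaf cT4100)))) (BT.node 4105 (BT.node 4103 (BT.node 4102 (BT.node 4101 (BT.leaf cT4101) (BT.leaf cT4102)) (BT.leaf cT4103)) (BT.node 4104 (BT.leaf cT4104) (BT.leaf cT4105))) (BT.node 4108 (BT.node 4107 (BT.node 4106 (BT.leaf cT4106) (BT.leaf cT4107)) (BT.leaf cT4108)) (BT.node 4109 (BT.leaf cT4109) (BT.leaf cT4110))))))))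
noncomputable def colTT_25 : BT ℕ := (BT.node 4192 (BT.node 4151 (BT.node 4131 (BT.node 4121 (BT.node 4116 (BT.node 4113 (BT.node 4112 (BT.node 4111 (BT.leaf cT4111) (BT.leaf cT4112)) (BT.leaf cT4113)) (BT.node 4115 (BT.node 4114 (BT.leaf cT4114) (BT.leaf cT4115)) (BT.leaf cT4116))) (BT.node 4119 (BT.node 4118 (BT.node 4117 (BT.leaf cT4117) (BT.leaf cT4118)) (BT.leaf cT4119)) (BT.node 4120 (BT.leaf cT4120) (BT.leaf cT4121)))) (BT.node 4126 (BT.node 4124 (BT.node 4123 (BT.node 4122 (BT.leaf cT4122) (BT.leaf cT4123)) (BT.leaf cT4124)) (BT.node 4125 (BT.leaf cT4125) (BT.leaf cT4126))) (BT.node 4129 (BT.node 4128 (BT.node 4127 (BT.leaf cT4127) (BT.leaf cT4128)) (BT.leaf cT4129)) (BT.node 4130 (BT.leaf cT4130) (BT.leaf cT4131))))) (BT.node 4141 (BT.node 4136 (BT.node 4134 (BT.node 4133 (BT.node 4132 (BT.leaf cT4132) (BT.leaf cT4133)) (BT.leaf cT4134)) (BT.node 4135 (BT.leaf cT4135)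 (BT.leaf cT4136))) (BT.node 4139 (BT.node 4138 (BT.node 4137 (BT.leaf cT4137) (BT.leaf cT4138)) (BT.leaf cT4139)) (BT.node 4140 (BT.leaf cT4140) (BT.leaf cT4141)))) (BT.node 4146 (BT.node 4144 (BT.node 4143 (BT.node 4142 (BT.leaf cT4142) (BT.leaf cT4143)) (BT.leaf cT4144)) (BT.node 4145 (BT.leaf cT4145) (BT.leaf cT4146))) (BT.node 4149 (BT.node 4148 (BT.node 4147 (BT.leaf cT4147) (BT.leaf cT4148)) (BT.leaf cT4149)) (BT.node 4150 (BT.leaf cT4150) (BT.leaf cT4151)))))) (BT.node 4172 (BT.node 4162 (BT.node 4157 (BT.node 4154 (BT.node 4153 (BT.node 4152 (BT.leaf cT4152) (BT.leaf cT4153)) (BT.leaf cT4154)) (BT.node 4156 (BT.node 4155 (BT.leaf cT4155) (BT.leaf cT4156)) (BT.leaf cT4157))) (BT.node 4160 (BT.node 4159 (BT.node 4158 (BT.leaf cT4158) (BT.leaf cT4159)) (BT.leaf cT4160)) (BT.node 4161 (BT.leaf cT4161) (BT.leaf cT4162)))) (BT.node 4167 (BT.node 4165 (BT.node 4164 (BT.node 4163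 (BT.leaf cT4163) (BT.leaf cT4164)) (BT.leaf cT4165)) (BT.node 4166 (BT.leaf cT4166) (BT.leaf cT4167))) (BT.node 4170 (BT.node 4169 (BT.node 4168 (BT.leaf cT4168) (BT.leaf cT4169)) (BT.leaf cT4170)) (BT.node 4171 (BT.leaf cT4171) (BT.leaf cT4172))))) (BT.node 4182 (BT.node 4177 (BT.node 4175 (BT.node 4174 (BT.node 4173 (BT.leaf cT4173) (BT.leaf cT4174)) (BT.leaf cT4175)) (BT.node 4176 (BT.leaf cT4176) (BT.leaf cT4177))) (BT.node 4180 (BT.node 4179 (BT.node 4178 (BT.leaf cT4178) (BT.leaf cT4179)) (BT.leaf cT4180)) (BT.node 4181 (BT.leaf cT4181) (BT.leaf cT4182)))) (BT.node 4187 (BT.node 4185 (BT.node 4184 (BT.node 4183 (BT.leaf cT4183) (BT.leaf cT4184)) (BT.leaf cT4185)) (BT.node 4186 (BT.leaf cT4186) (BT.leaf cT4187))) (BT.node 4190 (BT.node 4189 (BT.node 4188 (BT.leaf cT4188) (BT.leaf cT4189)) (BT.leaf cT4190)) (BT.node 4191 (BT.leaf cT4191) (BT.leaf cT4192))))))) (BT.node 4233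 (BT.node 4213 (BT.node 4203 (BT.node 4198 (BT.node 4195 (BT.node 4194 (BT.node 4193 (BT.leaf cT4193) (BT.leaf cT4194)) (BT.leaf cT4195)) (BT.node 4197 (BT.node 4196 (BT.leaf cT4196) (BT.leaf cT4197)) (BT.leaf cT4198))) (BT.node 4201 (BT.node 4200 (BT.node 4199 (BT.leaf cT4199) (BT.leaf cT4200)) (BT.leaf cT4201)) (BT.node 4202 (BT.leaf cT4202) (BT.leaf cT4203)))) (BT.node 4208 (BT.node 4206 (BT.node 4205 (BT.node 4204 (BT.leaf cT4204) (BT.leaf cT4205)) (BT.leaf cT4206)) (BT.node 4207 (BT.leaf cT4207) (BT.leaf cT4208))) (BT.node 4211 (BT.node 4210 (BT.node 4209 (BT.leaf cT4209) (BT.leaf cT4210)) (BT.leaf cT4211)) (BT.node 4212 (BT.leaf cT4212) (BT.leaf cT4213))))) (BT.node 4223 (BT.node 4218 (BT.node 4216 (BT.node 4215 (BT.node 4214 (BT.leaf cT4214) (BT.leaf cT4215)) (BT.leaf cT4216)) (BT.node 4217 (BT.leaf cT4217) (BT.leaf cT4218))) (BT.node 4221 (BT.node 4220 (BT.node 4219 (BT.leaf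 cT4219) (BT.leaf cT4220)) (BT.leaf cT4221)) (BT.node 4222 (BT.leaf cT4222) (BT.leaf cT4223)))) (BT.node 4228 (BT.node 4226 (BT.node 4225 (BT.node 4224 (BT.leaf cT4224) (BT.leaf cT4225)) (BT.leaf cT4226)) (BT.node 4227 (BT.leaf cT4227) (BT.leaf cT4228))) (BT.node 4231 (BT.node 4230 (BT.node 4229 (BT.leaf cT4229) (BT.leaf cT4230)) (BT.leaf cT4231)) (BT.node 4232 (BT.leaf cT4232) (BT.leaf cT4233)))))) (BT.node 4254 (BT.node 4244 (BT.node 4239 (BT.node 4236 (BT.node 4235 (BT.node 4234 (BT.leaf cT4234) (BT.leaf cT4235)) (BT.leaf cT4236)) (BT.node 4238 (BT.node 4237 (BT.leaf cT4237) (BT.leaf cT4238)) (BT.leaf cT4239))) (BT.node 4242 (BT.node 4241 (BT.node 4240 (BT.leaf cT4240) (BT.leaf cT4241)) (BT.leaf cT4242)) (BT.node 4243 (BT.leaf cT4243) (BT.leaf cT4244)))) (BT.node 4249 (BT.node 4247 (BT.node 4246 (BT.node 4245 (BT.leaf cT4245) (BT.leaf cT4246)) (BT.leaf cT4247)) (BT.node 4248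 (BT.leaf cT4248) (BT.leaf cT4249))) (BT.node 4252 (BT.node 4251 (BT.node 4250 (BT.leaf cT4250) (BT.leaf cT4251)) (BT.leaf cT4252)) (BT.node 4253 (BT.leaf cT4253) (BT.leaf cT4254))))) (BT.node 4264 (BT.node 4259 (BT.node 4257 (BT.node 4256 (BT.node 4255 (BT.leaf cT4255) (BT.leaf cT4256)) (BT.leaf cT4257)) (BT.node 4258 (BT.leaf cT4258) (BT.leaf cT4259))) (BT.node 4262 (BT.node 4261 (BT.node 4260 (BT.leaf cT4260) (BT.leaf cT4261)) (BT.leaf cT4262)) (BT.node 4263 (BT.leaf cT4263) (BT.leaf cT4264)))) (BT.node 4269 (BT.node 4267 (BT.node 4266 (BT.node 4265 (BT.leaf cT4265) (BT.leaf cT4266)) (BT.leaf cT4267)) (BT.node 4268 (BT.leaf cT4268) (BT.leaf cT4269))) (BT.node 4272 (BT.node 4271 (BT.node 4270 (BT.leaf cT4270) (BT.leaf cT4271)) (BT.leaf cT4272)) (BT.node 4273 (BT.leaf cT4273) (BT.leaf cT4274))))))))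
noncomputable def colTT_26 : BT ℕ := (BT.node 4357 (BT.node 4316 (BT.node 4295 (BT.node 4285 (BT.node 4280 (BT.node 4277 (BT.node 4276 (BT.node 4275 (BT.leaf cT4275) (BT.leaf cT4276)) (BT.leaf cT4277)) (BT.node 4279 (BT.node 4278 (BT.leaf cT4278) (BT.leaf cT4279)) (BT.leaf cT4280))) (BT.node 4283 (BT.node 4282 (BT.node 4281 (BT.leaf cT4281) (BT.leaf cT4282)) (BT.leaf cT4283)) (BT.node 4284 (BT.leaf cT4284) (BT.leaf cT4285)))) (BT.node 4290 (BT.node 4288 (BT.node 4287 (BT.node 4286 (BT.leaf cT4286) (BT.leaf cT4287)) (BT.leaf cT4288)) (BT.node 4289 (BT.leaf cT4289) (BT.leaf cT4290))) (BT.node 4293 (BT.node 4292 (BT.node 4291 (BT.leaf cT4291) (BT.leaf cT4292)) (BT.leaf cT4293)) (BT.node 4294 (BT.leaf cT4294) (BT.leaf cT4295))))) (BT.node 4306 (BT.node 4301 (BT.node 4298 (BT.node 4297 (BT.node 4296 (BT.leaf cT4296) (BT.leaf cT4297)) (BT.leaf cT4298)) (BT.node 4300 (BT.node 4299 (BT.leaf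 cT4299) (BT.leaf cT4300)) (BT.leaf cT4301))) (BT.node 4304 (BT.node 4303 (BT.node 4302 (BT.leaf cT4302) (BT.leaf cT4303)) (BT.leaf cT4304)) (BT.node 4305 (BT.leaf cT4305) (BT.leaf cT4306)))) (BT.node 4311 (BT.node 4309 (BT.node 4308 (BT.node 4307 (BT.leaf cT4307) (BT.leaf cT4308)) (BT.leaf cT4309)) (BT.node 4310 (BT.leaf cT4310) (BT.leaf cT4311))) (BT.node 4314 (BT.node 4313 (BT.node 4312 (BT.leaf cT4312) (BT.leaf cT4313)) (BT.leaf cT4314)) (BT.node 4315 (BT.leaf cT4315) (BT.leaf cT4316)))))) (BT.node 4337 (BT.node 4327 (BT.node 4322 (BT.node 4319 (BT.node 4318 (BT.node 4317 (BT.leaf cT4317) (BT.leaf cT4318)) (BT.leaf cT4319)) (BT.node 4321 (BT.node 4320 (BT.leaf cT4320) (BT.leaf cT4321)) (BT.leaf cT4322))) (BT.node 4325 (BT.node 4324 (BT.node 4323 (BT.leaf cT4323) (BT.leaf cT4324)) (BT.leaf cT4325)) (BT.node 4326 (BT.leaf cT4326) (BT.leaf cT4327)))) (BT.node 4332 (BT.node 4330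 (BT.node 4329 (BT.node 4328 (BT.leaf cT4328) (BT.leaf cT4329)) (BT.leaf cT4330)) (BT.node 4331 (BT.leaf cT4331) (BT.leaf cT4332))) (BT.node 4335 (BT.node 4334 (BT.node 4333 (BT.leaf cT4333) (BT.leaf cT4334)) (BT.leaf cT4335)) (BT.node 4336 (BT.leaf cT4336) (BT.leaf cT4337))))) (BT.node 4347 (BT.node 4342 (BT.node 4340 (BT.node 4339 (BT.node 4338 (BT.leaf cT4338) (BT.leaf cT4339)) (BT.leaf cT4340)) (BT.node 4341 (BT.leaf cT4341) (BT.leaf cT4342))) (BT.node 4345 (BT.node 4344 (BT.node 4343 (BT.leaf cT4343) (BT.leaf cT4344)) (BT.leaf cT4345)) (BT.node 4346 (BT.leaf cT4346) (BT.leaf cT4347)))) (BT.node 4352 (BT.node 4350 (BT.node 4349 (BT.node 4348 (BT.leaf cT4348) (BT.leaf cT4349)) (BT.leaf cT4350)) (BT.node 4351 (BT.leaf cT4351) (BT.leaf cT4352))) (BT.node 4355 (BT.node 4354 (BT.node 4353 (BT.leaf cT4353) (BT.leaf cT4354)) (BT.leaf cT4355)) (BT.node 4356 (BT.leaf cT4356) (BT.leaf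 cT4357))))))) (BT.node 4398 (BT.node 4378 (BT.node 4368 (BT.node 4363 (BT.node 4360 (BT.node 4359 (BT.node 4358 (BT.leaf cT4358) (BT.leaf cT4359)) (BT.leaf cT4360)) (BT.node 4362 (BT.node 4361 (BT.leaf cT4361) (BT.leaf cT4362)) (BT.leaf cT4363))) (BT.node 4366 (BT.node 4365 (BT.node 4364 (BT.leaf cT4364) (BT.leaf cT4365)) (BT.leaf cT4366)) (BT.node 4367 (BT.leaf cT4367) (BT.leaf cT4368)))) (BT.node 4373 (BT.node 4371 (BT.node 4370 (BT.node 4369 (BT.leaf cT4369) (BT.leaf cT4370)) (BT.leaf cT4371)) (BT.node 4372 (BT.leaf cT4372) (BT.leaf cT4373))) (BT.node 4376 (BT.node 4375 (BT.node 4374 (BT.leaf cT4374) (BT.leaf cT4375)) (BT.leaf cT4376)) (BT.node 4377 (BT.leaf cT4377) (BT.leaf cT4378))))) (BT.node 4388 (BT.node 4383 (BT.node 4381 (BT.node 4380 (BT.node 4379 (BT.leaf cT4379) (BT.leaf cT4380)) (BT.leaf cT4381)) (BT.node 4382 (BT.leaf cT4382) (BT.leaf cT4383))) (BT.node 4386 (BT.node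 4385 (BT.node 4384 (BT.leaf cT4384) (BT.leaf cT4385)) (BT.leaf cT4386)) (BT.node 4387 (BT.leaf cT4387) (BT.leaf cT4388)))) (BT.node 4393 (BT.node 4391 (BT.node 4390 (BT.node 4389 (BT.leaf cT4389) (BT.leaf cT4390)) (BT.leaf cT4391)) (BT.node 4392 (BT.leaf cT4392) (BT.leaf cT4393))) (BT.node 4396 (BT.node 4395 (BT.node 4394 (BT.leaf cT4394) (BT.leaf cT4395)) (BT.leaf cT4396)) (BT.node 4397 (BT.leaf cT4397) (BT.leaf cT4398)))))) (BT.node 4419 (BT.node 4409 (BT.node 4404 (BT.node 4401 (BT.node 4400 (BT.node 4399 (BT.leaf cT4399) (BT.leaf cT4400)) (BT.leaf cT4401)) (BT.node 4403 (BT.node 4402 (BT.leaf cT4402) (BT.leaf cT4403)) (BT.leaf cT4404))) (BT.node 4407 (BT.node 4406 (BT.node 4405 (BT.leaf cT4405) (BT.leaf cT4406)) (BT.leaf cT4407)) (BT.node 4408 (BT.leaf cT4408) (BT.leaf cT4409)))) (BT.node 4414 (BT.node 4412 (BT.node 4411 (BT.node 4410 (BT.leaf cT4410) (BT.leaf cT4411)) (BT.leaf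 cT4412)) (BT.node 4413 (BT.leaf cT4413) (BT.leaf cT4414))) (BT.node 4417 (BT.node 4416 (BT.node 4415 (BT.leaf cT4415) (BT.leaf cT4416)) (BT.leaf cT4417)) (BT.node 4418 (BT.leaf cT4418) (BT.leaf cT4419))))) (BT.node 4429 (BT.node 4424 (BT.node 4422 (BT.node 4421 (BT.node 4420 (BT.leaf cT4420) (BT.leaf cT4421)) (BT.leaf cT4422)) (BT.node 4423 (BT.leaf cT4423) (BT.leaf cT4424))) (BT.node 4427 (BT.node 4426 (BT.node 4425 (BT.leaf cT4425) (BT.leaf cT4426)) (BT.leaf cT4427)) (BT.node 4428 (BT.leaf cT4428) (BT.leaf cT4429)))) (BT.node 4434 (BT.node 4432 (BT.node 4431 (BT.node 4430 (BT.leaf cT4430) (BT.leaf cT4431)) (BT.leaf cT4432)) (BT.node 4433 (BT.leaf cT4433) (BT.leaf cT4434))) (BT.node 4437 (BT.node 4436 (BT.node 4435 (BT.leaf cT4435) (BT.leaf cT4436)) (BT.leaf cT4437)) (BT.node 4438 (BT.leaf cT4438) (BT.leaf cT4439))))))))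
noncomputable def colTT_27 : BT ℕ := (BT.node 4521 (BT.node 4480 (BT.node 4460 (BT.node 4450 (BT.node 4445 (BT.node 4442 (BT.node 4441 (BT.node 4440 (BT.leaf cT4440) (BT.leaf cT4441)) (BT.leaf cT4442)) (BT.node 4444 (BT.node 4443 (BT.leaf cT4443) (BT.leaf cT4444)) (BT.leaf cT4445))) (BT.node 4448 (BT.node 4447 (BT.node 4446 (BT.leaf cT4446) (BT.leaf cT4447)) (BT.leaf cT4448)) (BT.node 4449 (BT.leaf cT4449) (BT.leaf cT4450)))) (BT.node 4455 (BT.node 4453 (BT.node 4452 (BT.node 4451 (BT.leaf cT4451) (BT.leaf cT4452)) (BT.leaf cT4453)) (BT.node 4454 (BT.leaf cT4454) (BT.leaf cT4455))) (BT.node 4458 (BT.node 4457 (BT.node 4456 (BT.leaf cT4456) (BT.leaf cT4457)) (BT.leaf cT4458)) (BT.node 4459 (BT.leaf cT4459) (BT.leaf cT4460))))) (BT.node 4470 (BT.node 4465 (BT.node 4463 (BT.node 4462 (BT.node 4461 (BT.leaf cT4461) (BT.leaf cT4462)) (BT.leaf cT4463)) (BT.node 4464 (BT.leaf cT4464)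 (BT.leaf cT4465))) (BT.node 4468 (BT.node 4467 (BT.node 4466 (BT.leaf cT4466) (BT.leaf cT4467)) (BT.leaf cT4468)) (BT.node 4469 (BT.leaf cT4469) (BT.leaf cT4470)))) (BT.node 4475 (BT.node 4473 (BT.node 4472 (BT.node 4471 (BT.leaf cT4471) (BT.leaf cT4472)) (BT.leaf cT4473)) (BT.node 4474 (BT.leaf cT4474) (BT.leaf cT4475))) (BT.node 4478 (BT.node 4477 (BT.node 4476 (BT.leaf cT4476) (BT.leaf cT4477)) (BT.leaf cT4478)) (BT.node 4479 (BT.leaf cT4479) (BT.leaf cT4480)))))) (BT.node 4501 (BT.node 4491 (BT.node 4486 (BT.node 4483 (BT.node 4482 (BT.node 4481 (BT.leaf cT4481) (BT.leaf cT4482)) (BT.leaf cT4483)) (BT.node 4485 (BT.node 4484 (BT.leaf cT4484) (BT.leaf cT4485)) (BT.leaf cT4486))) (BT.node 4489 (BT.node 4488 (BT.node 4487 (BT.leaf cT4487) (BT.leaf cT4488)) (BT.leaf cT4489)) (BT.node 4490 (BT.leaf cT4490) (BT.leaf cT4491)))) (BT.node 4496 (BT.node 4494 (BT.node 4493 (BT.node 4492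 (BT.leaf cT4492) (BT.leaf cT4493)) (BT.leaf cT4494)) (BT.node 4495 (BT.leaf cT4495) (BT.leaf cT4496))) (BT.node 4499 (BT.node 4498 (BT.node 4497 (BT.leaf cT4497) (BT.leaf cT4498)) (BT.leaf cT4499)) (BT.node 4500 (BT.leaf cT4500) (BT.leaf cT4501))))) (BT.node 4511 (BT.node 4506 (BT.node 4504 (BT.node 4503 (BT.node 4502 (BT.leaf cT4502) (BT.leaf cT4503)) (BT.leaf cT4504)) (BT.node 4505 (BT.leaf cT4505) (BT.leaf cT4506))) (BT.node 4509 (BT.node 4508 (BT.node 4507 (BT.leaf cT4507) (BT.leaf cT4508)) (BT.leaf cT4509)) (BT.node 4510 (BT.leaf cT4510) (BT.leaf cT4511)))) (BT.node 4516 (BT.node 4514 (BT.node 4513 (BT.node 4512 (BT.leaf cT4512) (BT.leaf cT4513)) (BT.leaf cT4514)) (BT.node 4515 (BT.leaf cT4515) (BT.leaf cT4516))) (BT.node 4519 (BT.node 4518 (BT.node 4517 (BT.leaf cT4517) (BT.leaf cT4518)) (BT.leaf cT4519)) (BT.node 4520 (BT.leaf cT4520) (BT.leaf cT4521))))))) (BT.node 4562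 (BT.node 4542 (BT.node 4532 (BT.node 4527 (BT.node 4524 (BT.node 4523 (BT.node 4522 (BT.leaf cT4522) (BT.leaf cT4523)) (BT.leaf cT4524)) (BT.node 4526 (BT.node 4525 (BT.leaf cT4525) (BT.leaf cT4526)) (BT.leaf cT4527))) (BT.node 4530 (BT.node 4529 (BT.node 4528 (BT.leaf cT4528) (BT.leaf cT4529)) (BT.leaf cT4530)) (BT.node 4531 (BT.leaf cT4531) (BT.leaf cT4532)))) (BT.node 4537 (BT.node 4535 (BT.node 4534 (BT.node 4533 (BT.leaf cT4533) (BT.leaf cT4534)) (BT.leaf cT4535)) (BT.node 4536 (BT.leaf cT4536) (BT.leaf cT4537))) (BT.node 4540 (BT.node 4539 (BT.node 4538 (BT.leaf cT4538) (BT.leaf cT4539)) (BT.leaf cT4540)) (BT.node 4541 (BT.leaf cT4541) (BT.leaf cT4542))))) (BT.node 4552 (BT.node 4547 (BT.node 4545 (BT.node 4544 (BT.node 4543 (BT.leaf cT4543) (BT.leaf cT4544)) (BT.leaf cT4545)) (BT.node 4546 (BT.leaf cT4546) (BT.leaf cT4547))) (BT.node 4550 (BT.node 4549 (BT.node 4548 (BT.leaf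 cT4548) (BT.leaf cT4549)) (BT.leaf cT4550)) (BT.node 4551 (BT.leaf cT4551) (BT.leaf cT4552)))) (BT.node 4557 (BT.node 4555 (BT.node 4554 (BT.node 4553 (BT.leaf cT4553) (BT.leaf cT4554)) (BT.leaf cT4555)) (BT.node 4556 (BT.leaf cT4556) (BT.leaf cT4557))) (BT.node 4560 (BT.node 4559 (BT.node 4558 (BT.leaf cT4558) (BT.leaf cT4559)) (BT.leaf cT4560)) (BT.node 4561 (BT.leaf cT4561) (BT.leaf cT4562)))))) (BT.node 4583 (BT.node 4573 (BT.node 4568 (BT.node 4565 (BT.node 4564 (BT.node 4563 (BT.leaf cT4563) (BT.leaf cT4564)) (BT.leaf cT4565)) (BT.node 4567 (BT.node 4566 (BT.leaf cT4566) (BT.leaf cT4567)) (BT.leaf cT4568))) (BT.node 4571 (BT.node 4570 (BT.node 4569 (BT.leaf cT4569) (BT.leaf cT4570)) (BT.leaf cT4571)) (BT.node 4572 (BT.leaf cT4572) (BT.leaf cT4573)))) (BT.node 4578 (BT.node 4576 (BT.node 4575 (BT.node 4574 (BT.leaf cT4574) (BT.leaf cT4575)) (BT.leaf cT4576)) (BT.node 4577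 (BT.leaf cT4577) (BT.leaf cT4578))) (BT.node 4581 (BT.node 4580 (BT.node 4579 (BT.leaf cT4579) (BT.leaf cT4580)) (BT.leaf cT4581)) (BT.node 4582 (BT.leaf cT4582) (BT.leaf cT4583))))) (BT.node 4593 (BT.node 4588 (BT.node 4586 (BT.node 4585 (BT.node 4584 (BT.leaf cT4584) (BT.leaf cT4585)) (BT.leaf cT4586)) (BT.node 4587 (BT.leaf cT4587) (BT.leaf cT4588))) (BT.node 4591 (BT.node 4590 (BT.node 4589 (BT.leaf cT4589) (BT.leaf cT4590)) (BT.leaf cT4591)) (BT.node 4592 (BT.leaf cT4592) (BT.leaf cT4593)))) (BT.node 4598 (BT.node 4596 (BT.node 4595 (BT.node 4594 (BT.leaf cT4594) (BT.leaf cT4595)) (BT.leaf cT4596)) (BT.node 4597 (BT.leaf cT4597) (BT.leaf cT4598))) (BT.node 4601 (BT.node 4600 (BT.node 4599 (BT.leaf cT4599) (BT.leaf cT4600)) (BT.leaf cT4601)) (BT.node 4602 (BT.leaf cT4602) (BT.leaf cT4603))))))))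
noncomputable def colTT_28 : BT ℕ := (BT.node 4686 (BT.node 4645 (BT.node 4624 (BT.node 4614 (BT.node 4609 (BT.node 4606 (BT.node 4605 (BT.node 4604 (BT.leaf cT4604) (BT.leaf cT4605)) (BT.leaf cT4606)) (BT.node 4608 (BT.node 4607 (BT.leaf cT4607) (BT.leaf cT4608)) (BT.leaf cT4609))) (BT.node 4612 (BT.node 4611 (BT.node 4610 (BT.leaf cT4610) (BT.leaf cT4611)) (BT.leaf cT4612)) (BT.node 4613 (BT.leaf cT4613) (BT.leaf cT4614)))) (BT.node 4619 (BT.node 4617 (BT.node 4616 (BT.node 4615 (BT.leaf cT4615) (BT.leaf cT4616)) (BT.leaf cT4617)) (BT.node 4618 (BT.leaf cT4618) (BT.leaf cT4619))) (BT.node 4622 (BT.node 4621 (BT.node 4620 (BT.leaf cT4620) (BT.leaf cT4621)) (BT.leaf cT4622)) (BT.node 4623 (BT.leaf cT4623) (BT.leaf cT4624))))) (BT.node 4635 (BT.node 4630 (BT.node 4627 (BT.node 4626 (BT.node 4625 (BT.leaf cT4625) (BT.leaf cT4626)) (BT.leaf cT4627)) (BT.node 4629 (BT.node 4628 (BT.leaf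 cT4628) (BT.leaf cT4629)) (BT.leaf cT4630))) (BT.node 4633 (BT.node 4632 (BT.node 4631 (BT.leaf cT4631) (BT.leaf cT4632)) (BT.leaf cT4633)) (BT.node 4634 (BT.leaf cT4634) (BT.leaf cT4635)))) (BT.node 4640 (BT.node 4638 (BT.node 4637 (BT.node 4636 (BT.leaf cT4636) (BT.leaf cT4637)) (BT.leaf cT4638)) (BT.node 4639 (BT.leaf cT4639) (BT.leaf cT4640))) (BT.node 4643 (BT.node 4642 (BT.node 4641 (BT.leaf cT4641) (BT.leaf cT4642)) (BT.leaf cT4643)) (BT.node 4644 (BT.leaf cT4644) (BT.leaf cT4645)))))) (BT.node 4666 (BT.node 4656 (BT.node 4651 (BT.node 4648 (BT.node 4647 (BT.node 4646 (BT.leaf cT4646) (BT.leaf cT4647)) (BT.leaf cT4648)) (BT.node 4650 (BT.node 4649 (BT.leaf cT4649) (BT.leaf cT4650)) (BT.leaf cT4651))) (BT.node 4654 (BT.node 4653 (BT.node 4652 (BT.leaf cT4652) (BT.leaf cT4653)) (BT.leaf cT4654)) (BT.node 4655 (BT.leaf cT4655) (BT.leaf cT4656)))) (BT.node 4661 (BT.node 4659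 (BT.node 4658 (BT.node 4657 (BT.leaf cT4657) (BT.leaf cT4658)) (BT.leaf cT4659)) (BT.node 4660 (BT.leaf cT4660) (BT.leaf cT4661))) (BT.node 4664 (BT.node 4663 (BT.node 4662 (BT.leaf cT4662) (BT.leaf cT4663)) (BT.leaf cT4664)) (BT.node 4665 (BT.leaf cT4665) (BT.leaf cT4666))))) (BT.node 4676 (BT.node 4671 (BT.node 4669 (BT.node 4668 (BT.node 4667 (BT.leaf cT4667) (BT.leaf cT4668)) (BT.leaf cT4669)) (BT.node 4670 (BT.leaf cT4670) (BT.leaf cT4671))) (BT.node 4674 (BT.node 4673 (BT.node 4672 (BT.leaf cT4672) (BT.leaf cT4673)) (BT.leaf cT4674)) (BT.node 4675 (BT.leaf cT4675) (BT.leaf cT4676)))) (BT.node 4681 (BT.node 4679 (BT.node 4678 (BT.node 4677 (BT.leaf cT4677) (BT.leaf cT4678)) (BT.leaf cT4679)) (BT.node 4680 (BT.leaf cT4680) (BT.leaf cT4681))) (BT.node 4684 (BT.node 4683 (BT.node 4682 (BT.leaf cT4682) (BT.leaf cT4683)) (BT.leaf cT4684)) (BT.node 4685 (BT.leaf cT4685) (BT.leaf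 cT4686))))))) (BT.node 4727 (BT.node 4707 (BT.node 4697 (BT.node 4692 (BT.node 4689 (BT.node 4688 (BT.node 4687 (BT.leaf cT4687) (BT.leaf cT4688)) (BT.leaf cT4689)) (BT.node 4691 (BT.node 4690 (BT.leaf cT4690) (BT.leaf cT4691)) (BT.leaf cT4692))) (BT.node 4695 (BT.node 4694 (BT.node 4693 (BT.leaf cT4693) (BT.leaf cT4694)) (BT.leaf cT4695)) (BT.node 4696 (BT.leaf cT4696) (BT.leaf cT4697)))) (BT.node 4702 (BT.node 4700 (BT.node 4699 (BT.node 4698 (BT.leaf cT4698) (BT.leaf cT4699)) (BT.leaf cT4700)) (BT.node 4701 (BT.leaf cT4701) (BT.leaf cT4702))) (BT.node 4705 (BT.node 4704 (BT.node 4703 (BT.leaf cT4703) (BT.leaf cT4704)) (BT.leaf cT4705)) (BT.node 4706 (BT.leaf cT4706) (BT.leaf cT4707))))) (BT.node 4717 (BT.node 4712 (BT.node 4710 (BT.node 4709 (BT.node 4708 (BT.leaf cT4708) (BT.leaf cT4709)) (BT.leaf cT4710)) (BT.node 4711 (BT.leaf cT4711) (BT.leaf cT4712))) (BT.node 4715 (BT.node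 4714 (BT.node 4713 (BT.leaf cT4713) (BT.leaf cT4714)) (BT.leaf cT4715)) (BT.node 4716 (BT.leaf cT4716) (BT.leaf cT4717)))) (BT.node 4722 (BT.node 4720 (BT.node 4719 (BT.node 4718 (BT.leaf cT4718) (BT.leaf cT4719)) (BT.leaf cT4720)) (BT.node 4721 (BT.leaf cT4721) (BT.leaf cT4722))) (BT.node 4725 (BT.node 4724 (BT.node 4723 (BT.leaf cT4723) (BT.leaf cT4724)) (BT.leaf cT4725)) (BT.node 4726 (BT.leaf cT4726) (BT.leaf cT4727)))))) (BT.node 4748 (BT.node 4738 (BT.node 4733 (BT.node 4730 (BT.node 4729 (BT.node 4728 (BT.leaf cT4728) (BT.leaf cT4729)) (BT.leaf cT4730)) (BT.node 4732 (BT.node 4731 (BT.leaf cT4731) (BT.leaf cT4732)) (BT.leaf cT4733))) (BT.node 4736 (BT.node 4735 (BT.node 4734 (BT.leaf cT4734) (BT.leaf cT4735)) (BT.leaf cT4736)) (BT.node 4737 (BT.leaf cT4737) (BT.leaf cT4738)))) (BT.node 4743 (BT.node 4741 (BT.node 4740 (BT.node 4739 (BT.leaf cT4739) (BT.leaf cT4740)) (BT.leaf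 cT4741)) (BT.node 4742 (BT.leaf cT4742) (BT.leaf cT4743))) (BT.node 4746 (BT.node 4745 (BT.node 4744 (BT.leaf cT4744) (BT.leaf cT4745)) (BT.leaf cT4746)) (BT.node 4747 (BT.leaf cT4747) (BT.leaf cT4748))))) (BT.node 4758 (BT.node 4753 (BT.node 4751 (BT.node 4750 (BT.node 4749 (BT.leaf cT4749) (BT.leaf cT4750)) (BT.leaf cT4751)) (BT.node 4752 (BT.leaf cT4752) (BT.leaf cT4753))) (BT.node 4756 (BT.node 4755 (BT.node 4754 (BT.leaf cT4754) (BT.leaf cT4755)) (BT.leaf cT4756)) (BT.node 4757 (BT.leaf cT4757) (BT.leaf cT4758)))) (BT.node 4763 (BT.node 4761 (BT.node 4760 (BT.node 4759 (BT.leaf cT4759) (BT.leaf cT4760)) (BT.leaf cT4761)) (BT.node 4762 (BT.leaf cT4762) (BT.leaf cT4763))) (BT.node 4766 (BT.node 4765 (BT.node 4764 (BT.leaf cT4764) (BT.leaf cT4765)) (BT.leaf cT4766)) (BT.node 4767 (BT.leaf cT4767) (BT.leaf cT4768))))))))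
noncomputable def colTT_29 : BT ℕ := (BT.node 4850 (BT.node 4809 (BT.node 4789 (BT.node 4779 (BT.node 4774 (BT.node 4771 (BT.node 4770 (BT.node 4769 (BT.leaf cT4769) (BT.leaf cT4770)) (BT.leaf cT4771)) (BT.node 4773 (BT.node 4772 (BT.leaf cT4772) (BT.leaf cT4773)) (BT.leaf cT4774))) (BT.node 4777 (BT.node 4776 (BT.node 4775 (BT.leaf cT4775) (BT.leaf cT4776)) (BT.leaf cT4777)) (BT.node 4778 (BT.leaf cT4778) (BT.leaf cT4779)))) (BT.node 4784 (BT.node 4782 (BT.node 4781 (BT.node 4780 (BT.leaf cT4780) (BT.leaf cT4781)) (BT.leaf cT4782)) (BT.node 4783 (BT.leaf cT4783) (BT.leaf cT4784))) (BT.node 4787 (BT.node 4786 (BT.node 4785 (BT.leaf cT4785) (BT.leaf cT4786)) (BT.leaf cT4787)) (BT.node 4788 (BT.leaf cT4788) (BT.leaf cT4789))))) (BT.node 4799 (BT.node 4794 (BT.node 4792 (BT.node 4791 (BT.node 4790 (BT.leaf cT4790) (BT.leaf cT4791)) (BT.leaf cT4792)) (BT.node 4793 (BT.leaf cT4793)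 (BT.leaf cT4794))) (BT.node 4797 (BT.node 4796 (BT.node 4795 (BT.leaf cT4795) (BT.leaf cT4796)) (BT.leaf cT4797)) (BT.node 4798 (BT.leaf cT4798) (BT.leaf cT4799)))) (BT.node 4804 (BT.node 4802 (BT.node 4801 (BT.node 4800 (BT.leaf cT4800) (BT.leaf cT4801)) (BT.leaf cT4802)) (BT.node 4803 (BT.leaf cT4803) (BT.leaf cT4804))) (BT.node 4807 (BT.node 4806 (BT.node 4805 (BT.leaf cT4805) (BT.leaf cT4806)) (BT.leaf cT4807)) (BT.node 4808 (BT.leaf cT4808) (BT.leaf cT4809)))))) (BT.node 4830 (BT.node 4820 (BT.node 4815 (BT.node 4812 (BT.node 4811 (BT.node 4810 (BT.leaf cT4810) (BT.leaf cT4811)) (BT.leaf cT4812)) (BT.node 4814 (BT.node 4813 (BT.leaf cT4813) (BT.leaf cT4814)) (BT.leaf cT4815))) (BT.node 4818 (BT.node 4817 (BT.node 4816 (BT.leaf cT4816) (BT.leaf cT4817)) (BT.leaf cT4818)) (BT.node 4819 (BT.leaf cT4819) (BT.leaf cT4820)))) (BT.node 4825 (BT.node 4823 (BT.node 4822 (BT.node 4821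 (BT.leaf cT4821) (BT.leaf cT4822)) (BT.leaf cT4823)) (BT.node 4824 (BT.leaf cT4824) (BT.leaf cT4825))) (BT.node 4828 (BT.node 4827 (BT.node 4826 (BT.leaf cT4826) (BT.leaf cT4827)) (BT.leaf cT4828)) (BT.node 4829 (BT.leaf cT4829) (BT.leaf cT4830))))) (BT.node 4840 (BT.node 4835 (BT.node 4833 (BT.node 4832 (BT.node 4831 (BT.leaf cT4831) (BT.leaf cT4832)) (BT.leaf cT4833)) (BT.node 4834 (BT.leaf cT4834) (BT.leaf cT4835))) (BT.node 4838 (BT.node 4837 (BT.node 4836 (BT.leaf cT4836) (BT.leaf cT4837)) (BT.leaf cT4838)) (BT.node 4839 (BT.leaf cT4839) (BT.leaf cT4840)))) (BT.node 4845 (BT.node 4843 (BT.node 4842 (BT.node 4841 (BT.leaf cT4841) (BT.leaf cT4842)) (BT.leaf cT4843)) (BT.node 4844 (BT.leaf cT4844) (BT.leaf cT4845))) (BT.node 4848 (BT.node 4847 (BT.node 4846 (BT.leaf cT4846) (BT.leaf cT4847)) (BT.leaf cT4848)) (BT.node 4849 (BT.leaf cT4849) (BT.leaf cT4850))))))) (BT.node 4891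 (BT.node 4871 (BT.node 4861 (BT.node 4856 (BT.node 4853 (BT.node 4852 (BT.node 4851 (BT.leaf cT4851) (BT.leaf cT4852)) (BT.leaf cT4853)) (BT.node 4855 (BT.node 4854 (BT.leaf cT4854) (BT.leaf cT4855)) (BT.leaf cT4856))) (BT.node 4859 (BT.node 4858 (BT.node 4857 (BT.leaf cT4857) (BT.leaf cT4858)) (BT.leaf cT4859)) (BT.node 4860 (BT.leaf cT4860) (BT.leaf cT4861)))) (BT.node 4866 (BT.node 4864 (BT.node 4863 (BT.node 4862 (BT.leaf cT4862) (BT.leaf cT4863)) (BT.leaf cT4864)) (BT.node 4865 (BT.leaf cT4865) (BT.leaf cT4866))) (BT.node 4869 (BT.node 4868 (BT.node 4867 (BT.leaf cT4867) (BT.leaf cT4868)) (BT.leaf cT4869)) (BT.node 4870 (BT.leaf cT4870) (BT.leaf cT4871))))) (BT.node 4881 (BT.node 4876 (BT.node 4874 (BT.node 4873 (BT.node 4872 (BT.leaf cT4872) (BT.leaf cT4873)) (BT.leaf cT4874)) (BT.node 4875 (BT.leaf cT4875) (BT.leaf cT4876))) (BT.node 4879 (BT.node 4878 (BT.node 4877 (BT.leaf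 cT4877) (BT.leaf cT4878)) (BT.leaf cT4879)) (BT.node 4880 (BT.leaf cT4880) (BT.leaf cT4881)))) (BT.node 4886 (BT.node 4884 (BT.node 4883 (BT.node 4882 (BT.leaf cT4882) (BT.leaf cT4883)) (BT.leaf cT4884)) (BT.node 4885 (BT.leaf cT4885) (BT.leaf cT4886))) (BT.node 4889 (BT.node 4888 (BT.node 4887 (BT.leaf cT4887) (BT.leaf cT4888)) (BT.leaf cT4889)) (BT.node 4890 (BT.leaf cT4890) (BT.leaf cT4891)))))) (BT.node 4912 (BT.node 4902 (BT.node 4897 (BT.node 4894 (BT.node 4893 (BT.node 4892 (BT.leaf cT4892) (BT.leaf cT4893)) (BT.leaf cT4894)) (BT.node 4896 (BT.node 4895 (BT.leaf cT4895) (BT.leaf cT4896)) (BT.leaf cT4897))) (BT.node 4900 (BT.node 4899 (BT.node 4898 (BT.leaf cT4898) (BT.leaf cT4899)) (BT.leaf cT4900)) (BT.node 4901 (BT.leaf cT4901) (BT.leaf cT4902)))) (BT.node 4907 (BT.node 4905 (BT.node 4904 (BT.node 4903 (BT.leaf cT4903) (BT.leaf cT4904)) (BT.leaf cT4905)) (BT.node 4906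 (BT.leaf cT4906) (BT.leaf cT4907))) (BT.node 4910 (BT.node 4909 (BT.node 4908 (BT.leaf cT4908) (BT.leaf cT4909)) (BT.leaf cT4910)) (BT.node 4911 (BT.leaf cT4911) (BT.leaf cT4912))))) (BT.node 4922 (BT.node 4917 (BT.node 4915 (BT.node 4914 (BT.node 4913 (BT.leaf cT4913) (BT.leaf cT4914)) (BT.leaf cT4915)) (BT.node 4916 (BT.leaf cT4916) (BT.leaf cT4917))) (BT.node 4920 (BT.node 4919 (BT.node 4918 (BT.leaf cT4918) (BT.leaf cT4919)) (BT.leaf cT4920)) (BT.node 4921 (BT.leaf cT4921) (BT.leaf cT4922)))) (BT.node 4927 (BT.node 4925 (BT.node 4924 (BT.node 4923 (BT.leaf cT4923) (BT.leaf cT4924)) (BT.leaf cT4925)) (BT.node 4926 (BT.leaf cT4926) (BT.leaf cT4927))) (BT.node 4930 (BT.node 4929 (BT.node 4928 (BT.leaf cT4928) (BT.leaf cT4929)) (BT.leaf cT4930)) (BT.node 4931 (BT.leaf cT4931) (BT.leaf cT4932))))))))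
noncomputable def colTT_30 : BT ℕ := (BT.node 5014 (BT.node 4973 (BT.node 4953 (BT.node 4943 (BT.node 4938 (BT.node 4935 (BT.node 4934 (BT.node 4933 (BT.leaf cT4933) (BT.leaf cT4934)) (BT.leaf cT4935)) (BT.node 4937 (BT.node 4936 (BT.leaf cT4936) (BT.leaf cT4937)) (BT.leaf cT4938))) (BT.node 4941 (BT.node 4940 (BT.node 4939 (BT.leaf cT4939) (BT.leaf cT4940)) (BT.leaf cT4941)) (BT.node 4942 (BT.leaf cT4942) (BT.leaf cT4943)))) (BT.node 4948 (BT.node 4946 (BT.node 4945 (BT.node 4944 (BT.leaf cT4944) (BT.leaf cT4945)) (BT.leaf cT4946)) (BT.node 4947 (BT.leaf cT4947) (BT.leaf cT4948))) (BT.node 4951 (BT.node 4950 (BT.node 4949 (BT.leaf cT4949) (BT.leaf cT4950)) (BT.leaf cT4951)) (BT.node 4952 (BT.leaf cT4952) (BT.leaf cT4953))))) (BT.node 4963 (BT.node 4958 (BT.node 4956 (BT.node 4955 (BT.node 4954 (BT.leaf cT4954) (BT.leaf cT4955)) (BT.leaf cT4956)) (BT.node 4957 (BT.leaf cT4957)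 (BT.leaf cT4958))) (BT.node 4961 (BT.node 4960 (BT.node 4959 (BT.leaf cT4959) (BT.leaf cT4960)) (BT.leaf cT4961)) (BT.node 4962 (BT.leaf cT4962) (BT.leaf cT4963)))) (BT.node 4968 (BT.node 4966 (BT.node 4965 (BT.node 4964 (BT.leaf cT4964) (BT.leaf cT4965)) (BT.leaf cT4966)) (BT.node 4967 (BT.leaf cT4967) (BT.leaf cT4968))) (BT.node 4971 (BT.node 4970 (BT.node 4969 (BT.leaf cT4969) (BT.leaf cT4970)) (BT.leaf cT4971)) (BT.node 4972 (BT.leaf cT4972) (BT.leaf cT4973)))))) (BT.node 4994 (BT.node 4984 (BT.node 4979 (BT.node 4976 (BT.node 4975 (BT.node 4974 (BT.leaf cT4974) (BT.leaf cT4975)) (BT.leaf cT4976)) (BT.node 4978 (BT.node 4977 (BT.leaf cT4977) (BT.leaf cT4978)) (BT.leaf cT4979))) (BT.node 4982 (BT.node 4981 (BT.node 4980 (BT.leaf cT4980) (BT.leaf cT4981)) (BT.leaf cT4982)) (BT.node 4983 (BT.leaf cT4983) (BT.leaf cT4984)))) (BT.node 4989 (BT.node 4987 (BT.node 4986 (BT.node 4985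 (BT.leaf cT4985) (BT.leaf cT4986)) (BT.leaf cT4987)) (BT.node 4988 (BT.leaf cT4988) (BT.leaf cT4989))) (BT.node 4992 (BT.node 4991 (BT.node 4990 (BT.leaf cT4990) (BT.leaf cT4991)) (BT.leaf cT4992)) (BT.node 4993 (BT.leaf cT4993) (BT.leaf cT4994))))) (BT.node 5004 (BT.node 4999 (BT.node 4997 (BT.node 4996 (BT.node 4995 (BT.leaf cT4995) (BT.leaf cT4996)) (BT.leaf cT4997)) (BT.node 4998 (BT.leaf cT4998) (BT.leaf cT4999))) (BT.node 5002 (BT.node 5001 (BT.node 5000 (BT.leaf cT5000) (BT.leaf cT5001)) (BT.leaf cT5002)) (BT.node 5003 (BT.leaf cT5003) (BT.leaf cT5004)))) (BT.node 5009 (BT.node 5007 (BT.node 5006 (BT.node 5005 (BT.leaf cT5005) (BT.leaf cT5006)) (BT.leaf cT5007)) (BT.node 5008 (BT.leaf cT5008) (BT.leaf cT5009))) (BT.node 5012 (BT.node 5011 (BT.node 5010 (BT.leaf cT5010) (BT.leaf cT5011)) (BT.leaf cT5012)) (BT.node 5013 (BT.leaf cT5013) (BT.leaf cT5014))))))) (BT.node 5055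 (BT.node 5035 (BT.node 5025 (BT.node 5020 (BT.node 5017 (BT.node 5016 (BT.node 5015 (BT.leaf cT5015) (BT.leaf cT5016)) (BT.leaf cT5017)) (BT.node 5019 (BT.node 5018 (BT.leaf cT5018) (BT.leaf cT5019)) (BT.leaf cT5020))) (BT.node 5023 (BT.node 5022 (BT.node 5021 (BT.leaf cT5021) (BT.leaf cT5022)) (BT.leaf cT5023)) (BT.node 5024 (BT.leaf cT5024) (BT.leaf cT5025)))) (BT.node 5030 (BT.node 5028 (BT.node 5027 (BT.node 5026 (BT.leaf cT5026) (BT.leaf cT5027)) (BT.leaf cT5028)) (BT.node 5029 (BT.leaf cT5029) (BT.leaf cT5030))) (BT.node 5033 (BT.node 5032 (BT.node 5031 (BT.leaf cT5031) (BT.leaf cT5032)) (BT.leaf cT5033)) (BT.node 5034 (BT.leaf cT5034) (BT.leaf cT5035))))) (BT.node 5045 (BT.node 5040 (BT.node 5038 (BT.node 5037 (BT.node 5036 (BT.leaf cT5036) (BT.leaf cT5037)) (BT.leaf cT5038)) (BT.node 5039 (BT.leaf cT5039) (BT.leaf cT5040))) (BT.node 5043 (BT.node 5042 (BT.node 5041 (BT.leaf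 cT5041) (BT.leaf cT5042)) (BT.leaf cT5043)) (BT.node 5044 (BT.leaf cT5044) (BT.leaf cT5045)))) (BT.node 5050 (BT.node 5048 (BT.node 5047 (BT.node 5046 (BT.leaf cT5046) (BT.leaf cT5047)) (BT.leaf cT5048)) (BT.node 5049 (BT.leaf cT5049) (BT.leaf cT5050))) (BT.node 5053 (BT.node 5052 (BT.node 5051 (BT.leaf cT5051) (BT.leaf cT5052)) (BT.leaf cT5053)) (BT.node 5054 (BT.leaf cT5054) (BT.leaf cT5055)))))) (BT.node 5076 (BT.node 5066 (BT.node 5061 (BT.node 5058 (BT.node 5057 (BT.node 5056 (BT.leaf cT5056) (BT.leaf cT5057)) (BT.leaf cT5058)) (BT.node 5060 (BT.node 5059 (BT.leaf cT5059) (BT.leaf cT5060)) (BT.leaf cT5061))) (BT.node 5064 (BT.node 5063 (BT.node 5062 (BT.leaf cT5062) (BT.leaf cT5063)) (BT.leaf cT5064)) (BT.node 5065 (BT.leaf cT5065) (BT.leaf cT5066)))) (BT.node 5071 (BT.node 5069 (BT.node 5068 (BT.node 5067 (BT.leaf cT5067) (BT.leaf cT5068)) (BT.leaf cT5069)) (BT.node 5070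 (BT.leaf cT5070) (BT.leaf cT5071))) (BT.node 5074 (BT.node 5073 (BT.node 5072 (BT.leaf cT5072) (BT.leaf cT5073)) (BT.leaf cT5074)) (BT.node 5075 (BT.leaf cT5075) (BT.leaf cT5076))))) (BT.node 5086 (BT.node 5081 (BT.node 5079 (BT.node 5078 (BT.node 5077 (BT.leaf cT5077) (BT.leaf cT5078)) (BT.leaf cT5079)) (BT.node 5080 (BT.leaf cT5080) (BT.leaf cT5081))) (BT.node 5084 (BT.node 5083 (BT.node 5082 (BT.leaf cT5082) (BT.leaf cT5083)) (BT.leaf cT5084)) (BT.node 5085 (BT.leaf cT5085) (BT.leaf cT5086)))) (BT.node 5091 (BT.node 5089 (BT.node 5088 (BT.node 5087 (BT.leaf cT5087) (BT.leaf cT5088)) (BT.leaf cT5089)) (BT.node 5090 (BT.leaf cT5090) (BT.leaf cT5091))) (BT.node 5094 (BT.node 5093 (BT.node 5092 (BT.leaf cT5092) (BT.leaf cT5093)) (BT.leaf cT5094)) (BT.node 5095 (BT.leaf cT5095) (BT.leaf cT5096))))))))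
noncomputable def colTT_31 : BT ℕ := (BT.node 5178 (BT.node 5137 (BT.node 5117 (BT.node 5107 (BT.node 5102 (BT.node 5099 (BT.node 5098 (BT.node 5097 (BT.leaf cT5097) (BT.leaf cT5098)) (BT.leaf cT5099)) (BT.node 5101 (BT.node 5100 (BT.leaf cT5100) (BT.leaf cT5101)) (BT.leaf cT5102))) (BT.node 5105 (BT.node 5104 (BT.node 5103 (BT.leaf cT5103) (BT.leaf cT5104)) (BT.leaf cT5105)) (BT.node 5106 (BT.leaf cT5106) (BT.leaf cT5107)))) (BT.node 5112 (BT.node 5110 (BT.node 5109 (BT.node 5108 (BT.leaf cT5108) (BT.leaf cT5109)) (BT.leaf cT5110)) (BT.node 5111 (BT.leaf cT5111) (BT.leaf cT5112))) (BT.node 5115 (BT.node 5114 (BT.node 5113 (BT.leaf cT5113) (BT.leaf cT5114)) (BT.leaf cT5115)) (BT.node 5116 (BT.leaf cT5116) (BT.leaf cT5117))))) (BT.node 5127 (BT.node 5122 (BT.node 5120 (BT.node 5119 (BT.node 5118 (BT.leaf cT5118) (BT.leaf cT5119)) (BT.leaf cT5120)) (BT.node 5121 (BT.leaf cT5121)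 (BT.leaf cT5122))) (BT.node 5125 (BT.node 5124 (BT.node 5123 (BT.leaf cT5123) (BT.leaf cT5124)) (BT.leaf cT5125)) (BT.node 5126 (BT.leaf cT5126) (BT.leaf cT5127)))) (BT.node 5132 (BT.node 5130 (BT.node 5129 (BT.node 5128 (BT.leaf cT5128) (BT.leaf cT5129)) (BT.leaf cT5130)) (BT.node 5131 (BT.leaf cT5131) (BT.leaf cT5132))) (BT.node 5135 (BT.node 5134 (BT.node 5133 (BT.leaf cT5133) (BT.leaf cT5134)) (BT.leaf cT5135)) (BT.node 5136 (BT.leaf cT5136) (BT.leaf cT5137)))))) (BT.node 5158 (BT.node 5148 (BT.node 5143 (BT.node 5140 (BT.node 5139 (BT.node 5138 (BT.leaf cT5138) (BT.leaf cT5139)) (BT.leaf cT5140)) (BT.node 5142 (BT.node 5141 (BT.leaf cT5141) (BT.leaf cT5142)) (BT.leaf cT5143))) (BT.node 5146 (BT.node 5145 (BT.node 5144 (BT.leaf cT5144) (BT.leaf cT5145)) (BT.leaf cT5146)) (BT.node 5147 (BT.leaf cT5147) (BT.leaf cT5148)))) (BT.node 5153 (BT.node 5151 (BT.node 5150 (BT.node 5149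 (BT.leaf cT5149) (BT.leaf cT5150)) (BT.leaf cT5151)) (BT.node 5152 (BT.leaf cT5152) (BT.leaf cT5153))) (BT.node 5156 (BT.node 5155 (BT.node 5154 (BT.leaf cT5154) (BT.leaf cT5155)) (BT.leaf cT5156)) (BT.node 5157 (BT.leaf cT5157) (BT.leaf cT5158))))) (BT.node 5168 (BT.node 5163 (BT.node 5161 (BT.node 5160 (BT.node 5159 (BT.leaf cT5159) (BT.leaf cT5160)) (BT.leaf cT5161)) (BT.node 5162 (BT.leaf cT5162) (BT.leaf cT5163))) (BT.node 5166 (BT.node 5165 (BT.node 5164 (BT.leaf cT5164) (BT.leaf cT5165)) (BT.leaf cT5166)) (BT.node 5167 (BT.leaf cT5167) (BT.leaf cT5168)))) (BT.node 5173 (BT.node 5171 (BT.node 5170 (BT.node 5169 (BT.leaf cT5169) (BT.leaf cT5170)) (BT.leaf cT5171)) (BT.node 5172 (BT.leaf cT5172) (BT.leaf cT5173))) (BT.node 5176 (BT.node 5175 (BT.node 5174 (BT.leaf cT5174) (BT.leaf cT5175)) (BT.leaf cT5176)) (BT.node 5177 (BT.leaf cT5177) (BT.leaf cT5178))))))) (BT.node 5219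 (BT.node 5199 (BT.node 5189 (BT.node 5184 (BT.node 5181 (BT.node 5180 (BT.node 5179 (BT.leaf cT5179) (BT.leaf cT5180)) (BT.leaf cT5181)) (BT.node 5183 (BT.node 5182 (BT.leaf cT5182) (BT.leaf cT5183)) (BT.leaf cT5184))) (BT.node 5187 (BT.node 5186 (BT.node 5185 (BT.leaf cT5185) (BT.leaf cT5186)) (BT.leaf cT5187)) (BT.node 5188 (BT.leaf cT5188) (BT.leaf cT5189)))) (BT.node 5194 (BT.node 5192 (BT.node 5191 (BT.node 5190 (BT.leaf cT5190) (BT.leaf cT5191)) (BT.leaf cT5192)) (BT.node 5193 (BT.leaf cT5193) (BT.leaf cT5194))) (BT.node 5197 (BT.node 5196 (BT.node 5195 (BT.leaf cT5195) (BT.leaf cT5196)) (BT.leaf cT5197)) (BT.node 5198 (BT.leaf cT5198) (BT.leaf cT5199))))) (BT.node 5209 (BT.node 5204 (BT.node 5202 (BT.node 5201 (BT.node 5200 (BT.leaf cT5200) (BT.leaf cT5201)) (BT.leaf cT5202)) (BT.node 5203 (BT.leaf cT5203) (BT.leaf cT5204))) (BT.node 5207 (BT.node 5206 (BT.node 5205 (BT.leaf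 cT5205) (BT.leaf cT5206)) (BT.leaf cT5207)) (BT.node 5208 (BT.leaf cT5208) (BT.leaf cT5209)))) (BT.node 5214 (BT.node 5212 (BT.node 5211 (BT.node 5210 (BT.leaf cT5210) (BT.leaf cT5211)) (BT.leaf cT5212)) (BT.node 5213 (BT.leaf cT5213) (BT.leaf cT5214))) (BT.node 5217 (BT.node 5216 (BT.node 5215 (BT.leaf cT5215) (BT.leaf cT5216)) (BT.leaf cT5217)) (BT.node 5218 (BT.leaf cT5218) (BT.leaf cT5219)))))) (BT.node 5240 (BT.node 5230 (BT.node 5225 (BT.node 5222 (BT.node 5221 (BT.node 5220 (BT.leaf cT5220) (BT.leaf cT5221)) (BT.leaf cT5222)) (BT.node 5224 (BT.node 5223 (BT.leaf cT5223) (BT.leaf cT5224)) (BT.leaf cT5225))) (BT.node 5228 (BT.node 5227 (BT.node 5226 (BT.leaf cT5226) (BT.leaf cT5227)) (BT.leaf cT5228)) (BT.node 5229 (BT.leaf cT5229) (BT.leaf cT5230)))) (BT.node 5235 (BT.node 5233 (BT.node 5232 (BT.node 5231 (BT.leaf cT5231) (BT.leaf cT5232)) (BT.leaf cT5233)) (BT.node 5234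 (BT.leaf cT5234) (BT.leaf cT5235))) (BT.node 5238 (BT.node 5237 (BT.node 5236 (BT.leaf cT5236) (BT.leaf cT5237)) (BT.leaf cT5238)) (BT.node 5239 (BT.leaf cT5239) (BT.leaf cT5240))))) (BT.node 5250 (BT.node 5245 (BT.node 5243 (BT.node 5242 (BT.node 5241 (BT.leaf cT5241) (BT.leaf cT5242)) (BT.leaf cT5243)) (BT.node 5244 (BT.leaf cT5244) (BT.leaf cT5245))) (BT.node 5248 (BT.node 5247 (BT.node 5246 (BT.leaf cT5246) (BT.leaf cT5247)) (BT.leaf cT5248)) (BT.node 5249 (BT.leaf cT5249) (BT.leaf cT5250)))) (BT.node 5255 (BT.node 5253 (BT.node 5252 (BT.node 5251 (BT.leaf cT5251) (BT.leaf cT5252)) (BT.leaf cT5253)) (BT.node 5254 (BT.leaf cT5254) (BT.leaf cT5255))) (BT.node 5258 (BT.node 5257 (BT.node 5256 (BT.leaf cT5256) (BT.leaf cT5257)) (BT.leaf cT5258)) (BT.node 5259 (BT.leaf cT5259) (BT.leaf cT5260))))))))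
noncomputable def colTT_32 : BT ℕ := (BT.node 5343 (BT.node 5302 (BT.node 5281 (BT.node 5271 (BT.node 5266 (BT.node 5263 (BT.node 5262 (BT.node 5261 (BT.leaf cT5261) (BT.leaf cT5262)) (BT.leaf cT5263)) (BT.node 5265 (BT.node 5264 (BT.leaf cT5264) (BT.leaf cT5265)) (BT.leaf cT5266))) (BT.node 5269 (BT.node 5268 (BT.node 5267 (BT.leaf cT5267) (BT.leaf cT5268)) (BT.leaf cT5269)) (BT.node 5270 (BT.leaf cT5270) (BT.leaf cT5271)))) (BT.node 5276 (BT.node 5274 (BT.node 5273 (BT.node 5272 (BT.leaf cT5272) (BT.leaf cT5273)) (BT.leaf cT5274)) (BT.node 5275 (BT.leaf cT5275) (BT.leaf cT5276))) (BT.node 5279 (BT.node 5278 (BT.node 5277 (BT.leaf cT5277) (BT.leaf cT5278)) (BT.leaf cT5279)) (BT.node 5280 (BT.leaf cT5280) (BT.leaf cT5281))))) (BT.node 5292 (BT.node 5287 (BT.node 5284 (BT.node 5283 (BT.node 5282 (BT.leaf cT5282) (BT.leaf cT5283)) (BT.leaf cT5284)) (BT.node 5286 (BT.node 5285 (BT.leaf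 cT5285) (BT.leaf cT5286)) (BT.leaf cT5287))) (BT.node 5290 (BT.node 5289 (BT.node 5288 (BT.leaf cT5288) (BT.leaf cT5289)) (BT.leaf cT5290)) (BT.node 5291 (BT.leaf cT5291) (BT.leaf cT5292)))) (BT.node 5297 (BT.node 5295 (BT.node 5294 (BT.node 5293 (BT.leaf cT5293) (BT.leaf cT5294)) (BT.leaf cT5295)) (BT.node 5296 (BT.leaf cT5296) (BT.leaf cT5297))) (BT.node 5300 (BT.node 5299 (BT.node 5298 (BT.leaf cT5298) (BT.leaf cT5299)) (BT.leaf cT5300)) (BT.node 5301 (BT.leaf cT5301) (BT.leaf cT5302)))))) (BT.node 5323 (BT.node 5313 (BT.node 5308 (BT.node 5305 (BT.node 5304 (BT.node 5303 (BT.leaf cT5303) (BT.leaf cT5304)) (BT.leaf cT5305)) (BT.node 5307 (BT.node 5306 (BT.leaf cT5306) (BT.leaf cT5307)) (BT.leaf cT5308))) (BT.node 5311 (BT.node 5310 (BT.node 5309 (BT.leaf cT5309) (BT.leaf cT5310)) (BT.leaf cT5311)) (BT.node 5312 (BT.leaf cT5312) (BT.leaf cT5313)))) (BT.node 5318 (BT.node 5316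 (BT.node 5315 (BT.node 5314 (BT.leaf cT5314) (BT.leaf cT5315)) (BT.leaf cT5316)) (BT.node 5317 (BT.leaf cT5317) (BT.leaf cT5318))) (BT.node 5321 (BT.node 5320 (BT.node 5319 (BT.leaf cT5319) (BT.leaf cT5320)) (BT.leaf cT5321)) (BT.node 5322 (BT.leaf cT5322) (BT.leaf cT5323))))) (BT.node 5333 (BT.node 5328 (BT.node 5326 (BT.node 5325 (BT.node 5324 (BT.leaf cT5324) (BT.leaf cT5325)) (BT.leaf cT5326)) (BT.node 5327 (BT.leaf cT5327) (BT.leaf cT5328))) (BT.node 5331 (BT.node 5330 (BT.node 5329 (BT.leaf cT5329) (BT.leaf cT5330)) (BT.leaf cT5331)) (BT.node 5332 (BT.leaf cT5332) (BT.leaf cT5333)))) (BT.node 5338 (BT.node 5336 (BT.node 5335 (BT.node 5334 (BT.leaf cT5334) (BT.leaf cT5335)) (BT.leaf cT5336)) (BT.node 5337 (BT.leaf cT5337) (BT.leaf cT5338))) (BT.node 5341 (BT.node 5340 (BT.node 5339 (BT.leaf cT5339) (BT.leaf cT5340)) (BT.leaf cT5341)) (BT.node 5342 (BT.leaf cT5342) (BT.leaf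 cT5343))))))) (BT.node 5384 (BT.node 5364 (BT.node 5354 (BT.node 5349 (BT.node 5346 (BT.node 5345 (BT.node 5344 (BT.leaf cT5344) (BT.leaf cT5345)) (BT.leaf cT5346)) (BT.node 5348 (BT.node 5347 (BT.leaf cT5347) (BT.leaf cT5348)) (BT.leaf cT5349))) (BT.node 5352 (BT.node 5351 (BT.node 5350 (BT.leaf cT5350) (BT.leaf cT5351)) (BT.leaf cT5352)) (BT.node 5353 (BT.leaf cT5353) (BT.leaf cT5354)))) (BT.node 5359 (BT.node 5357 (BT.node 5356 (BT.node 5355 (BT.leaf cT5355) (BT.leaf cT5356)) (BT.leaf cT5357)) (BT.node 5358 (BT.leaf cT5358) (BT.leaf cT5359))) (BT.node 5362 (BT.node 5361 (BT.node 5360 (BT.leaf cT5360) (BT.leaf cT5361)) (BT.leaf cT5362)) (BT.node 5363 (BT.leaf cT5363) (BT.leaf cT5364))))) (BT.node 5374 (BT.node 5369 (BT.node 5367 (BT.node 5366 (BT.node 5365 (BT.leaf cT5365) (BT.leaf cT5366)) (BT.leaf cT5367)) (BT.node 5368 (BT.leaf cT5368) (BT.leaf cT5369))) (BT.node 5372 (BT.node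 5371 (BT.node 5370 (BT.leaf cT5370) (BT.leaf cT5371)) (BT.leaf cT5372)) (BT.node 5373 (BT.leaf cT5373) (BT.leaf cT5374)))) (BT.node 5379 (BT.node 5377 (BT.node 5376 (BT.node 5375 (BT.leaf cT5375) (BT.leaf cT5376)) (BT.leaf cT5377)) (BT.node 5378 (BT.leaf cT5378) (BT.leaf cT5379))) (BT.node 5382 (BT.node 5381 (BT.node 5380 (BT.leaf cT5380) (BT.leaf cT5381)) (BT.leaf cT5382)) (BT.node 5383 (BT.leaf cT5383) (BT.leaf cT5384)))))) (BT.node 5405 (BT.node 5395 (BT.node 5390 (BT.node 5387 (BT.node 5386 (BT.node 5385 (BT.leaf cT5385) (BT.leaf cT5386)) (BT.leaf cT5387)) (BT.node 5389 (BT.node 5388 (BT.leaf cT5388) (BT.leaf cT5389)) (BT.leaf cT5390))) (BT.node 5393 (BT.node 5392 (BT.node 5391 (BT.leaf cT5391) (BT.leaf cT5392)) (BT.leaf cT5393)) (BT.node 5394 (BT.leaf cT5394) (BT.leaf cT5395)))) (BT.node 5400 (BT.node 5398 (BT.node 5397 (BT.node 5396 (BT.leaf cT5396) (BT.leaf cT5397)) (BT.leaf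 cT5398)) (BT.node 5399 (BT.leaf cT5399) (BT.leaf cT5400))) (BT.node 5403 (BT.node 5402 (BT.node 5401 (BT.leaf cT5401) (BT.leaf cT5402)) (BT.leaf cT5403)) (BT.node 5404 (BT.leaf cT5404) (BT.leaf cT5405))))) (BT.node 5415 (BT.node 5410 (BT.node 5408 (BT.node 5407 (BT.node 5406 (BT.leaf cT5406) (BT.leaf cT5407)) (BT.leaf cT5408)) (BT.node 5409 (BT.leaf cT5409) (BT.leaf cT5410))) (BT.node 5413 (BT.node 5412 (BT.node 5411 (BT.leaf cT5411) (BT.leaf cT5412)) (BT.leaf cT5413)) (BT.node 5414 (BT.leaf cT5414) (BT.leaf cT5415)))) (BT.node 5420 (BT.node 5418 (BT.node 5417 (BT.node 5416 (BT.leaf cT5416) (BT.leaf cT5417)) (BT.leaf cT5418)) (BT.node 5419 (BT.leaf cT5419) (BT.leaf cT5420))) (BT.node 5423 (BT.node 5422 (BT.node 5421 (BT.leaf cT5421) (BT.leaf cT5422)) (BT.leaf cT5423)) (BT.node 5424 (BT.leaf cT5424) (BT.leaf cT5425))))))))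
noncomputable def colTT_33 : BT ℕ := (BT.node 5507 (BT.node 5466 (BT.node 5446 (BT.node 5436 (BT.node 5431 (BT.node 5428 (BT.node 5427 (BT.node 5426 (BT.leaf cT5426) (BT.leaf cT5427)) (BT.leaf cT5428)) (BT.node 5430 (BT.node 5429 (BT.leaf cT5429) (BT.leaf cT5430)) (BT.leaf cT5431))) (BT.node 5434 (BT.node 5433 (BT.node 5432 (BT.leaf cT5432) (BT.leaf cT5433)) (BT.leaf cT5434)) (BT.node 5435 (BT.leaf cT5435) (BT.leaf cT5436)))) (BT.node 5441 (BT.node 5439 (BT.node 5438 (BT.node 5437 (BT.leaf cT5437) (BT.leaf cT5438)) (BT.leaf cT5439)) (BT.node 5440 (BT.leaf cT5440) (BT.leaf cT5441))) (BT.node 5444 (BT.node 5443 (BT.node 5442 (BT.leaf cT5442) (BT.leaf cT5443)) (BT.leaf cT5444)) (BT.node 5445 (BT.leaf cT5445) (BT.leaf cT5446))))) (BT.node 5456 (BT.node 5451 (BT.node 5449 (BT.node 5448 (BT.node 5447 (BT.leaf cT5447) (BT.leaf cT5448)) (BT.leaf cT5449)) (BT.node 5450 (BT.leaf cT5450)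 (BT.leaf cT5451))) (BT.node 5454 (BT.node 5453 (BT.node 5452 (BT.leaf cT5452) (BT.leaf cT5453)) (BT.leaf cT5454)) (BT.node 5455 (BT.leaf cT5455) (BT.leaf cT5456)))) (BT.node 5461 (BT.node 5459 (BT.node 5458 (BT.node 5457 (BT.leaf cT5457) (BT.leaf cT5458)) (BT.leaf cT5459)) (BT.node 5460 (BT.leaf cT5460) (BT.leaf cT5461))) (BT.node 5464 (BT.node 5463 (BT.node 5462 (BT.leaf cT5462) (BT.leaf cT5463)) (BT.leaf cT5464)) (BT.node 5465 (BT.leaf cT5465) (BT.leaf cT5466)))))) (BT.node 5487 (BT.node 5477 (BT.node 5472 (BT.node 5469 (BT.node 5468 (BT.node 5467 (BT.leaf cT5467) (BT.leaf cT5468)) (BT.leaf cT5469)) (BT.node 5471 (BT.node 5470 (BT.leaf cT5470) (BT.leaf cT5471)) (BT.leaf cT5472))) (BT.node 5475 (BT.node 5474 (BT.node 5473 (BT.leaf cT5473) (BT.leaf cT5474)) (BT.leaf cT5475)) (BT.node 5476 (BT.leaf cT5476) (BT.leaf cT5477)))) (BT.node 5482 (BT.node 5480 (BT.node 5479 (BT.node 5478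 (BT.leaf cT5478) (BT.leaf cT5479)) (BT.leaf cT5480)) (BT.node 5481 (BT.leaf cT5481) (BT.leaf cT5482))) (BT.node 5485 (BT.node 5484 (BT.node 5483 (BT.leaf cT5483) (BT.leaf cT5484)) (BT.leaf cT5485)) (BT.node 5486 (BT.leaf cT5486) (BT.leaf cT5487))))) (BT.node 5497 (BT.node 5492 (BT.node 5490 (BT.node 5489 (BT.node 5488 (BT.leaf cT5488) (BT.leaf cT5489)) (BT.leaf cT5490)) (BT.node 5491 (BT.leaf cT5491) (BT.leaf cT5492))) (BT.node 5495 (BT.node 5494 (BT.node 5493 (BT.leaf cT5493) (BT.leaf cT5494)) (BT.leaf cT5495)) (BT.node 5496 (BT.leaf cT5496) (BT.leaf cT5497)))) (BT.node 5502 (BT.node 5500 (BT.node 5499 (BT.node 5498 (BT.leaf cT5498) (BT.leaf cT5499)) (BT.leaf cT5500)) (BT.node 5501 (BT.leaf cT5501) (BT.leaf cT5502))) (BT.node 5505 (BT.node 5504 (BT.node 5503 (BT.leaf cT5503) (BT.leaf cT5504)) (BT.leaf cT5505)) (BT.node 5506 (BT.leaf cT5506) (BT.leaf cT5507))))))) (BT.node 5548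 (BT.node 5528 (BT.node 5518 (BT.node 5513 (BT.node 5510 (BT.node 5509 (BT.node 5508 (BT.leaf cT5508) (BT.leaf cT5509)) (BT.leaf cT5510)) (BT.node 5512 (BT.node 5511 (BT.leaf cT5511) (BT.leaf cT5512)) (BT.leaf cT5513))) (BT.node 5516 (BT.node 5515 (BT.node 5514 (BT.leaf cT5514) (BT.leaf cT5515)) (BT.leaf cT5516)) (BT.node 5517 (BT.leaf cT5517) (BT.leaf cT5518)))) (BT.node 5523 (BT.node 5521 (BT.node 5520 (BT.node 5519 (BT.leaf cT5519) (BT.leaf cT5520)) (BT.leaf cT5521)) (BT.node 5522 (BT.leaf cT5522) (BT.leaf cT5523))) (BT.node 5526 (BT.node 5525 (BT.node 5524 (BT.leaf cT5524) (BT.leaf cT5525)) (BT.leaf cT5526)) (BT.node 5527 (BT.leaf cT5527) (BT.leaf cT5528))))) (BT.node 5538 (BT.node 5533 (BT.node 5531 (BT.node 5530 (BT.node 5529 (BT.leaf cT5529) (BT.leaf cT5530)) (BT.leaf cT5531)) (BT.node 5532 (BT.leaf cT5532) (BT.leaf cT5533))) (BT.node 5536 (BT.node 5535 (BT.node 5534 (BT.leaf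 cT5534) (BT.leaf cT5535)) (BT.leaf cT5536)) (BT.node 5537 (BT.leaf cT5537) (BT.leaf cT5538)))) (BT.node 5543 (BT.node 5541 (BT.node 5540 (BT.node 5539 (BT.leaf cT5539) (BT.leaf cT5540)) (BT.leaf cT5541)) (BT.node 5542 (BT.leaf cT5542) (BT.leaf cT5543))) (BT.node 5546 (BT.node 5545 (BT.node 5544 (BT.leaf cT5544) (BT.leaf cT5545)) (BT.leaf cT5546)) (BT.node 5547 (BT.leaf cT5547) (BT.leaf cT5548)))))) (BT.node 5569 (BT.node 5559 (BT.node 5554 (BT.node 5551 (BT.node 5550 (BT.node 5549 (BT.leaf cT5549) (BT.leaf cT5550)) (BT.leaf cT5551)) (BT.node 5553 (BT.node 5552 (BT.leaf cT5552) (BT.leaf cT5553)) (BT.leaf cT5554))) (BT.node 5557 (BT.node 5556 (BT.node 5555 (BT.leaf cT5555) (BT.leaf cT5556)) (BT.leaf cT5557)) (BT.node 5558 (BT.leaf cT5558) (BT.leaf cT5559)))) (BT.node 5564 (BT.node 5562 (BT.node 5561 (BT.node 5560 (BT.leaf cT5560) (BT.leaf cT5561)) (BT.leaf cT5562)) (BT.node 5563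 (BT.leaf cT5563) (BT.leaf cT5564))) (BT.node 5567 (BT.node 5566 (BT.node 5565 (BT.leaf cT5565) (BT.leaf cT5566)) (BT.leaf cT5567)) (BT.node 5568 (BT.leaf cT5568) (BT.leaf cT5569))))) (BT.node 5579 (BT.node 5574 (BT.node 5572 (BT.node 5571 (BT.node 5570 (BT.leaf cT5570) (BT.leaf cT5571)) (BT.leaf cT5572)) (BT.node 5573 (BT.leaf cT5573) (BT.leaf cT5574))) (BT.node 5577 (BT.node 5576 (BT.node 5575 (BT.leaf cT5575) (BT.leaf cT5576)) (BT.leaf cT5577)) (BT.node 5578 (BT.leaf cT5578) (BT.leaf cT5579)))) (BT.node 5584 (BT.node 5582 (BT.node 5581 (BT.node 5580 (BT.leaf cT5580) (BT.leaf cT5581)) (BT.leaf cT5582)) (BT.node 5583 (BT.leaf cT5583) (BT.leaf cT5584))) (BT.node 5587 (BT.node 5586 (BT.node 5585 (BT.leaf cT5585) (BT.leaf cT5586)) (BT.leaf cT5587)) (BT.node 5588 (BT.leaf cT5588) (BT.leaf cT5589))))))))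
noncomputable def colTT_34 : BT ℕ := (BT.node 5672 (BT.node 5631 (BT.node 5610 (BT.node 5600 (BT.node 5595 (BT.node 5592 (BT.node 5591 (BT.node 5590 (BT.leaf cT5590) (BT.leaf cT5591)) (BT.leaf cT5592)) (BT.node 5594 (BT.node 5593 (BT.leaf cT5593) (BT.leaf cT5594)) (BT.leaf cT5595))) (BT.node 5598 (BT.node 5597 (BT.node 5596 (BT.leaf cT5596) (BT.leaf cT5597)) (BT.leaf cT5598)) (BT.node 5599 (BT.leaf cT5599) (BT.leaf cT5600)))) (BT.node 5605 (BT.node 5603 (BT.node 5602 (BT.node 5601 (BT.leaf cT5601) (BT.leaf cT5602)) (BT.leaf cT5603)) (BT.node 5604 (BT.leaf cT5604) (BT.leaf cT5605))) (BT.node 5608 (BT.node 5607 (BT.node 5606 (BT.leaf cT5606) (BT.leaf cT5607)) (BT.leaf cT5608)) (BT.node 5609 (BT.leaf cT5609) (BT.leaf cT5610))))) (BT.node 5621 (BT.node 5616 (BT.node 5613 (BT.node 5612 (BT.node 5611 (BT.leaf cT5611) (BT.leaf cT5612)) (BT.leaf cT5613)) (BT.node 5615 (BT.node 5614 (BT.leaf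 cT5614) (BT.leaf cT5615)) (BT.leaf cT5616))) (BT.node 5619 (BT.node 5618 (BT.node 5617 (BT.leaf cT5617) (BT.leaf cT5618)) (BT.leaf cT5619)) (BT.node 5620 (BT.leaf cT5620) (BT.leaf cT5621)))) (BT.node 5626 (BT.node 5624 (BT.node 5623 (BT.node 5622 (BT.leaf cT5622) (BT.leaf cT5623)) (BT.leaf cT5624)) (BT.node 5625 (BT.leaf cT5625) (BT.leaf cT5626))) (BT.node 5629 (BT.node 5628 (BT.node 5627 (BT.leaf cT5627) (BT.leaf cT5628)) (BT.leaf cT5629)) (BT.node 5630 (BT.leaf cT5630) (BT.leaf cT5631)))))) (BT.node 5652 (BT.node 5642 (BT.node 5637 (BT.node 5634 (BT.node 5633 (BT.node 5632 (BT.leaf cT5632) (BT.leaf cT5633)) (BT.leaf cT5634)) (BT.node 5636 (BT.node 5635 (BT.leaf cT5635) (BT.leaf cT5636)) (BT.leaf cT5637))) (BT.node 5640 (BT.node 5639 (BT.node 5638 (BT.leaf cT5638) (BT.leaf cT5639)) (BT.leaf cT5640)) (BT.node 5641 (BT.leaf cT5641) (BT.leaf cT5642)))) (BT.node 5647 (BT.node 5645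 (BT.node 5644 (BT.node 5643 (BT.leaf cT5643) (BT.leaf cT5644)) (BT.leaf cT5645)) (BT.node 5646 (BT.leaf cT5646) (BT.leaf cT5647))) (BT.node 5650 (BT.node 5649 (BT.node 5648 (BT.leaf cT5648) (BT.leaf cT5649)) (BT.leaf cT5650)) (BT.node 5651 (BT.leaf cT5651) (BT.leaf cT5652))))) (BT.node 5662 (BT.node 5657 (BT.node 5655 (BT.node 5654 (BT.node 5653 (BT.leaf cT5653) (BT.leaf cT5654)) (BT.leaf cT5655)) (BT.node 5656 (BT.leaf cT5656) (BT.leaf cT5657))) (BT.node 5660 (BT.node 5659 (BT.node 5658 (BT.leaf cT5658) (BT.leaf cT5659)) (BT.leaf cT5660)) (BT.node 5661 (BT.leaf cT5661) (BT.leaf cT5662)))) (BT.node 5667 (BT.node 5665 (BT.node 5664 (BT.node 5663 (BT.leaf cT5663) (BT.leaf cT5664)) (BT.leaf cT5665)) (BT.node 5666 (BT.leaf cT5666) (BT.leaf cT5667))) (BT.node 5670 (BT.node 5669 (BT.node 5668 (BT.leaf cT5668) (BT.leaf cT5669)) (BT.leaf cT5670)) (BT.node 5671 (BT.leaf cT5671) (BT.leaf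 cT5672))))))) (BT.node 5713 (BT.node 5693 (BT.node 5683 (BT.node 5678 (BT.node 5675 (BT.node 5674 (BT.node 5673 (BT.leaf cT5673) (BT.leaf cT5674)) (BT.leaf cT5675)) (BT.node 5677 (BT.node 5676 (BT.leaf cT5676) (BT.leaf cT5677)) (BT.leaf cT5678))) (BT.node 5681 (BT.node 5680 (BT.node 5679 (BT.leaf cT5679) (BT.leaf cT5680)) (BT.leaf cT5681)) (BT.node 5682 (BT.leaf cT5682) (BT.leaf cT5683)))) (BT.node 5688 (BT.node 5686 (BT.node 5685 (BT.node 5684 (BT.leaf cT5684) (BT.leaf cT5685)) (BT.leaf cT5686)) (BT.node 5687 (BT.leaf cT5687) (BT.leaf cT5688))) (BT.node 5691 (BT.node 5690 (BT.node 5689 (BT.leaf cT5689) (BT.leaf cT5690)) (BT.leaf cT5691)) (BT.node 5692 (BT.leaf cT5692) (BT.leaf cT5693))))) (BT.node 5703 (BT.node 5698 (BT.node 5696 (BT.node 5695 (BT.node 5694 (BT.leaf cT5694) (BT.leaf cT5695)) (BT.leaf cT5696)) (BT.node 5697 (BT.leaf cT5697) (BT.leaf cT5698))) (BT.node 5701 (BT.node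 5700 (BT.node 5699 (BT.leaf cT5699) (BT.leaf cT5700)) (BT.leaf cT5701)) (BT.node 5702 (BT.leaf cT5702) (BT.leaf cT5703)))) (BT.node 5708 (BT.node 5706 (BT.node 5705 (BT.node 5704 (BT.leaf cT5704) (BT.leaf cT5705)) (BT.leaf cT5706)) (BT.node 5707 (BT.leaf cT5707) (BT.leaf cT5708))) (BT.node 5711 (BT.node 5710 (BT.node 5709 (BT.leaf cT5709) (BT.leaf cT5710)) (BT.leaf cT5711)) (BT.node 5712 (BT.leaf cT5712) (BT.leaf cT5713)))))) (BT.node 5734 (BT.node 5724 (BT.node 5719 (BT.node 5716 (BT.node 5715 (BT.node 5714 (BT.leaf cT5714) (BT.leaf cT5715)) (BT.leaf cT5716)) (BT.node 5718 (BT.node 5717 (BT.leaf cT5717) (BT.leaf cT5718)) (BT.leaf cT5719))) (BT.node 5722 (BT.node 5721 (BT.node 5720 (BT.leaf cT5720) (BT.leaf cT5721)) (BT.leaf cT5722)) (BT.node 5723 (BT.leaf cT5723) (BT.leaf cT5724)))) (BT.node 5729 (BT.node 5727 (BT.node 5726 (BT.node 5725 (BT.leaf cT5725) (BT.leaf cT5726)) (BT.leaf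 cT5727)) (BT.node 5728 (BT.leaf cT5728) (BT.leaf cT5729))) (BT.node 5732 (BT.node 5731 (BT.node 5730 (BT.leaf cT5730) (BT.leaf cT5731)) (BT.leaf cT5732)) (BT.node 5733 (BT.leaf cT5733) (BT.leaf cT5734))))) (BT.node 5744 (BT.node 5739 (BT.node 5737 (BT.node 5736 (BT.node 5735 (BT.leaf cT5735) (BT.leaf cT5736)) (BT.leaf cT5737)) (BT.node 5738 (BT.leaf cT5738) (BT.leaf cT5739))) (BT.node 5742 (BT.node 5741 (BT.node 5740 (BT.leaf cT5740) (BT.leaf cT5741)) (BT.leaf cT5742)) (BT.node 5743 (BT.leaf cT5743) (BT.leaf cT5744)))) (BT.node 5749 (BT.node 5747 (BT.node 5746 (BT.node 5745 (BT.leaf cT5745) (BT.leaf cT5746)) (BT.leaf cT5747)) (BT.node 5748 (BT.leaf cT5748) (BT.leaf cT5749))) (BT.node 5752 (BT.node 5751 (BT.node 5750 (BT.leaf cT5750) (BT.leaf cT5751)) (BT.leaf cT5752)) (BT.node 5753 (BT.leaf cT5753) (BT.leaf cT5754))))))))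
noncomputable def colTT_35 : BT ℕ := (BT.node 5836 (BT.node 5795 (BT.node 5775 (BT.node 5765 (BT.node 5760 (BT.node 5757 (BT.node 5756 (BT.node 5755 (BT.leaf cT5755) (BT.leaf cT5756)) (BT.leaf cT5757)) (BT.node 5759 (BT.node 5758 (BT.leaf cT5758) (BT.leaf cT5759)) (BT.leaf cT5760))) (BT.node 5763 (BT.node 5762 (BT.node 5761 (BT.leaf cT5761) (BT.leaf cT5762)) (BT.leaf cT5763)) (BT.node 5764 (BT.leaf cT5764) (BT.leaf cT5765)))) (BT.node 5770 (BT.node 5768 (BT.node 5767 (BT.node 5766 (BT.leaf cT5766) (BT.leaf cT5767)) (BT.leaf cT5768)) (BT.node 5769 (BT.leaf cT5769) (BT.leaf cT5770))) (BT.node 5773 (BT.node 5772 (BT.node 5771 (BT.leaf cT5771) (BT.leaf cT5772)) (BT.leaf cT5773)) (BT.node 5774 (BT.leaf cT5774) (BT.leaf cT5775))))) (BT.node 5785 (BT.node 5780 (BT.node 5778 (BT.node 5777 (BT.node 5776 (BT.leaf cT5776) (BT.leaf cT5777)) (BT.leaf cT5778)) (BT.node 5779 (BT.leaf cT5779)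 (BT.leaf cT5780))) (BT.node 5783 (BT.node 5782 (BT.node 5781 (BT.leaf cT5781) (BT.leaf cT5782)) (BT.leaf cT5783)) (BT.node 5784 (BT.leaf cT5784) (BT.leaf cT5785)))) (BT.node 5790 (BT.node 5788 (BT.node 5787 (BT.node 5786 (BT.leaf cT5786) (BT.leaf cT5787)) (BT.leaf cT5788)) (BT.node 5789 (BT.leaf cT5789) (BT.leaf cT5790))) (BT.node 5793 (BT.node 5792 (BT.node 5791 (BT.leaf cT5791) (BT.leaf cT5792)) (BT.leaf cT5793)) (BT.node 5794 (BT.leaf cT5794) (BT.leaf cT5795)))))) (BT.node 5816 (BT.node 5806 (BT.node 5801 (BT.node 5798 (BT.node 5797 (BT.node 5796 (BT.leaf cT5796) (BT.leaf cT5797)) (BT.leaf cT5798)) (BT.node 5800 (BT.node 5799 (BT.leaf cT5799) (BT.leaf cT5800)) (BT.leaf cT5801))) (BT.node 5804 (BT.node 5803 (BT.node 5802 (BT.leaf cT5802) (BT.leaf cT5803)) (BT.leaf cT5804)) (BT.node 5805 (BT.leaf cT5805) (BT.leaf cT5806)))) (BT.node 5811 (BT.node 5809 (BT.node 5808 (BT.node 5807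 (BT.leaf cT5807) (BT.leaf cT5808)) (BT.leaf cT5809)) (BT.node 5810 (BT.leaf cT5810) (BT.leaf cT5811))) (BT.node 5814 (BT.node 5813 (BT.node 5812 (BT.leaf cT5812) (BT.leaf cT5813)) (BT.leaf cT5814)) (BT.node 5815 (BT.leaf cT5815) (BT.leaf cT5816))))) (BT.node 5826 (BT.node 5821 (BT.node 5819 (BT.node 5818 (BT.node 5817 (BT.leaf cT5817) (BT.leaf cT5818)) (BT.leaf cT5819)) (BT.node 5820 (BT.leaf cT5820) (BT.leaf cT5821))) (BT.node 5824 (BT.node 5823 (BT.node 5822 (BT.leaf cT5822) (BT.leaf cT5823)) (BT.leaf cT5824)) (BT.node 5825 (BT.leaf cT5825) (BT.leaf cT5826)))) (BT.node 5831 (BT.node 5829 (BT.node 5828 (BT.node 5827 (BT.leaf cT5827) (BT.leaf cT5828)) (BT.leaf cT5829)) (BT.node 5830 (BT.leaf cT5830) (BT.leaf cT5831))) (BT.node 5834 (BT.node 5833 (BT.node 5832 (BT.leaf cT5832) (BT.leaf cT5833)) (BT.leaf cT5834)) (BT.node 5835 (BT.leaf cT5835) (BT.leaf cT5836))))))) (BT.node 5877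 (BT.node 5857 (BT.node 5847 (BT.node 5842 (BT.node 5839 (BT.node 5838 (BT.node 5837 (BT.leaf cT5837) (BT.leaf cT5838)) (BT.leaf cT5839)) (BT.node 5841 (BT.node 5840 (BT.leaf cT5840) (BT.leaf cT5841)) (BT.leaf cT5842))) (BT.node 5845 (BT.node 5844 (BT.node 5843 (BT.leaf cT5843) (BT.leaf cT5844)) (BT.leaf cT5845)) (BT.node 5846 (BT.leaf cT5846) (BT.leaf cT5847)))) (BT.node 5852 (BT.node 5850 (BT.node 5849 (BT.node 5848 (BT.leaf cT5848) (BT.leaf cT5849)) (BT.leaf cT5850)) (BT.node 5851 (BT.leaf cT5851) (BT.leaf cT5852))) (BT.node 5855 (BT.node 5854 (BT.node 5853 (BT.leaf cT5853) (BT.leaf cT5854)) (BT.leaf cT5855)) (BT.node 5856 (BT.leaf cT5856) (BT.leaf cT5857))))) (BT.node 5867 (BT.node 5862 (BT.node 5860 (BT.node 5859 (BT.node 5858 (BT.leaf cT5858) (BT.leaf cT5859)) (BT.leaf cT5860)) (BT.node 5861 (BT.leaf cT5861) (BT.leaf cT5862))) (BT.node 5865 (BT.node 5864 (BT.node 5863 (BT.leaf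 cT5863) (BT.leaf cT5864)) (BT.leaf cT5865)) (BT.node 5866 (BT.leaf cT5866) (BT.leaf cT5867)))) (BT.node 5872 (BT.node 5870 (BT.node 5869 (BT.node 5868 (BT.leaf cT5868) (BT.leaf cT5869)) (BT.leaf cT5870)) (BT.node 5871 (BT.leaf cT5871) (BT.leaf cT5872))) (BT.node 5875 (BT.node 5874 (BT.node 5873 (BT.leaf cT5873) (BT.leaf cT5874)) (BT.leaf cT5875)) (BT.node 5876 (BT.leaf cT5876) (BT.leaf cT5877)))))) (BT.node 5898 (BT.node 5888 (BT.node 5883 (BT.node 5880 (BT.node 5879 (BT.node 5878 (BT.leaf cT5878) (BT.leaf cT5879)) (BT.leaf cT5880)) (BT.node 5882 (BT.node 5881 (BT.leaf cT5881) (BT.leaf cT5882)) (BT.leaf cT5883))) (BT.node 5886 (BT.node 5885 (BT.node 5884 (BT.leaf cT5884) (BT.leaf cT5885)) (BT.leaf cT5886)) (BT.node 5887 (BT.leaf cT5887) (BT.leaf cT5888)))) (BT.node 5893 (BT.node 5891 (BT.node 5890 (BT.node 5889 (BT.leaf cT5889) (BT.leaf cT5890)) (BT.leaf cT5891)) (BT.node 5892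 (BT.leaf cT5892) (BT.leaf cT5893))) (BT.node 5896 (BT.node 5895 (BT.node 5894 (BT.leaf cT5894) (BT.leaf cT5895)) (BT.leaf cT5896)) (BT.node 5897 (BT.leaf cT5897) (BT.leaf cT5898))))) (BT.node 5908 (BT.node 5903 (BT.node 5901 (BT.node 5900 (BT.node 5899 (BT.leaf cT5899) (BT.leaf cT5900)) (BT.leaf cT5901)) (BT.node 5902 (BT.leaf cT5902) (BT.leaf cT5903))) (BT.node 5906 (BT.node 5905 (BT.node 5904 (BT.leaf cT5904) (BT.leaf cT5905)) (BT.leaf cT5906)) (BT.node 5907 (BT.leaf cT5907) (BT.leaf cT5908)))) (BT.node 5913 (BT.node 5911 (BT.node 5910 (BT.node 5909 (BT.leaf cT5909) (BT.leaf cT5910)) (BT.leaf cT5911)) (BT.node 5912 (BT.leaf cT5912) (BT.leaf cT5913))) (BT.node 5916 (BT.node 5915 (BT.node 5914 (BT.leaf cT5914) (BT.leaf cT5915)) (BT.leaf cT5916)) (BT.node 5917 (BT.leaf cT5917) (BT.leaf cT5918))))))))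
noncomputable def colTT_36 : BT ℕ := (BT.node 6001 (BT.node 5960 (BT.node 5939 (BT.node 5929 (BT.node 5924 (BT.node 5921 (BT.node 5920 (BT.node 5919 (BT.leaf cT5919) (BT.leaf cT5920)) (BT.leaf cT5921)) (BT.node 5923 (BT.node 5922 (BT.leaf cT5922) (BT.leaf cT5923)) (BT.leaf cT5924))) (BT.node 5927 (BT.node 5926 (BT.node 5925 (BT.leaf cT5925) (BT.leaf cT5926)) (BT.leaf cT5927)) (BT.node 5928 (BT.leaf cT5928) (BT.leaf cT5929)))) (BT.node 5934 (BT.node 5932 (BT.node 5931 (BT.node 5930 (BT.leaf cT5930) (BT.leaf cT5931)) (BT.leaf cT5932)) (BT.node 5933 (BT.leaf cT5933) (BT.leaf cT5934))) (BT.node 5937 (BT.node 5936 (BT.node 5935 (BT.leaf cT5935) (BT.leaf cT5936)) (BT.leaf cT5937)) (BT.node 5938 (BT.leaf cT5938) (BT.leaf cT5939))))) (BT.node 5950 (BT.node 5945 (BT.node 5942 (BT.node 5941 (BT.node 5940 (BT.leaf cT5940) (BT.leaf cT5941)) (BT.leaf cT5942)) (BT.node 5944 (BT.node 5943 (BT.leaf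 cT5943) (BT.leaf cT5944)) (BT.leaf cT5945))) (BT.node 5948 (BT.node 5947 (BT.node 5946 (BT.leaf cT5946) (BT.leaf cT5947)) (BT.leaf cT5948)) (BT.node 5949 (BT.leaf cT5949) (BT.leaf cT5950)))) (BT.node 5955 (BT.node 5953 (BT.node 5952 (BT.node 5951 (BT.leaf cT5951) (BT.leaf cT5952)) (BT.leaf cT5953)) (BT.node 5954 (BT.leaf cT5954) (BT.leaf cT5955))) (BT.node 5958 (BT.node 5957 (BT.node 5956 (BT.leaf cT5956) (BT.leaf cT5957)) (BT.leaf cT5958)) (BT.node 5959 (BT.leaf cT5959) (BT.leaf cT5960)))))) (BT.node 5981 (BT.node 5971 (BT.node 5966 (BT.node 5963 (BT.node 5962 (BT.node 5961 (BT.leaf cT5961) (BT.leaf cT5962)) (BT.leaf cT5963)) (BT.node 5965 (BT.node 5964 (BT.leaf cT5964) (BT.leaf cT5965)) (BT.leaf cT5966))) (BT.node 5969 (BT.node 5968 (BT.node 5967 (BT.leaf cT5967) (BT.leaf cT5968)) (BT.leaf cT5969)) (BT.node 5970 (BT.leaf cT5970) (BT.leaf cT5971)))) (BT.node 5976 (BT.node 5974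 (BT.node 5973 (BT.node 5972 (BT.leaf cT5972) (BT.leaf cT5973)) (BT.leaf cT5974)) (BT.node 5975 (BT.leaf cT5975) (BT.leaf cT5976))) (BT.node 5979 (BT.node 5978 (BT.node 5977 (BT.leaf cT5977) (BT.leaf cT5978)) (BT.leaf cT5979)) (BT.node 5980 (BT.leaf cT5980) (BT.leaf cT5981))))) (BT.node 5991 (BT.node 5986 (BT.node 5984 (BT.node 5983 (BT.node 5982 (BT.leaf cT5982) (BT.leaf cT5983)) (BT.leaf cT5984)) (BT.node 5985 (BT.leaf cT5985) (BT.leaf cT5986))) (BT.node 5989 (BT.node 5988 (BT.node 5987 (BT.leaf cT5987) (BT.leaf cT5988)) (BT.leaf cT5989)) (BT.node 5990 (BT.leaf cT5990) (BT.leaf cT5991)))) (BT.node 5996 (BT.node 5994 (BT.node 5993 (BT.node 5992 (BT.leaf cT5992) (BT.leaf cT5993)) (BT.leaf cT5994)) (BT.node 5995 (BT.leaf cT5995) (BT.leaf cT5996))) (BT.node 5999 (BT.node 5998 (BT.node 5997 (BT.leaf cT5997) (BT.leaf cT5998)) (BT.leaf cT5999)) (BT.node 6000 (BT.leaf cT6000) (BT.leaf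 cT6001))))))) (BT.node 6042 (BT.node 6022 (BT.node 6012 (BT.node 6007 (BT.node 6004 (BT.node 6003 (BT.node 6002 (BT.leaf cT6002) (BT.leaf cT6003)) (BT.leaf cT6004)) (BT.node 6006 (BT.node 6005 (BT.leaf cT6005) (BT.leaf cT6006)) (BT.leaf cT6007))) (BT.node 6010 (BT.node 6009 (BT.node 6008 (BT.leaf cT6008) (BT.leaf cT6009)) (BT.leaf cT6010)) (BT.node 6011 (BT.leaf cT6011) (BT.leaf cT6012)))) (BT.node 6017 (BT.node 6015 (BT.node 6014 (BT.node 6013 (BT.leaf cT6013) (BT.leaf cT6014)) (BT.leaf cT6015)) (BT.node 6016 (BT.leaf cT6016) (BT.leaf cT6017))) (BT.node 6020 (BT.node 6019 (BT.node 6018 (BT.leaf cT6018) (BT.leaf cT6019)) (BT.leaf cT6020)) (BT.node 6021 (BT.leaf cT6021) (BT.leaf cT6022))))) (BT.node 6032 (BT.node 6027 (BT.node 6025 (BT.node 6024 (BT.node 6023 (BT.leaf cT6023) (BT.leaf cT6024)) (BT.leaf cT6025)) (BT.node 6026 (BT.leaf cT6026) (BT.leaf cT6027))) (BT.node 6030 (BT.node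 6029 (BT.node 6028 (BT.leaf cT6028) (BT.leaf cT6029)) (BT.leaf cT6030)) (BT.node 6031 (BT.leaf cT6031) (BT.leaf cT6032)))) (BT.node 6037 (BT.node 6035 (BT.node 6034 (BT.node 6033 (BT.leaf cT6033) (BT.leaf cT6034)) (BT.leaf cT6035)) (BT.node 6036 (BT.leaf cT6036) (BT.leaf cT6037))) (BT.node 6040 (BT.node 6039 (BT.node 6038 (BT.leaf cT6038) (BT.leaf cT6039)) (BT.leaf cT6040)) (BT.node 6041 (BT.leaf cT6041) (BT.leaf cT6042)))))) (BT.node 6063 (BT.node 6053 (BT.node 6048 (BT.node 6045 (BT.node 6044 (BT.node 6043 (BT.leaf cT6043) (BT.leaf cT6044)) (BT.leaf cT6045)) (BT.node 6047 (BT.node 6046 (BT.leaf cT6046) (BT.leaf cT6047)) (BT.leaf cT6048))) (BT.node 6051 (BT.node 6050 (BT.node 6049 (BT.leaf cT6049) (BT.leaf cT6050)) (BT.leaf cT6051)) (BT.node 6052 (BT.leaf cT6052) (BT.leaf cT6053)))) (BT.node 6058 (BT.node 6056 (BT.node 6055 (BT.node 6054 (BT.leaf cT6054) (BT.leaf cT6055)) (BT.leaf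 cT6056)) (BT.node 6057 (BT.leaf cT6057) (BT.leaf cT6058))) (BT.node 6061 (BT.node 6060 (BT.node 6059 (BT.leaf cT6059) (BT.leaf cT6060)) (BT.leaf cT6061)) (BT.node 6062 (BT.leaf cT6062) (BT.leaf cT6063))))) (BT.node 6073 (BT.node 6068 (BT.node 6066 (BT.node 6065 (BT.node 6064 (BT.leaf cT6064) (BT.leaf cT6065)) (BT.leaf cT6066)) (BT.node 6067 (BT.leaf cT6067) (BT.leaf cT6068))) (BT.node 6071 (BT.node 6070 (BT.node 6069 (BT.leaf cT6069) (BT.leaf cT6070)) (BT.leaf cT6071)) (BT.node 6072 (BT.leaf cT6072) (BT.leaf cT6073)))) (BT.node 6078 (BT.node 6076 (BT.node 6075 (BT.node 6074 (BT.leaf cT6074) (BT.leaf cT6075)) (BT.leaf cT6076)) (BT.node 6077 (BT.leaf cT6077) (BT.leaf cT6078))) (BT.node 6081 (BT.node 6080 (BT.node 6079 (BT.leaf cT6079) (BT.leaf cT6080)) (BT.leaf cT6081)) (BT.node 6082 (BT.leaf cT6082) (BT.leaf cT6083))))))))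
noncomputable def colTT_37 : BT ℕ := (BT.node 6165 (BT.node 6124 (BT.node 6104 (BT.node 6094 (BT.node 6089 (BT.node 6086 (BT.node 6085 (BT.node 6084 (BT.leaf cT6084) (BT.leaf cT6085)) (BT.leaf cT6086)) (BT.node 6088 (BT.node 6087 (BT.leaf cT6087) (BT.leaf cT6088)) (BT.leaf cT6089))) (BT.node 6092 (BT.node 6091 (BT.node 6090 (BT.leaf cT6090) (BT.leaf cT6091)) (BT.leaf cT6092)) (BT.node 6093 (BT.leaf cT6093) (BT.leaf cT6094)))) (BT.node 6099 (BT.node 6097 (BT.node 6096 (BT.node 6095 (BT.leaf cT6095) (BT.leaf cT6096)) (BT.leaf cT6097)) (BT.node 6098 (BT.leaf cT6098) (BT.leaf cT6099))) (BT.node 6102 (BT.node 6101 (BT.node 6100 (BT.leaf cT6100) (BT.leaf cT6101)) (BT.leaf cT6102)) (BT.node 6103 (BT.leaf cT6103) (BT.leaf cT6104))))) (BT.node 6114 (BT.node 6109 (BT.node 6107 (BT.node 6106 (BT.node 6105 (BT.leaf cT6105) (BT.leaf cT6106)) (BT.leaf cT6107)) (BT.node 6108 (BT.leaf cT6108)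 (BT.leaf cT6109))) (BT.node 6112 (BT.node 6111 (BT.node 6110 (BT.leaf cT6110) (BT.leaf cT6111)) (BT.leaf cT6112)) (BT.node 6113 (BT.leaf cT6113) (BT.leaf cT6114)))) (BT.node 6119 (BT.node 6117 (BT.node 6116 (BT.node 6115 (BT.leaf cT6115) (BT.leaf cT6116)) (BT.leaf cT6117)) (BT.node 6118 (BT.leaf cT6118) (BT.leaf cT6119))) (BT.node 6122 (BT.node 6121 (BT.node 6120 (BT.leaf cT6120) (BT.leaf cT6121)) (BT.leaf cT6122)) (BT.node 6123 (BT.leaf cT6123) (BT.leaf cT6124)))))) (BT.node 6145 (BT.node 6135 (BT.node 6130 (BT.node 6127 (BT.node 6126 (BT.node 6125 (BT.leaf cT6125) (BT.leaf cT6126)) (BT.leaf cT6127)) (BT.node 6129 (BT.node 6128 (BT.leaf cT6128) (BT.leaf cT6129)) (BT.leaf cT6130))) (BT.node 6133 (BT.node 6132 (BT.node 6131 (BT.leaf cT6131) (BT.leaf cT6132)) (BT.leaf cT6133)) (BT.node 6134 (BT.leaf cT6134) (BT.leaf cT6135)))) (BT.node 6140 (BT.node 6138 (BT.node 6137 (BT.node 6136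 (BT.leaf cT6136) (BT.leaf cT6137)) (BT.leaf cT6138)) (BT.node 6139 (BT.leaf cT6139) (BT.leaf cT6140))) (BT.node 6143 (BT.node 6142 (BT.node 6141 (BT.leaf cT6141) (BT.leaf cT6142)) (BT.leaf cT6143)) (BT.node 6144 (BT.leaf cT6144) (BT.leaf cT6145))))) (BT.node 6155 (BT.node 6150 (BT.node 6148 (BT.node 6147 (BT.node 6146 (BT.leaf cT6146) (BT.leaf cT6147)) (BT.leaf cT6148)) (BT.node 6149 (BT.leaf cT6149) (BT.leaf cT6150))) (BT.node 6153 (BT.node 6152 (BT.node 6151 (BT.leaf cT6151) (BT.leaf cT6152)) (BT.leaf cT6153)) (BT.node 6154 (BT.leaf cT6154) (BT.leaf cT6155)))) (BT.node 6160 (BT.node 6158 (BT.node 6157 (BT.node 6156 (BT.leaf cT6156) (BT.leaf cT6157)) (BT.leaf cT6158)) (BT.node 6159 (BT.leaf cT6159) (BT.leaf cT6160))) (BT.node 6163 (BT.node 6162 (BT.node 6161 (BT.leaf cT6161) (BT.leaf cT6162)) (BT.leaf cT6163)) (BT.node 6164 (BT.leaf cT6164) (BT.leaf cT6165))))))) (BT.node 6206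 (BT.node 6186 (BT.node 6176 (BT.node 6171 (BT.node 6168 (BT.node 6167 (BT.node 6166 (BT.leaf cT6166) (BT.leaf cT6167)) (BT.leaf cT6168)) (BT.node 6170 (BT.node 6169 (BT.leaf cT6169) (BT.leaf cT6170)) (BT.leaf cT6171))) (BT.node 6174 (BT.node 6173 (BT.node 6172 (BT.leaf cT6172) (BT.leaf cT6173)) (BT.leaf cT6174)) (BT.node 6175 (BT.leaf cT6175) (BT.leaf cT6176)))) (BT.node 6181 (BT.node 6179 (BT.node 6178 (BT.node 6177 (BT.leaf cT6177) (BT.leaf cT6178)) (BT.leaf cT6179)) (BT.node 6180 (BT.leaf cT6180) (BT.leaf cT6181))) (BT.node 6184 (BT.node 6183 (BT.node 6182 (BT.leaf cT6182) (BT.leaf cT6183)) (BT.leaf cT6184)) (BT.node 6185 (BT.leaf cT6185) (BT.leaf cT6186))))) (BT.node 6196 (BT.node 6191 (BT.node 6189 (BT.node 6188 (BT.node 6187 (BT.leaf cT6187) (BT.leaf cT6188)) (BT.leaf cT6189)) (BT.node 6190 (BT.leaf cT6190) (BT.leaf cT6191))) (BT.node 6194 (BT.node 6193 (BT.node 6192 (BT.leaf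 cT6192) (BT.leaf cT6193)) (BT.leaf cT6194)) (BT.node 6195 (BT.leaf cT6195) (BT.leaf cT6196)))) (BT.node 6201 (BT.node 6199 (BT.node 6198 (BT.node 6197 (BT.leaf cT6197) (BT.leaf cT6198)) (BT.leaf cT6199)) (BT.node 6200 (BT.leaf cT6200) (BT.leaf cT6201))) (BT.node 6204 (BT.node 6203 (BT.node 6202 (BT.leaf cT6202) (BT.leaf cT6203)) (BT.leaf cT6204)) (BT.node 6205 (BT.leaf cT6205) (BT.leaf cT6206)))))) (BT.node 6227 (BT.node 6217 (BT.node 6212 (BT.node 6209 (BT.node 6208 (BT.node 6207 (BT.leaf cT6207) (BT.leaf cT6208)) (BT.leaf cT6209)) (BT.node 6211 (BT.node 6210 (BT.leaf cT6210) (BT.leaf cT6211)) (BT.leaf cT6212))) (BT.node 6215 (BT.node 6214 (BT.node 6213 (BT.leaf cT6213) (BT.leaf cT6214)) (BT.leaf cT6215)) (BT.node 6216 (BT.leaf cT6216) (BT.leaf cT6217)))) (BT.node 6222 (BT.node 6220 (BT.node 6219 (BT.node 6218 (BT.leaf cT6218) (BT.leaf cT6219)) (BT.leaf cT6220)) (BT.node 6221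 (BT.leaf cT6221) (BT.leaf cT6222))) (BT.node 6225 (BT.node 6224 (BT.node 6223 (BT.leaf cT6223) (BT.leaf cT6224)) (BT.leaf cT6225)) (BT.node 6226 (BT.leaf cT6226) (BT.leaf cT6227))))) (BT.node 6237 (BT.node 6232 (BT.node 6230 (BT.node 6229 (BT.node 6228 (BT.leaf cT6228) (BT.leaf cT6229)) (BT.leaf cT6230)) (BT.node 6231 (BT.leaf cT6231) (BT.leaf cT6232))) (BT.node 6235 (BT.node 6234 (BT.node 6233 (BT.leaf cT6233) (BT.leaf cT6234)) (BT.leaf cT6235)) (BT.node 6236 (BT.leaf cT6236) (BT.leaf cT6237)))) (BT.node 6242 (BT.node 6240 (BT.node 6239 (BT.node 6238 (BT.leaf cT6238) (BT.leaf cT6239)) (BT.leaf cT6240)) (BT.node 6241 (BT.leaf cT6241) (BT.leaf cT6242))) (BT.node 6245 (BT.node 6244 (BT.node 6243 (BT.leaf cT6243) (BT.leaf cT6244)) (BT.leaf cT6245)) (BT.node 6246 (BT.leaf cT6246) (BT.leaf cT6247))))))))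
noncomputable def colTT_38 : BT ℕ := (BT.node 6329 (BT.node 6288 (BT.node 6268 (BT.node 6258 (BT.node 6253 (BT.node 6250 (BT.node 6249 (BT.node 6248 (BT.leaf cT6248) (BT.leaf cT6249)) (BT.leaf cT6250)) (BT.node 6252 (BT.node 6251 (BT.leaf cT6251) (BT.leaf cT6252)) (BT.leaf cT6253))) (BT.node 6256 (BT.node 6255 (BT.node 6254 (BT.leaf cT6254) (BT.leaf cT6255)) (BT.leaf cT6256)) (BT.node 6257 (BT.leaf cT6257) (BT.leaf cT6258)))) (BT.node 6263 (BT.node 6261 (BT.node 6260 (BT.node 6259 (BT.leaf cT6259) (BT.leaf cT6260)) (BT.leaf cT6261)) (BT.node 6262 (BT.leaf cT6262) (BT.leaf cT6263))) (BT.node 6266 (BT.node 6265 (BT.node 6264 (BT.leaf cT6264) (BT.leaf cT6265)) (BT.leaf cT6266)) (BT.node 6267 (BT.leaf cT6267) (BT.leaf cT6268))))) (BT.node 6278 (BT.node 6273 (BT.node 6271 (BT.node 6270 (BT.node 6269 (BT.leaf cT6269) (BT.leaf cT6270)) (BT.leaf cT6271)) (BT.node 6272 (BT.leaf cT6272)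 (BT.leaf cT6273))) (BT.node 6276 (BT.node 6275 (BT.node 6274 (BT.leaf cT6274) (BT.leaf cT6275)) (BT.leaf cT6276)) (BT.node 6277 (BT.leaf cT6277) (BT.leaf cT6278)))) (BT.node 6283 (BT.node 6281 (BT.node 6280 (BT.node 6279 (BT.leaf cT6279) (BT.leaf cT6280)) (BT.leaf cT6281)) (BT.node 6282 (BT.leaf cT6282) (BT.leaf cT6283))) (BT.node 6286 (BT.node 6285 (BT.node 6284 (BT.leaf cT6284) (BT.leaf cT6285)) (BT.leaf cT6286)) (BT.node 6287 (BT.leaf cT6287) (BT.leaf cT6288)))))) (BT.node 6309 (BT.node 6299 (BT.node 6294 (BT.node 6291 (BT.node 6290 (BT.node 6289 (BT.leaf cT6289) (BT.leaf cT6290)) (BT.leaf cT6291)) (BT.node 6293 (BT.node 6292 (BT.leaf cT6292) (BT.leaf cT6293)) (BT.leaf cT6294))) (BT.node 6297 (BT.node 6296 (BT.node 6295 (BT.leaf cT6295) (BT.leaf cT6296)) (BT.leaf cT6297)) (BT.node 6298 (BT.leaf cT6298) (BT.leaf cT6299)))) (BT.node 6304 (BT.node 6302 (BT.node 6301 (BT.node 6300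 (BT.leaf cT6300) (BT.leaf cT6301)) (BT.leaf cT6302)) (BT.node 6303 (BT.leaf cT6303) (BT.leaf cT6304))) (BT.node 6307 (BT.node 6306 (BT.node 6305 (BT.leaf cT6305) (BT.leaf cT6306)) (BT.leaf cT6307)) (BT.node 6308 (BT.leaf cT6308) (BT.leaf cT6309))))) (BT.node 6319 (BT.node 6314 (BT.node 6312 (BT.node 6311 (BT.node 6310 (BT.leaf cT6310) (BT.leaf cT6311)) (BT.leaf cT6312)) (BT.node 6313 (BT.leaf cT6313) (BT.leaf cT6314))) (BT.node 6317 (BT.node 6316 (BT.node 6315 (BT.leaf cT6315) (BT.leaf cT6316)) (BT.leaf cT6317)) (BT.node 6318 (BT.leaf cT6318) (BT.leaf cT6319)))) (BT.node 6324 (BT.node 6322 (BT.node 6321 (BT.node 6320 (BT.leaf cT6320) (BT.leaf cT6321)) (BT.leaf cT6322)) (BT.node 6323 (BT.leaf cT6323) (BT.leaf cT6324))) (BT.node 6327 (BT.node 6326 (BT.node 6325 (BT.leaf cT6325) (BT.leaf cT6326)) (BT.leaf cT6327)) (BT.node 6328 (BT.leaf cT6328) (BT.leaf cT6329))))))) (BT.node 6370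 (BT.node 6350 (BT.node 6340 (BT.node 6335 (BT.node 6332 (BT.node 6331 (BT.node 6330 (BT.leaf cT6330) (BT.leaf cT6331)) (BT.leaf cT6332)) (BT.node 6334 (BT.node 6333 (BT.leaf cT6333) (BT.leaf cT6334)) (BT.leaf cT6335))) (BT.node 6338 (BT.node 6337 (BT.node 6336 (BT.leaf cT6336) (BT.leaf cT6337)) (BT.leaf cT6338)) (BT.node 6339 (BT.leaf cT6339) (BT.leaf cT6340)))) (BT.node 6345 (BT.node 6343 (BT.node 6342 (BT.node 6341 (BT.leaf cT6341) (BT.leaf cT6342)) (BT.leaf cT6343)) (BT.node 6344 (BT.leaf cT6344) (BT.leaf cT6345))) (BT.node 6348 (BT.node 6347 (BT.node 6346 (BT.leaf cT6346) (BT.leaf cT6347)) (BT.leaf cT6348)) (BT.node 6349 (BT.leaf cT6349) (BT.leaf cT6350))))) (BT.node 6360 (BT.node 6355 (BT.node 6353 (BT.node 6352 (BT.node 6351 (BT.leaf cT6351) (BT.leaf cT6352)) (BT.leaf cT6353)) (BT.node 6354 (BT.leaf cT6354) (BT.leaf cT6355))) (BT.node 6358 (BT.node 6357 (BT.node 6356 (BT.leaf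 cT6356) (BT.leaf cT6357)) (BT.leaf cT6358)) (BT.node 6359 (BT.leaf cT6359) (BT.leaf cT6360)))) (BT.node 6365 (BT.node 6363 (BT.node 6362 (BT.node 6361 (BT.leaf cT6361) (BT.leaf cT6362)) (BT.leaf cT6363)) (BT.node 6364 (BT.leaf cT6364) (BT.leaf cT6365))) (BT.node 6368 (BT.node 6367 (BT.node 6366 (BT.leaf cT6366) (BT.leaf cT6367)) (BT.leaf cT6368)) (BT.node 6369 (BT.leaf cT6369) (BT.leaf cT6370)))))) (BT.node 6391 (BT.node 6381 (BT.node 6376 (BT.node 6373 (BT.node 6372 (BT.node 6371 (BT.leaf cT6371) (BT.leaf cT6372)) (BT.leaf cT6373)) (BT.node 6375 (BT.node 6374 (BT.leaf cT6374) (BT.leaf cT6375)) (BT.leaf cT6376))) (BT.node 6379 (BT.node 6378 (BT.node 6377 (BT.leaf cT6377) (BT.leaf cT6378)) (BT.leaf cT6379)) (BT.node 6380 (BT.leaf cT6380) (BT.leaf cT6381)))) (BT.node 6386 (BT.node 6384 (BT.node 6383 (BT.node 6382 (BT.leaf cT6382) (BT.leaf cT6383)) (BT.leaf cT6384)) (BT.node 6385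 (BT.leaf cT6385) (BT.leaf cT6386))) (BT.node 6389 (BT.node 6388 (BT.node 6387 (BT.leaf cT6387) (BT.leaf cT6388)) (BT.leaf cT6389)) (BT.node 6390 (BT.leaf cT6390) (BT.leaf cT6391))))) (BT.node 6401 (BT.node 6396 (BT.node 6394 (BT.node 6393 (BT.node 6392 (BT.leaf cT6392) (BT.leaf cT6393)) (BT.leaf cT6394)) (BT.node 6395 (BT.leaf cT6395) (BT.leaf cT6396))) (BT.node 6399 (BT.node 6398 (BT.node 6397 (BT.leaf cT6397) (BT.leaf cT6398)) (BT.leaf cT6399)) (BT.node 6400 (BT.leaf cT6400) (BT.leaf cT6401)))) (BT.node 6406 (BT.node 6404 (BT.node 6403 (BT.node 6402 (BT.leaf cT6402) (BT.leaf cT6403)) (BT.leaf cT6404)) (BT.node 6405 (BT.leaf cT6405) (BT.leaf cT6406))) (BT.node 6409 (BT.node 6408 (BT.node 6407 (BT.leaf cT6407) (BT.leaf cT6408)) (BT.leaf cT6409)) (BT.node 6410 (BT.leaf cT6410) (BT.leaf cT6411))))))))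
noncomputable def colTT_39 : BT ℕ := (BT.node 6493 (BT.node 6452 (BT.node 6432 (BT.node 6422 (BT.node 6417 (BT.node 6414 (BT.node 6413 (BT.node 6412 (BT.leaf cT6412) (BT.leaf cT6413)) (BT.leaf cT6414)) (BT.node 6416 (BT.node 6415 (BT.leaf cT6415) (BT.leaf cT6416)) (BT.leaf cT6417))) (BT.node 6420 (BT.node 6419 (BT.node 6418 (BT.leaf cT6418) (BT.leaf cT6419)) (BT.leaf cT6420)) (BT.node 6421 (BT.leaf cT6421) (BT.leaf cT6422)))) (BT.node 6427 (BT.node 6425 (BT.node 6424 (BT.node 6423 (BT.leaf cT6423) (BT.leaf cT6424)) (BT.leaf cT6425)) (BT.node 6426 (BT.leaf cT6426) (BT.leaf cT6427))) (BT.node 6430 (BT.node 6429 (BT.node 6428 (BT.leaf cT6428) (BT.leaf cT6429)) (BT.leaf cT6430)) (BT.node 6431 (BT.leaf cT6431) (BT.leaf cT6432))))) (BT.node 6442 (BT.node 6437 (BT.node 6435 (BT.node 6434 (BT.node 6433 (BT.leaf cT6433) (BT.leaf cT6434)) (BT.leaf cT6435)) (BT.node 6436 (BT.leaf cT6436)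 (BT.leaf cT6437))) (BT.node 6440 (BT.node 6439 (BT.node 6438 (BT.leaf cT6438) (BT.leaf cT6439)) (BT.leaf cT6440)) (BT.node 6441 (BT.leaf cT6441) (BT.leaf cT6442)))) (BT.node 6447 (BT.node 6445 (BT.node 6444 (BT.node 6443 (BT.leaf cT6443) (BT.leaf cT6444)) (BT.leaf cT6445)) (BT.node 6446 (BT.leaf cT6446) (BT.leaf cT6447))) (BT.node 6450 (BT.node 6449 (BT.node 6448 (BT.leaf cT6448) (BT.leaf cT6449)) (BT.leaf cT6450)) (BT.node 6451 (BT.leaf cT6451) (BT.leaf cT6452)))))) (BT.node 6473 (BT.node 6463 (BT.node 6458 (BT.node 6455 (BT.node 6454 (BT.node 6453 (BT.leaf cT6453) (BT.leaf cT6454)) (BT.leaf cT6455)) (BT.node 6457 (BT.node 6456 (BT.leaf cT6456) (BT.leaf cT6457)) (BT.leaf cT6458))) (BT.node 6461 (BT.node 6460 (BT.node 6459 (BT.leaf cT6459) (BT.leaf cT6460)) (BT.leaf cT6461)) (BT.node 6462 (BT.leaf cT6462) (BT.leaf cT6463)))) (BT.node 6468 (BT.node 6466 (BT.node 6465 (BT.node 6464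 (BT.leaf cT6464) (BT.leaf cT6465)) (BT.leaf cT6466)) (BT.node 6467 (BT.leaf cT6467) (BT.leaf cT6468))) (BT.node 6471 (BT.node 6470 (BT.node 6469 (BT.leaf cT6469) (BT.leaf cT6470)) (BT.leaf cT6471)) (BT.node 6472 (BT.leaf cT6472) (BT.leaf cT6473))))) (BT.node 6483 (BT.node 6478 (BT.node 6476 (BT.node 6475 (BT.node 6474 (BT.leaf cT6474) (BT.leaf cT6475)) (BT.leaf cT6476)) (BT.node 6477 (BT.leaf cT6477) (BT.leaf cT6478))) (BT.node 6481 (BT.node 6480 (BT.node 6479 (BT.leaf cT6479) (BT.leaf cT6480)) (BT.leaf cT6481)) (BT.node 6482 (BT.leaf cT6482) (BT.leaf cT6483)))) (BT.node 6488 (BT.node 6486 (BT.node 6485 (BT.node 6484 (BT.leaf cT6484) (BT.leaf cT6485)) (BT.leaf cT6486)) (BT.node 6487 (BT.leaf cT6487) (BT.leaf cT6488))) (BT.node 6491 (BT.node 6490 (BT.node 6489 (BT.leaf cT6489) (BT.leaf cT6490)) (BT.leaf cT6491)) (BT.node 6492 (BT.leaf cT6492) (BT.leaf cT6493))))))) (BT.node 6534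 (BT.node 6514 (BT.node 6504 (BT.node 6499 (BT.node 6496 (BT.node 6495 (BT.node 6494 (BT.leaf cT6494) (BT.leaf cT6495)) (BT.leaf cT6496)) (BT.node 6498 (BT.node 6497 (BT.leaf cT6497) (BT.leaf cT6498)) (BT.leaf cT6499))) (BT.node 6502 (BT.node 6501 (BT.node 6500 (BT.leaf cT6500) (BT.leaf cT6501)) (BT.leaf cT6502)) (BT.node 6503 (BT.leaf cT6503) (BT.leaf cT6504)))) (BT.node 6509 (BT.node 6507 (BT.node 6506 (BT.node 6505 (BT.leaf cT6505) (BT.leaf cT6506)) (BT.leaf cT6507)) (BT.node 6508 (BT.leaf cT6508) (BT.leaf cT6509))) (BT.node 6512 (BT.node 6511 (BT.node 6510 (BT.leaf cT6510) (BT.leaf cT6511)) (BT.leaf cT6512)) (BT.node 6513 (BT.leaf cT6513) (BT.leaf cT6514))))) (BT.node 6524 (BT.node 6519 (BT.node 6517 (BT.node 6516 (BT.node 6515 (BT.leaf cT6515) (BT.leaf cT6516)) (BT.leaf cT6517)) (BT.node 6518 (BT.leaf cT6518) (BT.leaf cT6519))) (BT.node 6522 (BT.node 6521 (BT.node 6520 (BT.leaf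 cT6520) (BT.leaf cT6521)) (BT.leaf cT6522)) (BT.node 6523 (BT.leaf cT6523) (BT.leaf cT6524)))) (BT.node 6529 (BT.node 6527 (BT.node 6526 (BT.node 6525 (BT.leaf cT6525) (BT.leaf cT6526)) (BT.leaf cT6527)) (BT.node 6528 (BT.leaf cT6528) (BT.leaf cT6529))) (BT.node 6532 (BT.node 6531 (BT.node 6530 (BT.leaf cT6530) (BT.leaf cT6531)) (BT.leaf cT6532)) (BT.node 6533 (BT.leaf cT6533) (BT.leaf cT6534)))))) (BT.node 6555 (BT.node 6545 (BT.node 6540 (BT.node 6537 (BT.node 6536 (BT.node 6535 (BT.leaf cT6535) (BT.leaf cT6536)) (BT.leaf cT6537)) (BT.node 6539 (BT.node 6538 (BT.leaf cT6538) (BT.leaf cT6539)) (BT.leaf cT6540))) (BT.node 6543 (BT.node 6542 (BT.node 6541 (BT.leaf cT6541) (BT.leaf cT6542)) (BT.leaf cT6543)) (BT.node 6544 (BT.leaf cT6544) (BT.leaf cT6545)))) (BT.node 6550 (BT.node 6548 (BT.node 6547 (BT.node 6546 (BT.leaf cT6546) (BT.leaf cT6547)) (BT.leaf cT6548)) (BT.node 6549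 (BT.leaf cT6549) (BT.leaf cT6550))) (BT.node 6553 (BT.node 6552 (BT.node 6551 (BT.leaf cT6551) (BT.leaf cT6552)) (BT.leaf cT6553)) (BT.node 6554 (BT.leaf cT6554) (BT.leaf cT6555))))) (BT.node 6565 (BT.node 6560 (BT.node 6558 (BT.node 6557 (BT.node 6556 (BT.leaf cT6556) (BT.leaf cT6557)) (BT.leaf cT6558)) (BT.node 6559 (BT.leaf cT6559) (BT.leaf cT6560))) (BT.node 6563 (BT.node 6562 (BT.node 6561 (BT.leaf cT6561) (BT.leaf cT6562)) (BT.leaf cT6563)) (BT.node 6564 (BT.leaf cT6564) (BT.leaf cT6565)))) (BT.node 6570 (BT.node 6568 (BT.node 6567 (BT.node 6566 (BT.leaf cT6566) (BT.leaf cT6567)) (BT.leaf cT6568)) (BT.node 6569 (BT.leaf cT6569) (BT.leaf cT6570))) (BT.node 6573 (BT.node 6572 (BT.node 6571 (BT.leaf cT6571) (BT.leaf cT6572)) (BT.leaf cT6573)) (BT.node 6574 (BT.leaf cT6574) (BT.leaf cT6575))))))))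
noncomputable def colTT_40 : BT ℕ := (BT.node 6658 (BT.node 6617 (BT.node 6596 (BT.node 6586 (BT.node 6581 (BT.node 6578 (BT.node 6577 (BT.node 6576 (BT.leaf cT6576) (BT.leaf cT6577)) (BT.leaf cT6578)) (BT.node 6580 (BT.node 6579 (BT.leaf cT6579) (BT.leaf cT6580)) (BT.leaf cT6581))) (BT.node 6584 (BT.node 6583 (BT.node 6582 (BT.leaf cT6582) (BT.leaf cT6583)) (BT.leaf cT6584)) (BT.node 6585 (BT.leaf cT6585) (BT.leaf cT6586)))) (BT.node 6591 (BT.node 6589 (BT.node 6588 (BT.node 6587 (BT.leaf cT6587) (BT.leaf cT6588)) (BT.leaf cT6589)) (BT.node 6590 (BT.leaf cT6590) (BT.leaf cT6591))) (BT.node 6594 (BT.node 6593 (BT.node 6592 (BT.leaf cT6592) (BT.leaf cT6593)) (BT.leaf cT6594)) (BT.node 6595 (BT.leaf cT6595) (BT.leaf cT6596))))) (BT.node 6607 (BT.node 6602 (BT.node 6599 (BT.node 6598 (BT.node 6597 (BT.leaf cT6597) (BT.leaf cT6598)) (BT.leaf cT6599)) (BT.node 6601 (BT.node 6600 (BT.leaf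 cT6600) (BT.leaf cT6601)) (BT.leaf cT6602))) (BT.node 6605 (BT.node 6604 (BT.node 6603 (BT.leaf cT6603) (BT.leaf cT6604)) (BT.leaf cT6605)) (BT.node 6606 (BT.leaf cT6606) (BT.leaf cT6607)))) (BT.node 6612 (BT.node 6610 (BT.node 6609 (BT.node 6608 (BT.leaf cT6608) (BT.leaf cT6609)) (BT.leaf cT6610)) (BT.node 6611 (BT.leaf cT6611) (BT.leaf cT6612))) (BT.node 6615 (BT.node 6614 (BT.node 6613 (BT.leaf cT6613) (BT.leaf cT6614)) (BT.leaf cT6615)) (BT.node 6616 (BT.leaf cT6616) (BT.leaf cT6617)))))) (BT.node 6638 (BT.node 6628 (BT.node 6623 (BT.node 6620 (BT.node 6619 (BT.node 6618 (BT.leaf cT6618) (BT.leaf cT6619)) (BT.leaf cT6620)) (BT.node 6622 (BT.node 6621 (BT.leaf cT6621) (BT.leaf cT6622)) (BT.leaf cT6623))) (BT.node 6626 (BT.node 6625 (BT.node 6624 (BT.leaf cT6624) (BT.leaf cT6625)) (BT.leaf cT6626)) (BT.node 6627 (BT.leaf cT6627) (BT.leaf cT6628)))) (BT.node 6633 (BT.node 6631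 (BT.node 6630 (BT.node 6629 (BT.leaf cT6629) (BT.leaf cT6630)) (BT.leaf cT6631)) (BT.node 6632 (BT.leaf cT6632) (BT.leaf cT6633))) (BT.node 6636 (BT.node 6635 (BT.node 6634 (BT.leaf cT6634) (BT.leaf cT6635)) (BT.leaf cT6636)) (BT.node 6637 (BT.leaf cT6637) (BT.leaf cT6638))))) (BT.node 6648 (BT.node 6643 (BT.node 6641 (BT.node 6640 (BT.node 6639 (BT.leaf cT6639) (BT.leaf cT6640)) (BT.leaf cT6641)) (BT.node 6642 (BT.leaf cT6642) (BT.leaf cT6643))) (BT.node 6646 (BT.node 6645 (BT.node 6644 (BT.leaf cT6644) (BT.leaf cT6645)) (BT.leaf cT6646)) (BT.node 6647 (BT.leaf cT6647) (BT.leaf cT6648)))) (BT.node 6653 (BT.node 6651 (BT.node 6650 (BT.node 6649 (BT.leaf cT6649) (BT.leaf cT6650)) (BT.leaf cT6651)) (BT.node 6652 (BT.leaf cT6652) (BT.leaf cT6653))) (BT.node 6656 (BT.node 6655 (BT.node 6654 (BT.leaf cT6654) (BT.leaf cT6655)) (BT.leaf cT6656)) (BT.node 6657 (BT.leaf cT6657) (BT.leaf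 cT6658))))))) (BT.node 6699 (BT.node 6679 (BT.node 6669 (BT.node 6664 (BT.node 6661 (BT.node 6660 (BT.node 6659 (BT.leaf cT6659) (BT.leaf cT6660)) (BT.leaf cT6661)) (BT.node 6663 (BT.node 6662 (BT.leaf cT6662) (BT.leaf cT6663)) (BT.leaf cT6664))) (BT.node 6667 (BT.node 6666 (BT.node 6665 (BT.leaf cT6665) (BT.leaf cT6666)) (BT.leaf cT6667)) (BT.node 6668 (BT.leaf cT6668) (BT.leaf cT6669)))) (BT.node 6674 (BT.node 6672 (BT.node 6671 (BT.node 6670 (BT.leaf cT6670) (BT.leaf cT6671)) (BT.leaf cT6672)) (BT.node 6673 (BT.leaf cT6673) (BT.leaf cT6674))) (BT.node 6677 (BT.node 6676 (BT.node 6675 (BT.leaf cT6675) (BT.leaf cT6676)) (BT.leaf cT6677)) (BT.node 6678 (BT.leaf cT6678) (BT.leaf cT6679))))) (BT.node 6689 (BT.node 6684 (BT.node 6682 (BT.node 6681 (BT.node 6680 (BT.leaf cT6680) (BT.leaf cT6681)) (BT.leaf cT6682)) (BT.node 6683 (BT.leaf cT6683) (BT.leaf cT6684))) (BT.node 6687 (BT.node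 6686 (BT.node 6685 (BT.leaf cT6685) (BT.leaf cT6686)) (BT.leaf cT6687)) (BT.node 6688 (BT.leaf cT6688) (BT.leaf cT6689)))) (BT.node 6694 (BT.node 6692 (BT.node 6691 (BT.node 6690 (BT.leaf cT6690) (BT.leaf cT6691)) (BT.leaf cT6692)) (BT.node 6693 (BT.leaf cT6693) (BT.leaf cT6694))) (BT.node 6697 (BT.node 6696 (BT.node 6695 (BT.leaf cT6695) (BT.leaf cT6696)) (BT.leaf cT6697)) (BT.node 6698 (BT.leaf cT6698) (BT.leaf cT6699)))))) (BT.node 6720 (BT.node 6710 (BT.node 6705 (BT.node 6702 (BT.node 6701 (BT.node 6700 (BT.leaf cT6700) (BT.leaf cT6701)) (BT.leaf cT6702)) (BT.node 6704 (BT.node 6703 (BT.leaf cT6703) (BT.leaf cT6704)) (BT.leaf cT6705))) (BT.node 6708 (BT.node 6707 (BT.node 6706 (BT.leaf cT6706) (BT.leaf cT6707)) (BT.leaf cT6708)) (BT.node 6709 (BT.leaf cT6709) (BT.leaf cT6710)))) (BT.node 6715 (BT.node 6713 (BT.node 6712 (BT.node 6711 (BT.leaf cT6711) (BT.leaf cT6712)) (BT.leaf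 cT6713)) (BT.node 6714 (BT.leaf cT6714) (BT.leaf cT6715))) (BT.node 6718 (BT.node 6717 (BT.node 6716 (BT.leaf cT6716) (BT.leaf cT6717)) (BT.leaf cT6718)) (BT.node 6719 (BT.leaf cT6719) (BT.leaf cT6720))))) (BT.node 6730 (BT.node 6725 (BT.node 6723 (BT.node 6722 (BT.node 6721 (BT.leaf cT6721) (BT.leaf cT6722)) (BT.leaf cT6723)) (BT.node 6724 (BT.leaf cT6724) (BT.leaf cT6725))) (BT.node 6728 (BT.node 6727 (BT.node 6726 (BT.leaf cT6726) (BT.leaf cT6727)) (BT.leaf cT6728)) (BT.node 6729 (BT.leaf cT6729) (BT.leaf cT6730)))) (BT.node 6735 (BT.node 6733 (BT.node 6732 (BT.node 6731 (BT.leaf cT6731) (BT.leaf cT6732)) (BT.leaf cT6733)) (BT.node 6734 (BT.leaf cT6734) (BT.leaf cT6735))) (BT.node 6738 (BT.node 6737 (BT.node 6736 (BT.leaf cT6736) (BT.leaf cT6737)) (BT.leaf cT6738)) (BT.node 6739 (BT.leaf cT6739) (BT.leaf cT6740))))))))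
noncomputable def colTT_41 : BT ℕ := (BT.node 6822 (BT.node 6781 (BT.node 6761 (BT.node 6751 (BT.node 6746 (BT.node 6743 (BT.node 6742 (BT.node 6741 (BT.leaf cT6741) (BT.leaf cT6742)) (BT.leaf cT6743)) (BT.node 6745 (BT.node 6744 (BT.leaf cT6744) (BT.leaf cT6745)) (BT.leaf cT6746))) (BT.node 6749 (BT.node 6748 (BT.node 6747 (BT.leaf cT6747) (BT.leaf cT6748)) (BT.leaf cT6749)) (BT.node 6750 (BT.leaf cT6750) (BT.leaf cT6751)))) (BT.node 6756 (BT.node 6754 (BT.node 6753 (BT.node 6752 (BT.leaf cT6752) (BT.leaf cT6753)) (BT.leaf cT6754)) (BT.node 6755 (BT.leaf cT6755) (BT.leaf cT6756))) (BT.node 6759 (BT.node 6758 (BT.node 6757 (BT.leaf cT6757) (BT.leaf cT6758)) (BT.leaf cT6759)) (BT.node 6760 (BT.leaf cT6760) (BT.leaf cT6761))))) (BT.node 6771 (BT.node 6766 (BT.node 6764 (BT.node 6763 (BT.node 6762 (BT.leaf cT6762) (BT.leaf cT6763)) (BT.leaf cT6764)) (BT.node 6765 (BT.leaf cT6765)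 (BT.leaf cT6766))) (BT.node 6769 (BT.node 6768 (BT.node 6767 (BT.leaf cT6767) (BT.leaf cT6768)) (BT.leaf cT6769)) (BT.node 6770 (BT.leaf cT6770) (BT.leaf cT6771)))) (BT.node 6776 (BT.node 6774 (BT.node 6773 (BT.node 6772 (BT.leaf cT6772) (BT.leaf cT6773)) (BT.leaf cT6774)) (BT.node 6775 (BT.leaf cT6775) (BT.leaf cT6776))) (BT.node 6779 (BT.node 6778 (BT.node 6777 (BT.leaf cT6777) (BT.leaf cT6778)) (BT.leaf cT6779)) (BT.node 6780 (BT.leaf cT6780) (BT.leaf cT6781)))))) (BT.node 6802 (BT.node 6792 (BT.node 6787 (BT.node 6784 (BT.node 6783 (BT.node 6782 (BT.leaf cT6782) (BT.leaf cT6783)) (BT.leaf cT6784)) (BT.node 6786 (BT.node 6785 (BT.leaf cT6785) (BT.leaf cT6786)) (BT.leaf cT6787))) (BT.node 6790 (BT.node 6789 (BT.node 6788 (BT.leaf cT6788) (BT.leaf cT6789)) (BT.leaf cT6790)) (BT.node 6791 (BT.leaf cT6791) (BT.leaf cT6792)))) (BT.node 6797 (BT.node 6795 (BT.node 6794 (BT.node 6793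 (BT.leaf cT6793) (BT.leaf cT6794)) (BT.leaf cT6795)) (BT.node 6796 (BT.leaf cT6796) (BT.leaf cT6797))) (BT.node 6800 (BT.node 6799 (BT.node 6798 (BT.leaf cT6798) (BT.leaf cT6799)) (BT.leaf cT6800)) (BT.node 6801 (BT.leaf cT6801) (BT.leaf cT6802))))) (BT.node 6812 (BT.node 6807 (BT.node 6805 (BT.node 6804 (BT.node 6803 (BT.leaf cT6803) (BT.leaf cT6804)) (BT.leaf cT6805)) (BT.node 6806 (BT.leaf cT6806) (BT.leaf cT6807))) (BT.node 6810 (BT.node 6809 (BT.node 6808 (BT.leaf cT6808) (BT.leaf cT6809)) (BT.leaf cT6810)) (BT.node 6811 (BT.leaf cT6811) (BT.leaf cT6812)))) (BT.node 6817 (BT.node 6815 (BT.node 6814 (BT.node 6813 (BT.leaf cT6813) (BT.leaf cT6814)) (BT.leaf cT6815)) (BT.node 6816 (BT.leaf cT6816) (BT.leaf cT6817))) (BT.node 6820 (BT.node 6819 (BT.node 6818 (BT.leaf cT6818) (BT.leaf cT6819)) (BT.leaf cT6820)) (BT.node 6821 (BT.leaf cT6821) (BT.leaf cT6822))))))) (BT.node 6863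 (BT.node 6843 (BT.node 6833 (BT.node 6828 (BT.node 6825 (BT.node 6824 (BT.node 6823 (BT.leaf cT6823) (BT.leaf cT6824)) (BT.leaf cT6825)) (BT.node 6827 (BT.node 6826 (BT.leaf cT6826) (BT.leaf cT6827)) (BT.leaf cT6828))) (BT.node 6831 (BT.node 6830 (BT.node 6829 (BT.leaf cT6829) (BT.leaf cT6830)) (BT.leaf cT6831)) (BT.node 6832 (BT.leaf cT6832) (BT.leaf cT6833)))) (BT.node 6838 (BT.node 6836 (BT.node 6835 (BT.node 6834 (BT.leaf cT6834) (BT.leaf cT6835)) (BT.leaf cT6836)) (BT.node 6837 (BT.leaf cT6837) (BT.leaf cT6838))) (BT.node 6841 (BT.node 6840 (BT.node 6839 (BT.leaf cT6839) (BT.leaf cT6840)) (BT.leaf cT6841)) (BT.node 6842 (BT.leaf cT6842) (BT.leaf cT6843))))) (BT.node 6853 (BT.node 6848 (BT.node 6846 (BT.node 6845 (BT.node 6844 (BT.leaf cT6844) (BT.leaf cT6845)) (BT.leaf cT6846)) (BT.node 6847 (BT.leaf cT6847) (BT.leaf cT6848))) (BT.node 6851 (BT.node 6850 (BT.node 6849 (BT.leaf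 cT6849) (BT.leaf cT6850)) (BT.leaf cT6851)) (BT.node 6852 (BT.leaf cT6852) (BT.leaf cT6853)))) (BT.node 6858 (BT.node 6856 (BT.node 6855 (BT.node 6854 (BT.leaf cT6854) (BT.leaf cT6855)) (BT.leaf cT6856)) (BT.node 6857 (BT.leaf cT6857) (BT.leaf cT6858))) (BT.node 6861 (BT.node 6860 (BT.node 6859 (BT.leaf cT6859) (BT.leaf cT6860)) (BT.leaf cT6861)) (BT.node 6862 (BT.leaf cT6862) (BT.leaf cT6863)))))) (BT.node 6884 (BT.node 6874 (BT.node 6869 (BT.node 6866 (BT.node 6865 (BT.node 6864 (BT.leaf cT6864) (BT.leaf cT6865)) (BT.leaf cT6866)) (BT.node 6868 (BT.node 6867 (BT.leaf cT6867) (BT.leaf cT6868)) (BT.leaf cT6869))) (BT.node 6872 (BT.node 6871 (BT.node 6870 (BT.leaf cT6870) (BT.leaf cT6871)) (BT.leaf cT6872)) (BT.node 6873 (BT.leaf cT6873) (BT.leaf cT6874)))) (BT.node 6879 (BT.node 6877 (BT.node 6876 (BT.node 6875 (BT.leaf cT6875) (BT.leaf cT6876)) (BT.leaf cT6877)) (BT.node 6878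 (BT.leaf cT6878) (BT.leaf cT6879))) (BT.node 6882 (BT.node 6881 (BT.node 6880 (BT.leaf cT6880) (BT.leaf cT6881)) (BT.leaf cT6882)) (BT.node 6883 (BT.leaf cT6883) (BT.leaf cT6884))))) (BT.node 6894 (BT.node 6889 (BT.node 6887 (BT.node 6886 (BT.node 6885 (BT.leaf cT6885) (BT.leaf cT6886)) (BT.leaf cT6887)) (BT.node 6888 (BT.leaf cT6888) (BT.leaf cT6889))) (BT.node 6892 (BT.node 6891 (BT.node 6890 (BT.leaf cT6890) (BT.leaf cT6891)) (BT.leaf cT6892)) (BT.node 6893 (BT.leaf cT6893) (BT.leaf cT6894)))) (BT.node 6899 (BT.node 6897 (BT.node 6896 (BT.node 6895 (BT.leaf cT6895) (BT.leaf cT6896)) (BT.leaf cT6897)) (BT.node 6898 (BT.leaf cT6898) (BT.leaf cT6899))) (BT.node 6902 (BT.node 6901 (BT.node 6900 (BT.leaf cT6900) (BT.leaf cT6901)) (BT.leaf cT6902)) (BT.node 6903 (BT.leaf cT6903) (BT.leaf cT6904))))))))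
noncomputable def colTT_42 : BT ℕ := (BT.node 6987 (BT.node 6946 (BT.node 6925 (BT.node 6915 (BT.node 6910 (BT.node 6907 (BT.node 6906 (BT.node 6905 (BT.leaf cT6905) (BT.leaf cT6906)) (BT.leaf cT6907)) (BT.node 6909 (BT.node 6908 (BT.leaf cT6908) (BT.leaf cT6909)) (BT.leaf cT6910))) (BT.node 6913 (BT.node 6912 (BT.node 6911 (BT.leaf cT6911) (BT.leaf cT6912)) (BT.leaf cT6913)) (BT.node 6914 (BT.leaf cT6914) (BT.leaf cT6915)))) (BT.node 6920 (BT.node 6918 (BT.node 6917 (BT.node 6916 (BT.leaf cT6916) (BT.leaf cT6917)) (BT.leaf cT6918)) (BT.node 6919 (BT.leaf cT6919) (BT.leaf cT6920))) (BT.node 6923 (BT.node 6922 (BT.node 6921 (BT.leaf cT6921) (BT.leaf cT6922)) (BT.leaf cT6923)) (BT.node 6924 (BT.leaf cT6924) (BT.leaf cT6925))))) (BT.node 6936 (BT.node 6931 (BT.node 6928 (BT.node 6927 (BT.node 6926 (BT.leaf cT6926) (BT.leaf cT6927)) (BT.leaf cT6928)) (BT.node 6930 (BT.node 6929 (BT.leaf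 cT6929) (BT.leaf cT6930)) (BT.leaf cT6931))) (BT.node 6934 (BT.node 6933 (BT.node 6932 (BT.leaf cT6932) (BT.leaf cT6933)) (BT.leaf cT6934)) (BT.node 6935 (BT.leaf cT6935) (BT.leaf cT6936)))) (BT.node 6941 (BT.node 6939 (BT.node 6938 (BT.node 6937 (BT.leaf cT6937) (BT.leaf cT6938)) (BT.leaf cT6939)) (BT.node 6940 (BT.leaf cT6940) (BT.leaf cT6941))) (BT.node 6944 (BT.node 6943 (BT.node 6942 (BT.leaf cT6942) (BT.leaf cT6943)) (BT.leaf cT6944)) (BT.node 6945 (BT.leaf cT6945) (BT.leaf cT6946)))))) (BT.node 6967 (BT.node 6957 (BT.node 6952 (BT.node 6949 (BT.node 6948 (BT.node 6947 (BT.leaf cT6947) (BT.leaf cT6948)) (BT.leaf cT6949)) (BT.node 6951 (BT.node 6950 (BT.leaf cT6950) (BT.leaf cT6951)) (BT.leaf cT6952))) (BT.node 6955 (BT.node 6954 (BT.node 6953 (BT.leaf cT6953) (BT.leaf cT6954)) (BT.leaf cT6955)) (BT.node 6956 (BT.leaf cT6956) (BT.leaf cT6957)))) (BT.node 6962 (BT.node 6960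 (BT.node 6959 (BT.node 6958 (BT.leaf cT6958) (BT.leaf cT6959)) (BT.leaf cT6960)) (BT.node 6961 (BT.leaf cT6961) (BT.leaf cT6962))) (BT.node 6965 (BT.node 6964 (BT.node 6963 (BT.leaf cT6963) (BT.leaf cT6964)) (BT.leaf cT6965)) (BT.node 6966 (BT.leaf cT6966) (BT.leaf cT6967))))) (BT.node 6977 (BT.node 6972 (BT.node 6970 (BT.node 6969 (BT.node 6968 (BT.leaf cT6968) (BT.leaf cT6969)) (BT.leaf cT6970)) (BT.node 6971 (BT.leaf cT6971) (BT.leaf cT6972))) (BT.node 6975 (BT.node 6974 (BT.node 6973 (BT.leaf cT6973) (BT.leaf cT6974)) (BT.leaf cT6975)) (BT.node 6976 (BT.leaf cT6976) (BT.leaf cT6977)))) (BT.node 6982 (BT.node 6980 (BT.node 6979 (BT.node 6978 (BT.leaf cT6978) (BT.leaf cT6979)) (BT.leaf cT6980)) (BT.node 6981 (BT.leaf cT6981) (BT.leaf cT6982))) (BT.node 6985 (BT.node 6984 (BT.node 6983 (BT.leaf cT6983) (BT.leaf cT6984)) (BT.leaf cT6985)) (BT.node 6986 (BT.leaf cT6986) (BT.leaf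 cT6987))))))) (BT.node 7028 (BT.node 7008 (BT.node 6998 (BT.node 6993 (BT.node 6990 (BT.node 6989 (BT.node 6988 (BT.leaf cT6988) (BT.leaf cT6989)) (BT.leaf cT6990)) (BT.node 6992 (BT.node 6991 (BT.leaf cT6991) (BT.leaf cT6992)) (BT.leaf cT6993))) (BT.node 6996 (BT.node 6995 (BT.node 6994 (BT.leaf cT6994) (BT.leaf cT6995)) (BT.leaf cT6996)) (BT.node 6997 (BT.leaf cT6997) (BT.leaf cT6998)))) (BT.node 7003 (BT.node 7001 (BT.node 7000 (BT.node 6999 (BT.leaf cT6999) (BT.leaf cT7000)) (BT.leaf cT7001)) (BT.node 7002 (BT.leaf cT7002) (BT.leaf cT7003))) (BT.node 7006 (BT.node 7005 (BT.node 7004 (BT.leaf cT7004) (BT.leaf cT7005)) (BT.leaf cT7006)) (BT.node 7007 (BT.leaf cT7007) (BT.leaf cT7008))))) (BT.node 7018 (BT.node 7013 (BT.node 7011 (BT.node 7010 (BT.node 7009 (BT.leaf cT7009) (BT.leaf cT7010)) (BT.leaf cT7011)) (BT.node 7012 (BT.leaf cT7012) (BT.leaf cT7013))) (BT.node 7016 (BT.node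 7015 (BT.node 7014 (BT.leaf cT7014) (BT.leaf cT7015)) (BT.leaf cT7016)) (BT.node 7017 (BT.leaf cT7017) (BT.leaf cT7018)))) (BT.node 7023 (BT.node 7021 (BT.node 7020 (BT.node 7019 (BT.leaf cT7019) (BT.leaf cT7020)) (BT.leaf cT7021)) (BT.node 7022 (BT.leaf cT7022) (BT.leaf cT7023))) (BT.node 7026 (BT.node 7025 (BT.node 7024 (BT.leaf cT7024) (BT.leaf cT7025)) (BT.leaf cT7026)) (BT.node 7027 (BT.leaf cT7027) (BT.leaf cT7028)))))) (BT.node 7049 (BT.node 7039 (BT.node 7034 (BT.node 7031 (BT.node 7030 (BT.node 7029 (BT.leaf cT7029) (BT.leaf cT7030)) (BT.leaf cT7031)) (BT.node 7033 (BT.node 7032 (BT.leaf cT7032) (BT.leaf cT7033)) (BT.leaf cT7034))) (BT.node 7037 (BT.node 7036 (BT.node 7035 (BT.leaf cT7035) (BT.leaf cT7036)) (BT.leaf cT7037)) (BT.node 7038 (BT.leaf cT7038) (BT.leaf cT7039)))) (BT.node 7044 (BT.node 7042 (BT.node 7041 (BT.node 7040 (BT.leaf cT7040) (BT.leaf cT7041)) (BT.leaf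 cT7042)) (BT.node 7043 (BT.leaf cT7043) (BT.leaf cT7044))) (BT.node 7047 (BT.node 7046 (BT.node 7045 (BT.leaf cT7045) (BT.leaf cT7046)) (BT.leaf cT7047)) (BT.node 7048 (BT.leaf cT7048) (BT.leaf cT7049))))) (BT.node 7059 (BT.node 7054 (BT.node 7052 (BT.node 7051 (BT.node 7050 (BT.leaf cT7050) (BT.leaf cT7051)) (BT.leaf cT7052)) (BT.node 7053 (BT.leaf cT7053) (BT.leaf cT7054))) (BT.node 7057 (BT.node 7056 (BT.node 7055 (BT.leaf cT7055) (BT.leaf cT7056)) (BT.leaf cT7057)) (BT.node 7058 (BT.leaf cT7058) (BT.leaf cT7059)))) (BT.node 7064 (BT.node 7062 (BT.node 7061 (BT.node 7060 (BT.leaf cT7060) (BT.leaf cT7061)) (BT.leaf cT7062)) (BT.node 7063 (BT.leaf cT7063) (BT.leaf cT7064))) (BT.node 7067 (BT.node 7066 (BT.node 7065 (BT.leaf cT7065) (BT.leaf cT7066)) (BT.leaf cT7067)) (BT.node 7068 (BT.leaf cT7068) (BT.leaf cT7069))))))))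
noncomputable def colTT_43 : BT ℕ := (BT.node 7151 (BT.node 7110 (BT.node 7090 (BT.node 7080 (BT.node 7075 (BT.node 7072 (BT.node 7071 (BT.node 7070 (BT.leaf cT7070) (BT.leaf cT7071)) (BT.leaf cT7072)) (BT.node 7074 (BT.node 7073 (BT.leaf cT7073) (BT.leaf cT7074)) (BT.leaf cT7075))) (BT.node 7078 (BT.node 7077 (BT.node 7076 (BT.leaf cT7076) (BT.leaf cT7077)) (BT.leaf cT7078)) (BT.node 7079 (BT.leaf cT7079) (BT.leaf cT7080)))) (BT.node 7085 (BT.node 7083 (BT.node 7082 (BT.node 7081 (BT.leaf cT7081) (BT.leaf cT7082)) (BT.leaf cT7083)) (BT.node 7084 (BT.leaf cT7084) (BT.leaf cT7085))) (BT.node 7088 (BT.node 7087 (BT.node 7086 (BT.leaf cT7086) (BT.leaf cT7087)) (BT.leaf cT7088)) (BT.node 7089 (BT.leaf cT7089) (BT.leaf cT7090))))) (BT.node 7100 (BT.node 7095 (BT.node 7093 (BT.node 7092 (BT.node 7091 (BT.leaf cT7091) (BT.leaf cT7092)) (BT.leaf cT7093)) (BT.node 7094 (BT.leaf cT7094)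 (BT.leaf cT7095))) (BT.node 7098 (BT.node 7097 (BT.node 7096 (BT.leaf cT7096) (BT.leaf cT7097)) (BT.leaf cT7098)) (BT.node 7099 (BT.leaf cT7099) (BT.leaf cT7100)))) (BT.node 7105 (BT.node 7103 (BT.node 7102 (BT.node 7101 (BT.leaf cT7101) (BT.leaf cT7102)) (BT.leaf cT7103)) (BT.node 7104 (BT.leaf cT7104) (BT.leaf cT7105))) (BT.node 7108 (BT.node 7107 (BT.node 7106 (BT.leaf cT7106) (BT.leaf cT7107)) (BT.leaf cT7108)) (BT.node 7109 (BT.leaf cT7109) (BT.leaf cT7110)))))) (BT.node 7131 (BT.node 7121 (BT.node 7116 (BT.node 7113 (BT.node 7112 (BT.node 7111 (BT.leaf cT7111) (BT.leaf cT7112)) (BT.leaf cT7113)) (BT.node 7115 (BT.node 7114 (BT.leaf cT7114) (BT.leaf cT7115)) (BT.leaf cT7116))) (BT.node 7119 (BT.node 7118 (BT.node 7117 (BT.leaf cT7117) (BT.leaf cT7118)) (BT.leaf cT7119)) (BT.node 7120 (BT.leaf cT7120) (BT.leaf cT7121)))) (BT.node 7126 (BT.node 7124 (BT.node 7123 (BT.node 7122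 (BT.leaf cT7122) (BT.leaf cT7123)) (BT.leaf cT7124)) (BT.node 7125 (BT.leaf cT7125) (BT.leaf cT7126))) (BT.node 7129 (BT.node 7128 (BT.node 7127 (BT.leaf cT7127) (BT.leaf cT7128)) (BT.leaf cT7129)) (BT.node 7130 (BT.leaf cT7130) (BT.leaf cT7131))))) (BT.node 7141 (BT.node 7136 (BT.node 7134 (BT.node 7133 (BT.node 7132 (BT.leaf cT7132) (BT.leaf cT7133)) (BT.leaf cT7134)) (BT.node 7135 (BT.leaf cT7135) (BT.leaf cT7136))) (BT.node 7139 (BT.node 7138 (BT.node 7137 (BT.leaf cT7137) (BT.leaf cT7138)) (BT.leaf cT7139)) (BT.node 7140 (BT.leaf cT7140) (BT.leaf cT7141)))) (BT.node 7146 (BT.node 7144 (BT.node 7143 (BT.node 7142 (BT.leaf cT7142) (BT.leaf cT7143)) (BT.leaf cT7144)) (BT.node 7145 (BT.leaf cT7145) (BT.leaf cT7146))) (BT.node 7149 (BT.node 7148 (BT.node 7147 (BT.leaf cT7147) (BT.leaf cT7148)) (BT.leaf cT7149)) (BT.node 7150 (BT.leaf cT7150) (BT.leaf cT7151))))))) (BT.node 7192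 (BT.node 7172 (BT.node 7162 (BT.node 7157 (BT.node 7154 (BT.node 7153 (BT.node 7152 (BT.leaf cT7152) (BT.leaf cT7153)) (BT.leaf cT7154)) (BT.node 7156 (BT.node 7155 (BT.leaf cT7155) (BT.leaf cT7156)) (BT.leaf cT7157))) (BT.node 7160 (BT.node 7159 (BT.node 7158 (BT.leaf cT7158) (BT.leaf cT7159)) (BT.leaf cT7160)) (BT.node 7161 (BT.leaf cT7161) (BT.leaf cT7162)))) (BT.node 7167 (BT.node 7165 (BT.node 7164 (BT.node 7163 (BT.leaf cT7163) (BT.leaf cT7164)) (BT.leaf cT7165)) (BT.node 7166 (BT.leaf cT7166) (BT.leaf cT7167))) (BT.node 7170 (BT.node 7169 (BT.node 7168 (BT.leaf cT7168) (BT.leaf cT7169)) (BT.leaf cT7170)) (BT.node 7171 (BT.leaf cT7171) (BT.leaf cT7172))))) (BT.node 7182 (BT.node 7177 (BT.node 7175 (BT.node 7174 (BT.node 7173 (BT.leaf cT7173) (BT.leaf cT7174)) (BT.leaf cT7175)) (BT.node 7176 (BT.leaf cT7176) (BT.leaf cT7177))) (BT.node 7180 (BT.node 7179 (BT.node 7178 (BT.leaf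 cT7178) (BT.leaf cT7179)) (BT.leaf cT7180)) (BT.node 7181 (BT.leaf cT7181) (BT.leaf cT7182)))) (BT.node 7187 (BT.node 7185 (BT.node 7184 (BT.node 7183 (BT.leaf cT7183) (BT.leaf cT7184)) (BT.leaf cT7185)) (BT.node 7186 (BT.leaf cT7186) (BT.leaf cT7187))) (BT.node 7190 (BT.node 7189 (BT.node 7188 (BT.leaf cT7188) (BT.leaf cT7189)) (BT.leaf cT7190)) (BT.node 7191 (BT.leaf cT7191) (BT.leaf cT7192)))))) (BT.node 7213 (BT.node 7203 (BT.node 7198 (BT.node 7195 (BT.node 7194 (BT.node 7193 (BT.leaf cT7193) (BT.leaf cT7194)) (BT.leaf cT7195)) (BT.node 7197 (BT.node 7196 (BT.leaf cT7196) (BT.leaf cT7197)) (BT.leaf cT7198))) (BT.node 7201 (BT.node 7200 (BT.node 7199 (BT.leaf cT7199) (BT.leaf cT7200)) (BT.leaf cT7201)) (BT.node 7202 (BT.leaf cT7202) (BT.leaf cT7203)))) (BT.node 7208 (BT.node 7206 (BT.node 7205 (BT.node 7204 (BT.leaf cT7204) (BT.leaf cT7205)) (BT.leaf cT7206)) (BT.node 7207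 (BT.leaf cT7207) (BT.leaf cT7208))) (BT.node 7211 (BT.node 7210 (BT.node 7209 (BT.leaf cT7209) (BT.leaf cT7210)) (BT.leaf cT7211)) (BT.node 7212 (BT.leaf cT7212) (BT.leaf cT7213))))) (BT.node 7223 (BT.node 7218 (BT.node 7216 (BT.node 7215 (BT.node 7214 (BT.leaf cT7214) (BT.leaf cT7215)) (BT.leaf cT7216)) (BT.node 7217 (BT.leaf cT7217) (BT.leaf cT7218))) (BT.node 7221 (BT.node 7220 (BT.node 7219 (BT.leaf cT7219) (BT.leaf cT7220)) (BT.leaf cT7221)) (BT.node 7222 (BT.leaf cT7222) (BT.leaf cT7223)))) (BT.node 7228 (BT.node 7226 (BT.node 7225 (BT.node 7224 (BT.leaf cT7224) (BT.leaf cT7225)) (BT.leaf cT7226)) (BT.node 7227 (BT.leaf cT7227) (BT.leaf cT7228))) (BT.node 7231 (BT.node 7230 (BT.node 7229 (BT.leaf cT7229) (BT.leaf cT7230)) (BT.leaf cT7231)) (BT.node 7232 (BT.leaf cT7232) (BT.leaf cT7233))))))))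
noncomputable def colTT_44 : BT ℕ := (BT.node 7316 (BT.node 7275 (BT.node 7254 (BT.node 7244 (BT.node 7239 (BT.node 7236 (BT.node 7235 (BT.node 7234 (BT.leaf cT7234) (BT.leaf cT7235)) (BT.leaf cT7236)) (BT.node 7238 (BT.node 7237 (BT.leaf cT7237) (BT.leaf cT7238)) (BT.leaf cT7239))) (BT.node 7242 (BT.node 7241 (BT.node 7240 (BT.leaf cT7240) (BT.leaf cT7241)) (BT.leaf cT7242)) (BT.node 7243 (BT.leaf cT7243) (BT.leaf cT7244)))) (BT.node 7249 (BT.node 7247 (BT.node 7246 (BT.node 7245 (BT.leaf cT7245) (BT.leaf cT7246)) (BT.leaf cT7247)) (BT.node 7248 (BT.leaf cT7248) (BT.leaf cT7249))) (BT.node 7252 (BT.node 7251 (BT.node 7250 (BT.leaf cT7250) (BT.leaf cT7251)) (BT.leaf cT7252)) (BT.node 7253 (BT.leaf cT7253) (BT.leaf cT7254))))) (BT.node 7265 (BT.node 7260 (BT.node 7257 (BT.node 7256 (BT.node 7255 (BT.leaf cT7255) (BT.leaf cT7256)) (BT.leaf cT7257)) (BT.node 7259 (BT.node 7258 (BT.leaf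 cT7258) (BT.leaf cT7259)) (BT.leaf cT7260))) (BT.node 7263 (BT.node 7262 (BT.node 7261 (BT.leaf cT7261) (BT.leaf cT7262)) (BT.leaf cT7263)) (BT.node 7264 (BT.leaf cT7264) (BT.leaf cT7265)))) (BT.node 7270 (BT.node 7268 (BT.node 7267 (BT.node 7266 (BT.leaf cT7266) (BT.leaf cT7267)) (BT.leaf cT7268)) (BT.node 7269 (BT.leaf cT7269) (BT.leaf cT7270))) (BT.node 7273 (BT.node 7272 (BT.node 7271 (BT.leaf cT7271) (BT.leaf cT7272)) (BT.leaf cT7273)) (BT.node 7274 (BT.leaf cT7274) (BT.leaf cT7275)))))) (BT.node 7296 (BT.node 7286 (BT.node 7281 (BT.node 7278 (BT.node 7277 (BT.node 7276 (BT.leaf cT7276) (BT.leaf cT7277)) (BT.leaf cT7278)) (BT.node 7280 (BT.node 7279 (BT.leaf cT7279) (BT.leaf cT7280)) (BT.leaf cT7281))) (BT.node 7284 (BT.node 7283 (BT.node 7282 (BT.leaf cT7282) (BT.leaf cT7283)) (BT.leaf cT7284)) (BT.node 7285 (BT.leaf cT7285) (BT.leaf cT7286)))) (BT.node 7291 (BT.node 7289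 (BT.node 7288 (BT.node 7287 (BT.leaf cT7287) (BT.leaf cT7288)) (BT.leaf cT7289)) (BT.node 7290 (BT.leaf cT7290) (BT.leaf cT7291))) (BT.node 7294 (BT.node 7293 (BT.node 7292 (BT.leaf cT7292) (BT.leaf cT7293)) (BT.leaf cT7294)) (BT.node 7295 (BT.leaf cT7295) (BT.leaf cT7296))))) (BT.node 7306 (BT.node 7301 (BT.node 7299 (BT.node 7298 (BT.node 7297 (BT.leaf cT7297) (BT.leaf cT7298)) (BT.leaf cT7299)) (BT.node 7300 (BT.leaf cT7300) (BT.leaf cT7301))) (BT.node 7304 (BT.node 7303 (BT.node 7302 (BT.leaf cT7302) (BT.leaf cT7303)) (BT.leaf cT7304)) (BT.node 7305 (BT.leaf cT7305) (BT.leaf cT7306)))) (BT.node 7311 (BT.node 7309 (BT.node 7308 (BT.node 7307 (BT.leaf cT7307) (BT.leaf cT7308)) (BT.leaf cT7309)) (BT.node 7310 (BT.leaf cT7310) (BT.leaf cT7311))) (BT.node 7314 (BT.node 7313 (BT.node 7312 (BT.leaf cT7312) (BT.leaf cT7313)) (BT.leaf cT7314)) (BT.node 7315 (BT.leaf cT7315) (BT.leaf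 cT7316))))))) (BT.node 7357 (BT.node 7337 (BT.node 7327 (BT.node 7322 (BT.node 7319 (BT.node 7318 (BT.node 7317 (BT.leaf cT7317) (BT.leaf cT7318)) (BT.leaf cT7319)) (BT.node 7321 (BT.node 7320 (BT.leaf cT7320) (BT.leaf cT7321)) (BT.leaf cT7322))) (BT.node 7325 (BT.node 7324 (BT.node 7323 (BT.leaf cT7323) (BT.leaf cT7324)) (BT.leaf cT7325)) (BT.node 7326 (BT.leaf cT7326) (BT.leaf cT7327)))) (BT.node 7332 (BT.node 7330 (BT.node 7329 (BT.node 7328 (BT.leaf cT7328) (BT.leaf cT7329)) (BT.leaf cT7330)) (BT.node 7331 (BT.leaf cT7331) (BT.leaf cT7332))) (BT.node 7335 (BT.node 7334 (BT.node 7333 (BT.leaf cT7333) (BT.leaf cT7334)) (BT.leaf cT7335)) (BT.node 7336 (BT.leaf cT7336) (BT.leaf cT7337))))) (BT.node 7347 (BT.node 7342 (BT.node 7340 (BT.node 7339 (BT.node 7338 (BT.leaf cT7338) (BT.leaf cT7339)) (BT.leaf cT7340)) (BT.node 7341 (BT.leaf cT7341) (BT.leaf cT7342))) (BT.node 7345 (BT.node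 7344 (BT.node 7343 (BT.leaf cT7343) (BT.leaf cT7344)) (BT.leaf cT7345)) (BT.node 7346 (BT.leaf cT7346) (BT.leaf cT7347)))) (BT.node 7352 (BT.node 7350 (BT.node 7349 (BT.node 7348 (BT.leaf cT7348) (BT.leaf cT7349)) (BT.leaf cT7350)) (BT.node 7351 (BT.leaf cT7351) (BT.leaf cT7352))) (BT.node 7355 (BT.node 7354 (BT.node 7353 (BT.leaf cT7353) (BT.leaf cT7354)) (BT.leaf cT7355)) (BT.node 7356 (BT.leaf cT7356) (BT.leaf cT7357)))))) (BT.node 7378 (BT.node 7368 (BT.node 7363 (BT.node 7360 (BT.node 7359 (BT.node 7358 (BT.leaf cT7358) (BT.leaf cT7359)) (BT.leaf cT7360)) (BT.node 7362 (BT.node 7361 (BT.leaf cT7361) (BT.leaf cT7362)) (BT.leaf cT7363))) (BT.node 7366 (BT.node 7365 (BT.node 7364 (BT.leaf cT7364) (BT.leaf cT7365)) (BT.leaf cT7366)) (BT.node 7367 (BT.leaf cT7367) (BT.leaf cT7368)))) (BT.node 7373 (BT.node 7371 (BT.node 7370 (BT.node 7369 (BT.leaf cT7369) (BT.leaf cT7370)) (BT.leaf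 cT7371)) (BT.node 7372 (BT.leaf cT7372) (BT.leaf cT7373))) (BT.node 7376 (BT.node 7375 (BT.node 7374 (BT.leaf cT7374) (BT.leaf cT7375)) (BT.leaf cT7376)) (BT.node 7377 (BT.leaf cT7377) (BT.leaf cT7378))))) (BT.node 7388 (BT.node 7383 (BT.node 7381 (BT.node 7380 (BT.node 7379 (BT.leaf cT7379) (BT.leaf cT7380)) (BT.leaf cT7381)) (BT.node 7382 (BT.leaf cT7382) (BT.leaf cT7383))) (BT.node 7386 (BT.node 7385 (BT.node 7384 (BT.leaf cT7384) (BT.leaf cT7385)) (BT.leaf cT7386)) (BT.node 7387 (BT.leaf cT7387) (BT.leaf cT7388)))) (BT.node 7393 (BT.node 7391 (BT.node 7390 (BT.node 7389 (BT.leaf cT7389) (BT.leaf cT7390)) (BT.leaf cT7391)) (BT.node 7392 (BT.leaf cT7392) (BT.leaf cT7393))) (BT.node 7396 (BT.node 7395 (BT.node 7394 (BT.leaf cT7394) (BT.leaf cT7395)) (BT.leaf cT7396)) (BT.node 7397 (BT.leaf cT7397) (BT.leaf cT7398))))))))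
noncomputable def colTT_45 : BT ℕ := (BT.node 7480 (BT.node 7439 (BT.node 7419 (BT.node 7409 (BT.node 7404 (BT.node 7401 (BT.node 7400 (BT.node 7399 (BT.leaf cT7399) (BT.leaf cT7400)) (BT.leaf cT7401)) (BT.node 7403 (BT.node 7402 (BT.leaf cT7402) (BT.leaf cT7403)) (BT.leaf cT7404))) (BT.node 7407 (BT.node 7406 (BT.node 7405 (BT.leaf cT7405) (BT.leaf cT7406)) (BT.leaf cT7407)) (BT.node 7408 (BT.leaf cT7408) (BT.leaf cT7409)))) (BT.node 7414 (BT.node 7412 (BT.node 7411 (BT.node 7410 (BT.leaf cT7410) (BT.leaf cT7411)) (BT.leaf cT7412)) (BT.node 7413 (BT.leaf cT7413) (BT.leaf cT7414))) (BT.node 7417 (BT.node 7416 (BT.node 7415 (BT.leaf cT7415) (BT.leaf cT7416)) (BT.leaf cT7417)) (BT.node 7418 (BT.leaf cT7418) (BT.leaf cT7419))))) (BT.node 7429 (BT.node 7424 (BT.node 7422 (BT.node 7421 (BT.node 7420 (BT.leaf cT7420) (BT.leaf cT7421)) (BT.leaf cT7422)) (BT.node 7423 (BT.leaf cT7423)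 (BT.leaf cT7424))) (BT.node 7427 (BT.node 7426 (BT.node 7425 (BT.leaf cT7425) (BT.leaf cT7426)) (BT.leaf cT7427)) (BT.node 7428 (BT.leaf cT7428) (BT.leaf cT7429)))) (BT.node 7434 (BT.node 7432 (BT.node 7431 (BT.node 7430 (BT.leaf cT7430) (BT.leaf cT7431)) (BT.leaf cT7432)) (BT.node 7433 (BT.leaf cT7433) (BT.leaf cT7434))) (BT.node 7437 (BT.node 7436 (BT.node 7435 (BT.leaf cT7435) (BT.leaf cT7436)) (BT.leaf cT7437)) (BT.node 7438 (BT.leaf cT7438) (BT.leaf cT7439)))))) (BT.node 7460 (BT.node 7450 (BT.node 7445 (BT.node 7442 (BT.node 7441 (BT.node 7440 (BT.leaf cT7440) (BT.leaf cT7441)) (BT.leaf cT7442)) (BT.node 7444 (BT.node 7443 (BT.leaf cT7443) (BT.leaf cT7444)) (BT.leaf cT7445))) (BT.node 7448 (BT.node 7447 (BT.node 7446 (BT.leaf cT7446) (BT.leaf cT7447)) (BT.leaf cT7448)) (BT.node 7449 (BT.leaf cT7449) (BT.leaf cT7450)))) (BT.node 7455 (BT.node 7453 (BT.node 7452 (BT.node 7451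 (BT.leaf cT7451) (BT.leaf cT7452)) (BT.leaf cT7453)) (BT.node 7454 (BT.leaf cT7454) (BT.leaf cT7455))) (BT.node 7458 (BT.node 7457 (BT.node 7456 (BT.leaf cT7456) (BT.leaf cT7457)) (BT.leaf cT7458)) (BT.node 7459 (BT.leaf cT7459) (BT.leaf cT7460))))) (BT.node 7470 (BT.node 7465 (BT.node 7463 (BT.node 7462 (BT.node 7461 (BT.leaf cT7461) (BT.leaf cT7462)) (BT.leaf cT7463)) (BT.node 7464 (BT.leaf cT7464) (BT.leaf cT7465))) (BT.node 7468 (BT.node 7467 (BT.node 7466 (BT.leaf cT7466) (BT.leaf cT7467)) (BT.leaf cT7468)) (BT.node 7469 (BT.leaf cT7469) (BT.leaf cT7470)))) (BT.node 7475 (BT.node 7473 (BT.node 7472 (BT.node 7471 (BT.leaf cT7471) (BT.leaf cT7472)) (BT.leaf cT7473)) (BT.node 7474 (BT.leaf cT7474) (BT.leaf cT7475))) (BT.node 7478 (BT.node 7477 (BT.node 7476 (BT.leaf cT7476) (BT.leaf cT7477)) (BT.leaf cT7478)) (BT.node 7479 (BT.leaf cT7479) (BT.leaf cT7480))))))) (BT.node 7521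 (BT.node 7501 (BT.node 7491 (BT.node 7486 (BT.node 7483 (BT.node 7482 (BT.node 7481 (BT.leaf cT7481) (BT.leaf cT7482)) (BT.leaf cT7483)) (BT.node 7485 (BT.node 7484 (BT.leaf cT7484) (BT.leaf cT7485)) (BT.leaf cT7486))) (BT.node 7489 (BT.node 7488 (BT.node 7487 (BT.leaf cT7487) (BT.leaf cT7488)) (BT.leaf cT7489)) (BT.node 7490 (BT.leaf cT7490) (BT.leaf cT7491)))) (BT.node 7496 (BT.node 7494 (BT.node 7493 (BT.node 7492 (BT.leaf cT7492) (BT.leaf cT7493)) (BT.leaf cT7494)) (BT.node 7495 (BT.leaf cT7495) (BT.leaf cT7496))) (BT.node 7499 (BT.node 7498 (BT.node 7497 (BT.leaf cT7497) (BT.leaf cT7498)) (BT.leaf cT7499)) (BT.node 7500 (BT.leaf cT7500) (BT.leaf cT7501))))) (BT.node 7511 (BT.node 7506 (BT.node 7504 (BT.node 7503 (BT.node 7502 (BT.leaf cT7502) (BT.leaf cT7503)) (BT.leaf cT7504)) (BT.node 7505 (BT.leaf cT7505) (BT.leaf cT7506))) (BT.node 7509 (BT.node 7508 (BT.node 7507 (BT.leaf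 cT7507) (BT.leaf cT7508)) (BT.leaf cT7509)) (BT.node 7510 (BT.leaf cT7510) (BT.leaf cT7511)))) (BT.node 7516 (BT.node 7514 (BT.node 7513 (BT.node 7512 (BT.leaf cT7512) (BT.leaf cT7513)) (BT.leaf cT7514)) (BT.node 7515 (BT.leaf cT7515) (BT.leaf cT7516))) (BT.node 7519 (BT.node 7518 (BT.node 7517 (BT.leaf cT7517) (BT.leaf cT7518)) (BT.leaf cT7519)) (BT.node 7520 (BT.leaf cT7520) (BT.leaf cT7521)))))) (BT.node 7542 (BT.node 7532 (BT.node 7527 (BT.node 7524 (BT.node 7523 (BT.node 7522 (BT.leaf cT7522) (BT.leaf cT7523)) (BT.leaf cT7524)) (BT.node 7526 (BT.node 7525 (BT.leaf cT7525) (BT.leaf cT7526)) (BT.leaf cT7527))) (BT.node 7530 (BT.node 7529 (BT.node 7528 (BT.leaf cT7528) (BT.leaf cT7529)) (BT.leaf cT7530)) (BT.node 7531 (BT.leaf cT7531) (BT.leaf cT7532)))) (BT.node 7537 (BT.node 7535 (BT.node 7534 (BT.node 7533 (BT.leaf cT7533) (BT.leaf cT7534)) (BT.leaf cT7535)) (BT.node 7536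 (BT.leaf cT7536) (BT.leaf cT7537))) (BT.node 7540 (BT.node 7539 (BT.node 7538 (BT.leaf cT7538) (BT.leaf cT7539)) (BT.leaf cT7540)) (BT.node 7541 (BT.leaf cT7541) (BT.leaf cT7542))))) (BT.node 7552 (BT.node 7547 (BT.node 7545 (BT.node 7544 (BT.node 7543 (BT.leaf cT7543) (BT.leaf cT7544)) (BT.leaf cT7545)) (BT.node 7546 (BT.leaf cT7546) (BT.leaf cT7547))) (BT.node 7550 (BT.node 7549 (BT.node 7548 (BT.leaf cT7548) (BT.leaf cT7549)) (BT.leaf cT7550)) (BT.node 7551 (BT.leaf cT7551) (BT.leaf cT7552)))) (BT.node 7557 (BT.node 7555 (BT.node 7554 (BT.node 7553 (BT.leaf cT7553) (BT.leaf cT7554)) (BT.leaf cT7555)) (BT.node 7556 (BT.leaf cT7556) (BT.leaf cT7557))) (BT.node 7560 (BT.node 7559 (BT.node 7558 (BT.leaf cT7558) (BT.leaf cT7559)) (BT.leaf cT7560)) (BT.node 7561 (BT.leaf cT7561) (BT.leaf cT7562))))))))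
noncomputable def colTT_46 : BT ℕ := (BT.node 7644 (BT.node 7603 (BT.node 7583 (BT.node 7573 (BT.node 7568 (BT.node 7565 (BT.node 7564 (BT.node 7563 (BT.leaf cT7563) (BT.leaf cT7564)) (BT.leaf cT7565)) (BT.node 7567 (BT.node 7566 (BT.leaf cT7566) (BT.leaf cT7567)) (BT.leaf cT7568))) (BT.node 7571 (BT.node 7570 (BT.node 7569 (BT.leaf cT7569) (BT.leaf cT7570)) (BT.leaf cT7571)) (BT.node 7572 (BT.leaf cT7572) (BT.leaf cT7573)))) (BT.node 7578 (BT.node 7576 (BT.node 7575 (BT.node 7574 (BT.leaf cT7574) (BT.leaf cT7575)) (BT.leaf cT7576)) (BT.node 7577 (BT.leaf cT7577) (BT.leaf cT7578))) (BT.node 7581 (BT.node 7580 (BT.node 7579 (BT.leaf cT7579) (BT.leaf cT7580)) (BT.leaf cT7581)) (BT.node 7582 (BT.leaf cT7582) (BT.leaf cT7583))))) (BT.node 7593 (BT.node 7588 (BT.node 7586 (BT.node 7585 (BT.node 7584 (BT.leaf cT7584) (BT.leaf cT7585)) (BT.leaf cT7586)) (BT.node 7587 (BT.leaf cT7587)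 (BT.leaf cT7588))) (BT.node 7591 (BT.node 7590 (BT.node 7589 (BT.leaf cT7589) (BT.leaf cT7590)) (BT.leaf cT7591)) (BT.node 7592 (BT.leaf cT7592) (BT.leaf cT7593)))) (BT.node 7598 (BT.node 7596 (BT.node 7595 (BT.node 7594 (BT.leaf cT7594) (BT.leaf cT7595)) (BT.leaf cT7596)) (BT.node 7597 (BT.leaf cT7597) (BT.leaf cT7598))) (BT.node 7601 (BT.node 7600 (BT.node 7599 (BT.leaf cT7599) (BT.leaf cT7600)) (BT.leaf cT7601)) (BT.node 7602 (BT.leaf cT7602) (BT.leaf cT7603)))))) (BT.node 7624 (BT.node 7614 (BT.node 7609 (BT.node 7606 (BT.node 7605 (BT.node 7604 (BT.leaf cT7604) (BT.leaf cT7605)) (BT.leaf cT7606)) (BT.node 7608 (BT.node 7607 (BT.leaf cT7607) (BT.leaf cT7608)) (BT.leaf cT7609))) (BT.node 7612 (BT.node 7611 (BT.node 7610 (BT.leaf cT7610) (BT.leaf cT7611)) (BT.leaf cT7612)) (BT.node 7613 (BT.leaf cT7613) (BT.leaf cT7614)))) (BT.node 7619 (BT.node 7617 (BT.node 7616 (BT.node 7615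 (BT.leaf cT7615) (BT.leaf cT7616)) (BT.leaf cT7617)) (BT.node 7618 (BT.leaf cT7618) (BT.leaf cT7619))) (BT.node 7622 (BT.node 7621 (BT.node 7620 (BT.leaf cT7620) (BT.leaf cT7621)) (BT.leaf cT7622)) (BT.node 7623 (BT.leaf cT7623) (BT.leaf cT7624))))) (BT.node 7634 (BT.node 7629 (BT.node 7627 (BT.node 7626 (BT.node 7625 (BT.leaf cT7625) (BT.leaf cT7626)) (BT.leaf cT7627)) (BT.node 7628 (BT.leaf cT7628) (BT.leaf cT7629))) (BT.node 7632 (BT.node 7631 (BT.node 7630 (BT.leaf cT7630) (BT.leaf cT7631)) (BT.leaf cT7632)) (BT.node 7633 (BT.leaf cT7633) (BT.leaf cT7634)))) (BT.node 7639 (BT.node 7637 (BT.node 7636 (BT.node 7635 (BT.leaf cT7635) (BT.leaf cT7636)) (BT.leaf cT7637)) (BT.node 7638 (BT.leaf cT7638) (BT.leaf cT7639))) (BT.node 7642 (BT.node 7641 (BT.node 7640 (BT.leaf cT7640) (BT.leaf cT7641)) (BT.leaf cT7642)) (BT.node 7643 (BT.leaf cT7643) (BT.leaf cT7644))))))) (BT.node 7685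 (BT.node 7665 (BT.node 7655 (BT.node 7650 (BT.node 7647 (BT.node 7646 (BT.node 7645 (BT.leaf cT7645) (BT.leaf cT7646)) (BT.leaf cT7647)) (BT.node 7649 (BT.node 7648 (BT.leaf cT7648) (BT.leaf cT7649)) (BT.leaf cT7650))) (BT.node 7653 (BT.node 7652 (BT.node 7651 (BT.leaf cT7651) (BT.leaf cT7652)) (BT.leaf cT7653)) (BT.node 7654 (BT.leaf cT7654) (BT.leaf cT7655)))) (BT.node 7660 (BT.node 7658 (BT.node 7657 (BT.node 7656 (BT.leaf cT7656) (BT.leaf cT7657)) (BT.leaf cT7658)) (BT.node 7659 (BT.leaf cT7659) (BT.leaf cT7660))) (BT.node 7663 (BT.node 7662 (BT.node 7661 (BT.leaf cT7661) (BT.leaf cT7662)) (BT.leaf cT7663)) (BT.node 7664 (BT.leaf cT7664) (BT.leaf cT7665))))) (BT.node 7675 (BT.node 7670 (BT.node 7668 (BT.node 7667 (BT.node 7666 (BT.leaf cT7666) (BT.leaf cT7667)) (BT.leaf cT7668)) (BT.node 7669 (BT.leaf cT7669) (BT.leaf cT7670))) (BT.node 7673 (BT.node 7672 (BT.node 7671 (BT.leaf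 cT7671) (BT.leaf cT7672)) (BT.leaf cT7673)) (BT.node 7674 (BT.leaf cT7674) (BT.leaf cT7675)))) (BT.node 7680 (BT.node 7678 (BT.node 7677 (BT.node 7676 (BT.leaf cT7676) (BT.leaf cT7677)) (BT.leaf cT7678)) (BT.node 7679 (BT.leaf cT7679) (BT.leaf cT7680))) (BT.node 7683 (BT.node 7682 (BT.node 7681 (BT.leaf cT7681) (BT.leaf cT7682)) (BT.leaf cT7683)) (BT.node 7684 (BT.leaf cT7684) (BT.leaf cT7685)))))) (BT.node 7706 (BT.node 7696 (BT.node 7691 (BT.node 7688 (BT.node 7687 (BT.node 7686 (BT.leaf cT7686) (BT.leaf cT7687)) (BT.leaf cT7688)) (BT.node 7690 (BT.node 7689 (BT.leaf cT7689) (BT.leaf cT7690)) (BT.leaf cT7691))) (BT.node 7694 (BT.node 7693 (BT.node 7692 (BT.leaf cT7692) (BT.leaf cT7693)) (BT.leaf cT7694)) (BT.node 7695 (BT.leaf cT7695) (BT.leaf cT7696)))) (BT.node 7701 (BT.node 7699 (BT.node 7698 (BT.node 7697 (BT.leaf cT7697) (BT.leaf cT7698)) (BT.leaf cT7699)) (BT.node 7700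 (BT.leaf cT7700) (BT.leaf cT7701))) (BT.node 7704 (BT.node 7703 (BT.node 7702 (BT.leaf cT7702) (BT.leaf cT7703)) (BT.leaf cT7704)) (BT.node 7705 (BT.leaf cT7705) (BT.leaf cT7706))))) (BT.node 7716 (BT.node 7711 (BT.node 7709 (BT.node 7708 (BT.node 7707 (BT.leaf cT7707) (BT.leaf cT7708)) (BT.leaf cT7709)) (BT.node 7710 (BT.leaf cT7710) (BT.leaf cT7711))) (BT.node 7714 (BT.node 7713 (BT.node 7712 (BT.leaf cT7712) (BT.leaf cT7713)) (BT.leaf cT7714)) (BT.node 7715 (BT.leaf cT7715) (BT.leaf cT7716)))) (BT.node 7721 (BT.node 7719 (BT.node 7718 (BT.node 7717 (BT.leaf cT7717) (BT.leaf cT7718)) (BT.leaf cT7719)) (BT.node 7720 (BT.leaf cT7720) (BT.leaf cT7721))) (BT.node 7724 (BT.node 7723 (BT.node 7722 (BT.leaf cT7722) (BT.leaf cT7723)) (BT.leaf cT7724)) (BT.node 7725 (BT.leaf cT7725) (BT.leaf cT7726))))))))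
noncomputable def colTT_47 : BT ℕ := (BT.node 7808 (BT.node 7767 (BT.node 7747 (BT.node 7737 (BT.node 7732 (BT.node 7729 (BT.node 7728 (BT.node 7727 (BT.leaf cT7727) (BT.leaf cT7728)) (BT.leaf cT7729)) (BT.node 7731 (BT.node 7730 (BT.leaf cT7730) (BT.leaf cT7731)) (BT.leaf cT7732))) (BT.node 7735 (BT.node 7734 (BT.node 7733 (BT.leaf cT7733) (BT.leaf cT7734)) (BT.leaf cT7735)) (BT.node 7736 (BT.leaf cT7736) (BT.leaf cT7737)))) (BT.node 7742 (BT.node 7740 (BT.node 7739 (BT.node 7738 (BT.leaf cT7738) (BT.leaf cT7739)) (BT.leaf cT7740)) (BT.node 7741 (BT.leaf cT7741) (BT.leaf cT7742))) (BT.node 7745 (BT.node 7744 (BT.node 7743 (BT.leaf cT7743) (BT.leaf cT7744)) (BT.leaf cT7745)) (BT.node 7746 (BT.leaf cT7746) (BT.leaf cT7747))))) (BT.node 7757 (BT.node 7752 (BT.node 7750 (BT.node 7749 (BT.node 7748 (BT.leaf cT7748) (BT.leaf cT7749)) (BT.leaf cT7750)) (BT.node 7751 (BT.leaf cT7751)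 (BT.leaf cT7752))) (BT.node 7755 (BT.node 7754 (BT.node 7753 (BT.leaf cT7753) (BT.leaf cT7754)) (BT.leaf cT7755)) (BT.node 7756 (BT.leaf cT7756) (BT.leaf cT7757)))) (BT.node 7762 (BT.node 7760 (BT.node 7759 (BT.node 7758 (BT.leaf cT7758) (BT.leaf cT7759)) (BT.leaf cT7760)) (BT.node 7761 (BT.leaf cT7761) (BT.leaf cT7762))) (BT.node 7765 (BT.node 7764 (BT.node 7763 (BT.leaf cT7763) (BT.leaf cT7764)) (BT.leaf cT7765)) (BT.node 7766 (BT.leaf cT7766) (BT.leaf cT7767)))))) (BT.node 7788 (BT.node 7778 (BT.node 7773 (BT.node 7770 (BT.node 7769 (BT.node 7768 (BT.leaf cT7768) (BT.leaf cT7769)) (BT.leaf cT7770)) (BT.node 7772 (BT.node 7771 (BT.leaf cT7771) (BT.leaf cT7772)) (BT.leaf cT7773))) (BT.node 7776 (BT.node 7775 (BT.node 7774 (BT.leaf cT7774) (BT.leaf cT7775)) (BT.leaf cT7776)) (BT.node 7777 (BT.leaf cT7777) (BT.leaf cT7778)))) (BT.node 7783 (BT.node 7781 (BT.node 7780 (BT.node 7779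 (BT.leaf cT7779) (BT.leaf cT7780)) (BT.leaf cT7781)) (BT.node 7782 (BT.leaf cT7782) (BT.leaf cT7783))) (BT.node 7786 (BT.node 7785 (BT.node 7784 (BT.leaf cT7784) (BT.leaf cT7785)) (BT.leaf cT7786)) (BT.node 7787 (BT.leaf cT7787) (BT.leaf cT7788))))) (BT.node 7798 (BT.node 7793 (BT.node 7791 (BT.node 7790 (BT.node 7789 (BT.leaf cT7789) (BT.leaf cT7790)) (BT.leaf cT7791)) (BT.node 7792 (BT.leaf cT7792) (BT.leaf cT7793))) (BT.node 7796 (BT.node 7795 (BT.node 7794 (BT.leaf cT7794) (BT.leaf cT7795)) (BT.leaf cT7796)) (BT.node 7797 (BT.leaf cT7797) (BT.leaf cT7798)))) (BT.node 7803 (BT.node 7801 (BT.node 7800 (BT.node 7799 (BT.leaf cT7799) (BT.leaf cT7800)) (BT.leaf cT7801)) (BT.node 7802 (BT.leaf cT7802) (BT.leaf cT7803))) (BT.node 7806 (BT.node 7805 (BT.node 7804 (BT.leaf cT7804) (BT.leaf cT7805)) (BT.leaf cT7806)) (BT.node 7807 (BT.leaf cT7807) (BT.leaf cT7808))))))) (BT.node 7849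 (BT.node 7829 (BT.node 7819 (BT.node 7814 (BT.node 7811 (BT.node 7810 (BT.node 7809 (BT.leaf cT7809) (BT.leaf cT7810)) (BT.leaf cT7811)) (BT.node 7813 (BT.node 7812 (BT.leaf cT7812) (BT.leaf cT7813)) (BT.leaf cT7814))) (BT.node 7817 (BT.node 7816 (BT.node 7815 (BT.leaf cT7815) (BT.leaf cT7816)) (BT.leaf cT7817)) (BT.node 7818 (BT.leaf cT7818) (BT.leaf cT7819)))) (BT.node 7824 (BT.node 7822 (BT.node 7821 (BT.node 7820 (BT.leaf cT7820) (BT.leaf cT7821)) (BT.leaf cT7822)) (BT.node 7823 (BT.leaf cT7823) (BT.leaf cT7824))) (BT.node 7827 (BT.node 7826 (BT.node 7825 (BT.leaf cT7825) (BT.leaf cT7826)) (BT.leaf cT7827)) (BT.node 7828 (BT.leaf cT7828) (BT.leaf cT7829))))) (BT.node 7839 (BT.node 7834 (BT.node 7832 (BT.node 7831 (BT.node 7830 (BT.leaf cT7830) (BT.leaf cT7831)) (BT.leaf cT7832)) (BT.node 7833 (BT.leaf cT7833) (BT.leaf cT7834))) (BT.node 7837 (BT.node 7836 (BT.node 7835 (BT.leaf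 cT7835) (BT.leaf cT7836)) (BT.leaf cT7837)) (BT.node 7838 (BT.leaf cT7838) (BT.leaf cT7839)))) (BT.node 7844 (BT.node 7842 (BT.node 7841 (BT.node 7840 (BT.leaf cT7840) (BT.leaf cT7841)) (BT.leaf cT7842)) (BT.node 7843 (BT.leaf cT7843) (BT.leaf cT7844))) (BT.node 7847 (BT.node 7846 (BT.node 7845 (BT.leaf cT7845) (BT.leaf cT7846)) (BT.leaf cT7847)) (BT.node 7848 (BT.leaf cT7848) (BT.leaf cT7849)))))) (BT.node 7870 (BT.node 7860 (BT.node 7855 (BT.node 7852 (BT.node 7851 (BT.node 7850 (BT.leaf cT7850) (BT.leaf cT7851)) (BT.leaf cT7852)) (BT.node 7854 (BT.node 7853 (BT.leaf cT7853) (BT.leaf cT7854)) (BT.leaf cT7855))) (BT.node 7858 (BT.node 7857 (BT.node 7856 (BT.leaf cT7856) (BT.leaf cT7857)) (BT.leaf cT7858)) (BT.node 7859 (BT.leaf cT7859) (BT.leaf cT7860)))) (BT.node 7865 (BT.node 7863 (BT.node 7862 (BT.node 7861 (BT.leaf cT7861) (BT.leaf cT7862)) (BT.leaf cT7863)) (BT.node 7864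 (BT.leaf cT7864) (BT.leaf cT7865))) (BT.node 7868 (BT.node 7867 (BT.node 7866 (BT.leaf cT7866) (BT.leaf cT7867)) (BT.leaf cT7868)) (BT.node 7869 (BT.leaf cT7869) (BT.leaf cT7870))))) (BT.node 7880 (BT.node 7875 (BT.node 7873 (BT.node 7872 (BT.node 7871 (BT.leaf cT7871) (BT.leaf cT7872)) (BT.leaf cT7873)) (BT.node 7874 (BT.leaf cT7874) (BT.leaf cT7875))) (BT.node 7878 (BT.node 7877 (BT.node 7876 (BT.leaf cT7876) (BT.leaf cT7877)) (BT.leaf cT7878)) (BT.node 7879 (BT.leaf cT7879) (BT.leaf cT7880)))) (BT.node 7885 (BT.node 7883 (BT.node 7882 (BT.node 7881 (BT.leaf cT7881) (BT.leaf cT7882)) (BT.leaf cT7883)) (BT.node 7884 (BT.leaf cT7884) (BT.leaf cT7885))) (BT.node 7888 (BT.node 7887 (BT.node 7886 (BT.leaf cT7886) (BT.leaf cT7887)) (BT.leaf cT7888)) (BT.node 7889 (BT.leaf cT7889) (BT.leaf cT7890))))))))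
noncomputable def colTT_48 : BT ℕ := (BT.node 7973 (BT.node 7932 (BT.node 7911 (BT.node 7901 (BT.node 7896 (BT.node 7893 (BT.node 7892 (BT.node 7891 (BT.leaf cT7891) (BT.leaf cT7892)) (BT.leaf cT7893)) (BT.node 7895 (BT.node 7894 (BT.leaf cT7894) (BT.leaf cT7895)) (BT.leaf cT7896))) (BT.node 7899 (BT.node 7898 (BT.node 7897 (BT.leaf cT7897) (BT.leaf cT7898)) (BT.leaf cT7899)) (BT.node 7900 (BT.leaf cT7900) (BT.leaf cT7901)))) (BT.node 7906 (BT.node 7904 (BT.node 7903 (BT.node 7902 (BT.leaf cT7902) (BT.leaf cT7903)) (BT.leaf cT7904)) (BT.node 7905 (BT.leaf cT7905) (BT.leaf cT7906))) (BT.node 7909 (BT.node 7908 (BT.node 7907 (BT.leaf cT7907) (BT.leaf cT7908)) (BT.leaf cT7909)) (BT.node 7910 (BT.leaf cT7910) (BT.leaf cT7911))))) (BT.node 7922 (BT.node 7917 (BT.node 7914 (BT.node 7913 (BT.node 7912 (BT.leaf cT7912) (BT.leaf cT7913)) (BT.leaf cT7914)) (BT.node 7916 (BT.node 7915 (BT.leaf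 cT7915) (BT.leaf cT7916)) (BT.leaf cT7917))) (BT.node 7920 (BT.node 7919 (BT.node 7918 (BT.leaf cT7918) (BT.leaf cT7919)) (BT.leaf cT7920)) (BT.node 7921 (BT.leaf cT7921) (BT.leaf cT7922)))) (BT.node 7927 (BT.node 7925 (BT.node 7924 (BT.node 7923 (BT.leaf cT7923) (BT.leaf cT7924)) (BT.leaf cT7925)) (BT.node 7926 (BT.leaf cT7926) (BT.leaf cT7927))) (BT.node 7930 (BT.node 7929 (BT.node 7928 (BT.leaf cT7928) (BT.leaf cT7929)) (BT.leaf cT7930)) (BT.node 7931 (BT.leaf cT7931) (BT.leaf cT7932)))))) (BT.node 7953 (BT.node 7943 (BT.node 7938 (BT.node 7935 (BT.node 7934 (BT.node 7933 (BT.leaf cT7933) (BT.leaf cT7934)) (BT.leaf cT7935)) (BT.node 7937 (BT.node 7936 (BT.leaf cT7936) (BT.leaf cT7937)) (BT.leaf cT7938))) (BT.node 7941 (BT.node 7940 (BT.node 7939 (BT.leaf cT7939) (BT.leaf cT7940)) (BT.leaf cT7941)) (BT.node 7942 (BT.leaf cT7942) (BT.leaf cT7943)))) (BT.node 7948 (BT.node 7946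 (BT.node 7945 (BT.node 7944 (BT.leaf cT7944) (BT.leaf cT7945)) (BT.leaf cT7946)) (BT.node 7947 (BT.leaf cT7947) (BT.leaf cT7948))) (BT.node 7951 (BT.node 7950 (BT.node 7949 (BT.leaf cT7949) (BT.leaf cT7950)) (BT.leaf cT7951)) (BT.node 7952 (BT.leaf cT7952) (BT.leaf cT7953))))) (BT.node 7963 (BT.node 7958 (BT.node 7956 (BT.node 7955 (BT.node 7954 (BT.leaf cT7954) (BT.leaf cT7955)) (BT.leaf cT7956)) (BT.node 7957 (BT.leaf cT7957) (BT.leaf cT7958))) (BT.node 7961 (BT.node 7960 (BT.node 7959 (BT.leaf cT7959) (BT.leaf cT7960)) (BT.leaf cT7961)) (BT.node 7962 (BT.leaf cT7962) (BT.leaf cT7963)))) (BT.node 7968 (BT.node 7966 (BT.node 7965 (BT.node 7964 (BT.leaf cT7964) (BT.leaf cT7965)) (BT.leaf cT7966)) (BT.node 7967 (BT.leaf cT7967) (BT.leaf cT7968))) (BT.node 7971 (BT.node 7970 (BT.node 7969 (BT.leaf cT7969) (BT.leaf cT7970)) (BT.leaf cT7971)) (BT.node 7972 (BT.leaf cT7972) (BT.leaf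 cT7973))))))) (BT.node 8014 (BT.node 7994 (BT.node 7984 (BT.node 7979 (BT.node 7976 (BT.node 7975 (BT.node 7974 (BT.leaf cT7974) (BT.leaf cT7975)) (BT.leaf cT7976)) (BT.node 7978 (BT.node 7977 (BT.leaf cT7977) (BT.leaf cT7978)) (BT.leaf cT7979))) (BT.node 7982 (BT.node 7981 (BT.node 7980 (BT.leaf cT7980) (BT.leaf cT7981)) (BT.leaf cT7982)) (BT.node 7983 (BT.leaf cT7983) (BT.leaf cT7984)))) (BT.node 7989 (BT.node 7987 (BT.node 7986 (BT.node 7985 (BT.leaf cT7985) (BT.leaf cT7986)) (BT.leaf cT7987)) (BT.node 7988 (BT.leaf cT7988) (BT.leaf cT7989))) (BT.node 7992 (BT.node 7991 (BT.node 7990 (BT.leaf cT7990) (BT.leaf cT7991)) (BT.leaf cT7992)) (BT.node 7993 (BT.leaf cT7993) (BT.leaf cT7994))))) (BT.node 8004 (BT.node 7999 (BT.node 7997 (BT.node 7996 (BT.node 7995 (BT.leaf cT7995) (BT.leaf cT7996)) (BT.leaf cT7997)) (BT.node 7998 (BT.leaf cT7998) (BT.leaf cT7999))) (BT.node 8002 (BT.node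 8001 (BT.node 8000 (BT.leaf cT8000) (BT.leaf cT8001)) (BT.leaf cT8002)) (BT.node 8003 (BT.leaf cT8003) (BT.leaf cT8004)))) (BT.node 8009 (BT.node 8007 (BT.node 8006 (BT.node 8005 (BT.leaf cT8005) (BT.leaf cT8006)) (BT.leaf cT8007)) (BT.node 8008 (BT.leaf cT8008) (BT.leaf cT8009))) (BT.node 8012 (BT.node 8011 (BT.node 8010 (BT.leaf cT8010) (BT.leaf cT8011)) (BT.leaf cT8012)) (BT.node 8013 (BT.leaf cT8013) (BT.leaf cT8014)))))) (BT.node 8035 (BT.node 8025 (BT.node 8020 (BT.node 8017 (BT.node 8016 (BT.node 8015 (BT.leaf cT8015) (BT.leaf cT8016)) (BT.leaf cT8017)) (BT.node 8019 (BT.node 8018 (BT.leaf cT8018) (BT.leaf cT8019)) (BT.leaf cT8020))) (BT.node 8023 (BT.node 8022 (BT.node 8021 (BT.leaf cT8021) (BT.leaf cT8022)) (BT.leaf cT8023)) (BT.node 8024 (BT.leaf cT8024) (BT.leaf cT8025)))) (BT.node 8030 (BT.node 8028 (BT.node 8027 (BT.node 8026 (BT.leaf cT8026) (BT.leaf cT8027)) (BT.leaf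 cT8028)) (BT.node 8029 (BT.leaf cT8029) (BT.leaf cT8030))) (BT.node 8033 (BT.node 8032 (BT.node 8031 (BT.leaf cT8031) (BT.leaf cT8032)) (BT.leaf cT8033)) (BT.node 8034 (BT.leaf cT8034) (BT.leaf cT8035))))) (BT.node 8045 (BT.node 8040 (BT.node 8038 (BT.node 8037 (BT.node 8036 (BT.leaf cT8036) (BT.leaf cT8037)) (BT.leaf cT8038)) (BT.node 8039 (BT.leaf cT8039) (BT.leaf cT8040))) (BT.node 8043 (BT.node 8042 (BT.node 8041 (BT.leaf cT8041) (BT.leaf cT8042)) (BT.leaf cT8043)) (BT.node 8044 (BT.leaf cT8044) (BT.leaf cT8045)))) (BT.node 8050 (BT.node 8048 (BT.node 8047 (BT.node 8046 (BT.leaf cT8046) (BT.leaf cT8047)) (BT.leaf cT8048)) (BT.node 8049 (BT.leaf cT8049) (BT.leaf cT8050))) (BT.node 8053 (BT.node 8052 (BT.node 8051 (BT.leaf cT8051) (BT.leaf cT8052)) (BT.leaf cT8053)) (BT.node 8054 (BT.leaf cT8054) (BT.leaf cT8055))))))))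
noncomputable def colTT_49 : BT ℕ := (BT.node 8137 (BT.node 8096 (BT.node 8076 (BT.node 8066 (BT.node 8061 (BT.node 8058 (BT.node 8057 (BT.node 8056 (BT.leaf cT8056) (BT.leaf cT8057)) (BT.leaf cT8058)) (BT.node 8060 (BT.node 8059 (BT.leaf cT8059) (BT.leaf cT8060)) (BT.leaf cT8061))) (BT.node 8064 (BT.node 8063 (BT.node 8062 (BT.leaf cT8062) (BT.leaf cT8063)) (BT.leaf cT8064)) (BT.node 8065 (BT.leaf cT8065) (BT.leaf cT8066)))) (BT.node 8071 (BT.node 8069 (BT.node 8068 (BT.node 8067 (BT.leaf cT8067) (BT.leaf cT8068)) (BT.leaf cT8069)) (BT.node 8070 (BT.leaf cT8070) (BT.leaf cT8071))) (BT.node 8074 (BT.node 8073 (BT.node 8072 (BT.leaf cT8072) (BT.leaf cT8073)) (BT.leaf cT8074)) (BT.node 8075 (BT.leaf cT8075) (BT.leaf cT8076))))) (BT.node 8086 (BT.node 8081 (BT.node 8079 (BT.node 8078 (BT.node 8077 (BT.leaf cT8077) (BT.leaf cT8078)) (BT.leaf cT8079)) (BT.node 8080 (BT.leaf cT8080)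 (BT.leaf cT8081))) (BT.node 8084 (BT.node 8083 (BT.node 8082 (BT.leaf cT8082) (BT.leaf cT8083)) (BT.leaf cT8084)) (BT.node 8085 (BT.leaf cT8085) (BT.leaf cT8086)))) (BT.node 8091 (BT.node 8089 (BT.node 8088 (BT.node 8087 (BT.leaf cT8087) (BT.leaf cT8088)) (BT.leaf cT8089)) (BT.node 8090 (BT.leaf cT8090) (BT.leaf cT8091))) (BT.node 8094 (BT.node 8093 (BT.node 8092 (BT.leaf cT8092) (BT.leaf cT8093)) (BT.leaf cT8094)) (BT.node 8095 (BT.leaf cT8095) (BT.leaf cT8096)))))) (BT.node 8117 (BT.node 8107 (BT.node 8102 (BT.node 8099 (BT.node 8098 (BT.node 8097 (BT.leaf cT8097) (BT.leaf cT8098)) (BT.leaf cT8099)) (BT.node 8101 (BT.node 8100 (BT.leaf cT8100) (BT.leaf cT8101)) (BT.leaf cT8102))) (BT.node 8105 (BT.node 8104 (BT.node 8103 (BT.leaf cT8103) (BT.leaf cT8104)) (BT.leaf cT8105)) (BT.node 8106 (BT.leaf cT8106) (BT.leaf cT8107)))) (BT.node 8112 (BT.node 8110 (BT.node 8109 (BT.node 8108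 (BT.leaf cT8108) (BT.leaf cT8109)) (BT.leaf cT8110)) (BT.node 8111 (BT.leaf cT8111) (BT.leaf cT8112))) (BT.node 8115 (BT.node 8114 (BT.node 8113 (BT.leaf cT8113) (BT.leaf cT8114)) (BT.leaf cT8115)) (BT.node 8116 (BT.leaf cT8116) (BT.leaf cT8117))))) (BT.node 8127 (BT.node 8122 (BT.node 8120 (BT.node 8119 (BT.node 8118 (BT.leaf cT8118) (BT.leaf cT8119)) (BT.leaf cT8120)) (BT.node 8121 (BT.leaf cT8121) (BT.leaf cT8122))) (BT.node 8125 (BT.node 8124 (BT.node 8123 (BT.leaf cT8123) (BT.leaf cT8124)) (BT.leaf cT8125)) (BT.node 8126 (BT.leaf cT8126) (BT.leaf cT8127)))) (BT.node 8132 (BT.node 8130 (BT.node 8129 (BT.node 8128 (BT.leaf cT8128) (BT.leaf cT8129)) (BT.leaf cT8130)) (BT.node 8131 (BT.leaf cT8131) (BT.leaf cT8132))) (BT.node 8135 (BT.node 8134 (BT.node 8133 (BT.leaf cT8133) (BT.leaf cT8134)) (BT.leaf cT8135)) (BT.node 8136 (BT.leaf cT8136) (BT.leaf cT8137))))))) (BT.node 8178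 (BT.node 8158 (BT.node 8148 (BT.node 8143 (BT.node 8140 (BT.node 8139 (BT.node 8138 (BT.leaf cT8138) (BT.leaf cT8139)) (BT.leaf cT8140)) (BT.node 8142 (BT.node 8141 (BT.leaf cT8141) (BT.leaf cT8142)) (BT.leaf cT8143))) (BT.node 8146 (BT.node 8145 (BT.node 8144 (BT.leaf cT8144) (BT.leaf cT8145)) (BT.leaf cT8146)) (BT.node 8147 (BT.leaf cT8147) (BT.leaf cT8148)))) (BT.node 8153 (BT.node 8151 (BT.node 8150 (BT.node 8149 (BT.leaf cT8149) (BT.leaf cT8150)) (BT.leaf cT8151)) (BT.node 8152 (BT.leaf cT8152) (BT.leaf cT8153))) (BT.node 8156 (BT.node 8155 (BT.node 8154 (BT.leaf cT8154) (BT.leaf cT8155)) (BT.leaf cT8156)) (BT.node 8157 (BT.leaf cT8157) (BT.leaf cT8158))))) (BT.node 8168 (BT.node 8163 (BT.node 8161 (BT.node 8160 (BT.node 8159 (BT.leaf cT8159) (BT.leaf cT8160)) (BT.leaf cT8161)) (BT.node 8162 (BT.leaf cT8162) (BT.leaf cT8163))) (BT.node 8166 (BT.node 8165 (BT.node 8164 (BT.leaf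 cT8164) (BT.leaf cT8165)) (BT.leaf cT8166)) (BT.node 8167 (BT.leaf cT8167) (BT.leaf cT8168)))) (BT.node 8173 (BT.node 8171 (BT.node 8170 (BT.node 8169 (BT.leaf cT8169) (BT.leaf cT8170)) (BT.leaf cT8171)) (BT.node 8172 (BT.leaf cT8172) (BT.leaf cT8173))) (BT.node 8176 (BT.node 8175 (BT.node 8174 (BT.leaf cT8174) (BT.leaf cT8175)) (BT.leaf cT8176)) (BT.node 8177 (BT.leaf cT8177) (BT.leaf cT8178)))))) (BT.node 8199 (BT.node 8189 (BT.node 8184 (BT.node 8181 (BT.node 8180 (BT.node 8179 (BT.leaf cT8179) (BT.leaf cT8180)) (BT.leaf cT8181)) (BT.node 8183 (BT.node 8182 (BT.leaf cT8182) (BT.leaf cT8183)) (BT.leaf cT8184))) (BT.node 8187 (BT.node 8186 (BT.node 8185 (BT.leaf cT8185) (BT.leaf cT8186)) (BT.leaf cT8187)) (BT.node 8188 (BT.leaf cT8188) (BT.leaf cT8189)))) (BT.node 8194 (BT.node 8192 (BT.node 8191 (BT.node 8190 (BT.leaf cT8190) (BT.leaf cT8191)) (BT.leaf cT8192)) (BT.node 8193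 (BT.leaf cT8193) (BT.leaf cT8194))) (BT.node 8197 (BT.node 8196 (BT.node 8195 (BT.leaf cT8195) (BT.leaf cT8196)) (BT.leaf cT8197)) (BT.node 8198 (BT.leaf cT8198) (BT.leaf cT8199))))) (BT.node 8209 (BT.node 8204 (BT.node 8202 (BT.node 8201 (BT.node 8200 (BT.leaf cT8200) (BT.leaf cT8201)) (BT.leaf cT8202)) (BT.node 8203 (BT.leaf cT8203) (BT.leaf cT8204))) (BT.node 8207 (BT.node 8206 (BT.node 8205 (BT.leaf cT8205) (BT.leaf cT8206)) (BT.leaf cT8207)) (BT.node 8208 (BT.leaf cT8208) (BT.leaf cT8209)))) (BT.node 8214 (BT.node 8212 (BT.node 8211 (BT.node 8210 (BT.leaf cT8210) (BT.leaf cT8211)) (BT.leaf cT8212)) (BT.node 8213 (BT.leaf cT8213) (BT.leaf cT8214))) (BT.node 8217 (BT.node 8216 (BT.node 8215 (BT.leaf cT8215) (BT.leaf cT8216)) (BT.leaf cT8217)) (BT.node 8218 (BT.leaf cT8218) (BT.leaf cT8219))))))))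
noncomputable def colTT_50 : BT ℕ := (BT.node 8302 (BT.node 8261 (BT.node 8240 (BT.node 8230 (BT.node 8225 (BT.node 8222 (BT.node 8221 (BT.node 8220 (BT.leaf cT8220) (BT.leaf cT8221)) (BT.leaf cT8222)) (BT.node 8224 (BT.node 8223 (BT.leaf cT8223) (BT.leaf cT8224)) (BT.leaf cT8225))) (BT.node 8228 (BT.node 8227 (BT.node 8226 (BT.leaf cT8226) (BT.leaf cT8227)) (BT.leaf cT8228)) (BT.node 8229 (BT.leaf cT8229) (BT.leaf cT8230)))) (BT.node 8235 (BT.node 8233 (BT.node 8232 (BT.node 8231 (BT.leaf cT8231) (BT.leaf cT8232)) (BT.leaf cT8233)) (BT.node 8234 (BT.leaf cT8234) (BT.leaf cT8235))) (BT.node 8238 (BT.node 8237 (BT.node 8236 (BT.leaf cT8236) (BT.leaf cT8237)) (BT.leaf cT8238)) (BT.node 8239 (BT.leaf cT8239) (BT.leaf cT8240))))) (BT.node 8251 (BT.node 8246 (BT.node 8243 (BT.node 8242 (BT.node 8241 (BT.leaf cT8241) (BT.leaf cT8242)) (BT.leaf cT8243)) (BT.node 8245 (BT.node 8244 (BT.leaf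 cT8244) (BT.leaf cT8245)) (BT.leaf cT8246))) (BT.node 8249 (BT.node 8248 (BT.node 8247 (BT.leaf cT8247) (BT.leaf cT8248)) (BT.leaf cT8249)) (BT.node 8250 (BT.leaf cT8250) (BT.leaf cT8251)))) (BT.node 8256 (BT.node 8254 (BT.node 8253 (BT.node 8252 (BT.leaf cT8252) (BT.leaf cT8253)) (BT.leaf cT8254)) (BT.node 8255 (BT.leaf cT8255) (BT.leaf cT8256))) (BT.node 8259 (BT.node 8258 (BT.node 8257 (BT.leaf cT8257) (BT.leaf cT8258)) (BT.leaf cT8259)) (BT.node 8260 (BT.leaf cT8260) (BT.leaf cT8261)))))) (BT.node 8282 (BT.node 8272 (BT.node 8267 (BT.node 8264 (BT.node 8263 (BT.node 8262 (BT.leaf cT8262) (BT.leaf cT8263)) (BT.leaf cT8264)) (BT.node 8266 (BT.node 8265 (BT.leaf cT8265) (BT.leaf cT8266)) (BT.leaf cT8267))) (BT.node 8270 (BT.node 8269 (BT.node 8268 (BT.leaf cT8268) (BT.leaf cT8269)) (BT.leaf cT8270)) (BT.node 8271 (BT.leaf cT8271) (BT.leaf cT8272)))) (BT.node 8277 (BT.node 8275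 (BT.node 8274 (BT.node 8273 (BT.leaf cT8273) (BT.leaf cT8274)) (BT.leaf cT8275)) (BT.node 8276 (BT.leaf cT8276) (BT.leaf cT8277))) (BT.node 8280 (BT.node 8279 (BT.node 8278 (BT.leaf cT8278) (BT.leaf cT8279)) (BT.leaf cT8280)) (BT.node 8281 (BT.leaf cT8281) (BT.leaf cT8282))))) (BT.node 8292 (BT.node 8287 (BT.node 8285 (BT.node 8284 (BT.node 8283 (BT.leaf cT8283) (BT.leaf cT8284)) (BT.leaf cT8285)) (BT.node 8286 (BT.leaf cT8286) (BT.leaf cT8287))) (BT.node 8290 (BT.node 8289 (BT.node 8288 (BT.leaf cT8288) (BT.leaf cT8289)) (BT.leaf cT8290)) (BT.node 8291 (BT.leaf cT8291) (BT.leaf cT8292)))) (BT.node 8297 (BT.node 8295 (BT.node 8294 (BT.node 8293 (BT.leaf cT8293) (BT.leaf cT8294)) (BT.leaf cT8295)) (BT.node 8296 (BT.leaf cT8296) (BT.leaf cT8297))) (BT.node 8300 (BT.node 8299 (BT.node 8298 (BT.leaf cT8298) (BT.leaf cT8299)) (BT.leaf cT8300)) (BT.node 8301 (BT.leaf cT8301) (BT.leaf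 cT8302))))))) (BT.node 8343 (BT.node 8323 (BT.node 8313 (BT.node 8308 (BT.node 8305 (BT.node 8304 (BT.node 8303 (BT.leaf cT8303) (BT.leaf cT8304)) (BT.leaf cT8305)) (BT.node 8307 (BT.node 8306 (BT.leaf cT8306) (BT.leaf cT8307)) (BT.leaf cT8308))) (BT.node 8311 (BT.node 8310 (BT.node 8309 (BT.leaf cT8309) (BT.leaf cT8310)) (BT.leaf cT8311)) (BT.node 8312 (BT.leaf cT8312) (BT.leaf cT8313)))) (BT.node 8318 (BT.node 8316 (BT.node 8315 (BT.node 8314 (BT.leaf cT8314) (BT.leaf cT8315)) (BT.leaf cT8316)) (BT.node 8317 (BT.leaf cT8317) (BT.leaf cT8318))) (BT.node 8321 (BT.node 8320 (BT.node 8319 (BT.leaf cT8319) (BT.leaf cT8320)) (BT.leaf cT8321)) (BT.node 8322 (BT.leaf cT8322) (BT.leaf cT8323))))) (BT.node 8333 (BT.node 8328 (BT.node 8326 (BT.node 8325 (BT.node 8324 (BT.leaf cT8324) (BT.leaf cT8325)) (BT.leaf cT8326)) (BT.node 8327 (BT.leaf cT8327) (BT.leaf cT8328))) (BT.node 8331 (BT.node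 8330 (BT.node 8329 (BT.leaf cT8329) (BT.leaf cT8330)) (BT.leaf cT8331)) (BT.node 8332 (BT.leaf cT8332) (BT.leaf cT8333)))) (BT.node 8338 (BT.node 8336 (BT.node 8335 (BT.node 8334 (BT.leaf cT8334) (BT.leaf cT8335)) (BT.leaf cT8336)) (BT.node 8337 (BT.leaf cT8337) (BT.leaf cT8338))) (BT.node 8341 (BT.node 8340 (BT.node 8339 (BT.leaf cT8339) (BT.leaf cT8340)) (BT.leaf cT8341)) (BT.node 8342 (BT.leaf cT8342) (BT.leaf cT8343)))))) (BT.node 8364 (BT.node 8354 (BT.node 8349 (BT.node 8346 (BT.node 8345 (BT.node 8344 (BT.leaf cT8344) (BT.leaf cT8345)) (BT.leaf cT8346)) (BT.node 8348 (BT.node 8347 (BT.leaf cT8347) (BT.leaf cT8348)) (BT.leaf cT8349))) (BT.node 8352 (BT.node 8351 (BT.node 8350 (BT.leaf cT8350) (BT.leaf cT8351)) (BT.leaf cT8352)) (BT.node 8353 (BT.leaf cT8353) (BT.leaf cT8354)))) (BT.node 8359 (BT.node 8357 (BT.node 8356 (BT.node 8355 (BT.leaf cT8355) (BT.leaf cT8356)) (BT.leaf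 cT8357)) (BT.node 8358 (BT.leaf cT8358) (BT.leaf cT8359))) (BT.node 8362 (BT.node 8361 (BT.node 8360 (BT.leaf cT8360) (BT.leaf cT8361)) (BT.leaf cT8362)) (BT.node 8363 (BT.leaf cT8363) (BT.leaf cT8364))))) (BT.node 8374 (BT.node 8369 (BT.node 8367 (BT.node 8366 (BT.node 8365 (BT.leaf cT8365) (BT.leaf cT8366)) (BT.leaf cT8367)) (BT.node 8368 (BT.leaf cT8368) (BT.leaf cT8369))) (BT.node 8372 (BT.node 8371 (BT.node 8370 (BT.leaf cT8370) (BT.leaf cT8371)) (BT.leaf cT8372)) (BT.node 8373 (BT.leaf cT8373) (BT.leaf cT8374)))) (BT.node 8379 (BT.node 8377 (BT.node 8376 (BT.node 8375 (BT.leaf cT8375) (BT.leaf cT8376)) (BT.leaf cT8377)) (BT.node 8378 (BT.leaf cT8378) (BT.leaf cT8379))) (BT.node 8382 (BT.node 8381 (BT.node 8380 (BT.leaf cT8380) (BT.leaf cT8381)) (BT.leaf cT8382)) (BT.node 8383 (BT.leaf cT8383) (BT.leaf cT8384))))))))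
noncomputable def colTT_51 : BT ℕ := (BT.node 8466 (BT.node 8425 (BT.node 8405 (BT.node 8395 (BT.node 8390 (BT.node 8387 (BT.node 8386 (BT.node 8385 (BT.leaf cT8385) (BT.leaf cT8386)) (BT.leaf cT8387)) (BT.node 8389 (BT.node 8388 (BT.leaf cT8388) (BT.leaf cT8389)) (BT.leaf cT8390))) (BT.node 8393 (BT.node 8392 (BT.node 8391 (BT.leaf cT8391) (BT.leaf cT8392)) (BT.leaf cT8393)) (BT.node 8394 (BT.leaf cT8394) (BT.leaf cT8395)))) (BT.node 8400 (BT.node 8398 (BT.node 8397 (BT.node 8396 (BT.leaf cT8396) (BT.leaf cT8397)) (BT.leaf cT8398)) (BT.node 8399 (BT.leaf cT8399) (BT.leaf cT8400))) (BT.node 8403 (BT.node 8402 (BT.node 8401 (BT.leaf cT8401) (BT.leaf cT8402)) (BT.leaf cT8403)) (BT.node 8404 (BT.leaf cT8404) (BT.leaf cT8405))))) (BT.node 8415 (BT.node 8410 (BT.node 8408 (BT.node 8407 (BT.node 8406 (BT.leaf cT8406) (BT.leaf cT8407)) (BT.leaf cT8408)) (BT.node 8409 (BT.leaf cT8409)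 (BT.leaf cT8410))) (BT.node 8413 (BT.node 8412 (BT.node 8411 (BT.leaf cT8411) (BT.leaf cT8412)) (BT.leaf cT8413)) (BT.node 8414 (BT.leaf cT8414) (BT.leaf cT8415)))) (BT.node 8420 (BT.node 8418 (BT.node 8417 (BT.node 8416 (BT.leaf cT8416) (BT.leaf cT8417)) (BT.leaf cT8418)) (BT.node 8419 (BT.leaf cT8419) (BT.leaf cT8420))) (BT.node 8423 (BT.node 8422 (BT.node 8421 (BT.leaf cT8421) (BT.leaf cT8422)) (BT.leaf cT8423)) (BT.node 8424 (BT.leaf cT8424) (BT.leaf cT8425)))))) (BT.node 8446 (BT.node 8436 (BT.node 8431 (BT.node 8428 (BT.node 8427 (BT.node 8426 (BT.leaf cT8426) (BT.leaf cT8427)) (BT.leaf cT8428)) (BT.node 8430 (BT.node 8429 (BT.leaf cT8429) (BT.leaf cT8430)) (BT.leaf cT8431))) (BT.node 8434 (BT.node 8433 (BT.node 8432 (BT.leaf cT8432) (BT.leaf cT8433)) (BT.leaf cT8434)) (BT.node 8435 (BT.leaf cT8435) (BT.leaf cT8436)))) (BT.node 8441 (BT.node 8439 (BT.node 8438 (BT.node 8437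 (BT.leaf cT8437) (BT.leaf cT8438)) (BT.leaf cT8439)) (BT.node 8440 (BT.leaf cT8440) (BT.leaf cT8441))) (BT.node 8444 (BT.node 8443 (BT.node 8442 (BT.leaf cT8442) (BT.leaf cT8443)) (BT.leaf cT8444)) (BT.node 8445 (BT.leaf cT8445) (BT.leaf cT8446))))) (BT.node 8456 (BT.node 8451 (BT.node 8449 (BT.node 8448 (BT.node 8447 (BT.leaf cT8447) (BT.leaf cT8448)) (BT.leaf cT8449)) (BT.node 8450 (BT.leaf cT8450) (BT.leaf cT8451))) (BT.node 8454 (BT.node 8453 (BT.node 8452 (BT.leaf cT8452) (BT.leaf cT8453)) (BT.leaf cT8454)) (BT.node 8455 (BT.leaf cT8455) (BT.leaf cT8456)))) (BT.node 8461 (BT.node 8459 (BT.node 8458 (BT.node 8457 (BT.leaf cT8457) (BT.leaf cT8458)) (BT.leaf cT8459)) (BT.node 8460 (BT.leaf cT8460) (BT.leaf cT8461))) (BT.node 8464 (BT.node 8463 (BT.node 8462 (BT.leaf cT8462) (BT.leaf cT8463)) (BT.leaf cT8464)) (BT.node 8465 (BT.leaf cT8465) (BT.leaf cT8466))))))) (BT.node 8507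 (BT.node 8487 (BT.node 8477 (BT.node 8472 (BT.node 8469 (BT.node 8468 (BT.node 8467 (BT.leaf cT8467) (BT.leaf cT8468)) (BT.leaf cT8469)) (BT.node 8471 (BT.node 8470 (BT.leaf cT8470) (BT.leaf cT8471)) (BT.leaf cT8472))) (BT.node 8475 (BT.node 8474 (BT.node 8473 (BT.leaf cT8473) (BT.leaf cT8474)) (BT.leaf cT8475)) (BT.node 8476 (BT.leaf cT8476) (BT.leaf cT8477)))) (BT.node 8482 (BT.node 8480 (BT.node 8479 (BT.node 8478 (BT.leaf cT8478) (BT.leaf cT8479)) (BT.leaf cT8480)) (BT.node 8481 (BT.leaf cT8481) (BT.leaf cT8482))) (BT.node 8485 (BT.node 8484 (BT.node 8483 (BT.leaf cT8483) (BT.leaf cT8484)) (BT.leaf cT8485)) (BT.node 8486 (BT.leaf cT8486) (BT.leaf cT8487))))) (BT.node 8497 (BT.node 8492 (BT.node 8490 (BT.node 8489 (BT.node 8488 (BT.leaf cT8488) (BT.leaf cT8489)) (BT.leaf cT8490)) (BT.node 8491 (BT.leaf cT8491) (BT.leaf cT8492))) (BT.node 8495 (BT.node 8494 (BT.node 8493 (BT.leaf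 cT8493) (BT.leaf cT8494)) (BT.leaf cT8495)) (BT.node 8496 (BT.leaf cT8496) (BT.leaf cT8497)))) (BT.node 8502 (BT.node 8500 (BT.node 8499 (BT.node 8498 (BT.leaf cT8498) (BT.leaf cT8499)) (BT.leaf cT8500)) (BT.node 8501 (BT.leaf cT8501) (BT.leaf cT8502))) (BT.node 8505 (BT.node 8504 (BT.node 8503 (BT.leaf cT8503) (BT.leaf cT8504)) (BT.leaf cT8505)) (BT.node 8506 (BT.leaf cT8506) (BT.leaf cT8507)))))) (BT.node 8528 (BT.node 8518 (BT.node 8513 (BT.node 8510 (BT.node 8509 (BT.node 8508 (BT.leaf cT8508) (BT.leaf cT8509)) (BT.leaf cT8510)) (BT.node 8512 (BT.node 8511 (BT.leaf cT8511) (BT.leaf cT8512)) (BT.leaf cT8513))) (BT.node 8516 (BT.node 8515 (BT.node 8514 (BT.leaf cT8514) (BT.leaf cT8515)) (BT.leaf cT8516)) (BT.node 8517 (BT.leaf cT8517) (BT.leaf cT8518)))) (BT.node 8523 (BT.node 8521 (BT.node 8520 (BT.node 8519 (BT.leaf cT8519) (BT.leaf cT8520)) (BT.leaf cT8521)) (BT.node 8522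 (BT.leaf cT8522) (BT.leaf cT8523))) (BT.node 8526 (BT.node 8525 (BT.node 8524 (BT.leaf cT8524) (BT.leaf cT8525)) (BT.leaf cT8526)) (BT.node 8527 (BT.leaf cT8527) (BT.leaf cT8528))))) (BT.node 8538 (BT.node 8533 (BT.node 8531 (BT.node 8530 (BT.node 8529 (BT.leaf cT8529) (BT.leaf cT8530)) (BT.leaf cT8531)) (BT.node 8532 (BT.leaf cT8532) (BT.leaf cT8533))) (BT.node 8536 (BT.node 8535 (BT.node 8534 (BT.leaf cT8534) (BT.leaf cT8535)) (BT.leaf cT8536)) (BT.node 8537 (BT.leaf cT8537) (BT.leaf cT8538)))) (BT.node 8543 (BT.node 8541 (BT.node 8540 (BT.node 8539 (BT.leaf cT8539) (BT.leaf cT8540)) (BT.leaf cT8541)) (BT.node 8542 (BT.leaf cT8542) (BT.leaf cT8543))) (BT.node 8546 (BT.node 8545 (BT.node 8544 (BT.leaf cT8544) (BT.leaf cT8545)) (BT.leaf cT8546)) (BT.node 8547 (BT.leaf cT8547) (BT.leaf cT8548))))))))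
noncomputable def colTT_52 : BT ℕ := (BT.node 8631 (BT.node 8590 (BT.node 8569 (BT.node 8559 (BT.node 8554 (BT.node 8551 (BT.node 8550 (BT.node 8549 (BT.leaf cT8549) (BT.leaf cT8550)) (BT.leaf cT8551)) (BT.node 8553 (BT.node 8552 (BT.leaf cT8552) (BT.leaf cT8553)) (BT.leaf cT8554))) (BT.node 8557 (BT.node 8556 (BT.node 8555 (BT.leaf cT8555) (BT.leaf cT8556)) (BT.leaf cT8557)) (BT.node 8558 (BT.leaf cT8558) (BT.leaf cT8559)))) (BT.node 8564 (BT.node 8562 (BT.node 8561 (BT.node 8560 (BT.leaf cT8560) (BT.leaf cT8561)) (BT.leaf cT8562)) (BT.node 8563 (BT.leaf cT8563) (BT.leaf cT8564))) (BT.node 8567 (BT.node 8566 (BT.node 8565 (BT.leaf cT8565) (BT.leaf cT8566)) (BT.leaf cT8567)) (BT.node 8568 (BT.leaf cT8568) (BT.leaf cT8569))))) (BT.node 8580 (BT.node 8575 (BT.node 8572 (BT.node 8571 (BT.node 8570 (BT.leaf cT8570) (BT.leaf cT8571)) (BT.leaf cT8572)) (BT.node 8574 (BT.node 8573 (BT.leaf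 cT8573) (BT.leaf cT8574)) (BT.leaf cT8575))) (BT.node 8578 (BT.node 8577 (BT.node 8576 (BT.leaf cT8576) (BT.leaf cT8577)) (BT.leaf cT8578)) (BT.node 8579 (BT.leaf cT8579) (BT.leaf cT8580)))) (BT.node 8585 (BT.node 8583 (BT.node 8582 (BT.node 8581 (BT.leaf cT8581) (BT.leaf cT8582)) (BT.leaf cT8583)) (BT.node 8584 (BT.leaf cT8584) (BT.leaf cT8585))) (BT.node 8588 (BT.node 8587 (BT.node 8586 (BT.leaf cT8586) (BT.leaf cT8587)) (BT.leaf cT8588)) (BT.node 8589 (BT.leaf cT8589) (BT.leaf cT8590)))))) (BT.node 8611 (BT.node 8601 (BT.node 8596 (BT.node 8593 (BT.node 8592 (BT.node 8591 (BT.leaf cT8591) (BT.leaf cT8592)) (BT.leaf cT8593)) (BT.node 8595 (BT.node 8594 (BT.leaf cT8594) (BT.leaf cT8595)) (BT.leaf cT8596))) (BT.node 8599 (BT.node 8598 (BT.node 8597 (BT.leaf cT8597) (BT.leaf cT8598)) (BT.leaf cT8599)) (BT.node 8600 (BT.leaf cT8600) (BT.leaf cT8601)))) (BT.node 8606 (BT.node 8604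 (BT.node 8603 (BT.node 8602 (BT.leaf cT8602) (BT.leaf cT8603)) (BT.leaf cT8604)) (BT.node 8605 (BT.leaf cT8605) (BT.leaf cT8606))) (BT.node 8609 (BT.node 8608 (BT.node 8607 (BT.leaf cT8607) (BT.leaf cT8608)) (BT.leaf cT8609)) (BT.node 8610 (BT.leaf cT8610) (BT.leaf cT8611))))) (BT.node 8621 (BT.node 8616 (BT.node 8614 (BT.node 8613 (BT.node 8612 (BT.leaf cT8612) (BT.leaf cT8613)) (BT.leaf cT8614)) (BT.node 8615 (BT.leaf cT8615) (BT.leaf cT8616))) (BT.node 8619 (BT.node 8618 (BT.node 8617 (BT.leaf cT8617) (BT.leaf cT8618)) (BT.leaf cT8619)) (BT.node 8620 (BT.leaf cT8620) (BT.leaf cT8621)))) (BT.node 8626 (BT.node 8624 (BT.node 8623 (BT.node 8622 (BT.leaf cT8622) (BT.leaf cT8623)) (BT.leaf cT8624)) (BT.node 8625 (BT.leaf cT8625) (BT.leaf cT8626))) (BT.node 8629 (BT.node 8628 (BT.node 8627 (BT.leaf cT8627) (BT.leaf cT8628)) (BT.leaf cT8629)) (BT.node 8630 (BT.leaf cT8630) (BT.leaf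 cT8631))))))) (BT.node 8672 (BT.node 8652 (BT.node 8642 (BT.node 8637 (BT.node 8634 (BT.node 8633 (BT.node 8632 (BT.leaf cT8632) (BT.leaf cT8633)) (BT.leaf cT8634)) (BT.node 8636 (BT.node 8635 (BT.leaf cT8635) (BT.leaf cT8636)) (BT.leaf cT8637))) (BT.node 8640 (BT.node 8639 (BT.node 8638 (BT.leaf cT8638) (BT.leaf cT8639)) (BT.leaf cT8640)) (BT.node 8641 (BT.leaf cT8641) (BT.leaf cT8642)))) (BT.node 8647 (BT.node 8645 (BT.node 8644 (BT.node 8643 (BT.leaf cT8643) (BT.leaf cT8644)) (BT.leaf cT8645)) (BT.node 8646 (BT.leaf cT8646) (BT.leaf cT8647))) (BT.node 8650 (BT.node 8649 (BT.node 8648 (BT.leaf cT8648) (BT.leaf cT8649)) (BT.leaf cT8650)) (BT.node 8651 (BT.leaf cT8651) (BT.leaf cT8652))))) (BT.node 8662 (BT.node 8657 (BT.node 8655 (BT.node 8654 (BT.node 8653 (BT.leaf cT8653) (BT.leaf cT8654)) (BT.leaf cT8655)) (BT.node 8656 (BT.leaf cT8656) (BT.leaf cT8657))) (BT.node 8660 (BT.node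 8659 (BT.node 8658 (BT.leaf cT8658) (BT.leaf cT8659)) (BT.leaf cT8660)) (BT.node 8661 (BT.leaf cT8661) (BT.leaf cT8662)))) (BT.node 8667 (BT.node 8665 (BT.node 8664 (BT.node 8663 (BT.leaf cT8663) (BT.leaf cT8664)) (BT.leaf cT8665)) (BT.node 8666 (BT.leaf cT8666) (BT.leaf cT8667))) (BT.node 8670 (BT.node 8669 (BT.node 8668 (BT.leaf cT8668) (BT.leaf cT8669)) (BT.leaf cT8670)) (BT.node 8671 (BT.leaf cT8671) (BT.leaf cT8672)))))) (BT.node 8693 (BT.node 8683 (BT.node 8678 (BT.node 8675 (BT.node 8674 (BT.node 8673 (BT.leaf cT8673) (BT.leaf cT8674)) (BT.leaf cT8675)) (BT.node 8677 (BT.node 8676 (BT.leaf cT8676) (BT.leaf cT8677)) (BT.leaf cT8678))) (BT.node 8681 (BT.node 8680 (BT.node 8679 (BT.leaf cT8679) (BT.leaf cT8680)) (BT.leaf cT8681)) (BT.node 8682 (BT.leaf cT8682) (BT.leaf cT8683)))) (BT.node 8688 (BT.node 8686 (BT.node 8685 (BT.node 8684 (BT.leaf cT8684) (BT.leaf cT8685)) (BT.leaf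 cT8686)) (BT.node 8687 (BT.leaf cT8687) (BT.leaf cT8688))) (BT.node 8691 (BT.node 8690 (BT.node 8689 (BT.leaf cT8689) (BT.leaf cT8690)) (BT.leaf cT8691)) (BT.node 8692 (BT.leaf cT8692) (BT.leaf cT8693))))) (BT.node 8703 (BT.node 8698 (BT.node 8696 (BT.node 8695 (BT.node 8694 (BT.leaf cT8694) (BT.leaf cT8695)) (BT.leaf cT8696)) (BT.node 8697 (BT.leaf cT8697) (BT.leaf cT8698))) (BT.node 8701 (BT.node 8700 (BT.node 8699 (BT.leaf cT8699) (BT.leaf cT8700)) (BT.leaf cT8701)) (BT.node 8702 (BT.leaf cT8702) (BT.leaf cT8703)))) (BT.node 8708 (BT.node 8706 (BT.node 8705 (BT.node 8704 (BT.leaf cT8704) (BT.leaf cT8705)) (BT.leaf cT8706)) (BT.node 8707 (BT.leaf cT8707) (BT.leaf cT8708))) (BT.node 8711 (BT.node 8710 (BT.node 8709 (BT.leaf cT8709) (BT.leaf cT8710)) (BT.leaf cT8711)) (BT.node 8712 (BT.leaf cT8712) (BT.leaf cT8713))))))))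
noncomputable def colTT_53 : BT ℕ := (BT.node 8795 (BT.node 8754 (BT.node 8734 (BT.node 8724 (BT.node 8719 (BT.node 8716 (BT.node 8715 (BT.node 8714 (BT.leaf cT8714) (BT.leaf cT8715)) (BT.leaf cT8716)) (BT.node 8718 (BT.node 8717 (BT.leaf cT8717) (BT.leaf cT8718)) (BT.leaf cT8719))) (BT.node 8722 (BT.node 8721 (BT.node 8720 (BT.leaf cT8720) (BT.leaf cT8721)) (BT.leaf cT8722)) (BT.node 8723 (BT.leaf cT8723) (BT.leaf cT8724)))) (BT.node 8729 (BT.node 8727 (BT.node 8726 (BT.node 8725 (BT.leaf cT8725) (BT.leaf cT8726)) (BT.leaf cT8727)) (BT.node 8728 (BT.leaf cT8728) (BT.leaf cT8729))) (BT.node 8732 (BT.node 8731 (BT.node 8730 (BT.leaf cT8730) (BT.leaf cT8731)) (BT.leaf cT8732)) (BT.node 8733 (BT.leaf cT8733) (BT.leaf cT8734))))) (BT.node 8744 (BT.node 8739 (BT.node 8737 (BT.node 8736 (BT.node 8735 (BT.leaf cT8735) (BT.leaf cT8736)) (BT.leaf cT8737)) (BT.node 8738 (BT.leaf cT8738)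 (BT.leaf cT8739))) (BT.node 8742 (BT.node 8741 (BT.node 8740 (BT.leaf cT8740) (BT.leaf cT8741)) (BT.leaf cT8742)) (BT.node 8743 (BT.leaf cT8743) (BT.leaf cT8744)))) (BT.node 8749 (BT.node 8747 (BT.node 8746 (BT.node 8745 (BT.leaf cT8745) (BT.leaf cT8746)) (BT.leaf cT8747)) (BT.node 8748 (BT.leaf cT8748) (BT.leaf cT8749))) (BT.node 8752 (BT.node 8751 (BT.node 8750 (BT.leaf cT8750) (BT.leaf cT8751)) (BT.leaf cT8752)) (BT.node 8753 (BT.leaf cT8753) (BT.leaf cT8754)))))) (BT.node 8775 (BT.node 8765 (BT.node 8760 (BT.node 8757 (BT.node 8756 (BT.node 8755 (BT.leaf cT8755) (BT.leaf cT8756)) (BT.leaf cT8757)) (BT.node 8759 (BT.node 8758 (BT.leaf cT8758) (BT.leaf cT8759)) (BT.leaf cT8760))) (BT.node 8763 (BT.node 8762 (BT.node 8761 (BT.leaf cT8761) (BT.leaf cT8762)) (BT.leaf cT8763)) (BT.node 8764 (BT.leaf cT8764) (BT.leaf cT8765)))) (BT.node 8770 (BT.node 8768 (BT.node 8767 (BT.node 8766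 (BT.leaf cT8766) (BT.leaf cT8767)) (BT.leaf cT8768)) (BT.node 8769 (BT.leaf cT8769) (BT.leaf cT8770))) (BT.node 8773 (BT.node 8772 (BT.node 8771 (BT.leaf cT8771) (BT.leaf cT8772)) (BT.leaf cT8773)) (BT.node 8774 (BT.leaf cT8774) (BT.leaf cT8775))))) (BT.node 8785 (BT.node 8780 (BT.node 8778 (BT.node 8777 (BT.node 8776 (BT.leaf cT8776) (BT.leaf cT8777)) (BT.leaf cT8778)) (BT.node 8779 (BT.leaf cT8779) (BT.leaf cT8780))) (BT.node 8783 (BT.node 8782 (BT.node 8781 (BT.leaf cT8781) (BT.leaf cT8782)) (BT.leaf cT8783)) (BT.node 8784 (BT.leaf cT8784) (BT.leaf cT8785)))) (BT.node 8790 (BT.node 8788 (BT.node 8787 (BT.node 8786 (BT.leaf cT8786) (BT.leaf cT8787)) (BT.leaf cT8788)) (BT.node 8789 (BT.leaf cT8789) (BT.leaf cT8790))) (BT.node 8793 (BT.node 8792 (BT.node 8791 (BT.leaf cT8791) (BT.leaf cT8792)) (BT.leaf cT8793)) (BT.node 8794 (BT.leaf cT8794) (BT.leaf cT8795))))))) (BT.node 8836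 (BT.node 8816 (BT.node 8806 (BT.node 8801 (BT.node 8798 (BT.node 8797 (BT.node 8796 (BT.leaf cT8796) (BT.leaf cT8797)) (BT.leaf cT8798)) (BT.node 8800 (BT.node 8799 (BT.leaf cT8799) (BT.leaf cT8800)) (BT.leaf cT8801))) (BT.node 8804 (BT.node 8803 (BT.node 8802 (BT.leaf cT8802) (BT.leaf cT8803)) (BT.leaf cT8804)) (BT.node 8805 (BT.leaf cT8805) (BT.leaf cT8806)))) (BT.node 8811 (BT.node 8809 (BT.node 8808 (BT.node 8807 (BT.leaf cT8807) (BT.leaf cT8808)) (BT.leaf cT8809)) (BT.node 8810 (BT.leaf cT8810) (BT.leaf cT8811))) (BT.node 8814 (BT.node 8813 (BT.node 8812 (BT.leaf cT8812) (BT.leaf cT8813)) (BT.leaf cT8814)) (BT.node 8815 (BT.leaf cT8815) (BT.leaf cT8816))))) (BT.node 8826 (BT.node 8821 (BT.node 8819 (BT.node 8818 (BT.node 8817 (BT.leaf cT8817) (BT.leaf cT8818)) (BT.leaf cT8819)) (BT.node 8820 (BT.leaf cT8820) (BT.leaf cT8821))) (BT.node 8824 (BT.node 8823 (BT.node 8822 (BT.leaf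 cT8822) (BT.leaf cT8823)) (BT.leaf cT8824)) (BT.node 8825 (BT.leaf cT8825) (BT.leaf cT8826)))) (BT.node 8831 (BT.node 8829 (BT.node 8828 (BT.node 8827 (BT.leaf cT8827) (BT.leaf cT8828)) (BT.leaf cT8829)) (BT.node 8830 (BT.leaf cT8830) (BT.leaf cT8831))) (BT.node 8834 (BT.node 8833 (BT.node 8832 (BT.leaf cT8832) (BT.leaf cT8833)) (BT.leaf cT8834)) (BT.node 8835 (BT.leaf cT8835) (BT.leaf cT8836)))))) (BT.node 8857 (BT.node 8847 (BT.node 8842 (BT.node 8839 (BT.node 8838 (BT.node 8837 (BT.leaf cT8837) (BT.leaf cT8838)) (BT.leaf cT8839)) (BT.node 8841 (BT.node 8840 (BT.leaf cT8840) (BT.leaf cT8841)) (BT.leaf cT8842))) (BT.node 8845 (BT.node 8844 (BT.node 8843 (BT.leaf cT8843) (BT.leaf cT8844)) (BT.leaf cT8845)) (BT.node 8846 (BT.leaf cT8846) (BT.leaf cT8847)))) (BT.node 8852 (BT.node 8850 (BT.node 8849 (BT.node 8848 (BT.leaf cT8848) (BT.leaf cT8849)) (BT.leaf cT8850)) (BT.node 8851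 (BT.leaf cT8851) (BT.leaf cT8852))) (BT.node 8855 (BT.node 8854 (BT.node 8853 (BT.leaf cT8853) (BT.leaf cT8854)) (BT.leaf cT8855)) (BT.node 8856 (BT.leaf cT8856) (BT.leaf cT8857))))) (BT.node 8867 (BT.node 8862 (BT.node 8860 (BT.node 8859 (BT.node 8858 (BT.leaf cT8858) (BT.leaf cT8859)) (BT.leaf cT8860)) (BT.node 8861 (BT.leaf cT8861) (BT.leaf cT8862))) (BT.node 8865 (BT.node 8864 (BT.node 8863 (BT.leaf cT8863) (BT.leaf cT8864)) (BT.leaf cT8865)) (BT.node 8866 (BT.leaf cT8866) (BT.leaf cT8867)))) (BT.node 8872 (BT.node 8870 (BT.node 8869 (BT.node 8868 (BT.leaf cT8868) (BT.leaf cT8869)) (BT.leaf cT8870)) (BT.node 8871 (BT.leaf cT8871) (BT.leaf cT8872))) (BT.node 8875 (BT.node 8874 (BT.node 8873 (BT.leaf cT8873) (BT.leaf cT8874)) (BT.leaf cT8875)) (BT.node 8876 (BT.leaf cT8876) (BT.leaf cT8877))))))))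
noncomputable def colTT_54 : BT ℕ := (BT.node 8959 (BT.node 8918 (BT.node 8898 (BT.node 8888 (BT.node 8883 (BT.node 8880 (BT.node 8879 (BT.node 8878 (BT.leaf cT8878) (BT.leaf cT8879)) (BT.leaf cT8880)) (BT.node 8882 (BT.node 8881 (BT.leaf cT8881) (BT.leaf cT8882)) (BT.leaf cT8883))) (BT.node 8886 (BT.node 8885 (BT.node 8884 (BT.leaf cT8884) (BT.leaf cT8885)) (BT.leaf cT8886)) (BT.node 8887 (BT.leaf cT8887) (BT.leaf cT8888)))) (BT.node 8893 (BT.node 8891 (BT.node 8890 (BT.node 8889 (BT.leaf cT8889) (BT.leaf cT8890)) (BT.leaf cT8891)) (BT.node 8892 (BT.leaf cT8892) (BT.leaf cT8893))) (BT.node 8896 (BT.node 8895 (BT.node 8894 (BT.leaf cT8894) (BT.leaf cT8895)) (BT.leaf cT8896)) (BT.node 8897 (BT.leaf cT8897) (BT.leaf cT8898))))) (BT.node 8908 (BT.node 8903 (BT.node 8901 (BT.node 8900 (BT.node 8899 (BT.leaf cT8899) (BT.leaf cT8900)) (BT.leaf cT8901)) (BT.node 8902 (BT.leaf cT8902)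 (BT.leaf cT8903))) (BT.node 8906 (BT.node 8905 (BT.node 8904 (BT.leaf cT8904) (BT.leaf cT8905)) (BT.leaf cT8906)) (BT.node 8907 (BT.leaf cT8907) (BT.leaf cT8908)))) (BT.node 8913 (BT.node 8911 (BT.node 8910 (BT.node 8909 (BT.leaf cT8909) (BT.leaf cT8910)) (BT.leaf cT8911)) (BT.node 8912 (BT.leaf cT8912) (BT.leaf cT8913))) (BT.node 8916 (BT.node 8915 (BT.node 8914 (BT.leaf cT8914) (BT.leaf cT8915)) (BT.leaf cT8916)) (BT.node 8917 (BT.leaf cT8917) (BT.leaf cT8918)))))) (BT.node 8939 (BT.node 8929 (BT.node 8924 (BT.node 8921 (BT.node 8920 (BT.node 8919 (BT.leaf cT8919) (BT.leaf cT8920)) (BT.leaf cT8921)) (BT.node 8923 (BT.node 8922 (BT.leaf cT8922) (BT.leaf cT8923)) (BT.leaf cT8924))) (BT.node 8927 (BT.node 8926 (BT.node 8925 (BT.leaf cT8925) (BT.leaf cT8926)) (BT.leaf cT8927)) (BT.node 8928 (BT.leaf cT8928) (BT.leaf cT8929)))) (BT.node 8934 (BT.node 8932 (BT.node 8931 (BT.node 8930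 (BT.leaf cT8930) (BT.leaf cT8931)) (BT.leaf cT8932)) (BT.node 8933 (BT.leaf cT8933) (BT.leaf cT8934))) (BT.node 8937 (BT.node 8936 (BT.node 8935 (BT.leaf cT8935) (BT.leaf cT8936)) (BT.leaf cT8937)) (BT.node 8938 (BT.leaf cT8938) (BT.leaf cT8939))))) (BT.node 8949 (BT.node 8944 (BT.node 8942 (BT.node 8941 (BT.node 8940 (BT.leaf cT8940) (BT.leaf cT8941)) (BT.leaf cT8942)) (BT.node 8943 (BT.leaf cT8943) (BT.leaf cT8944))) (BT.node 8947 (BT.node 8946 (BT.node 8945 (BT.leaf cT8945) (BT.leaf cT8946)) (BT.leaf cT8947)) (BT.node 8948 (BT.leaf cT8948) (BT.leaf cT8949)))) (BT.node 8954 (BT.node 8952 (BT.node 8951 (BT.node 8950 (BT.leaf cT8950) (BT.leaf cT8951)) (BT.leaf cT8952)) (BT.node 8953 (BT.leaf cT8953) (BT.leaf cT8954))) (BT.node 8957 (BT.node 8956 (BT.node 8955 (BT.leaf cT8955) (BT.leaf cT8956)) (BT.leaf cT8957)) (BT.node 8958 (BT.leaf cT8958) (BT.leaf cT8959))))))) (BT.node 9000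 (BT.node 8980 (BT.node 8970 (BT.node 8965 (BT.node 8962 (BT.node 8961 (BT.node 8960 (BT.leaf cT8960) (BT.leaf cT8961)) (BT.leaf cT8962)) (BT.node 8964 (BT.node 8963 (BT.leaf cT8963) (BT.leaf cT8964)) (BT.leaf cT8965))) (BT.node 8968 (BT.node 8967 (BT.node 8966 (BT.leaf cT8966) (BT.leaf cT8967)) (BT.leaf cT8968)) (BT.node 8969 (BT.leaf cT8969) (BT.leaf cT8970)))) (BT.node 8975 (BT.node 8973 (BT.node 8972 (BT.node 8971 (BT.leaf cT8971) (BT.leaf cT8972)) (BT.leaf cT8973)) (BT.node 8974 (BT.leaf cT8974) (BT.leaf cT8975))) (BT.node 8978 (BT.node 8977 (BT.node 8976 (BT.leaf cT8976) (BT.leaf cT8977)) (BT.leaf cT8978)) (BT.node 8979 (BT.leaf cT8979) (BT.leaf cT8980))))) (BT.node 8990 (BT.node 8985 (BT.node 8983 (BT.node 8982 (BT.node 8981 (BT.leaf cT8981) (BT.leaf cT8982)) (BT.leaf cT8983)) (BT.node 8984 (BT.leaf cT8984) (BT.leaf cT8985))) (BT.node 8988 (BT.node 8987 (BT.node 8986 (BT.leaf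 cT8986) (BT.leaf cT8987)) (BT.leaf cT8988)) (BT.node 8989 (BT.leaf cT8989) (BT.leaf cT8990)))) (BT.node 8995 (BT.node 8993 (BT.node 8992 (BT.node 8991 (BT.leaf cT8991) (BT.leaf cT8992)) (BT.leaf cT8993)) (BT.node 8994 (BT.leaf cT8994) (BT.leaf cT8995))) (BT.node 8998 (BT.node 8997 (BT.node 8996 (BT.leaf cT8996) (BT.leaf cT8997)) (BT.leaf cT8998)) (BT.node 8999 (BT.leaf cT8999) (BT.leaf cT9000)))))) (BT.node 9021 (BT.node 9011 (BT.node 9006 (BT.node 9003 (BT.node 9002 (BT.node 9001 (BT.leaf cT9001) (BT.leaf cT9002)) (BT.leaf cT9003)) (BT.node 9005 (BT.node 9004 (BT.leaf cT9004) (BT.leaf cT9005)) (BT.leaf cT9006))) (BT.node 9009 (BT.node 9008 (BT.node 9007 (BT.leaf cT9007) (BT.leaf cT9008)) (BT.leaf cT9009)) (BT.node 9010 (BT.leaf cT9010) (BT.leaf cT9011)))) (BT.node 9016 (BT.node 9014 (BT.node 9013 (BT.node 9012 (BT.leaf cT9012) (BT.leaf cT9013)) (BT.leaf cT9014)) (BT.node 9015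 (BT.leaf cT9015) (BT.leaf cT9016))) (BT.node 9019 (BT.node 9018 (BT.node 9017 (BT.leaf cT9017) (BT.leaf cT9018)) (BT.leaf cT9019)) (BT.node 9020 (BT.leaf cT9020) (BT.leaf cT9021))))) (BT.node 9031 (BT.node 9026 (BT.node 9024 (BT.node 9023 (BT.node 9022 (BT.leaf cT9022) (BT.leaf cT9023)) (BT.leaf cT9024)) (BT.node 9025 (BT.leaf cT9025) (BT.leaf cT9026))) (BT.node 9029 (BT.node 9028 (BT.node 9027 (BT.leaf cT9027) (BT.leaf cT9028)) (BT.leaf cT9029)) (BT.node 9030 (BT.leaf cT9030) (BT.leaf cT9031)))) (BT.node 9036 (BT.node 9034 (BT.node 9033 (BT.node 9032 (BT.leaf cT9032) (BT.leaf cT9033)) (BT.leaf cT9034)) (BT.node 9035 (BT.leaf cT9035) (BT.leaf cT9036))) (BT.node 9039 (BT.node 9038 (BT.node 9037 (BT.leaf cT9037) (BT.leaf cT9038)) (BT.leaf cT9039)) (BT.node 9040 (BT.leaf cT9040) (BT.leaf cT9041))))))))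
noncomputable def colTT_55 : BT ℕ := (BT.node 9123 (BT.node 9082 (BT.node 9062 (BT.node 9052 (BT.node 9047 (BT.node 9044 (BT.node 9043 (BT.node 9042 (BT.leaf cT9042) (BT.leaf cT9043)) (BT.leaf cT9044)) (BT.node 9046 (BT.node 9045 (BT.leaf cT9045) (BT.leaf cT9046)) (BT.leaf cT9047))) (BT.node 9050 (BT.node 9049 (BT.node 9048 (BT.leaf cT9048) (BT.leaf cT9049)) (BT.leaf cT9050)) (BT.node 9051 (BT.leaf cT9051) (BT.leaf cT9052)))) (BT.node 9057 (BT.node 9055 (BT.node 9054 (BT.node 9053 (BT.leaf cT9053) (BT.leaf cT9054)) (BT.leaf cT9055)) (BT.node 9056 (BT.leaf cT9056) (BT.leaf cT9057))) (BT.node 9060 (BT.node 9059 (BT.node 9058 (BT.leaf cT9058) (BT.leaf cT9059)) (BT.leaf cT9060)) (BT.node 9061 (BT.leaf cT9061) (BT.leaf cT9062))))) (BT.node 9072 (BT.node 9067 (BT.node 9065 (BT.node 9064 (BT.node 9063 (BT.leaf cT9063) (BT.leaf cT9064)) (BT.leaf cT9065)) (BT.node 9066 (BT.leaf cT9066)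 (BT.leaf cT9067))) (BT.node 9070 (BT.node 9069 (BT.node 9068 (BT.leaf cT9068) (BT.leaf cT9069)) (BT.leaf cT9070)) (BT.node 9071 (BT.leaf cT9071) (BT.leaf cT9072)))) (BT.node 9077 (BT.node 9075 (BT.node 9074 (BT.node 9073 (BT.leaf cT9073) (BT.leaf cT9074)) (BT.leaf cT9075)) (BT.node 9076 (BT.leaf cT9076) (BT.leaf cT9077))) (BT.node 9080 (BT.node 9079 (BT.node 9078 (BT.leaf cT9078) (BT.leaf cT9079)) (BT.leaf cT9080)) (BT.node 9081 (BT.leaf cT9081) (BT.leaf cT9082)))))) (BT.node 9103 (BT.node 9093 (BT.node 9088 (BT.node 9085 (BT.node 9084 (BT.node 9083 (BT.leaf cT9083) (BT.leaf cT9084)) (BT.leaf cT9085)) (BT.node 9087 (BT.node 9086 (BT.leaf cT9086) (BT.leaf cT9087)) (BT.leaf cT9088))) (BT.node 9091 (BT.node 9090 (BT.node 9089 (BT.leaf cT9089) (BT.leaf cT9090)) (BT.leaf cT9091)) (BT.node 9092 (BT.leaf cT9092) (BT.leaf cT9093)))) (BT.node 9098 (BT.node 9096 (BT.node 9095 (BT.node 9094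 (BT.leaf cT9094) (BT.leaf cT9095)) (BT.leaf cT9096)) (BT.node 9097 (BT.leaf cT9097) (BT.leaf cT9098))) (BT.node 9101 (BT.node 9100 (BT.node 9099 (BT.leaf cT9099) (BT.leaf cT9100)) (BT.leaf cT9101)) (BT.node 9102 (BT.leaf cT9102) (BT.leaf cT9103))))) (BT.node 9113 (BT.node 9108 (BT.node 9106 (BT.node 9105 (BT.node 9104 (BT.leaf cT9104) (BT.leaf cT9105)) (BT.leaf cT9106)) (BT.node 9107 (BT.leaf cT9107) (BT.leaf cT9108))) (BT.node 9111 (BT.node 9110 (BT.node 9109 (BT.leaf cT9109) (BT.leaf cT9110)) (BT.leaf cT9111)) (BT.node 9112 (BT.leaf cT9112) (BT.leaf cT9113)))) (BT.node 9118 (BT.node 9116 (BT.node 9115 (BT.node 9114 (BT.leaf cT9114) (BT.leaf cT9115)) (BT.leaf cT9116)) (BT.node 9117 (BT.leaf cT9117) (BT.leaf cT9118))) (BT.node 9121 (BT.node 9120 (BT.node 9119 (BT.leaf cT9119) (BT.leaf cT9120)) (BT.leaf cT9121)) (BT.node 9122 (BT.leaf cT9122) (BT.leaf cT9123))))))) (BT.node 9164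 (BT.node 9144 (BT.node 9134 (BT.node 9129 (BT.node 9126 (BT.node 9125 (BT.node 9124 (BT.leaf cT9124) (BT.leaf cT9125)) (BT.leaf cT9126)) (BT.node 9128 (BT.node 9127 (BT.leaf cT9127) (BT.leaf cT9128)) (BT.leaf cT9129))) (BT.node 9132 (BT.node 9131 (BT.node 9130 (BT.leaf cT9130) (BT.leaf cT9131)) (BT.leaf cT9132)) (BT.node 9133 (BT.leaf cT9133) (BT.leaf cT9134)))) (BT.node 9139 (BT.node 9137 (BT.node 9136 (BT.node 9135 (BT.leaf cT9135) (BT.leaf cT9136)) (BT.leaf cT9137)) (BT.node 9138 (BT.leaf cT9138) (BT.leaf cT9139))) (BT.node 9142 (BT.node 9141 (BT.node 9140 (BT.leaf cT9140) (BT.leaf cT9141)) (BT.leaf cT9142)) (BT.node 9143 (BT.leaf cT9143) (BT.leaf cT9144))))) (BT.node 9154 (BT.node 9149 (BT.node 9147 (BT.node 9146 (BT.node 9145 (BT.leaf cT9145) (BT.leaf cT9146)) (BT.leaf cT9147)) (BT.node 9148 (BT.leaf cT9148) (BT.leaf cT9149))) (BT.node 9152 (BT.node 9151 (BT.node 9150 (BT.leaf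 cT9150) (BT.leaf cT9151)) (BT.leaf cT9152)) (BT.node 9153 (BT.leaf cT9153) (BT.leaf cT9154)))) (BT.node 9159 (BT.node 9157 (BT.node 9156 (BT.node 9155 (BT.leaf cT9155) (BT.leaf cT9156)) (BT.leaf cT9157)) (BT.node 9158 (BT.leaf cT9158) (BT.leaf cT9159))) (BT.node 9162 (BT.node 9161 (BT.node 9160 (BT.leaf cT9160) (BT.leaf cT9161)) (BT.leaf cT9162)) (BT.node 9163 (BT.leaf cT9163) (BT.leaf cT9164)))))) (BT.node 9185 (BT.node 9175 (BT.node 9170 (BT.node 9167 (BT.node 9166 (BT.node 9165 (BT.leaf cT9165) (BT.leaf cT9166)) (BT.leaf cT9167)) (BT.node 9169 (BT.node 9168 (BT.leaf cT9168) (BT.leaf cT9169)) (BT.leaf cT9170))) (BT.node 9173 (BT.node 9172 (BT.node 9171 (BT.leaf cT9171) (BT.leaf cT9172)) (BT.leaf cT9173)) (BT.node 9174 (BT.leaf cT9174) (BT.leaf cT9175)))) (BT.node 9180 (BT.node 9178 (BT.node 9177 (BT.node 9176 (BT.leaf cT9176) (BT.leaf cT9177)) (BT.leaf cT9178)) (BT.node 9179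 (BT.leaf cT9179) (BT.leaf cT9180))) (BT.node 9183 (BT.node 9182 (BT.node 9181 (BT.leaf cT9181) (BT.leaf cT9182)) (BT.leaf cT9183)) (BT.node 9184 (BT.leaf cT9184) (BT.leaf cT9185))))) (BT.node 9195 (BT.node 9190 (BT.node 9188 (BT.node 9187 (BT.node 9186 (BT.leaf cT9186) (BT.leaf cT9187)) (BT.leaf cT9188)) (BT.node 9189 (BT.leaf cT9189) (BT.leaf cT9190))) (BT.node 9193 (BT.node 9192 (BT.node 9191 (BT.leaf cT9191) (BT.leaf cT9192)) (BT.leaf cT9193)) (BT.node 9194 (BT.leaf cT9194) (BT.leaf cT9195)))) (BT.node 9200 (BT.node 9198 (BT.node 9197 (BT.node 9196 (BT.leaf cT9196) (BT.leaf cT9197)) (BT.leaf cT9198)) (BT.node 9199 (BT.leaf cT9199) (BT.leaf cT9200))) (BT.node 9203 (BT.node 9202 (BT.node 9201 (BT.leaf cT9201) (BT.leaf cT9202)) (BT.leaf cT9203)) (BT.node 9204 (BT.leaf cT9204) (BT.leaf cT9205))))))))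
noncomputable def colTT_56 : BT ℕ := (BT.node 9288 (BT.node 9247 (BT.node 9226 (BT.node 9216 (BT.node 9211 (BT.node 9208 (BT.node 9207 (BT.node 9206 (BT.leaf cT9206) (BT.leaf cT9207)) (BT.leaf cT9208)) (BT.node 9210 (BT.node 9209 (BT.leaf cT9209) (BT.leaf cT9210)) (BT.leaf cT9211))) (BT.node 9214 (BT.node 9213 (BT.node 9212 (BT.leaf cT9212) (BT.leaf cT9213)) (BT.leaf cT9214)) (BT.node 9215 (BT.leaf cT9215) (BT.leaf cT9216)))) (BT.node 9221 (BT.node 9219 (BT.node 9218 (BT.node 9217 (BT.leaf cT9217) (BT.leaf cT9218)) (BT.leaf cT9219)) (BT.node 9220 (BT.leaf cT9220) (BT.leaf cT9221))) (BT.node 9224 (BT.node 9223 (BT.node 9222 (BT.leaf cT9222) (BT.leaf cT9223)) (BT.leaf cT9224)) (BT.node 9225 (BT.leaf cT9225) (BT.leaf cT9226))))) (BT.node 9237 (BT.node 9232 (BT.node 9229 (BT.node 9228 (BT.node 9227 (BT.leaf cT9227) (BT.leaf cT9228)) (BT.leaf cT9229)) (BT.node 9231 (BT.node 9230 (BT.leaf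 cT9230) (BT.leaf cT9231)) (BT.leaf cT9232))) (BT.node 9235 (BT.node 9234 (BT.node 9233 (BT.leaf cT9233) (BT.leaf cT9234)) (BT.leaf cT9235)) (BT.node 9236 (BT.leaf cT9236) (BT.leaf cT9237)))) (BT.node 9242 (BT.node 9240 (BT.node 9239 (BT.node 9238 (BT.leaf cT9238) (BT.leaf cT9239)) (BT.leaf cT9240)) (BT.node 9241 (BT.leaf cT9241) (BT.leaf cT9242))) (BT.node 9245 (BT.node 9244 (BT.node 9243 (BT.leaf cT9243) (BT.leaf cT9244)) (BT.leaf cT9245)) (BT.node 9246 (BT.leaf cT9246) (BT.leaf cT9247)))))) (BT.node 9268 (BT.node 9258 (BT.node 9253 (BT.node 9250 (BT.node 9249 (BT.node 9248 (BT.leaf cT9248) (BT.leaf cT9249)) (BT.leaf cT9250)) (BT.node 9252 (BT.node 9251 (BT.leaf cT9251) (BT.leaf cT9252)) (BT.leaf cT9253))) (BT.node 9256 (BT.node 9255 (BT.node 9254 (BT.leaf cT9254) (BT.leaf cT9255)) (BT.leaf cT9256)) (BT.node 9257 (BT.leaf cT9257) (BT.leaf cT9258)))) (BT.node 9263 (BT.node 9261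 (BT.node 9260 (BT.node 9259 (BT.leaf cT9259) (BT.leaf cT9260)) (BT.leaf cT9261)) (BT.node 9262 (BT.leaf cT9262) (BT.leaf cT9263))) (BT.node 9266 (BT.node 9265 (BT.node 9264 (BT.leaf cT9264) (BT.leaf cT9265)) (BT.leaf cT9266)) (BT.node 9267 (BT.leaf cT9267) (BT.leaf cT9268))))) (BT.node 9278 (BT.node 9273 (BT.node 9271 (BT.node 9270 (BT.node 9269 (BT.leaf cT9269) (BT.leaf cT9270)) (BT.leaf cT9271)) (BT.node 9272 (BT.leaf cT9272) (BT.leaf cT9273))) (BT.node 9276 (BT.node 9275 (BT.node 9274 (BT.leaf cT9274) (BT.leaf cT9275)) (BT.leaf cT9276)) (BT.node 9277 (BT.leaf cT9277) (BT.leaf cT9278)))) (BT.node 9283 (BT.node 9281 (BT.node 9280 (BT.node 9279 (BT.leaf cT9279) (BT.leaf cT9280)) (BT.leaf cT9281)) (BT.node 9282 (BT.leaf cT9282) (BT.leaf cT9283))) (BT.node 9286 (BT.node 9285 (BT.node 9284 (BT.leaf cT9284) (BT.leaf cT9285)) (BT.leaf cT9286)) (BT.node 9287 (BT.leaf cT9287) (BT.leaf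 cT9288))))))) (BT.node 9329 (BT.node 9309 (BT.node 9299 (BT.node 9294 (BT.node 9291 (BT.node 9290 (BT.node 9289 (BT.leaf cT9289) (BT.leaf cT9290)) (BT.leaf cT9291)) (BT.node 9293 (BT.node 9292 (BT.leaf cT9292) (BT.leaf cT9293)) (BT.leaf cT9294))) (BT.node 9297 (BT.node 9296 (BT.node 9295 (BT.leaf cT9295) (BT.leaf cT9296)) (BT.leaf cT9297)) (BT.node 9298 (BT.leaf cT9298) (BT.leaf cT9299)))) (BT.node 9304 (BT.node 9302 (BT.node 9301 (BT.node 9300 (BT.leaf cT9300) (BT.leaf cT9301)) (BT.leaf cT9302)) (BT.node 9303 (BT.leaf cT9303) (BT.leaf cT9304))) (BT.node 9307 (BT.node 9306 (BT.node 9305 (BT.leaf cT9305) (BT.leaf cT9306)) (BT.leaf cT9307)) (BT.node 9308 (BT.leaf cT9308) (BT.leaf cT9309))))) (BT.node 9319 (BT.node 9314 (BT.node 9312 (BT.node 9311 (BT.node 9310 (BT.leaf cT9310) (BT.leaf cT9311)) (BT.leaf cT9312)) (BT.node 9313 (BT.leaf cT9313) (BT.leaf cT9314))) (BT.node 9317 (BT.node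 9316 (BT.node 9315 (BT.leaf cT9315) (BT.leaf cT9316)) (BT.leaf cT9317)) (BT.node 9318 (BT.leaf cT9318) (BT.leaf cT9319)))) (BT.node 9324 (BT.node 9322 (BT.node 9321 (BT.node 9320 (BT.leaf cT9320) (BT.leaf cT9321)) (BT.leaf cT9322)) (BT.node 9323 (BT.leaf cT9323) (BT.leaf cT9324))) (BT.node 9327 (BT.node 9326 (BT.node 9325 (BT.leaf cT9325) (BT.leaf cT9326)) (BT.leaf cT9327)) (BT.node 9328 (BT.leaf cT9328) (BT.leaf cT9329)))))) (BT.node 9350 (BT.node 9340 (BT.node 9335 (BT.node 9332 (BT.node 9331 (BT.node 9330 (BT.leaf cT9330) (BT.leaf cT9331)) (BT.leaf cT9332)) (BT.node 9334 (BT.node 9333 (BT.leaf cT9333) (BT.leaf cT9334)) (BT.leaf cT9335))) (BT.node 9338 (BT.node 9337 (BT.node 9336 (BT.leaf cT9336) (BT.leaf cT9337)) (BT.leaf cT9338)) (BT.node 9339 (BT.leaf cT9339) (BT.leaf cT9340)))) (BT.node 9345 (BT.node 9343 (BT.node 9342 (BT.node 9341 (BT.leaf cT9341) (BT.leaf cT9342)) (BT.leaf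 cT9343)) (BT.node 9344 (BT.leaf cT9344) (BT.leaf cT9345))) (BT.node 9348 (BT.node 9347 (BT.node 9346 (BT.leaf cT9346) (BT.leaf cT9347)) (BT.leaf cT9348)) (BT.node 9349 (BT.leaf cT9349) (BT.leaf cT9350))))) (BT.node 9360 (BT.node 9355 (BT.node 9353 (BT.node 9352 (BT.node 9351 (BT.leaf cT9351) (BT.leaf cT9352)) (BT.leaf cT9353)) (BT.node 9354 (BT.leaf cT9354) (BT.leaf cT9355))) (BT.node 9358 (BT.node 9357 (BT.node 9356 (BT.leaf cT9356) (BT.leaf cT9357)) (BT.leaf cT9358)) (BT.node 9359 (BT.leaf cT9359) (BT.leaf cT9360)))) (BT.node 9365 (BT.node 9363 (BT.node 9362 (BT.node 9361 (BT.leaf cT9361) (BT.leaf cT9362)) (BT.leaf cT9363)) (BT.node 9364 (BT.leaf cT9364) (BT.leaf cT9365))) (BT.node 9368 (BT.node 9367 (BT.node 9366 (BT.leaf cT9366) (BT.leaf cT9367)) (BT.leaf cT9368)) (BT.node 9369 (BT.leaf cT9369) (BT.leaf cT9370))))))))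
noncomputable def colTT_57 : BT ℕ := (BT.node 9452 (BT.node 9411 (BT.node 9391 (BT.node 9381 (BT.node 9376 (BT.node 9373 (BT.node 9372 (BT.node 9371 (BT.leaf cT9371) (BT.leaf cT9372)) (BT.leaf cT9373)) (BT.node 9375 (BT.node 9374 (BT.leaf cT9374) (BT.leaf cT9375)) (BT.leaf cT9376))) (BT.node 9379 (BT.node 9378 (BT.node 9377 (BT.leaf cT9377) (BT.leaf cT9378)) (BT.leaf cT9379)) (BT.node 9380 (BT.leaf cT9380) (BT.leaf cT9381)))) (BT.node 9386 (BT.node 9384 (BT.node 9383 (BT.node 9382 (BT.leaf cT9382) (BT.leaf cT9383)) (BT.leaf cT9384)) (BT.node 9385 (BT.leaf cT9385) (BT.leaf cT9386))) (BT.node 9389 (BT.node 9388 (BT.node 9387 (BT.leaf cT9387) (BT.leaf cT9388)) (BT.leaf cT9389)) (BT.node 9390 (BT.leaf cT9390) (BT.leaf cT9391))))) (BT.node 9401 (BT.node 9396 (BT.node 9394 (BT.node 9393 (BT.node 9392 (BT.leaf cT9392) (BT.leaf cT9393)) (BT.leaf cT9394)) (BT.node 9395 (BT.leaf cT9395)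 (BT.leaf cT9396))) (BT.node 9399 (BT.node 9398 (BT.node 9397 (BT.leaf cT9397) (BT.leaf cT9398)) (BT.leaf cT9399)) (BT.node 9400 (BT.leaf cT9400) (BT.leaf cT9401)))) (BT.node 9406 (BT.node 9404 (BT.node 9403 (BT.node 9402 (BT.leaf cT9402) (BT.leaf cT9403)) (BT.leaf cT9404)) (BT.node 9405 (BT.leaf cT9405) (BT.leaf cT9406))) (BT.node 9409 (BT.node 9408 (BT.node 9407 (BT.leaf cT9407) (BT.leaf cT9408)) (BT.leaf cT9409)) (BT.node 9410 (BT.leaf cT9410) (BT.leaf cT9411)))))) (BT.node 9432 (BT.node 9422 (BT.node 9417 (BT.node 9414 (BT.node 9413 (BT.node 9412 (BT.leaf cT9412) (BT.leaf cT9413)) (BT.leaf cT9414)) (BT.node 9416 (BT.node 9415 (BT.leaf cT9415) (BT.leaf cT9416)) (BT.leaf cT9417))) (BT.node 9420 (BT.node 9419 (BT.node 9418 (BT.leaf cT9418) (BT.leaf cT9419)) (BT.leaf cT9420)) (BT.node 9421 (BT.leaf cT9421) (BT.leaf cT9422)))) (BT.node 9427 (BT.node 9425 (BT.node 9424 (BT.node 9423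 (BT.leaf cT9423) (BT.leaf cT9424)) (BT.leaf cT9425)) (BT.node 9426 (BT.leaf cT9426) (BT.leaf cT9427))) (BT.node 9430 (BT.node 9429 (BT.node 9428 (BT.leaf cT9428) (BT.leaf cT9429)) (BT.leaf cT9430)) (BT.node 9431 (BT.leaf cT9431) (BT.leaf cT9432))))) (BT.node 9442 (BT.node 9437 (BT.node 9435 (BT.node 9434 (BT.node 9433 (BT.leaf cT9433) (BT.leaf cT9434)) (BT.leaf cT9435)) (BT.node 9436 (BT.leaf cT9436) (BT.leaf cT9437))) (BT.node 9440 (BT.node 9439 (BT.node 9438 (BT.leaf cT9438) (BT.leaf cT9439)) (BT.leaf cT9440)) (BT.node 9441 (BT.leaf cT9441) (BT.leaf cT9442)))) (BT.node 9447 (BT.node 9445 (BT.node 9444 (BT.node 9443 (BT.leaf cT9443) (BT.leaf cT9444)) (BT.leaf cT9445)) (BT.node 9446 (BT.leaf cT9446) (BT.leaf cT9447))) (BT.node 9450 (BT.node 9449 (BT.node 9448 (BT.leaf cT9448) (BT.leaf cT9449)) (BT.leaf cT9450)) (BT.node 9451 (BT.leaf cT9451) (BT.leaf cT9452))))))) (BT.node 9493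 (BT.node 9473 (BT.node 9463 (BT.node 9458 (BT.node 9455 (BT.node 9454 (BT.node 9453 (BT.leaf cT9453) (BT.leaf cT9454)) (BT.leaf cT9455)) (BT.node 9457 (BT.node 9456 (BT.leaf cT9456) (BT.leaf cT9457)) (BT.leaf cT9458))) (BT.node 9461 (BT.node 9460 (BT.node 9459 (BT.leaf cT9459) (BT.leaf cT9460)) (BT.leaf cT9461)) (BT.node 9462 (BT.leaf cT9462) (BT.leaf cT9463)))) (BT.node 9468 (BT.node 9466 (BT.node 9465 (BT.node 9464 (BT.leaf cT9464) (BT.leaf cT9465)) (BT.leaf cT9466)) (BT.node 9467 (BT.leaf cT9467) (BT.leaf cT9468))) (BT.node 9471 (BT.node 9470 (BT.node 9469 (BT.leaf cT9469) (BT.leaf cT9470)) (BT.leaf cT9471)) (BT.node 9472 (BT.leaf cT9472) (BT.leaf cT9473))))) (BT.node 9483 (BT.node 9478 (BT.node 9476 (BT.node 9475 (BT.node 9474 (BT.leaf cT9474) (BT.leaf cT9475)) (BT.leaf cT9476)) (BT.node 9477 (BT.leaf cT9477) (BT.leaf cT9478))) (BT.node 9481 (BT.node 9480 (BT.node 9479 (BT.leaf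 cT9479) (BT.leaf cT9480)) (BT.leaf cT9481)) (BT.node 9482 (BT.leaf cT9482) (BT.leaf cT9483)))) (BT.node 9488 (BT.node 9486 (BT.node 9485 (BT.node 9484 (BT.leaf cT9484) (BT.leaf cT9485)) (BT.leaf cT9486)) (BT.node 9487 (BT.leaf cT9487) (BT.leaf cT9488))) (BT.node 9491 (BT.node 9490 (BT.node 9489 (BT.leaf cT9489) (BT.leaf cT9490)) (BT.leaf cT9491)) (BT.node 9492 (BT.leaf cT9492) (BT.leaf cT9493)))))) (BT.node 9514 (BT.node 9504 (BT.node 9499 (BT.node 9496 (BT.node 9495 (BT.node 9494 (BT.leaf cT9494) (BT.leaf cT9495)) (BT.leaf cT9496)) (BT.node 9498 (BT.node 9497 (BT.leaf cT9497) (BT.leaf cT9498)) (BT.leaf cT9499))) (BT.node 9502 (BT.node 9501 (BT.node 9500 (BT.leaf cT9500) (BT.leaf cT9501)) (BT.leaf cT9502)) (BT.node 9503 (BT.leaf cT9503) (BT.leaf cT9504)))) (BT.node 9509 (BT.node 9507 (BT.node 9506 (BT.node 9505 (BT.leaf cT9505) (BT.leaf cT9506)) (BT.leaf cT9507)) (BT.node 9508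 (BT.leaf cT9508) (BT.leaf cT9509))) (BT.node 9512 (BT.node 9511 (BT.node 9510 (BT.leaf cT9510) (BT.leaf cT9511)) (BT.leaf cT9512)) (BT.node 9513 (BT.leaf cT9513) (BT.leaf cT9514))))) (BT.node 9524 (BT.node 9519 (BT.node 9517 (BT.node 9516 (BT.node 9515 (BT.leaf cT9515) (BT.leaf cT9516)) (BT.leaf cT9517)) (BT.node 9518 (BT.leaf cT9518) (BT.leaf cT9519))) (BT.node 9522 (BT.node 9521 (BT.node 9520 (BT.leaf cT9520) (BT.leaf cT9521)) (BT.leaf cT9522)) (BT.node 9523 (BT.leaf cT9523) (BT.leaf cT9524)))) (BT.node 9529 (BT.node 9527 (BT.node 9526 (BT.node 9525 (BT.leaf cT9525) (BT.leaf cT9526)) (BT.leaf cT9527)) (BT.node 9528 (BT.leaf cT9528) (BT.leaf cT9529))) (BT.node 9532 (BT.node 9531 (BT.node 9530 (BT.leaf cT9530) (BT.leaf cT9531)) (BT.leaf cT9532)) (BT.node 9533 (BT.leaf cT9533) (BT.leaf cT9534))))))))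
noncomputable def colTT_58 : BT ℕ := (BT.node 9617 (BT.node 9576 (BT.node 9555 (BT.node 9545 (BT.node 9540 (BT.node 9537 (BT.node 9536 (BT.node 9535 (BT.leaf cT9535) (BT.leaf cT9536)) (BT.leaf cT9537)) (BT.node 9539 (BT.node 9538 (BT.leaf cT9538) (BT.leaf cT9539)) (BT.leaf cT9540))) (BT.node 9543 (BT.node 9542 (BT.node 9541 (BT.leaf cT9541) (BT.leaf cT9542)) (BT.leaf cT9543)) (BT.node 9544 (BT.leaf cT9544) (BT.leaf cT9545)))) (BT.node 9550 (BT.node 9548 (BT.node 9547 (BT.node 9546 (BT.leaf cT9546) (BT.leaf cT9547)) (BT.leaf cT9548)) (BT.node 9549 (BT.leaf cT9549) (BT.leaf cT9550))) (BT.node 9553 (BT.node 9552 (BT.node 9551 (BT.leaf cT9551) (BT.leaf cT9552)) (BT.leaf cT9553)) (BT.node 9554 (BT.leaf cT9554) (BT.leaf cT9555))))) (BT.node 9566 (BT.node 9561 (BT.node 9558 (BT.node 9557 (BT.node 9556 (BT.leaf cT9556) (BT.leaf cT9557)) (BT.leaf cT9558)) (BT.node 9560 (BT.node 9559 (BT.leaf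 cT9559) (BT.leaf cT9560)) (BT.leaf cT9561))) (BT.node 9564 (BT.node 9563 (BT.node 9562 (BT.leaf cT9562) (BT.leaf cT9563)) (BT.leaf cT9564)) (BT.node 9565 (BT.leaf cT9565) (BT.leaf cT9566)))) (BT.node 9571 (BT.node 9569 (BT.node 9568 (BT.node 9567 (BT.leaf cT9567) (BT.leaf cT9568)) (BT.leaf cT9569)) (BT.node 9570 (BT.leaf cT9570) (BT.leaf cT9571))) (BT.node 9574 (BT.node 9573 (BT.node 9572 (BT.leaf cT9572) (BT.leaf cT9573)) (BT.leaf cT9574)) (BT.node 9575 (BT.leaf cT9575) (BT.leaf cT9576)))))) (BT.node 9597 (BT.node 9587 (BT.node 9582 (BT.node 9579 (BT.node 9578 (BT.node 9577 (BT.leaf cT9577) (BT.leaf cT9578)) (BT.leaf cT9579)) (BT.node 9581 (BT.node 9580 (BT.leaf cT9580) (BT.leaf cT9581)) (BT.leaf cT9582))) (BT.node 9585 (BT.node 9584 (BT.node 9583 (BT.leaf cT9583) (BT.leaf cT9584)) (BT.leaf cT9585)) (BT.node 9586 (BT.leaf cT9586) (BT.leaf cT9587)))) (BT.node 9592 (BT.node 9590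 (BT.node 9589 (BT.node 9588 (BT.leaf cT9588) (BT.leaf cT9589)) (BT.leaf cT9590)) (BT.node 9591 (BT.leaf cT9591) (BT.leaf cT9592))) (BT.node 9595 (BT.node 9594 (BT.node 9593 (BT.leaf cT9593) (BT.leaf cT9594)) (BT.leaf cT9595)) (BT.node 9596 (BT.leaf cT9596) (BT.leaf cT9597))))) (BT.node 9607 (BT.node 9602 (BT.node 9600 (BT.node 9599 (BT.node 9598 (BT.leaf cT9598) (BT.leaf cT9599)) (BT.leaf cT9600)) (BT.node 9601 (BT.leaf cT9601) (BT.leaf cT9602))) (BT.node 9605 (BT.node 9604 (BT.node 9603 (BT.leaf cT9603) (BT.leaf cT9604)) (BT.leaf cT9605)) (BT.node 9606 (BT.leaf cT9606) (BT.leaf cT9607)))) (BT.node 9612 (BT.node 9610 (BT.node 9609 (BT.node 9608 (BT.leaf cT9608) (BT.leaf cT9609)) (BT.leaf cT9610)) (BT.node 9611 (BT.leaf cT9611) (BT.leaf cT9612))) (BT.node 9615 (BT.node 9614 (BT.node 9613 (BT.leaf cT9613) (BT.leaf cT9614)) (BT.leaf cT9615)) (BT.node 9616 (BT.leaf cT9616) (BT.leaf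 cT9617))))))) (BT.node 9658 (BT.node 9638 (BT.node 9628 (BT.node 9623 (BT.node 9620 (BT.node 9619 (BT.node 9618 (BT.leaf cT9618) (BT.leaf cT9619)) (BT.leaf cT9620)) (BT.node 9622 (BT.node 9621 (BT.leaf cT9621) (BT.leaf cT9622)) (BT.leaf cT9623))) (BT.node 9626 (BT.node 9625 (BT.node 9624 (BT.leaf cT9624) (BT.leaf cT9625)) (BT.leaf cT9626)) (BT.node 9627 (BT.leaf cT9627) (BT.leaf cT9628)))) (BT.node 9633 (BT.node 9631 (BT.node 9630 (BT.node 9629 (BT.leaf cT9629) (BT.leaf cT9630)) (BT.leaf cT9631)) (BT.node 9632 (BT.leaf cT9632) (BT.leaf cT9633))) (BT.node 9636 (BT.node 9635 (BT.node 9634 (BT.leaf cT9634) (BT.leaf cT9635)) (BT.leaf cT9636)) (BT.node 9637 (BT.leaf cT9637) (BT.leaf cT9638))))) (BT.node 9648 (BT.node 9643 (BT.node 9641 (BT.node 9640 (BT.node 9639 (BT.leaf cT9639) (BT.leaf cT9640)) (BT.leaf cT9641)) (BT.node 9642 (BT.leaf cT9642) (BT.leaf cT9643))) (BT.node 9646 (BT.node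 9645 (BT.node 9644 (BT.leaf cT9644) (BT.leaf cT9645)) (BT.leaf cT9646)) (BT.node 9647 (BT.leaf cT9647) (BT.leaf cT9648)))) (BT.node 9653 (BT.node 9651 (BT.node 9650 (BT.node 9649 (BT.leaf cT9649) (BT.leaf cT9650)) (BT.leaf cT9651)) (BT.node 9652 (BT.leaf cT9652) (BT.leaf cT9653))) (BT.node 9656 (BT.node 9655 (BT.node 9654 (BT.leaf cT9654) (BT.leaf cT9655)) (BT.leaf cT9656)) (BT.node 9657 (BT.leaf cT9657) (BT.leaf cT9658)))))) (BT.node 9679 (BT.node 9669 (BT.node 9664 (BT.node 9661 (BT.node 9660 (BT.node 9659 (BT.leaf cT9659) (BT.leaf cT9660)) (BT.leaf cT9661)) (BT.node 9663 (BT.node 9662 (BT.leaf cT9662) (BT.leaf cT9663)) (BT.leaf cT9664))) (BT.node 9667 (BT.node 9666 (BT.node 9665 (BT.leaf cT9665) (BT.leaf cT9666)) (BT.leaf cT9667)) (BT.node 9668 (BT.leaf cT9668) (BT.leaf cT9669)))) (BT.node 9674 (BT.node 9672 (BT.node 9671 (BT.node 9670 (BT.leaf cT9670) (BT.leaf cT9671)) (BT.leaf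 cT9672)) (BT.node 9673 (BT.leaf cT9673) (BT.leaf cT9674))) (BT.node 9677 (BT.node 9676 (BT.node 9675 (BT.leaf cT9675) (BT.leaf cT9676)) (BT.leaf cT9677)) (BT.node 9678 (BT.leaf cT9678) (BT.leaf cT9679))))) (BT.node 9689 (BT.node 9684 (BT.node 9682 (BT.node 9681 (BT.node 9680 (BT.leaf cT9680) (BT.leaf cT9681)) (BT.leaf cT9682)) (BT.node 9683 (BT.leaf cT9683) (BT.leaf cT9684))) (BT.node 9687 (BT.node 9686 (BT.node 9685 (BT.leaf cT9685) (BT.leaf cT9686)) (BT.leaf cT9687)) (BT.node 9688 (BT.leaf cT9688) (BT.leaf cT9689)))) (BT.node 9694 (BT.node 9692 (BT.node 9691 (BT.node 9690 (BT.leaf cT9690) (BT.leaf cT9691)) (BT.leaf cT9692)) (BT.node 9693 (BT.leaf cT9693) (BT.leaf cT9694))) (BT.node 9697 (BT.node 9696 (BT.node 9695 (BT.leaf cT9695) (BT.leaf cT9696)) (BT.leaf cT9697)) (BT.node 9698 (BT.leaf cT9698) (BT.leaf cT9699))))))))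
noncomputable def colTT_59 : BT ℕ := (BT.node 9781 (BT.node 9740 (BT.node 9720 (BT.node 9710 (BT.node 9705 (BT.node 9702 (BT.node 9701 (BT.node 9700 (BT.leaf cT9700) (BT.leaf cT9701)) (BT.leaf cT9702)) (BT.node 9704 (BT.node 9703 (BT.leaf cT9703) (BT.leaf cT9704)) (BT.leaf cT9705))) (BT.node 9708 (BT.node 9707 (BT.node 9706 (BT.leaf cT9706) (BT.leaf cT9707)) (BT.leaf cT9708)) (BT.node 9709 (BT.leaf cT9709) (BT.leaf cT9710)))) (BT.node 9715 (BT.node 9713 (BT.node 9712 (BT.node 9711 (BT.leaf cT9711) (BT.leaf cT9712)) (BT.leaf cT9713)) (BT.node 9714 (BT.leaf cT9714) (BT.leaf cT9715))) (BT.node 9718 (BT.node 9717 (BT.node 9716 (BT.leaf cT9716) (BT.leaf cT9717)) (BT.leaf cT9718)) (BT.node 9719 (BT.leaf cT9719) (BT.leaf cT9720))))) (BT.node 9730 (BT.node 9725 (BT.node 9723 (BT.node 9722 (BT.node 9721 (BT.leaf cT9721) (BT.leaf cT9722)) (BT.leaf cT9723)) (BT.node 9724 (BT.leaf cT9724)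 (BT.leaf cT9725))) (BT.node 9728 (BT.node 9727 (BT.node 9726 (BT.leaf cT9726) (BT.leaf cT9727)) (BT.leaf cT9728)) (BT.node 9729 (BT.leaf cT9729) (BT.leaf cT9730)))) (BT.node 9735 (BT.node 9733 (BT.node 9732 (BT.node 9731 (BT.leaf cT9731) (BT.leaf cT9732)) (BT.leaf cT9733)) (BT.node 9734 (BT.leaf cT9734) (BT.leaf cT9735))) (BT.node 9738 (BT.node 9737 (BT.node 9736 (BT.leaf cT9736) (BT.leaf cT9737)) (BT.leaf cT9738)) (BT.node 9739 (BT.leaf cT9739) (BT.leaf cT9740)))))) (BT.node 9761 (BT.node 9751 (BT.node 9746 (BT.node 9743 (BT.node 9742 (BT.node 9741 (BT.leaf cT9741) (BT.leaf cT9742)) (BT.leaf cT9743)) (BT.node 9745 (BT.node 9744 (BT.leaf cT9744) (BT.leaf cT9745)) (BT.leaf cT9746))) (BT.node 9749 (BT.node 9748 (BT.node 9747 (BT.leaf cT9747) (BT.leaf cT9748)) (BT.leaf cT9749)) (BT.node 9750 (BT.leaf cT9750) (BT.leaf cT9751)))) (BT.node 9756 (BT.node 9754 (BT.node 9753 (BT.node 9752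 (BT.leaf cT9752) (BT.leaf cT9753)) (BT.leaf cT9754)) (BT.node 9755 (BT.leaf cT9755) (BT.leaf cT9756))) (BT.node 9759 (BT.node 9758 (BT.node 9757 (BT.leaf cT9757) (BT.leaf cT9758)) (BT.leaf cT9759)) (BT.node 9760 (BT.leaf cT9760) (BT.leaf cT9761))))) (BT.node 9771 (BT.node 9766 (BT.node 9764 (BT.node 9763 (BT.node 9762 (BT.leaf cT9762) (BT.leaf cT9763)) (BT.leaf cT9764)) (BT.node 9765 (BT.leaf cT9765) (BT.leaf cT9766))) (BT.node 9769 (BT.node 9768 (BT.node 9767 (BT.leaf cT9767) (BT.leaf cT9768)) (BT.leaf cT9769)) (BT.node 9770 (BT.leaf cT9770) (BT.leaf cT9771)))) (BT.node 9776 (BT.node 9774 (BT.node 9773 (BT.node 9772 (BT.leaf cT9772) (BT.leaf cT9773)) (BT.leaf cT9774)) (BT.node 9775 (BT.leaf cT9775) (BT.leaf cT9776))) (BT.node 9779 (BT.node 9778 (BT.node 9777 (BT.leaf cT9777) (BT.leaf cT9778)) (BT.leaf cT9779)) (BT.node 9780 (BT.leaf cT9780) (BT.leaf cT9781))))))) (BT.node 9822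 (BT.node 9802 (BT.node 9792 (BT.node 9787 (BT.node 9784 (BT.node 9783 (BT.node 9782 (BT.leaf cT9782) (BT.leaf cT9783)) (BT.leaf cT9784)) (BT.node 9786 (BT.node 9785 (BT.leaf cT9785) (BT.leaf cT9786)) (BT.leaf cT9787))) (BT.node 9790 (BT.node 9789 (BT.node 9788 (BT.leaf cT9788) (BT.leaf cT9789)) (BT.leaf cT9790)) (BT.node 9791 (BT.leaf cT9791) (BT.leaf cT9792)))) (BT.node 9797 (BT.node 9795 (BT.node 9794 (BT.node 9793 (BT.leaf cT9793) (BT.leaf cT9794)) (BT.leaf cT9795)) (BT.node 9796 (BT.leaf cT9796) (BT.leaf cT9797))) (BT.node 9800 (BT.node 9799 (BT.node 9798 (BT.leaf cT9798) (BT.leaf cT9799)) (BT.leaf cT9800)) (BT.node 9801 (BT.leaf cT9801) (BT.leaf cT9802))))) (BT.node 9812 (BT.node 9807 (BT.node 9805 (BT.node 9804 (BT.node 9803 (BT.leaf cT9803) (BT.leaf cT9804)) (BT.leaf cT9805)) (BT.node 9806 (BT.leaf cT9806) (BT.leaf cT9807))) (BT.node 9810 (BT.node 9809 (BT.node 9808 (BT.leaf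 cT9808) (BT.leaf cT9809)) (BT.leaf cT9810)) (BT.node 9811 (BT.leaf cT9811) (BT.leaf cT9812)))) (BT.node 9817 (BT.node 9815 (BT.node 9814 (BT.node 9813 (BT.leaf cT9813) (BT.leaf cT9814)) (BT.leaf cT9815)) (BT.node 9816 (BT.leaf cT9816) (BT.leaf cT9817))) (BT.node 9820 (BT.node 9819 (BT.node 9818 (BT.leaf cT9818) (BT.leaf cT9819)) (BT.leaf cT9820)) (BT.node 9821 (BT.leaf cT9821) (BT.leaf cT9822)))))) (BT.node 9843 (BT.node 9833 (BT.node 9828 (BT.node 9825 (BT.node 9824 (BT.node 9823 (BT.leaf cT9823) (BT.leaf cT9824)) (BT.leaf cT9825)) (BT.node 9827 (BT.node 9826 (BT.leaf cT9826) (BT.leaf cT9827)) (BT.leaf cT9828))) (BT.node 9831 (BT.node 9830 (BT.node 9829 (BT.leaf cT9829) (BT.leaf cT9830)) (BT.leaf cT9831)) (BT.node 9832 (BT.leaf cT9832) (BT.leaf cT9833)))) (BT.node 9838 (BT.node 9836 (BT.node 9835 (BT.node 9834 (BT.leaf cT9834) (BT.leaf cT9835)) (BT.leaf cT9836)) (BT.node 9837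 (BT.leaf cT9837) (BT.leaf cT9838))) (BT.node 9841 (BT.node 9840 (BT.node 9839 (BT.leaf cT9839) (BT.leaf cT9840)) (BT.leaf cT9841)) (BT.node 9842 (BT.leaf cT9842) (BT.leaf cT9843))))) (BT.node 9853 (BT.node 9848 (BT.node 9846 (BT.node 9845 (BT.node 9844 (BT.leaf cT9844) (BT.leaf cT9845)) (BT.leaf cT9846)) (BT.node 9847 (BT.leaf cT9847) (BT.leaf cT9848))) (BT.node 9851 (BT.node 9850 (BT.node 9849 (BT.leaf cT9849) (BT.leaf cT9850)) (BT.leaf cT9851)) (BT.node 9852 (BT.leaf cT9852) (BT.leaf cT9853)))) (BT.node 9858 (BT.node 9856 (BT.node 9855 (BT.node 9854 (BT.leaf cT9854) (BT.leaf cT9855)) (BT.leaf cT9856)) (BT.node 9857 (BT.leaf cT9857) (BT.leaf cT9858))) (BT.node 9861 (BT.node 9860 (BT.node 9859 (BT.leaf cT9859) (BT.leaf cT9860)) (BT.leaf cT9861)) (BT.node 9862 (BT.leaf cT9862) (BT.leaf cT9863))))))))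
noncomputable def colTT_60 : BT ℕ := (BT.node 9946 (BT.node 9905 (BT.node 9884 (BT.node 9874 (BT.node 9869 (BT.node 9866 (BT.node 9865 (BT.node 9864 (BT.leaf cT9864) (BT.leaf cT9865)) (BT.leaf cT9866)) (BT.node 9868 (BT.node 9867 (BT.leaf cT9867) (BT.leaf cT9868)) (BT.leaf cT9869))) (BT.node 9872 (BT.node 9871 (BT.node 9870 (BT.leaf cT9870) (BT.leaf cT9871)) (BT.leaf cT9872)) (BT.node 9873 (BT.leaf cT9873) (BT.leaf cT9874)))) (BT.node 9879 (BT.node 9877 (BT.node 9876 (BT.node 9875 (BT.leaf cT9875) (BT.leaf cT9876)) (BT.leaf cT9877)) (BT.node 9878 (BT.leaf cT9878) (BT.leaf cT9879))) (BT.node 9882 (BT.node 9881 (BT.node 9880 (BT.leaf cT9880) (BT.leaf cT9881)) (BT.leaf cT9882)) (BT.node 9883 (BT.leaf cT9883) (BT.leaf cT9884))))) (BT.node 9895 (BT.node 9890 (BT.node 9887 (BT.node 9886 (BT.node 9885 (BT.leaf cT9885) (BT.leaf cT9886)) (BT.leaf cT9887)) (BT.node 9889 (BT.node 9888 (BT.leaf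 cT9888) (BT.leaf cT9889)) (BT.leaf cT9890))) (BT.node 9893 (BT.node 9892 (BT.node 9891 (BT.leaf cT9891) (BT.leaf cT9892)) (BT.leaf cT9893)) (BT.node 9894 (BT.leaf cT9894) (BT.leaf cT9895)))) (BT.node 9900 (BT.node 9898 (BT.node 9897 (BT.node 9896 (BT.leaf cT9896) (BT.leaf cT9897)) (BT.leaf cT9898)) (BT.node 9899 (BT.leaf cT9899) (BT.leaf cT9900))) (BT.node 9903 (BT.node 9902 (BT.node 9901 (BT.leaf cT9901) (BT.leaf cT9902)) (BT.leaf cT9903)) (BT.node 9904 (BT.leaf cT9904) (BT.leaf cT9905)))))) (BT.node 9926 (BT.node 9916 (BT.node 9911 (BT.node 9908 (BT.node 9907 (BT.node 9906 (BT.leaf cT9906) (BT.leaf cT9907)) (BT.leaf cT9908)) (BT.node 9910 (BT.node 9909 (BT.leaf cT9909) (BT.leaf cT9910)) (BT.leaf cT9911))) (BT.node 9914 (BT.node 9913 (BT.node 9912 (BT.leaf cT9912) (BT.leaf cT9913)) (BT.leaf cT9914)) (BT.node 9915 (BT.leaf cT9915) (BT.leaf cT9916)))) (BT.node 9921 (BT.node 9919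 (BT.node 9918 (BT.node 9917 (BT.leaf cT9917) (BT.leaf cT9918)) (BT.leaf cT9919)) (BT.node 9920 (BT.leaf cT9920) (BT.leaf cT9921))) (BT.node 9924 (BT.node 9923 (BT.node 9922 (BT.leaf cT9922) (BT.leaf cT9923)) (BT.leaf cT9924)) (BT.node 9925 (BT.leaf cT9925) (BT.leaf cT9926))))) (BT.node 9936 (BT.node 9931 (BT.node 9929 (BT.node 9928 (BT.node 9927 (BT.leaf cT9927) (BT.leaf cT9928)) (BT.leaf cT9929)) (BT.node 9930 (BT.leaf cT9930) (BT.leaf cT9931))) (BT.node 9934 (BT.node 9933 (BT.node 9932 (BT.leaf cT9932) (BT.leaf cT9933)) (BT.leaf cT9934)) (BT.node 9935 (BT.leaf cT9935) (BT.leaf cT9936)))) (BT.node 9941 (BT.node 9939 (BT.node 9938 (BT.node 9937 (BT.leaf cT9937) (BT.leaf cT9938)) (BT.leaf cT9939)) (BT.node 9940 (BT.leaf cT9940) (BT.leaf cT9941))) (BT.node 9944 (BT.node 9943 (BT.node 9942 (BT.leaf cT9942) (BT.leaf cT9943)) (BT.leaf cT9944)) (BT.node 9945 (BT.leaf cT9945) (BT.leaf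 cT9946))))))) (BT.node 9987 (BT.node 9967 (BT.node 9957 (BT.node 9952 (BT.node 9949 (BT.node 9948 (BT.node 9947 (BT.leaf cT9947) (BT.leaf cT9948)) (BT.leaf cT9949)) (BT.node 9951 (BT.node 9950 (BT.leaf cT9950) (BT.leaf cT9951)) (BT.leaf cT9952))) (BT.node 9955 (BT.node 9954 (BT.node 9953 (BT.leaf cT9953) (BT.leaf cT9954)) (BT.leaf cT9955)) (BT.node 9956 (BT.leaf cT9956) (BT.leaf cT9957)))) (BT.node 9962 (BT.node 9960 (BT.node 9959 (BT.node 9958 (BT.leaf cT9958) (BT.leaf cT9959)) (BT.leaf cT9960)) (BT.node 9961 (BT.leaf cT9961) (BT.leaf cT9962))) (BT.node 9965 (BT.node 9964 (BT.node 9963 (BT.leaf cT9963) (BT.leaf cT9964)) (BT.leaf cT9965)) (BT.node 9966 (BT.leaf cT9966) (BT.leaf cT9967))))) (BT.node 9977 (BT.node 9972 (BT.node 9970 (BT.node 9969 (BT.node 9968 (BT.leaf cT9968) (BT.leaf cT9969)) (BT.leaf cT9970)) (BT.node 9971 (BT.leaf cT9971) (BT.leaf cT9972))) (BT.node 9975 (BT.node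 9974 (BT.node 9973 (BT.leaf cT9973) (BT.leaf cT9974)) (BT.leaf cT9975)) (BT.node 9976 (BT.leaf cT9976) (BT.leaf cT9977)))) (BT.node 9982 (BT.node 9980 (BT.node 9979 (BT.node 9978 (BT.leaf cT9978) (BT.leaf cT9979)) (BT.leaf cT9980)) (BT.node 9981 (BT.leaf cT9981) (BT.leaf cT9982))) (BT.node 9985 (BT.node 9984 (BT.node 9983 (BT.leaf cT9983) (BT.leaf cT9984)) (BT.leaf cT9985)) (BT.node 9986 (BT.leaf cT9986) (BT.leaf cT9987)))))) (BT.node 10008 (BT.node 9998 (BT.node 9993 (BT.node 9990 (BT.node 9989 (BT.node 9988 (BT.leaf cT9988) (BT.leaf cT9989)) (BT.leaf cT9990)) (BT.node 9992 (BT.node 9991 (BT.leaf cT9991) (BT.leaf cT9992)) (BT.leaf cT9993))) (BT.node 9996 (BT.node 9995 (BT.node 9994 (BT.leaf cT9994) (BT.leaf cT9995)) (BT.leaf cT9996)) (BT.node 9997 (BT.leaf cT9997) (BT.leaf cT9998)))) (BT.node 10003 (BT.node 10001 (BT.node 10000 (BT.node 9999 (BT.leaf cT9999) (BT.leaf cT10000))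 (BT.leaf cT10001)) (BT.node 10002 (BT.leaf cT10002) (BT.leaf cT10003))) (BT.node 10006 (BT.node 10005 (BT.node 10004 (BT.leaf cT10004) (BT.leaf cT10005)) (BT.leaf cT10006)) (BT.node 10007 (BT.leaf cT10007) (BT.leaf cT10008))))) (BT.node 10018 (BT.node 10013 (BT.node 10011 (BT.node 10010 (BT.node 10009 (BT.leaf cT10009) (BT.leaf cT10010)) (BT.leaf cT10011)) (BT.node 10012 (BT.leaf cT10012) (BT.leaf cT10013))) (BT.node 10016 (BT.node 10015 (BT.node 10014 (BT.leaf cT10014) (BT.leaf cT10015)) (BT.leaf cT10016)) (BT.node 10017 (BT.leaf cT10017) (BT.leaf cT10018)))) (BT.node 10023 (BT.node 10021 (BT.node 10020 (BT.node 10019 (BT.leaf cT10019) (BT.leaf cT10020)) (BT.leaf cT10021)) (BT.node 10022 (BT.leaf cT10022) (BT.leaf cT10023))) (BT.node 10026 (BT.node 10025 (BT.node 10024 (BT.leaf cT10024) (BT.leaf cT10025)) (BT.leaf cT10026)) (BT.node 10027 (BT.leaf cT10027) (BT.leaf cT10028))))))))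
noncomputable def colTT_61 : BT ℕ := (BT.node 10110 (BT.node 10069 (BT.node 10049 (BT.node 10039 (BT.node 10034 (BT.node 10031 (BT.node 10030 (BT.node 10029 (BT.leaf cT10029) (BT.leaf cT10030)) (BT.leaf cT10031)) (BT.node 10033 (BT.node 10032 (BT.leaf cT10032) (BT.leaf cT10033)) (BT.leaf cT10034))) (BT.node 10037 (BT.node 10036 (BT.node 10035 (BT.leaf cT10035) (BT.leaf cT10036)) (BT.leaf cT10037)) (BT.node 10038 (BT.leaf cT10038) (BT.leaf cT10039)))) (BT.node 10044 (BT.node 10042 (BT.node 10041 (BT.node 10040 (BT.leaf cT10040) (BT.leaf cT10041)) (BT.leaf cT10042)) (BT.node 10043 (BT.leaf cT10043) (BT.leaf cT10044))) (BT.node 10047 (BT.node 10046 (BT.node 10045 (BT.leaf cT10045) (BT.leaf cT10046)) (BT.leaf cT10047)) (BT.node 10048 (BT.leaf cT10048) (BT.leaf cT10049))))) (BT.node 10059 (BT.node 10054 (BT.node 10052 (BT.node 10051 (BT.node 10050 (BT.leaf cT10050) (BT.leaf cT10051))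 (BT.leaf cT10052)) (BT.node 10053 (BT.leaf cT10053) (BT.leaf cT10054))) (BT.node 10057 (BT.node 10056 (BT.node 10055 (BT.leaf cT10055) (BT.leaf cT10056)) (BT.leaf cT10057)) (BT.node 10058 (BT.leaf cT10058) (BT.leaf cT10059)))) (BT.node 10064 (BT.node 10062 (BT.node 10061 (BT.node 10060 (BT.leaf cT10060) (BT.leaf cT10061)) (BT.leaf cT10062)) (BT.node 10063 (BT.leaf cT10063) (BT.leaf cT10064))) (BT.node 10067 (BT.node 10066 (BT.node 10065 (BT.leaf cT10065) (BT.leaf cT10066)) (BT.leaf cT10067)) (BT.node 10068 (BT.leaf cT10068) (BT.leaf cT10069)))))) (BT.node 10090 (BT.node 10080 (BT.node 10075 (BT.node 10072 (BT.node 10071 (BT.node 10070 (BT.leaf cT10070) (BT.leaf cT10071)) (BT.leaf cT10072)) (BT.node 10074 (BT.node 10073 (BT.leaf cT10073) (BT.leaf cT10074)) (BT.leaf cT10075))) (BT.node 10078 (BT.node 10077 (BT.node 10076 (BT.leaf cT10076) (BT.leaf cT10077)) (BT.leaf cT10078)) (BT.node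 10079 (BT.leaf cT10079) (BT.leaf cT10080)))) (BT.node 10085 (BT.node 10083 (BT.node 10082 (BT.node 10081 (BT.leaf cT10081) (BT.leaf cT10082)) (BT.leaf cT10083)) (BT.node 10084 (BT.leaf cT10084) (BT.leaf cT10085))) (BT.node 10088 (BT.node 10087 (BT.node 10086 (BT.leaf cT10086) (BT.leaf cT10087)) (BT.leaf cT10088)) (BT.node 10089 (BT.leaf cT10089) (BT.leaf cT10090))))) (BT.node 10100 (BT.node 10095 (BT.node 10093 (BT.node 10092 (BT.node 10091 (BT.leaf cT10091) (BT.leaf cT10092)) (BT.leaf cT10093)) (BT.node 10094 (BT.leaf cT10094) (BT.leaf cT10095))) (BT.node 10098 (BT.node 10097 (BT.node 10096 (BT.leaf cT10096) (BT.leaf cT10097)) (BT.leaf cT10098)) (BT.node 10099 (BT.leaf cT10099) (BT.leaf cT10100)))) (BT.node 10105 (BT.node 10103 (BT.node 10102 (BT.node 10101 (BT.leaf cT10101) (BT.leaf cT10102)) (BT.leaf cT10103)) (BT.node 10104 (BT.leaf cT10104) (BT.leaf cT10105))) (BT.node 10108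 (BT.node 10107 (BT.node 10106 (BT.leaf cT10106) (BT.leaf cT10107)) (BT.leaf cT10108)) (BT.node 10109 (BT.leaf cT10109) (BT.leaf cT10110))))))) (BT.node 10151 (BT.node 10131 (BT.node 10121 (BT.node 10116 (BT.node 10113 (BT.node 10112 (BT.node 10111 (BT.leaf cT10111) (BT.leaf cT10112)) (BT.leaf cT10113)) (BT.node 10115 (BT.node 10114 (BT.leaf cT10114) (BT.leaf cT10115)) (BT.leaf cT10116))) (BT.node 10119 (BT.node 10118 (BT.node 10117 (BT.leaf cT10117) (BT.leaf cT10118)) (BT.leaf cT10119)) (BT.node 10120 (BT.leaf cT10120) (BT.leaf cT10121)))) (BT.node 10126 (BT.node 10124 (BT.node 10123 (BT.node 10122 (BT.leaf cT10122) (BT.leaf cT10123)) (BT.leaf cT10124)) (BT.node 10125 (BT.leaf cT10125) (BT.leaf cT10126))) (BT.node 10129 (BT.node 10128 (BT.node 10127 (BT.leaf cT10127) (BT.leaf cT10128)) (BT.leaf cT10129)) (BT.node 10130 (BT.leaf cT10130) (BT.leaf cT10131))))) (BT.node 10141 (BT.node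 10136 (BT.node 10134 (BT.node 10133 (BT.node 10132 (BT.leaf cT10132) (BT.leaf cT10133)) (BT.leaf cT10134)) (BT.node 10135 (BT.leaf cT10135) (BT.leaf cT10136))) (BT.node 10139 (BT.node 10138 (BT.node 10137 (BT.leaf cT10137) (BT.leaf cT10138)) (BT.leaf cT10139)) (BT.node 10140 (BT.leaf cT10140) (BT.leaf cT10141)))) (BT.node 10146 (BT.node 10144 (BT.node 10143 (BT.node 10142 (BT.leaf cT10142) (BT.leaf cT10143)) (BT.leaf cT10144)) (BT.node 10145 (BT.leaf cT10145) (BT.leaf cT10146))) (BT.node 10149 (BT.node 10148 (BT.node 10147 (BT.leaf cT10147) (BT.leaf cT10148)) (BT.leaf cT10149)) (BT.node 10150 (BT.leaf cT10150) (BT.leaf cT10151)))))) (BT.node 10172 (BT.node 10162 (BT.node 10157 (BT.node 10154 (BT.node 10153 (BT.node 10152 (BT.leaf cT10152) (BT.leaf cT10153)) (BT.leaf cT10154)) (BT.node 10156 (BT.node 10155 (BT.leaf cT10155) (BT.leaf cT10156)) (BT.leaf cT10157))) (BT.node 10160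 (BT.node 10159 (BT.node 10158 (BT.leaf cT10158) (BT.leaf cT10159)) (BT.leaf cT10160)) (BT.node 10161 (BT.leaf cT10161) (BT.leaf cT10162)))) (BT.node 10167 (BT.node 10165 (BT.node 10164 (BT.node 10163 (BT.leaf cT10163) (BT.leaf cT10164)) (BT.leaf cT10165)) (BT.node 10166 (BT.leaf cT10166) (BT.leaf cT10167))) (BT.node 10170 (BT.node 10169 (BT.node 10168 (BT.leaf cT10168) (BT.leaf cT10169)) (BT.leaf cT10170)) (BT.node 10171 (BT.leaf cT10171) (BT.leaf cT10172))))) (BT.node 10182 (BT.node 10177 (BT.node 10175 (BT.node 10174 (BT.node 10173 (BT.leaf cT10173) (BT.leaf cT10174)) (BT.leaf cT10175)) (BT.node 10176 (BT.leaf cT10176) (BT.leaf cT10177))) (BT.node 10180 (BT.node 10179 (BT.node 10178 (BT.leaf cT10178) (BT.leaf cT10179)) (BT.leaf cT10180)) (BT.node 10181 (BT.leaf cT10181) (BT.leaf cT10182)))) (BT.node 10187 (BT.node 10185 (BT.node 10184 (BT.node 10183 (BT.leaf cT10183) (BT.leaf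 cT10184)) (BT.leaf cT10185)) (BT.node 10186 (BT.leaf cT10186) (BT.leaf cT10187))) (BT.node 10190 (BT.node 10189 (BT.node 10188 (BT.leaf cT10188) (BT.leaf cT10189)) (BT.leaf cT10190)) (BT.node 10191 (BT.leaf cT10191) (BT.leaf cT10192))))))))
noncomputable def colTT_62 : BT ℕ := (BT.node 10274 (BT.node 10233 (BT.node 10213 (BT.node 10203 (BT.node 10198 (BT.node 10195 (BT.node 10194 (BT.node 10193 (BT.leaf cT10193) (BT.leaf cT10194)) (BT.leaf cT10195)) (BT.node 10197 (BT.node 10196 (BT.leaf cT10196) (BT.leaf cT10197)) (BT.leaf cT10198))) (BT.node 10201 (BT.node 10200 (BT.node 10199 (BT.leaf cT10199) (BT.leaf cT10200)) (BT.leaf cT10201)) (BT.node 10202 (BT.leaf cT10202) (BT.leaf cT10203)))) (BT.node 10208 (BT.node 10206 (BT.node 10205 (BT.node 10204 (BT.leaf cT10204) (BT.leaf cT10205)) (BT.leaf cT10206)) (BT.node 10207 (BT.leaf cT10207) (BT.leaf cT10208))) (BT.node 10211 (BT.node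 10210 (BT.node 10209 (BT.leaf cT10209) (BT.leaf cT10210)) (BT.leaf cT10211)) (BT.node 10212 (BT.leaf cT10212) (BT.leaf cT10213))))) (BT.node 10223 (BT.node 10218 (BT.node 10216 (BT.node 10215 (BT.node 10214 (BT.leaf cT10214) (BT.leaf cT10215)) (BT.leaf cT10216)) (BT.node 10217 (BT.leaf cT10217) (BT.leaf cT10218))) (BT.node 10221 (BT.node 10220 (BT.node 10219 (BT.leaf cT10219) (BT.leaf cT10220)) (BT.leaf cT10221)) (BT.node 10222 (BT.leaf cT10222) (BT.leaf cT10223)))) (BT.node 10228 (BT.node 10226 (BT.node 10225 (BT.node 10224 (BT.leaf cT10224) (BT.leaf cT10225)) (BT.leaf cT10226)) (BT.node 10227 (BT.leaf cT10227) (BT.leaf cT10228))) (BT.node 10231 (BT.node 10230 (BT.node 10229 (BT.leaf cT10229) (BT.leaf cT10230)) (BT.leaf cT10231)) (BT.node 10232 (BT.leaf cT10232) (BT.leaf cT10233)))))) (BT.node 10254 (BT.node 10244 (BT.node 10239 (BT.node 10236 (BT.node 10235 (BT.node 10234 (BT.leaf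 cT10234) (BT.leaf cT10235)) (BT.leaf cT10236)) (BT.node 10238 (BT.node 10237 (BT.leaf cT10237) (BT.leaf cT10238)) (BT.leaf cT10239))) (BT.node 10242 (BT.node 10241 (BT.node 10240 (BT.leaf cT10240) (BT.leaf cT10241)) (BT.leaf cT10242)) (BT.node 10243 (BT.leaf cT10243) (BT.leaf cT10244)))) (BT.node 10249 (BT.node 10247 (BT.node 10246 (BT.node 10245 (BT.leaf cT10245) (BT.leaf cT10246)) (BT.leaf cT10247)) (BT.node 10248 (BT.leaf cT10248) (BT.leaf cT10249))) (BT.node 10252 (BT.node 10251 (BT.node 10250 (BT.leaf cT10250) (BT.leaf cT10251)) (BT.leaf cT10252)) (BT.node 10253 (BT.leaf cT10253) (BT.leaf cT10254))))) (BT.node 10264 (BT.node 10259 (BT.node 10257 (BT.node 10256 (BT.node 10255 (BT.leaf cT10255) (BT.leaf cT10256)) (BT.leaf cT10257)) (BT.node 10258 (BT.leaf cT10258) (BT.leaf cT10259))) (BT.node 10262 (BT.node 10261 (BT.node 10260 (BT.leaf cT10260) (BT.leaf cT10261)) (BT.leaf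 cT10262)) (BT.node 10263 (BT.leaf cT10263) (BT.leaf cT10264)))) (BT.node 10269 (BT.node 10267 (BT.node 10266 (BT.node 10265 (BT.leaf cT10265) (BT.leaf cT10266)) (BT.leaf cT10267)) (BT.node 10268 (BT.leaf cT10268) (BT.leaf cT10269))) (BT.node 10272 (BT.node 10271 (BT.node 10270 (BT.leaf cT10270) (BT.leaf cT10271)) (BT.leaf cT10272)) (BT.node 10273 (BT.leaf cT10273) (BT.leaf cT10274))))))) (BT.node 10315 (BT.node 10295 (BT.node 10285 (BT.node 10280 (BT.node 10277 (BT.node 10276 (BT.node 10275 (BT.leaf cT10275) (BT.leaf cT10276)) (BT.leaf cT10277)) (BT.node 10279 (BT.node 10278 (BT.leaf cT10278) (BT.leaf cT10279)) (BT.leaf cT10280))) (BT.node 10283 (BT.node 10282 (BT.node 10281 (BT.leaf cT10281) (BT.leaf cT10282)) (BT.leaf cT10283)) (BT.node 10284 (BT.leaf cT10284) (BT.leaf cT10285)))) (BT.node 10290 (BT.node 10288 (BT.node 10287 (BT.node 10286 (BT.leaf cT10286) (BT.leaf cT10287))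 (BT.leaf cT10288)) (BT.node 10289 (BT.leaf cT10289) (BT.leaf cT10290))) (BT.node 10293 (BT.node 10292 (BT.node 10291 (BT.leaf cT10291) (BT.leaf cT10292)) (BT.leaf cT10293)) (BT.node 10294 (BT.leaf cT10294) (BT.leaf cT10295))))) (BT.node 10305 (BT.node 10300 (BT.node 10298 (BT.node 10297 (BT.node 10296 (BT.leaf cT10296) (BT.leaf cT10297)) (BT.leaf cT10298)) (BT.node 10299 (BT.leaf cT10299) (BT.leaf cT10300))) (BT.node 10303 (BT.node 10302 (BT.node 10301 (BT.leaf cT10301) (BT.leaf cT10302)) (BT.leaf cT10303)) (BT.node 10304 (BT.leaf cT10304) (BT.leaf cT10305)))) (BT.node 10310 (BT.node 10308 (BT.node 10307 (BT.node 10306 (BT.leaf cT10306) (BT.leaf cT10307)) (BT.leaf cT10308)) (BT.node 10309 (BT.leaf cT10309) (BT.leaf cT10310))) (BT.node 10313 (BT.node 10312 (BT.node 10311 (BT.leaf cT10311) (BT.leaf cT10312)) (BT.leaf cT10313)) (BT.node 10314 (BT.leaf cT10314) (BT.leaf cT10315))))))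 (BT.node 10336 (BT.node 10326 (BT.node 10321 (BT.node 10318 (BT.node 10317 (BT.node 10316 (BT.leaf cT10316) (BT.leaf cT10317)) (BT.leaf cT10318)) (BT.node 10320 (BT.node 10319 (BT.leaf cT10319) (BT.leaf cT10320)) (BT.leaf cT10321))) (BT.node 10324 (BT.node 10323 (BT.node 10322 (BT.leaf cT10322) (BT.leaf cT10323)) (BT.leaf cT10324)) (BT.node 10325 (BT.leaf cT10325) (BT.leaf cT10326)))) (BT.node 10331 (BT.node 10329 (BT.node 10328 (BT.node 10327 (BT.leaf cT10327) (BT.leaf cT10328)) (BT.leaf cT10329)) (BT.node 10330 (BT.leaf cT10330) (BT.leaf cT10331))) (BT.node 10334 (BT.node 10333 (BT.node 10332 (BT.leaf cT10332) (BT.leaf cT10333)) (BT.leaf cT10334)) (BT.node 10335 (BT.leaf cT10335) (BT.leaf cT10336))))) (BT.node 10346 (BT.node 10341 (BT.node 10339 (BT.node 10338 (BT.node 10337 (BT.leaf cT10337) (BT.leaf cT10338)) (BT.leaf cT10339)) (BT.node 10340 (BT.leaf cT10340) (BT.leaf cT10341)))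 (BT.node 10344 (BT.node 10343 (BT.node 10342 (BT.leaf cT10342) (BT.leaf cT10343)) (BT.leaf cT10344)) (BT.node 10345 (BT.leaf cT10345) (BT.leaf cT10346)))) (BT.node 10351 (BT.node 10349 (BT.node 10348 (BT.node 10347 (BT.leaf cT10347) (BT.leaf cT10348)) (BT.leaf cT10349)) (BT.node 10350 (BT.leaf cT10350) (BT.leaf cT10351))) (BT.node 10354 (BT.node 10353 (BT.node 10352 (BT.leaf cT10352) (BT.leaf cT10353)) (BT.leaf cT10354)) (BT.node 10355 (BT.leaf cT10355) (BT.leaf cT10356))))))))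
noncomputable def colTT_63 : BT ℕ := (BT.node 10438 (BT.node 10397 (BT.node 10377 (BT.node 10367 (BT.node 10362 (BT.node 10359 (BT.node 10358 (BT.node 10357 (BT.leaf cT10357) (BT.leaf cT10358)) (BT.leaf cT10359)) (BT.node 10361 (BT.node 10360 (BT.leaf cT10360) (BT.leaf cT10361)) (BT.leaf cT10362))) (BT.node 10365 (BT.node 10364 (BT.node 10363 (BT.leaf cT10363) (BT.leaf cT10364)) (BT.leaf cT10365)) (BT.node 10366 (BT.leaf cT10366) (BT.leaf cT10367)))) (BT.node 10372 (BT.node 10370 (BT.node 10369 (BT.node 10368 (BT.leaf cT10368) (BT.leaf cT10369)) (BT.leaf cT10370)) (BT.node 10371 (BT.leaf cT10371) (BT.leaf cT10372))) (BT.node 10375 (BT.node 10374 (BT.node 10373 (BT.leaf cT10373) (BT.leaf cT10374)) (BT.leaf cT10375)) (BT.node 10376 (BT.leaf cT10376) (BT.leaf cT10377))))) (BT.node 10387 (BT.node 10382 (BT.node 10380 (BT.node 10379 (BT.node 10378 (BT.leaf cT10378) (BT.leaf cT10379))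 (BT.leaf cT10380)) (BT.node 10381 (BT.leaf cT10381) (BT.leaf cT10382))) (BT.node 10385 (BT.node 10384 (BT.node 10383 (BT.leaf cT10383) (BT.leaf cT10384)) (BT.leaf cT10385)) (BT.node 10386 (BT.leaf cT10386) (BT.leaf cT10387)))) (BT.node 10392 (BT.node 10390 (BT.node 10389 (BT.node 10388 (BT.leaf cT10388) (BT.leaf cT10389)) (BT.leaf cT10390)) (BT.node 10391 (BT.leaf cT10391) (BT.leaf cT10392))) (BT.node 10395 (BT.node 10394 (BT.node 10393 (BT.leaf cT10393) (BT.leaf cT10394)) (BT.leaf cT10395)) (BT.node 10396 (BT.leaf cT10396) (BT.leaf cT10397)))))) (BT.node 10418 (BT.node 10408 (BT.node 10403 (BT.node 10400 (BT.node 10399 (BT.node 10398 (BT.leaf cT10398) (BT.leaf cT10399)) (BT.leaf cT10400)) (BT.node 10402 (BT.node 10401 (BT.leaf cT10401) (BT.leaf cT10402)) (BT.leaf cT10403))) (BT.node 10406 (BT.node 10405 (BT.node 10404 (BT.leaf cT10404) (BT.leaf cT10405)) (BT.leaf cT10406)) (BT.node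 10407 (BT.leaf cT10407) (BT.leaf cT10408)))) (BT.node 10413 (BT.node 10411 (BT.node 10410 (BT.node 10409 (BT.leaf cT10409) (BT.leaf cT10410)) (BT.leaf cT10411)) (BT.node 10412 (BT.leaf cT10412) (BT.leaf cT10413))) (BT.node 10416 (BT.node 10415 (BT.node 10414 (BT.leaf cT10414) (BT.leaf cT10415)) (BT.leaf cT10416)) (BT.node 10417 (BT.leaf cT10417) (BT.leaf cT10418))))) (BT.node 10428 (BT.node 10423 (BT.node 10421 (BT.node 10420 (BT.node 10419 (BT.leaf cT10419) (BT.leaf cT10420)) (BT.leaf cT10421)) (BT.node 10422 (BT.leaf cT10422) (BT.leaf cT10423))) (BT.node 10426 (BT.node 10425 (BT.node 10424 (BT.leaf cT10424) (BT.leaf cT10425)) (BT.leaf cT10426)) (BT.node 10427 (BT.leaf cT10427) (BT.leaf cT10428)))) (BT.node 10433 (BT.node 10431 (BT.node 10430 (BT.node 10429 (BT.leaf cT10429) (BT.leaf cT10430)) (BT.leaf cT10431)) (BT.node 10432 (BT.leaf cT10432) (BT.leaf cT10433))) (BT.node 10436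 (BT.node 10435 (BT.node 10434 (BT.leaf cT10434) (BT.leaf cT10435)) (BT.leaf cT10436)) (BT.node 10437 (BT.leaf cT10437) (BT.leaf cT10438))))))) (BT.node 10479 (BT.node 10459 (BT.node 10449 (BT.node 10444 (BT.node 10441 (BT.node 10440 (BT.node 10439 (BT.leaf cT10439) (BT.leaf cT10440)) (BT.leaf cT10441)) (BT.node 10443 (BT.node 10442 (BT.leaf cT10442) (BT.leaf cT10443)) (BT.leaf cT10444))) (BT.node 10447 (BT.node 10446 (BT.node 10445 (BT.leaf cT10445) (BT.leaf cT10446)) (BT.leaf cT10447)) (BT.node 10448 (BT.leaf cT10448) (BT.leaf cT10449)))) (BT.node 10454 (BT.node 10452 (BT.node 10451 (BT.node 10450 (BT.leaf cT10450) (BT.leaf cT10451)) (BT.leaf cT10452)) (BT.node 10453 (BT.leaf cT10453) (BT.leaf cT10454))) (BT.node 10457 (BT.node 10456 (BT.node 10455 (BT.leaf cT10455) (BT.leaf cT10456)) (BT.leaf cT10457)) (BT.node 10458 (BT.leaf cT10458) (BT.leaf cT10459))))) (BT.node 10469 (BT.node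 10464 (BT.node 10462 (BT.node 10461 (BT.node 10460 (BT.leaf cT10460) (BT.leaf cT10461)) (BT.leaf cT10462)) (BT.node 10463 (BT.leaf cT10463) (BT.leaf cT10464))) (BT.node 10467 (BT.node 10466 (BT.node 10465 (BT.leaf cT10465) (BT.leaf cT10466)) (BT.leaf cT10467)) (BT.node 10468 (BT.leaf cT10468) (BT.leaf cT10469)))) (BT.node 10474 (BT.node 10472 (BT.node 10471 (BT.node 10470 (BT.leaf cT10470) (BT.leaf cT10471)) (BT.leaf cT10472)) (BT.node 10473 (BT.leaf cT10473) (BT.leaf cT10474))) (BT.node 10477 (BT.node 10476 (BT.node 10475 (BT.leaf cT10475) (BT.leaf cT10476)) (BT.leaf cT10477)) (BT.node 10478 (BT.leaf cT10478) (BT.leaf cT10479)))))) (BT.node 10500 (BT.node 10490 (BT.node 10485 (BT.node 10482 (BT.node 10481 (BT.node 10480 (BT.leaf cT10480) (BT.leaf cT10481)) (BT.leaf cT10482)) (BT.node 10484 (BT.node 10483 (BT.leaf cT10483) (BT.leaf cT10484)) (BT.leaf cT10485))) (BT.node 10488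 (BT.node 10487 (BT.node 10486 (BT.leaf cT10486) (BT.leaf cT10487)) (BT.leaf cT10488)) (BT.node 10489 (BT.leaf cT10489) (BT.leaf cT10490)))) (BT.node 10495 (BT.node 10493 (BT.node 10492 (BT.node 10491 (BT.leaf cT10491) (BT.leaf cT10492)) (BT.leaf cT10493)) (BT.node 10494 (BT.leaf cT10494) (BT.leaf cT10495))) (BT.node 10498 (BT.node 10497 (BT.node 10496 (BT.leaf cT10496) (BT.leaf cT10497)) (BT.leaf cT10498)) (BT.node 10499 (BT.leaf cT10499) (BT.leaf cT10500))))) (BT.node 10510 (BT.node 10505 (BT.node 10503 (BT.node 10502 (BT.node 10501 (BT.leaf cT10501) (BT.leaf cT10502)) (BT.leaf cT10503)) (BT.node 10504 (BT.leaf cT10504) (BT.leaf cT10505))) (BT.node 10508 (BT.node 10507 (BT.node 10506 (BT.leaf cT10506) (BT.leaf cT10507)) (BT.leaf cT10508)) (BT.node 10509 (BT.leaf cT10509) (BT.leaf cT10510)))) (BT.node 10515 (BT.node 10513 (BT.node 10512 (BT.node 10511 (BT.leaf cT10511) (BT.leaf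 cT10512)) (BT.leaf cT10513)) (BT.node 10514 (BT.leaf cT10514) (BT.leaf cT10515))) (BT.node 10518 (BT.node 10517 (BT.node 10516 (BT.leaf cT10516) (BT.leaf cT10517)) (BT.leaf cT10518)) (BT.node 10519 (BT.leaf cT10519) (BT.leaf cT10520))))))))
noncomputable def colTT : BT ℕ := (BT.node 5260 (BT.node 2630 (BT.node 1315 (BT.node 657 (BT.node 328 (BT.node 164 colTT_0 colTT_1) (BT.node 493 colTT_2 colTT_3)) (BT.node 986 (BT.node 822 colTT_4 colTT_5) (BT.node 1151 colTT_6 colTT_7))) (BT.node 1973 (BT.node 1644 (BT.node 1480 colTT_8 colTT_9) (BT.node 1809 colTT_10 colTT_11)) (BT.node 2302 (BT.node 2138 colTT_12 colTT_13) (BT.node 2466 colTT_14 colTT_15)))) (BT.node 3945 (BT.node 3288 (BT.node 2959 (BT.node 2795 colTT_16 colTT_17) (BT.node 3124 colTT_18 colTT_19)) (BT.node 3617 (BT.node 3453 colTT_20 colTT_21) (BT.node 3781 colTT_22 colTT_23))) (BT.node 4603 (BT.node 4274 (BT.node 4110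 colTT_24 colTT_25) (BT.node 4439 colTT_26 colTT_27)) (BT.node 4932 (BT.node 4768 colTT_28 colTT_29) (BT.node 5096 colTT_30 colTT_31))))) (BT.node 7890 (BT.node 6575 (BT.node 5918 (BT.node 5589 (BT.node 5425 colTT_32 colTT_33) (BT.node 5754 colTT_34 colTT_35)) (BT.node 6247 (BT.node 6083 colTT_36 colTT_37) (BT.node 6411 colTT_38 colTT_39))) (BT.node 7233 (BT.node 6904 (BT.node 6740 colTT_40 colTT_41) (BT.node 7069 colTT_42 colTT_43)) (BT.node 7562 (BT.node 7398 colTT_44 colTT_45) (BT.node 7726 colTT_46 colTT_47)))) (BT.node 9205 (BT.node 8548 (BT.node 8219 (BT.node 8055 colTT_48 colTT_49) (BT.node 8384 colTT_50 colTT_51)) (BT.node 8877 (BT.node 8713 colTT_52 colTT_53) (BT.node 9041 colTT_54 colTT_55))) (BT.node 9863 (BT.node 9534 (BT.node 9370 colTT_56 colTT_57) (BT.node 9699 colTT_58 colTT_59)) (BT.node 10192 (BT.node 10028 colTT_60 colTT_61) (BT.node 10356 colTT_62 colTT_63))))))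
/-- the paths that are checked -/
def chkPaths : List (List ℕ) := [[2, 2, 2, 2, 2, 2], [3, 0, 0, 2, 0, 0], [2, 0, 3, 1, 2, 0, 3, 1, 2, 0, 3, 1], [2, 2, 2, 0, 2, 2, 1, 2, 2, 2, 0, 2, 2, 1, 2, 2, 2, 0, 2, 2, 1], [2, 0, 2, 0, 2, 0, 2, 0, 2, 0, 2, 0, 2, 0, 2, 0], [2, 2, 2, 0, 2, 0, 2, 2, 2, 0, 2, 0, 2, 2, 2, 0, 2, 0, 2, 2, 2, 0, 2, 0], [4, 4], [0, 4, 0, 4], [1, 1, 3, 0, 2, 2, 0, 2, 0, 2, 4, 3, 1, 3, 1, 3, 3, 1, 2, 4], [0, 2, 0, 2, 0, 2, 2, 2, 4, 3, 3, 3, 1, 3, 1, 3, 0, 2, 0, 2, 0, 2, 2, 2, 4, 3, 3, 3, 1, 3, 1, 3, 0, 2, 0, 2, 0, 2, 2, 2, 4, 3, 3, 3, 1, 3, 1, 3, 4], [5, 5, 5, 5, 5], [5, 5, 0, 5, 1], [2, 5, 3, 6], [5, 4, 5, 4, 5, 4]]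
/-- the table -/
noncomputable def table : Table where
  n := 1539000
  k := 7
  w := 21
  M := 2097152
  CH := 1024
  NCH := 1503
  col := colTT
  inv := (BT.node 3 (BT.node 1 (BT.node 0 (BT.leaf 1) (BT.leaf 0)) (BT.node 2 (BT.leaf 3) (BT.leaf 2))) (BT.node 5 (BT.node 4 (BT.leaf 4) (BT.leaf 6)) (BT.leaf 5)))
  tw := 1
  TM := 2
  tree := BT.leaf 0

end Cfsg.Agent.Lib.Helper16.HNP.Table
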