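import Cfsg.Agent.Lib.Helper28.TC2Range
import Cfsg.Agent.Lib.Helper16.HNP.Table
set_option autoImplicit false
set_option maxRecDepth 100000
set_option maxHeartbeats 0
set_option Elab.async false

namespace Cfsg.Agent.Lib.Helper16.HNP.C0
open Cfsg.Agent.Lib.Helper28.TC2Upper Cfsg.Agent.Lib.Helper28.TC2Lower Cfsg.Agent.Lib.Helper28.TC2Range Cfsg.Agent.Lib.Helper16.HNP.Table

theorem pc0 : Table.permRange table 0 9000 = true := by decide +kernel
theorem pc1 : Table.permRange table 9000 9000 = true := by decide +kernel
theorem pc2 : Table.permRange table 18000 9000 = true := by decide +kernel
theorem pc3 : Table.permRange table 27000 9000 = true := by decide +kernel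
theorem pc4 : Table.permRange table 36000 9000 = true := by decide +kernel
theorem pc5 : Table.permRange table 45000 9000 = true := by decide +kernel
theorem pc6 : Table.permRange table 54000 9000 = true := by decide +kernel
theorem pc7 : Table.permRange table 63000 9000 = true := by decide +kernel
theorem pc8 : Table.permRange table 72000 9000 = true := by decide +kernel
theorem pc9 : Table.permRange table 81000 9000 = true := by decide +kernel
theorem pc10 : Table.permRange table 90000 9000 = true := by decide +kernel
theorem pc11 : Table.permRange table 99000 9000 = true := by decide +kernel
theorem pc12 : Table.permRange table 108000 9000 = true := by decide +kernel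
theorem pc13 : Table.permRange table 117000 9000 = true := by decide +kernel
theorem pc14 : Table.permRange table 126000 9000 = true := by decide +kernel
theorem pc15 : Table.permRange table 135000 9000 = true := by decide +kernel
theorem pc16 : Table.permRange table 144000 9000 = true := by decide +kernel
theorem pc17 : Table.permRange table 153000 9000 = true := by decide +kernel
theorem pc18 : Table.permRange table 162000 9000 = true := by decide +kernel
theorem pc19 : Table.permRange table 171000 9000 = true := by decide +kernel
theorem pc20 : Table.permRange table 180000 9000 = true := by decide +kernel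
theorem pc21 : Table.permRange table 189000 9000 = true := by decide +kernel
theorem pc22 : Table.permRange table 198000 9000 = true := by decide +kernel
theorem pc23 : Table.permRange table 207000 9000 = true := by decide +kernel
theorem pc24 : Table.permRange table 216000 9000 = true := by decide +kernel
theorem pc25 : Table.permRange table 225000 9000 = true := by decide +kernel
theorem pc26 : Table.permRange table 234000 9000 = true := by decide +kernel
theorem pc27 : Table.permRange table 243000 9000 = true := by decide +kernel
theorem pc28 : Table.permRange table 252000 9000 = true := by decide +kernel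
theorem pc29 : Table.permRange table 261000 9000 = true := by decide +kernel
theorem pc30 : Table.permRange table 270000 9000 = true := by decide +kernel
theorem pc31 : Table.permRange table 279000 9000 = true := by decide +kernel
theorem pc32 : Table.permRange table 288000 9000 = true := by decide +kernel
theorem pc33 : Table.permRange table 297000 9000 = true := by decide +kernel
theorem pc34 : Table.permRange table 306000 9000 = true := by decide +kernel
theorem pc35 : Table.permRange table 315000 9000 = true := by decide +kernel
theorem pc36 : Table.permRange table 324000 9000 = true := by decide +kernel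
theorem pc37 : Table.permRange table 333000 9000 = true := by decide +kernel
theorem pc38 : Table.permRange table 342000 9000 = true := by decide +kernel
theorem pc39 : Table.permRange table 351000 9000 = true := by decide +kernel

theorem range : ∀ p, 0 ≤ p → p < 360000 → Table.permRow table p = true := by
  intro p h1 h2
  rcases Nat.lt_or_ge p 9000 with h | h
  · exact (Table.permRange_iff table 0 9000).mp pc0 p (by omega) (by omega)
  rcases Nat.lt_or_ge p 18000 with h | h
  · exact (Table.permRange_iff table 9000 9000).mp pc1 p (by omega) (by omega)
  rcases Nat.lt_or_ge p 27000 with h | h
  · exact (Table.permRange_iff table 18000 9000).mp pc2 p (by omega) (by omega)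
  rcases Nat.lt_or_ge p 36000 with h | h
  · exact (Table.permRange_iff table 27000 9000).mp pc3 p (by omega) (by omega)
  rcases Nat.lt_or_ge p 45000 with h | h
  · exact (Table.permRange_iff table 36000 9000).mp pc4 p (by omega) (by omega)
  rcases Nat.lt_or_ge p 54000 with h | h
  · exact (Table.permRange_iff table 45000 9000).mp pc5 p (by omega) (by omega)
  rcases Nat.lt_or_ge p 63000 with h | h
  · exact (Table.permRange_iff table 54000 9000).mp pc6 p (by omega) (by omega)
  rcases Nat.lt_or_ge p 72000 with h | h
  · exact (Table.permRange_iff table 63000 9000).mp pc7 p (by omega) (by omega)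
  rcases Nat.lt_or_ge p 81000 with h | h
  · exact (Table.permRange_iff table 72000 9000).mp pc8 p (by omega) (by omega)
  rcases Nat.lt_or_ge p 90000 with h | h
  · exact (Table.permRange_iff table 81000 9000).mp pc9 p (by omega) (by omega)
  rcases Nat.lt_or_ge p 99000 with h | h
  · exact (Table.permRange_iff table 90000 9000).mp pc10 p (by omega) (by omega)
  rcases Nat.lt_or_ge p 108000 with h | h
  · exact (Table.permRange_iff table 99000 9000).mp pc11 p (by omega) (by omega)
  rcases Nat.lt_or_ge p 117000 with h | h
  · exact (Table.permRange_iff table 108000 9000).mp pc12 p (by omega) (by omega)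
  rcases Nat.lt_or_ge p 126000 with h | h
  · exact (Table.permRange_iff table 117000 9000).mp pc13 p (by omega) (by omega)
  rcases Nat.lt_or_ge p 135000 with h | h
  · exact (Table.permRange_iff table 126000 9000).mp pc14 p (by omega) (by omega)
  rcases Nat.lt_or_ge p 144000 with h | h
  · exact (Table.permRange_iff table 135000 9000).mp pc15 p (by omega) (by omega)
  rcases Nat.lt_or_ge p 153000 with h | h
  · exact (Table.permRange_iff table 144000 9000).mp pc16 p (by omega) (by omega)
  rcases Nat.lt_or_ge p 162000 with h | h
  · exact (Table.permRange_iff table 153000 9000).mp pc17 p (by omega) (by omega)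
  rcases Nat.lt_or_ge p 171000 with h | h
  · exact (Table.permRange_iff table 162000 9000).mp pc18 p (by omega) (by omega)
  rcases Nat.lt_or_ge p 180000 with h | h
  · exact (Table.permRange_iff table 171000 9000).mp pc19 p (by omega) (by omega)
  rcases Nat.lt_or_ge p 189000 with h | h
  · exact (Table.permRange_iff table 180000 9000).mp pc20 p (by omega) (by omega)
  rcases Nat.lt_or_ge p 198000 with h | h
  · exact (Table.permRange_iff table 189000 9000).mp pc21 p (by omega) (by omega)
  rcases Nat.lt_or_ge p 207000 with h | h
  · exact (Table.permRange_iff table 198000 9000).mp pc22 p (by omega) (by omega)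
  rcases Nat.lt_or_ge p 216000 with h | h
  · exact (Table.permRange_iff table 207000 9000).mp pc23 p (by omega) (by omega)
  rcases Nat.lt_or_ge p 225000 with h | h
  · exact (Table.permRange_iff table 216000 9000).mp pc24 p (by omega) (by omega)
  rcases Nat.lt_or_ge p 234000 with h | h
  · exact (Table.permRange_iff table 225000 9000).mp pc25 p (by omega) (by omega)
  rcases Nat.lt_or_ge p 243000 with h | h
  · exact (Table.permRange_iff table 234000 9000).mp pc26 p (by omega) (by omega)
  rcases Nat.lt_or_ge p 252000 with h | h
  · exact (Table.permRange_iff table 243000 9000).mp pc27 p (by omega) (by omega)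
  rcases Nat.lt_or_ge p 261000 with h | h
  · exact (Table.permRange_iff table 252000 9000).mp pc28 p (by omega) (by omega)
  rcases Nat.lt_or_ge p 270000 with h | h
  · exact (Table.permRange_iff table 261000 9000).mp pc29 p (by omega) (by omega)
  rcases Nat.lt_or_ge p 279000 with h | h
  · exact (Table.permRange_iff table 270000 9000).mp pc30 p (by omega) (by omega)
  rcases Nat.lt_or_ge p 288000 with h | h
  · exact (Table.permRange_iff table 279000 9000).mp pc31 p (by omega) (by omega)
  rcases Nat.lt_or_ge p 297000 with h | h
  · exact (Table.permRange_iff table 288000 9000).mp pc32 p (by omega) (by omega)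
  rcases Nat.lt_or_ge p 306000 with h | h
  · exact (Table.permRange_iff table 297000 9000).mp pc33 p (by omega) (by omega)
  rcases Nat.lt_or_ge p 315000 with h | h
  · exact (Table.permRange_iff table 306000 9000).mp pc34 p (by omega) (by omega)
  rcases Nat.lt_or_ge p 324000 with h | h
  · exact (Table.permRange_iff table 315000 9000).mp pc35 p (by omega) (by omega)
  rcases Nat.lt_or_ge p 333000 with h | h
  · exact (Table.permRange_iff table 324000 9000).mp pc36 p (by omega) (by omega)
  rcases Nat.lt_or_ge p 342000 with h | h
  · exact (Table.permRange_iff table 333000 9000).mp pc37 p (by omega) (by omega)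
  rcases Nat.lt_or_ge p 351000 with h | h
  · exact (Table.permRange_iff table 342000 9000).mp pc38 p (by omega) (by omega)
  exact (Table.permRange_iff table 351000 9000).mp pc39 p (by omega) (by omega)

end Cfsg.Agent.Lib.Helper16.HNP.C0
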