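import Cfsg.Agent.Lib.Helper28.TC2Range
import Cfsg.Agent.Lib.Helper16.HNP.Table
set_option autoImplicit false
set_option maxRecDepth 100000
set_option maxHeartbeats 0
set_option Elab.async false

namespace Cfsg.Agent.Lib.Helper16.HNP.C1
open Cfsg.Agent.Lib.Helper28.TC2Upper Cfsg.Agent.Lib.Helper28.TC2Lower Cfsg.Agent.Lib.Helper28.TC2Range Cfsg.Agent.Lib.Helper16.HNP.Table

theorem pc0 : Table.permRange table 360000 9000 = true := by decide +kernel
theorem pc1 : Table.permRange table 369000 9000 = true := by decide +kernel
theorem pc2 : Table.permRange table 378000 9000 = true := by decide +kernel
theorem pc3 : Table.permRange table 387000 9000 = true := by decide +kernel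
theorem pc4 : Table.permRange table 396000 9000 = true := by decide +kernel
theorem pc5 : Table.permRange table 405000 9000 = true := by decide +kernel
theorem pc6 : Table.permRange table 414000 9000 = true := by decide +kernel
theorem pc7 : Table.permRange table 423000 9000 = true := by decide +kernel
theorem pc8 : Table.permRange table 432000 9000 = true := by decide +kernel
theorem pc9 : Table.permRange table 441000 9000 = true := by decide +kernel
theorem pc10 : Table.permRange table 450000 9000 = true := by decide +kernel
theorem pc11 : Table.permRange table 459000 9000 = true := by decide +kernel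
theorem pc12 : Table.permRange table 468000 9000 = true := by decide +kernel
theorem pc13 : Table.permRange table 477000 9000 = true := by decide +kernel
theorem pc14 : Table.permRange table 486000 9000 = true := by decide +kernel
theorem pc15 : Table.permRange table 495000 9000 = true := by decide +kernel
theorem pc16 : Table.permRange table 504000 9000 = true := by decide +kernel
theorem pc17 : Table.permRange table 513000 9000 = true := by decide +kernel
theorem pc18 : Table.permRange table 522000 9000 = true := by decide +kernel
theorem pc19 : Table.permRange table 531000 9000 = true := by decide +kernel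
theorem pc20 : Table.permRange table 540000 9000 = true := by decide +kernel
theorem pc21 : Table.permRange table 549000 9000 = true := by decide +kernel
theorem pc22 : Table.permRange table 558000 9000 = true := by decide +kernel
theorem pc23 : Table.permRange table 567000 9000 = true := by decide +kernel
theorem pc24 : Table.permRange table 576000 9000 = true := by decide +kernel
theorem pc25 : Table.permRange table 585000 9000 = true := by decide +kernel
theorem pc26 : Table.permRange table 594000 9000 = true := by decide +kernel
theorem pc27 : Table.permRange table 603000 9000 = true := by decide +kernel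
theorem pc28 : Table.permRange table 612000 9000 = true := by decide +kernel
theorem pc29 : Table.permRange table 621000 9000 = true := by decide +kernel
theorem pc30 : Table.permRange table 630000 9000 = true := by decide +kernel
theorem pc31 : Table.permRange table 639000 9000 = true := by decide +kernel
theorem pc32 : Table.permRange table 648000 9000 = true := by decide +kernel
theorem pc33 : Table.permRange table 657000 9000 = true := by decide +kernel
theorem pc34 : Table.permRange table 666000 9000 = true := by decide +kernel
theorem pc35 : Table.permRange table 675000 9000 = true := by decide +kernel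
theorem pc36 : Table.permRange table 684000 9000 = true := by decide +kernel
theorem pc37 : Table.permRange table 693000 9000 = true := by decide +kernel
theorem pc38 : Table.permRange table 702000 9000 = true := by decide +kernel
theorem pc39 : Table.permRange table 711000 9000 = true := by decide +kernel

theorem range : ∀ p, 360000 ≤ p → p < 720000 → Table.permRow table p = true := by
  intro p h1 h2
  rcases Nat.lt_or_ge p 369000 with h | h
  · exact (Table.permRange_iff table 360000 9000).mp pc0 p (by omega) (by omega)
  rcases Nat.lt_or_ge p 378000 with h | h
  · exact (Table.permRange_iff table 369000 9000).mp pc1 p (by omega) (by omega)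
  rcases Nat.lt_or_ge p 387000 with h | h
  · exact (Table.permRange_iff table 378000 9000).mp pc2 p (by omega) (by omega)
  rcases Nat.lt_or_ge p 396000 with h | h
  · exact (Table.permRange_iff table 387000 9000).mp pc3 p (by omega) (by omega)
  rcases Nat.lt_or_ge p 405000 with h | h
  · exact (Table.permRange_iff table 396000 9000).mp pc4 p (by omega) (by omega)
  rcases Nat.lt_or_ge p 414000 with h | h
  · exact (Table.permRange_iff table 405000 9000).mp pc5 p (by omega) (by omega)
  rcases Nat.lt_or_ge p 423000 with h | h
  · exact (Table.permRange_iff table 414000 9000).mp pc6 p (by omega) (by omega)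
  rcases Nat.lt_or_ge p 432000 with h | h
  · exact (Table.permRange_iff table 423000 9000).mp pc7 p (by omega) (by omega)
  rcases Nat.lt_or_ge p 441000 with h | h
  · exact (Table.permRange_iff table 432000 9000).mp pc8 p (by omega) (by omega)
  rcases Nat.lt_or_ge p 450000 with h | h
  · exact (Table.permRange_iff table 441000 9000).mp pc9 p (by omega) (by omega)
  rcases Nat.lt_or_ge p 459000 with h | h
  · exact (Table.permRange_iff table 450000 9000).mp pc10 p (by omega) (by omega)
  rcases Nat.lt_or_ge p 468000 with h | h
  · exact (Table.permRange_iff table 459000 9000).mp pc11 p (by omega) (by omega)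
  rcases Nat.lt_or_ge p 477000 with h | h
  · exact (Table.permRange_iff table 468000 9000).mp pc12 p (by omega) (by omega)
  rcases Nat.lt_or_ge p 486000 with h | h
  · exact (Table.permRange_iff table 477000 9000).mp pc13 p (by omega) (by omega)
  rcases Nat.lt_or_ge p 495000 with h | h
  · exact (Table.permRange_iff table 486000 9000).mp pc14 p (by omega) (by omega)
  rcases Nat.lt_or_ge p 504000 with h | h
  · exact (Table.permRange_iff table 495000 9000).mp pc15 p (by omega) (by omega)
  rcases Nat.lt_or_ge p 513000 with h | h
  · exact (Table.permRange_iff table 504000 9000).mp pc16 p (by omega) (by omega)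
  rcases Nat.lt_or_ge p 522000 with h | h
  · exact (Table.permRange_iff table 513000 9000).mp pc17 p (by omega) (by omega)
  rcases Nat.lt_or_ge p 531000 with h | h
  · exact (Table.permRange_iff table 522000 9000).mp pc18 p (by omega) (by omega)
  rcases Nat.lt_or_ge p 540000 with h | h
  · exact (Table.permRange_iff table 531000 9000).mp pc19 p (by omega) (by omega)
  rcases Nat.lt_or_ge p 549000 with h | h
  · exact (Table.permRange_iff table 540000 9000).mp pc20 p (by omega) (by omega)
  rcases Nat.lt_or_ge p 558000 with h | h
  · exact (Table.permRange_iff table 549000 9000).mp pc21 p (by omega) (by omega)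
  rcases Nat.lt_or_ge p 567000 with h | h
  · exact (Table.permRange_iff table 558000 9000).mp pc22 p (by omega) (by omega)
  rcases Nat.lt_or_ge p 576000 with h | h
  · exact (Table.permRange_iff table 567000 9000).mp pc23 p (by omega) (by omega)
  rcases Nat.lt_or_ge p 585000 with h | h
  · exact (Table.permRange_iff table 576000 9000).mp pc24 p (by omega) (by omega)
  rcases Nat.lt_or_ge p 594000 with h | h
  · exact (Table.permRange_iff table 585000 9000).mp pc25 p (by omega) (by omega)
  rcases Nat.lt_or_ge p 603000 with h | h
  · exact (Table.permRange_iff table 594000 9000).mp pc26 p (by omega) (by omega)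
  rcases Nat.lt_or_ge p 612000 with h | h
  · exact (Table.permRange_iff table 603000 9000).mp pc27 p (by omega) (by omega)
  rcases Nat.lt_or_ge p 621000 with h | h
  · exact (Table.permRange_iff table 612000 9000).mp pc28 p (by omega) (by omega)
  rcases Nat.lt_or_ge p 630000 with h | h
  · exact (Table.permRange_iff table 621000 9000).mp pc29 p (by omega) (by omega)
  rcases Nat.lt_or_ge p 639000 with h | h
  · exact (Table.permRange_iff table 630000 9000).mp pc30 p (by omega) (by omega)
  rcases Nat.lt_or_ge p 648000 with h | h
  · exact (Table.permRange_iff table 639000 9000).mp pc31 p (by omega) (by omega)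
  rcases Nat.lt_or_ge p 657000 with h | h
  · exact (Table.permRange_iff table 648000 9000).mp pc32 p (by omega) (by omega)
  rcases Nat.lt_or_ge p 666000 with h | h
  · exact (Table.permRange_iff table 657000 9000).mp pc33 p (by omega) (by omega)
  rcases Nat.lt_or_ge p 675000 with h | h
  · exact (Table.permRange_iff table 666000 9000).mp pc34 p (by omega) (by omega)
  rcases Nat.lt_or_ge p 684000 with h | h
  · exact (Table.permRange_iff table 675000 9000).mp pc35 p (by omega) (by omega)
  rcases Nat.lt_or_ge p 693000 with h | h
  · exact (Table.permRange_iff table 684000 9000).mp pc36 p (by omega) (by omega)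
  rcases Nat.lt_or_ge p 702000 with h | h
  · exact (Table.permRange_iff table 693000 9000).mp pc37 p (by omega) (by omega)
  rcases Nat.lt_or_ge p 711000 with h | h
  · exact (Table.permRange_iff table 702000 9000).mp pc38 p (by omega) (by omega)
  exact (Table.permRange_iff table 711000 9000).mp pc39 p (by omega) (by omega)

end Cfsg.Agent.Lib.Helper16.HNP.C1
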