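import Cfsg.Agent.Lib.Helper28.TC2Range
import Cfsg.Agent.Lib.Helper16.HNP.Table
import Cfsg.Agent.Lib.Helper16.HNP.C0
set_option autoImplicit false
set_option maxRecDepth 100000
set_option maxHeartbeats 0
set_option Elab.async false

namespace Cfsg.Agent.Lib.Helper16.HNP.C10
open Cfsg.Agent.Lib.Helper28.TC2Upper Cfsg.Agent.Lib.Helper28.TC2Lower Cfsg.Agent.Lib.Helper28.TC2Range Cfsg.Agent.Lib.Helper16.HNP.Table

theorem pc0 : table.relOK chkPaths 140000 700 = true := by decide +kernel
theorem pc1 : table.relOK chkPaths 140700 700 = true := by decide +kernel
theorem pc2 : table.relOK chkPaths 141400 700 = true := by decide +kernel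
theorem pc3 : table.relOK chkPaths 142100 700 = true := by decide +kernel
theorem pc4 : table.relOK chkPaths 142800 700 = true := by decide +kernel
theorem pc5 : table.relOK chkPaths 143500 700 = true := by decide +kernel
theorem pc6 : table.relOK chkPaths 144200 700 = true := by decide +kernel
theorem pc7 : table.relOK chkPaths 144900 700 = true := by decide +kernel
theorem pc8 : table.relOK chkPaths 145600 700 = true := by decide +kernel
theorem pc9 : table.relOK chkPaths 146300 700 = true := by decide +kernel
theorem pc10 : table.relOK chkPaths 147000 700 = true := by decide +kernel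
theorem pc11 : table.relOK chkPaths 147700 700 = true := by decide +kernel
theorem pc12 : table.relOK chkPaths 148400 700 = true := by decide +kernel
theorem pc13 : table.relOK chkPaths 149100 700 = true := by decide +kernel
theorem pc14 : table.relOK chkPaths 149800 700 = true := by decide +kernel
theorem pc15 : table.relOK chkPaths 150500 700 = true := by decide +kernel
theorem pc16 : table.relOK chkPaths 151200 700 = true := by decide +kernel
theorem pc17 : table.relOK chkPaths 151900 700 = true := by decide +kernel
theorem pc18 : table.relOK chkPaths 152600 700 = true := by decide +kernel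
theorem pc19 : table.relOK chkPaths 153300 700 = true := by decide +kernel
theorem pc20 : table.relOK chkPaths 154000 700 = true := by decide +kernel
theorem pc21 : table.relOK chkPaths 154700 700 = true := by decide +kernel
theorem pc22 : table.relOK chkPaths 155400 700 = true := by decide +kernel
theorem pc23 : table.relOK chkPaths 156100 700 = true := by decide +kernel
theorem pc24 : table.relOK chkPaths 156800 700 = true := by decide +kernel
theorem pc25 : table.relOK chkPaths 157500 700 = true := by decide +kernel
theorem pc26 : table.relOK chkPaths 158200 700 = true := by decide +kernel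
theorem pc27 : table.relOK chkPaths 158900 700 = true := by decide +kernel
theorem pc28 : table.relOK chkPaths 159600 700 = true := by decide +kernel
theorem pc29 : table.relOK chkPaths 160300 700 = true := by decide +kernel
theorem pc30 : table.relOK chkPaths 161000 700 = true := by decide +kernel
theorem pc31 : table.relOK chkPaths 161700 700 = true := by decide +kernel
theorem pc32 : table.relOK chkPaths 162400 700 = true := by decide +kernel
theorem pc33 : table.relOK chkPaths 163100 700 = true := by decide +kernel
theorem pc34 : table.relOK chkPaths 163800 700 = true := by decide +kernel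
theorem pc35 : table.relOK chkPaths 164500 700 = true := by decide +kernel
theorem pc36 : table.relOK chkPaths 165200 700 = true := by decide +kernel
theorem pc37 : table.relOK chkPaths 165900 700 = true := by decide +kernel
theorem pc38 : table.relOK chkPaths 166600 700 = true := by decide +kernel
theorem pc39 : table.relOK chkPaths 167300 700 = true := by decide +kernel

theorem range : ∀ p, 140000 ≤ p → p < 168000 → ∀ r ∈ chkPaths, table.walkT r p = p := by
  intro p h1 h2
  rcases Nat.lt_or_ge p 140700 with h | h
  · exact (Table.relOK_iff chkPaths 140000 700).mp pc0 p (by omega) (by omega)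
  rcases Nat.lt_or_ge p 141400 with h | h
  · exact (Table.relOK_iff chkPaths 140700 700).mp pc1 p (by omega) (by omega)
  rcases Nat.lt_or_ge p 142100 with h | h
  · exact (Table.relOK_iff chkPaths 141400 700).mp pc2 p (by omega) (by omega)
  rcases Nat.lt_or_ge p 142800 with h | h
  · exact (Table.relOK_iff chkPaths 142100 700).mp pc3 p (by omega) (by omega)
  rcases Nat.lt_or_ge p 143500 with h | h
  · exact (Table.relOK_iff chkPaths 142800 700).mp pc4 p (by omega) (by omega)
  rcases Nat.lt_or_ge p 144200 with h | h
  · exact (Table.relOK_iff chkPaths 143500 700).mp pc5 p (by omega) (by omega)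
  rcases Nat.lt_or_ge p 144900 with h | h
  · exact (Table.relOK_iff chkPaths 144200 700).mp pc6 p (by omega) (by omega)
  rcases Nat.lt_or_ge p 145600 with h | h
  · exact (Table.relOK_iff chkPaths 144900 700).mp pc7 p (by omega) (by omega)
  rcases Nat.lt_or_ge p 146300 with h | h
  · exact (Table.relOK_iff chkPaths 145600 700).mp pc8 p (by omega) (by omega)
  rcases Nat.lt_or_ge p 147000 with h | h
  · exact (Table.relOK_iff chkPaths 146300 700).mp pc9 p (by omega) (by omega)
  rcases Nat.lt_or_ge p 147700 with h | h
  · exact (Table.relOK_iff chkPaths 147000 700).mp pc10 p (by omega) (by omega)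
  rcases Nat.lt_or_ge p 148400 with h | h
  · exact (Table.relOK_iff chkPaths 147700 700).mp pc11 p (by omega) (by omega)
  rcases Nat.lt_or_ge p 149100 with h | h
  · exact (Table.relOK_iff chkPaths 148400 700).mp pc12 p (by omega) (by omega)
  rcases Nat.lt_or_ge p 149800 with h | h
  · exact (Table.relOK_iff chkPaths 149100 700).mp pc13 p (by omega) (by omega)
  rcases Nat.lt_or_ge p 150500 with h | h
  · exact (Table.relOK_iff chkPaths 149800 700).mp pc14 p (by omega) (by omega)
  rcases Nat.lt_or_ge p 151200 with h | h
  · exact (Table.relOK_iff chkPaths 150500 700).mp pc15 p (by omega) (by omega)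
  rcases Nat.lt_or_ge p 151900 with h | h
  · exact (Table.relOK_iff chkPaths 151200 700).mp pc16 p (by omega) (by omega)
  rcases Nat.lt_or_ge p 152600 with h | h
  · exact (Table.relOK_iff chkPaths 151900 700).mp pc17 p (by omega) (by omega)
  rcases Nat.lt_or_ge p 153300 with h | h
  · exact (Table.relOK_iff chkPaths 152600 700).mp pc18 p (by omega) (by omega)
  rcases Nat.lt_or_ge p 154000 with h | h
  · exact (Table.relOK_iff chkPaths 153300 700).mp pc19 p (by omega) (by omega)
  rcases Nat.lt_or_ge p 154700 with h | h
  · exact (Table.relOK_iff chkPaths 154000 700).mp pc20 p (by omega) (by omega)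
  rcases Nat.lt_or_ge p 155400 with h | h
  · exact (Table.relOK_iff chkPaths 154700 700).mp pc21 p (by omega) (by omega)
  rcases Nat.lt_or_ge p 156100 with h | h
  · exact (Table.relOK_iff chkPaths 155400 700).mp pc22 p (by omega) (by omega)
  rcases Nat.lt_or_ge p 156800 with h | h
  · exact (Table.relOK_iff chkPaths 156100 700).mp pc23 p (by omega) (by omega)
  rcases Nat.lt_or_ge p 157500 with h | h
  · exact (Table.relOK_iff chkPaths 156800 700).mp pc24 p (by omega) (by omega)
  rcases Nat.lt_or_ge p 158200 with h | h
  · exact (Table.relOK_iff chkPaths 157500 700).mp pc25 p (by omega) (by omega)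
  rcases Nat.lt_or_ge p 158900 with h | h
  · exact (Table.relOK_iff chkPaths 158200 700).mp pc26 p (by omega) (by omega)
  rcases Nat.lt_or_ge p 159600 with h | h
  · exact (Table.relOK_iff chkPaths 158900 700).mp pc27 p (by omega) (by omega)
  rcases Nat.lt_or_ge p 160300 with h | h
  · exact (Table.relOK_iff chkPaths 159600 700).mp pc28 p (by omega) (by omega)
  rcases Nat.lt_or_ge p 161000 with h | h
  · exact (Table.relOK_iff chkPaths 160300 700).mp pc29 p (by omega) (by omega)
  rcases Nat.lt_or_ge p 161700 with h | h
  · exact (Table.relOK_iff chkPaths 161000 700).mp pc30 p (by omega) (by omega)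
  rcases Nat.lt_or_ge p 162400 with h | h
  · exact (Table.relOK_iff chkPaths 161700 700).mp pc31 p (by omega) (by omega)
  rcases Nat.lt_or_ge p 163100 with h | h
  · exact (Table.relOK_iff chkPaths 162400 700).mp pc32 p (by omega) (by omega)
  rcases Nat.lt_or_ge p 163800 with h | h
  · exact (Table.relOK_iff chkPaths 163100 700).mp pc33 p (by omega) (by omega)
  rcases Nat.lt_or_ge p 164500 with h | h
  · exact (Table.relOK_iff chkPaths 163800 700).mp pc34 p (by omega) (by omega)
  rcases Nat.lt_or_ge p 165200 with h | h
  · exact (Table.relOK_iff chkPaths 164500 700).mp pc35 p (by omega) (by omega)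
  rcases Nat.lt_or_ge p 165900 with h | h
  · exact (Table.relOK_iff chkPaths 165200 700).mp pc36 p (by omega) (by omega)
  rcases Nat.lt_or_ge p 166600 with h | h
  · exact (Table.relOK_iff chkPaths 165900 700).mp pc37 p (by omega) (by omega)
  rcases Nat.lt_or_ge p 167300 with h | h
  · exact (Table.relOK_iff chkPaths 166600 700).mp pc38 p (by omega) (by omega)
  exact (Table.relOK_iff chkPaths 167300 700).mp pc39 p (by omega) (by omega)

end Cfsg.Agent.Lib.Helper16.HNP.C10
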