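import Cfsg.Agent.Lib.Helper28.TC2Range
import Cfsg.Agent.Lib.Helper16.HNP.Table
import Cfsg.Agent.Lib.Helper16.HNP.C1
set_option autoImplicit false
set_option maxRecDepth 100000
set_option maxHeartbeats 0
set_option Elab.async false

namespace Cfsg.Agent.Lib.Helper16.HNP.C11
open Cfsg.Agent.Lib.Helper28.TC2Upper Cfsg.Agent.Lib.Helper28.TC2Lower Cfsg.Agent.Lib.Helper28.TC2Range Cfsg.Agent.Lib.Helper16.HNP.Table

theorem pc0 : table.relOK chkPaths 168000 700 = true := by decide +kernel
theorem pc1 : table.relOK chkPaths 168700 700 = true := by decide +kernel
theorem pc2 : table.relOK chkPaths 169400 700 = true := by decide +kernel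
theorem pc3 : table.relOK chkPaths 170100 700 = true := by decide +kernel
theorem pc4 : table.relOK chkPaths 170800 700 = true := by decide +kernel
theorem pc5 : table.relOK chkPaths 171500 700 = true := by decide +kernel
theorem pc6 : table.relOK chkPaths 172200 700 = true := by decide +kernel
theorem pc7 : table.relOK chkPaths 172900 700 = true := by decide +kernel
theorem pc8 : table.relOK chkPaths 173600 700 = true := by decide +kernel
theorem pc9 : table.relOK chkPaths 174300 700 = true := by decide +kernel
theorem pc10 : table.relOK chkPaths 175000 700 = true := by decide +kernel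
theorem pc11 : table.relOK chkPaths 175700 700 = true := by decide +kernel
theorem pc12 : table.relOK chkPaths 176400 700 = true := by decide +kernel
theorem pc13 : table.relOK chkPaths 177100 700 = true := by decide +kernel
theorem pc14 : table.relOK chkPaths 177800 700 = true := by decide +kernel
theorem pc15 : table.relOK chkPaths 178500 700 = true := by decide +kernel
theorem pc16 : table.relOK chkPaths 179200 700 = true := by decide +kernel
theorem pc17 : table.relOK chkPaths 179900 700 = true := by decide +kernel
theorem pc18 : table.relOK chkPaths 180600 700 = true := by decide +kernel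
theorem pc19 : table.relOK chkPaths 181300 700 = true := by decide +kernel
theorem pc20 : table.relOK chkPaths 182000 700 = true := by decide +kernel
theorem pc21 : table.relOK chkPaths 182700 700 = true := by decide +kernel
theorem pc22 : table.relOK chkPaths 183400 700 = true := by decide +kernel
theorem pc23 : table.relOK chkPaths 184100 700 = true := by decide +kernel
theorem pc24 : table.relOK chkPaths 184800 700 = true := by decide +kernel
theorem pc25 : table.relOK chkPaths 185500 700 = true := by decide +kernel
theorem pc26 : table.relOK chkPaths 186200 700 = true := by decide +kernel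
theorem pc27 : table.relOK chkPaths 186900 700 = true := by decide +kernel
theorem pc28 : table.relOK chkPaths 187600 700 = true := by decide +kernel
theorem pc29 : table.relOK chkPaths 188300 700 = true := by decide +kernel
theorem pc30 : table.relOK chkPaths 189000 700 = true := by decide +kernel
theorem pc31 : table.relOK chkPaths 189700 700 = true := by decide +kernel
theorem pc32 : table.relOK chkPaths 190400 700 = true := by decide +kernel
theorem pc33 : table.relOK chkPaths 191100 700 = true := by decide +kernel
theorem pc34 : table.relOK chkPaths 191800 700 = true := by decide +kernel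
theorem pc35 : table.relOK chkPaths 192500 700 = true := by decide +kernel
theorem pc36 : table.relOK chkPaths 193200 700 = true := by decide +kernel
theorem pc37 : table.relOK chkPaths 193900 700 = true := by decide +kernel
theorem pc38 : table.relOK chkPaths 194600 700 = true := by decide +kernel
theorem pc39 : table.relOK chkPaths 195300 700 = true := by decide +kernel

theorem range : ∀ p, 168000 ≤ p → p < 196000 → ∀ r ∈ chkPaths, table.walkT r p = p := by
  intro p h1 h2
  rcases Nat.lt_or_ge p 168700 with h | h
  · exact (Table.relOK_iff chkPaths 168000 700).mp pc0 p (by omega) (by omega)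
  rcases Nat.lt_or_ge p 169400 with h | h
  · exact (Table.relOK_iff chkPaths 168700 700).mp pc1 p (by omega) (by omega)
  rcases Nat.lt_or_ge p 170100 with h | h
  · exact (Table.relOK_iff chkPaths 169400 700).mp pc2 p (by omega) (by omega)
  rcases Nat.lt_or_ge p 170800 with h | h
  · exact (Table.relOK_iff chkPaths 170100 700).mp pc3 p (by omega) (by omega)
  rcases Nat.lt_or_ge p 171500 with h | h
  · exact (Table.relOK_iff chkPaths 170800 700).mp pc4 p (by omega) (by omega)
  rcases Nat.lt_or_ge p 172200 with h | h
  · exact (Table.relOK_iff chkPaths 171500 700).mp pc5 p (by omega) (by omega)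
  rcases Nat.lt_or_ge p 172900 with h | h
  · exact (Table.relOK_iff chkPaths 172200 700).mp pc6 p (by omega) (by omega)
  rcases Nat.lt_or_ge p 173600 with h | h
  · exact (Table.relOK_iff chkPaths 172900 700).mp pc7 p (by omega) (by omega)
  rcases Nat.lt_or_ge p 174300 with h | h
  · exact (Table.relOK_iff chkPaths 173600 700).mp pc8 p (by omega) (by omega)
  rcases Nat.lt_or_ge p 175000 with h | h
  · exact (Table.relOK_iff chkPaths 174300 700).mp pc9 p (by omega) (by omega)
  rcases Nat.lt_or_ge p 175700 with h | h
  · exact (Table.relOK_iff chkPaths 175000 700).mp pc10 p (by omega) (by omega)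
  rcases Nat.lt_or_ge p 176400 with h | h
  · exact (Table.relOK_iff chkPaths 175700 700).mp pc11 p (by omega) (by omega)
  rcases Nat.lt_or_ge p 177100 with h | h
  · exact (Table.relOK_iff chkPaths 176400 700).mp pc12 p (by omega) (by omega)
  rcases Nat.lt_or_ge p 177800 with h | h
  · exact (Table.relOK_iff chkPaths 177100 700).mp pc13 p (by omega) (by omega)
  rcases Nat.lt_or_ge p 178500 with h | h
  · exact (Table.relOK_iff chkPaths 177800 700).mp pc14 p (by omega) (by omega)
  rcases Nat.lt_or_ge p 179200 with h | h
  · exact (Table.relOK_iff chkPaths 178500 700).mp pc15 p (by omega) (by omega)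
  rcases Nat.lt_or_ge p 179900 with h | h
  · exact (Table.relOK_iff chkPaths 179200 700).mp pc16 p (by omega) (by omega)
  rcases Nat.lt_or_ge p 180600 with h | h
  · exact (Table.relOK_iff chkPaths 179900 700).mp pc17 p (by omega) (by omega)
  rcases Nat.lt_or_ge p 181300 with h | h
  · exact (Table.relOK_iff chkPaths 180600 700).mp pc18 p (by omega) (by omega)
  rcases Nat.lt_or_ge p 182000 with h | h
  · exact (Table.relOK_iff chkPaths 181300 700).mp pc19 p (by omega) (by omega)
  rcases Nat.lt_or_ge p 182700 with h | h
  · exact (Table.relOK_iff chkPaths 182000 700).mp pc20 p (by omega) (by omega)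
  rcases Nat.lt_or_ge p 183400 with h | h
  · exact (Table.relOK_iff chkPaths 182700 700).mp pc21 p (by omega) (by omega)
  rcases Nat.lt_or_ge p 184100 with h | h
  · exact (Table.relOK_iff chkPaths 183400 700).mp pc22 p (by omega) (by omega)
  rcases Nat.lt_or_ge p 184800 with h | h
  · exact (Table.relOK_iff chkPaths 184100 700).mp pc23 p (by omega) (by omega)
  rcases Nat.lt_or_ge p 185500 with h | h
  · exact (Table.relOK_iff chkPaths 184800 700).mp pc24 p (by omega) (by omega)
  rcases Nat.lt_or_ge p 186200 with h | h
  · exact (Table.relOK_iff chkPaths 185500 700).mp pc25 p (by omega) (by omega)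
  rcases Nat.lt_or_ge p 186900 with h | h
  · exact (Table.relOK_iff chkPaths 186200 700).mp pc26 p (by omega) (by omega)
  rcases Nat.lt_or_ge p 187600 with h | h
  · exact (Table.relOK_iff chkPaths 186900 700).mp pc27 p (by omega) (by omega)
  rcases Nat.lt_or_ge p 188300 with h | h
  · exact (Table.relOK_iff chkPaths 187600 700).mp pc28 p (by omega) (by omega)
  rcases Nat.lt_or_ge p 189000 with h | h
  · exact (Table.relOK_iff chkPaths 188300 700).mp pc29 p (by omega) (by omega)
  rcases Nat.lt_or_ge p 189700 with h | h
  · exact (Table.relOK_iff chkPaths 189000 700).mp pc30 p (by omega) (by omega)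
  rcases Nat.lt_or_ge p 190400 with h | h
  · exact (Table.relOK_iff chkPaths 189700 700).mp pc31 p (by omega) (by omega)
  rcases Nat.lt_or_ge p 191100 with h | h
  · exact (Table.relOK_iff chkPaths 190400 700).mp pc32 p (by omega) (by omega)
  rcases Nat.lt_or_ge p 191800 with h | h
  · exact (Table.relOK_iff chkPaths 191100 700).mp pc33 p (by omega) (by omega)
  rcases Nat.lt_or_ge p 192500 with h | h
  · exact (Table.relOK_iff chkPaths 191800 700).mp pc34 p (by omega) (by omega)
  rcases Nat.lt_or_ge p 193200 with h | h
  · exact (Table.relOK_iff chkPaths 192500 700).mp pc35 p (by omega) (by omega)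
  rcases Nat.lt_or_ge p 193900 with h | h
  · exact (Table.relOK_iff chkPaths 193200 700).mp pc36 p (by omega) (by omega)
  rcases Nat.lt_or_ge p 194600 with h | h
  · exact (Table.relOK_iff chkPaths 193900 700).mp pc37 p (by omega) (by omega)
  rcases Nat.lt_or_ge p 195300 with h | h
  · exact (Table.relOK_iff chkPaths 194600 700).mp pc38 p (by omega) (by omega)
  exact (Table.relOK_iff chkPaths 195300 700).mp pc39 p (by omega) (by omega)

end Cfsg.Agent.Lib.Helper16.HNP.C11
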