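import Cfsg.Agent.Lib.Helper28.TC2Range
import Cfsg.Agent.Lib.Helper16.HNP.Table
set_option autoImplicit false
set_option maxRecDepth 100000
set_option maxHeartbeats 0
set_option Elab.async false

namespace Cfsg.Agent.Lib.Helper16.HNP.C2
open Cfsg.Agent.Lib.Helper28.TC2Upper Cfsg.Agent.Lib.Helper28.TC2Lower Cfsg.Agent.Lib.Helper28.TC2Range Cfsg.Agent.Lib.Helper16.HNP.Table

theorem pc0 : Table.permRange table 720000 9000 = true := by decide +kernel
theorem pc1 : Table.permRange table 729000 9000 = true := by decide +kernel
theorem pc2 : Table.permRange table 738000 9000 = true := by decide +kernel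
theorem pc3 : Table.permRange table 747000 9000 = true := by decide +kernel
theorem pc4 : Table.permRange table 756000 9000 = true := by decide +kernel
theorem pc5 : Table.permRange table 765000 9000 = true := by decide +kernel
theorem pc6 : Table.permRange table 774000 9000 = true := by decide +kernel
theorem pc7 : Table.permRange table 783000 9000 = true := by decide +kernel
theorem pc8 : Table.permRange table 792000 9000 = true := by decide +kernel
theorem pc9 : Table.permRange table 801000 9000 = true := by decide +kernel
theorem pc10 : Table.permRange table 810000 9000 = true := by decide +kernel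
theorem pc11 : Table.permRange table 819000 9000 = true := by decide +kernel
theorem pc12 : Table.permRange table 828000 9000 = true := by decide +kernel
theorem pc13 : Table.permRange table 837000 9000 = true := by decide +kernel
theorem pc14 : Table.permRange table 846000 9000 = true := by decide +kernel
theorem pc15 : Table.permRange table 855000 9000 = true := by decide +kernel
theorem pc16 : Table.permRange table 864000 9000 = true := by decide +kernel
theorem pc17 : Table.permRange table 873000 9000 = true := by decide +kernel
theorem pc18 : Table.permRange table 882000 9000 = true := by decide +kernel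
theorem pc19 : Table.permRange table 891000 9000 = true := by decide +kernel
theorem pc20 : Table.permRange table 900000 9000 = true := by decide +kernel
theorem pc21 : Table.permRange table 909000 9000 = true := by decide +kernel
theorem pc22 : Table.permRange table 918000 9000 = true := by decide +kernel
theorem pc23 : Table.permRange table 927000 9000 = true := by decide +kernel
theorem pc24 : Table.permRange table 936000 9000 = true := by decide +kernel
theorem pc25 : Table.permRange table 945000 9000 = true := by decide +kernel
theorem pc26 : Table.permRange table 954000 9000 = true := by decide +kernel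
theorem pc27 : Table.permRange table 963000 9000 = true := by decide +kernel
theorem pc28 : Table.permRange table 972000 9000 = true := by decide +kernel
theorem pc29 : Table.permRange table 981000 9000 = true := by decide +kernel
theorem pc30 : Table.permRange table 990000 9000 = true := by decide +kernel
theorem pc31 : Table.permRange table 999000 9000 = true := by decide +kernel
theorem pc32 : Table.permRange table 1008000 9000 = true := by decide +kernel
theorem pc33 : Table.permRange table 1017000 9000 = true := by decide +kernel
theorem pc34 : Table.permRange table 1026000 9000 = true := by decide +kernel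
theorem pc35 : Table.permRange table 1035000 9000 = true := by decide +kernel
theorem pc36 : Table.permRange table 1044000 9000 = true := by decide +kernel
theorem pc37 : Table.permRange table 1053000 9000 = true := by decide +kernel
theorem pc38 : Table.permRange table 1062000 9000 = true := by decide +kernel
theorem pc39 : Table.permRange table 1071000 9000 = true := by decide +kernel

theorem range : ∀ p, 720000 ≤ p → p < 1080000 → Table.permRow table p = true := by
  intro p h1 h2
  rcases Nat.lt_or_ge p 729000 with h | h
  · exact (Table.permRange_iff table 720000 9000).mp pc0 p (by omega) (by omega)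
  rcases Nat.lt_or_ge p 738000 with h | h
  · exact (Table.permRange_iff table 729000 9000).mp pc1 p (by omega) (by omega)
  rcases Nat.lt_or_ge p 747000 with h | h
  · exact (Table.permRange_iff table 738000 9000).mp pc2 p (by omega) (by omega)
  rcases Nat.lt_or_ge p 756000 with h | h
  · exact (Table.permRange_iff table 747000 9000).mp pc3 p (by omega) (by omega)
  rcases Nat.lt_or_ge p 765000 with h | h
  · exact (Table.permRange_iff table 756000 9000).mp pc4 p (by omega) (by omega)
  rcases Nat.lt_or_ge p 774000 with h | h
  · exact (Table.permRange_iff table 765000 9000).mp pc5 p (by omega) (by omega)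
  rcases Nat.lt_or_ge p 783000 with h | h
  · exact (Table.permRange_iff table 774000 9000).mp pc6 p (by omega) (by omega)
  rcases Nat.lt_or_ge p 792000 with h | h
  · exact (Table.permRange_iff table 783000 9000).mp pc7 p (by omega) (by omega)
  rcases Nat.lt_or_ge p 801000 with h | h
  · exact (Table.permRange_iff table 792000 9000).mp pc8 p (by omega) (by omega)
  rcases Nat.lt_or_ge p 810000 with h | h
  · exact (Table.permRange_iff table 801000 9000).mp pc9 p (by omega) (by omega)
  rcases Nat.lt_or_ge p 819000 with h | h
  · exact (Table.permRange_iff table 810000 9000).mp pc10 p (by omega) (by omega)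
  rcases Nat.lt_or_ge p 828000 with h | h
  · exact (Table.permRange_iff table 819000 9000).mp pc11 p (by omega) (by omega)
  rcases Nat.lt_or_ge p 837000 with h | h
  · exact (Table.permRange_iff table 828000 9000).mp pc12 p (by omega) (by omega)
  rcases Nat.lt_or_ge p 846000 with h | h
  · exact (Table.permRange_iff table 837000 9000).mp pc13 p (by omega) (by omega)
  rcases Nat.lt_or_ge p 855000 with h | h
  · exact (Table.permRange_iff table 846000 9000).mp pc14 p (by omega) (by omega)
  rcases Nat.lt_or_ge p 864000 with h | h
  · exact (Table.permRange_iff table 855000 9000).mp pc15 p (by omega) (by omega)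
  rcases Nat.lt_or_ge p 873000 with h | h
  · exact (Table.permRange_iff table 864000 9000).mp pc16 p (by omega) (by omega)
  rcases Nat.lt_or_ge p 882000 with h | h
  · exact (Table.permRange_iff table 873000 9000).mp pc17 p (by omega) (by omega)
  rcases Nat.lt_or_ge p 891000 with h | h
  · exact (Table.permRange_iff table 882000 9000).mp pc18 p (by omega) (by omega)
  rcases Nat.lt_or_ge p 900000 with h | h
  · exact (Table.permRange_iff table 891000 9000).mp pc19 p (by omega) (by omega)
  rcases Nat.lt_or_ge p 909000 with h | h
  · exact (Table.permRange_iff table 900000 9000).mp pc20 p (by omega) (by omega)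
  rcases Nat.lt_or_ge p 918000 with h | h
  · exact (Table.permRange_iff table 909000 9000).mp pc21 p (by omega) (by omega)
  rcases Nat.lt_or_ge p 927000 with h | h
  · exact (Table.permRange_iff table 918000 9000).mp pc22 p (by omega) (by omega)
  rcases Nat.lt_or_ge p 936000 with h | h
  · exact (Table.permRange_iff table 927000 9000).mp pc23 p (by omega) (by omega)
  rcases Nat.lt_or_ge p 945000 with h | h
  · exact (Table.permRange_iff table 936000 9000).mp pc24 p (by omega) (by omega)
  rcases Nat.lt_or_ge p 954000 with h | h
  · exact (Table.permRange_iff table 945000 9000).mp pc25 p (by omega) (by omega)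
  rcases Nat.lt_or_ge p 963000 with h | h
  · exact (Table.permRange_iff table 954000 9000).mp pc26 p (by omega) (by omega)
  rcases Nat.lt_or_ge p 972000 with h | h
  · exact (Table.permRange_iff table 963000 9000).mp pc27 p (by omega) (by omega)
  rcases Nat.lt_or_ge p 981000 with h | h
  · exact (Table.permRange_iff table 972000 9000).mp pc28 p (by omega) (by omega)
  rcases Nat.lt_or_ge p 990000 with h | h
  · exact (Table.permRange_iff table 981000 9000).mp pc29 p (by omega) (by omega)
  rcases Nat.lt_or_ge p 999000 with h | h
  · exact (Table.permRange_iff table 990000 9000).mp pc30 p (by omega) (by omega)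
  rcases Nat.lt_or_ge p 1008000 with h | h
  · exact (Table.permRange_iff table 999000 9000).mp pc31 p (by omega) (by omega)
  rcases Nat.lt_or_ge p 1017000 with h | h
  · exact (Table.permRange_iff table 1008000 9000).mp pc32 p (by omega) (by omega)
  rcases Nat.lt_or_ge p 1026000 with h | h
  · exact (Table.permRange_iff table 1017000 9000).mp pc33 p (by omega) (by omega)
  rcases Nat.lt_or_ge p 1035000 with h | h
  · exact (Table.permRange_iff table 1026000 9000).mp pc34 p (by omega) (by omega)
  rcases Nat.lt_or_ge p 1044000 with h | h
  · exact (Table.permRange_iff table 1035000 9000).mp pc35 p (by omega) (by omega)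
  rcases Nat.lt_or_ge p 1053000 with h | h
  · exact (Table.permRange_iff table 1044000 9000).mp pc36 p (by omega) (by omega)
  rcases Nat.lt_or_ge p 1062000 with h | h
  · exact (Table.permRange_iff table 1053000 9000).mp pc37 p (by omega) (by omega)
  rcases Nat.lt_or_ge p 1071000 with h | h
  · exact (Table.permRange_iff table 1062000 9000).mp pc38 p (by omega) (by omega)
  exact (Table.permRange_iff table 1071000 9000).mp pc39 p (by omega) (by omega)

end Cfsg.Agent.Lib.Helper16.HNP.C2
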