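import Cfsg.Agent.Lib.Helper28.TC2Range
import Cfsg.Agent.Lib.Helper16.HNP.Table
import Cfsg.Agent.Lib.Helper16.HNP.C2
set_option autoImplicit false
set_option maxRecDepth 100000
set_option maxHeartbeats 0
set_option Elab.async false

namespace Cfsg.Agent.Lib.Helper16.HNP.C12
open Cfsg.Agent.Lib.Helper28.TC2Upper Cfsg.Agent.Lib.Helper28.TC2Lower Cfsg.Agent.Lib.Helper28.TC2Range Cfsg.Agent.Lib.Helper16.HNP.Table

theorem pc0 : table.relOK chkPaths 196000 700 = true := by decide +kernel
theorem pc1 : table.relOK chkPaths 196700 700 = true := by decide +kernel
theorem pc2 : table.relOK chkPaths 197400 700 = true := by decide +kernel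
theorem pc3 : table.relOK chkPaths 198100 700 = true := by decide +kernel
theorem pc4 : table.relOK chkPaths 198800 700 = true := by decide +kernel
theorem pc5 : table.relOK chkPaths 199500 700 = true := by decide +kernel
theorem pc6 : table.relOK chkPaths 200200 700 = true := by decide +kernel
theorem pc7 : table.relOK chkPaths 200900 700 = true := by decide +kernel
theorem pc8 : table.relOK chkPaths 201600 700 = true := by decide +kernel
theorem pc9 : table.relOK chkPaths 202300 700 = true := by decide +kernel
theorem pc10 : table.relOK chkPaths 203000 700 = true := by decide +kernel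
theorem pc11 : table.relOK chkPaths 203700 700 = true := by decide +kernel
theorem pc12 : table.relOK chkPaths 204400 700 = true := by decide +kernel
theorem pc13 : table.relOK chkPaths 205100 700 = true := by decide +kernel
theorem pc14 : table.relOK chkPaths 205800 700 = true := by decide +kernel
theorem pc15 : table.relOK chkPaths 206500 700 = true := by decide +kernel
theorem pc16 : table.relOK chkPaths 207200 700 = true := by decide +kernel
theorem pc17 : table.relOK chkPaths 207900 700 = true := by decide +kernel
theorem pc18 : table.relOK chkPaths 208600 700 = true := by decide +kernel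
theorem pc19 : table.relOK chkPaths 209300 700 = true := by decide +kernel
theorem pc20 : table.relOK chkPaths 210000 700 = true := by decide +kernel
theorem pc21 : table.relOK chkPaths 210700 700 = true := by decide +kernel
theorem pc22 : table.relOK chkPaths 211400 700 = true := by decide +kernel
theorem pc23 : table.relOK chkPaths 212100 700 = true := by decide +kernel
theorem pc24 : table.relOK chkPaths 212800 700 = true := by decide +kernel
theorem pc25 : table.relOK chkPaths 213500 700 = true := by decide +kernel
theorem pc26 : table.relOK chkPaths 214200 700 = true := by decide +kernel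
theorem pc27 : table.relOK chkPaths 214900 700 = true := by decide +kernel
theorem pc28 : table.relOK chkPaths 215600 700 = true := by decide +kernel
theorem pc29 : table.relOK chkPaths 216300 700 = true := by decide +kernel
theorem pc30 : table.relOK chkPaths 217000 700 = true := by decide +kernel
theorem pc31 : table.relOK chkPaths 217700 700 = true := by decide +kernel
theorem pc32 : table.relOK chkPaths 218400 700 = true := by decide +kernel
theorem pc33 : table.relOK chkPaths 219100 700 = true := by decide +kernel
theorem pc34 : table.relOK chkPaths 219800 700 = true := by decide +kernel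
theorem pc35 : table.relOK chkPaths 220500 700 = true := by decide +kernel
theorem pc36 : table.relOK chkPaths 221200 700 = true := by decide +kernel
theorem pc37 : table.relOK chkPaths 221900 700 = true := by decide +kernel
theorem pc38 : table.relOK chkPaths 222600 700 = true := by decide +kernel
theorem pc39 : table.relOK chkPaths 223300 700 = true := by decide +kernel

theorem range : ∀ p, 196000 ≤ p → p < 224000 → ∀ r ∈ chkPaths, table.walkT r p = p := by
  intro p h1 h2
  rcases Nat.lt_or_ge p 196700 with h | h
  · exact (Table.relOK_iff chkPaths 196000 700).mp pc0 p (by omega) (by omega)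
  rcases Nat.lt_or_ge p 197400 with h | h
  · exact (Table.relOK_iff chkPaths 196700 700).mp pc1 p (by omega) (by omega)
  rcases Nat.lt_or_ge p 198100 with h | h
  · exact (Table.relOK_iff chkPaths 197400 700).mp pc2 p (by omega) (by omega)
  rcases Nat.lt_or_ge p 198800 with h | h
  · exact (Table.relOK_iff chkPaths 198100 700).mp pc3 p (by omega) (by omega)
  rcases Nat.lt_or_ge p 199500 with h | h
  · exact (Table.relOK_iff chkPaths 198800 700).mp pc4 p (by omega) (by omega)
  rcases Nat.lt_or_ge p 200200 with h | h
  · exact (Table.relOK_iff chkPaths 199500 700).mp pc5 p (by omega) (by omega)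
  rcases Nat.lt_or_ge p 200900 with h | h
  · exact (Table.relOK_iff chkPaths 200200 700).mp pc6 p (by omega) (by omega)
  rcases Nat.lt_or_ge p 201600 with h | h
  · exact (Table.relOK_iff chkPaths 200900 700).mp pc7 p (by omega) (by omega)
  rcases Nat.lt_or_ge p 202300 with h | h
  · exact (Table.relOK_iff chkPaths 201600 700).mp pc8 p (by omega) (by omega)
  rcases Nat.lt_or_ge p 203000 with h | h
  · exact (Table.relOK_iff chkPaths 202300 700).mp pc9 p (by omega) (by omega)
  rcases Nat.lt_or_ge p 203700 with h | h
  · exact (Table.relOK_iff chkPaths 203000 700).mp pc10 p (by omega) (by omega)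
  rcases Nat.lt_or_ge p 204400 with h | h
  · exact (Table.relOK_iff chkPaths 203700 700).mp pc11 p (by omega) (by omega)
  rcases Nat.lt_or_ge p 205100 with h | h
  · exact (Table.relOK_iff chkPaths 204400 700).mp pc12 p (by omega) (by omega)
  rcases Nat.lt_or_ge p 205800 with h | h
  · exact (Table.relOK_iff chkPaths 205100 700).mp pc13 p (by omega) (by omega)
  rcases Nat.lt_or_ge p 206500 with h | h
  · exact (Table.relOK_iff chkPaths 205800 700).mp pc14 p (by omega) (by omega)
  rcases Nat.lt_or_ge p 207200 with h | h
  · exact (Table.relOK_iff chkPaths 206500 700).mp pc15 p (by omega) (by omega)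
  rcases Nat.lt_or_ge p 207900 with h | h
  · exact (Table.relOK_iff chkPaths 207200 700).mp pc16 p (by omega) (by omega)
  rcases Nat.lt_or_ge p 208600 with h | h
  · exact (Table.relOK_iff chkPaths 207900 700).mp pc17 p (by omega) (by omega)
  rcases Nat.lt_or_ge p 209300 with h | h
  · exact (Table.relOK_iff chkPaths 208600 700).mp pc18 p (by omega) (by omega)
  rcases Nat.lt_or_ge p 210000 with h | h
  · exact (Table.relOK_iff chkPaths 209300 700).mp pc19 p (by omega) (by omega)
  rcases Nat.lt_or_ge p 210700 with h | h
  · exact (Table.relOK_iff chkPaths 210000 700).mp pc20 p (by omega) (by omega)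
  rcases Nat.lt_or_ge p 211400 with h | h
  · exact (Table.relOK_iff chkPaths 210700 700).mp pc21 p (by omega) (by omega)
  rcases Nat.lt_or_ge p 212100 with h | h
  · exact (Table.relOK_iff chkPaths 211400 700).mp pc22 p (by omega) (by omega)
  rcases Nat.lt_or_ge p 212800 with h | h
  · exact (Table.relOK_iff chkPaths 212100 700).mp pc23 p (by omega) (by omega)
  rcases Nat.lt_or_ge p 213500 with h | h
  · exact (Table.relOK_iff chkPaths 212800 700).mp pc24 p (by omega) (by omega)
  rcases Nat.lt_or_ge p 214200 with h | h
  · exact (Table.relOK_iff chkPaths 213500 700).mp pc25 p (by omega) (by omega)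
  rcases Nat.lt_or_ge p 214900 with h | h
  · exact (Table.relOK_iff chkPaths 214200 700).mp pc26 p (by omega) (by omega)
  rcases Nat.lt_or_ge p 215600 with h | h
  · exact (Table.relOK_iff chkPaths 214900 700).mp pc27 p (by omega) (by omega)
  rcases Nat.lt_or_ge p 216300 with h | h
  · exact (Table.relOK_iff chkPaths 215600 700).mp pc28 p (by omega) (by omega)
  rcases Nat.lt_or_ge p 217000 with h | h
  · exact (Table.relOK_iff chkPaths 216300 700).mp pc29 p (by omega) (by omega)
  rcases Nat.lt_or_ge p 217700 with h | h
  · exact (Table.relOK_iff chkPaths 217000 700).mp pc30 p (by omega) (by omega)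
  rcases Nat.lt_or_ge p 218400 with h | h
  · exact (Table.relOK_iff chkPaths 217700 700).mp pc31 p (by omega) (by omega)
  rcases Nat.lt_or_ge p 219100 with h | h
  · exact (Table.relOK_iff chkPaths 218400 700).mp pc32 p (by omega) (by omega)
  rcases Nat.lt_or_ge p 219800 with h | h
  · exact (Table.relOK_iff chkPaths 219100 700).mp pc33 p (by omega) (by omega)
  rcases Nat.lt_or_ge p 220500 with h | h
  · exact (Table.relOK_iff chkPaths 219800 700).mp pc34 p (by omega) (by omega)
  rcases Nat.lt_or_ge p 221200 with h | h
  · exact (Table.relOK_iff chkPaths 220500 700).mp pc35 p (by omega) (by omega)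
  rcases Nat.lt_or_ge p 221900 with h | h
  · exact (Table.relOK_iff chkPaths 221200 700).mp pc36 p (by omega) (by omega)
  rcases Nat.lt_or_ge p 222600 with h | h
  · exact (Table.relOK_iff chkPaths 221900 700).mp pc37 p (by omega) (by omega)
  rcases Nat.lt_or_ge p 223300 with h | h
  · exact (Table.relOK_iff chkPaths 222600 700).mp pc38 p (by omega) (by omega)
  exact (Table.relOK_iff chkPaths 223300 700).mp pc39 p (by omega) (by omega)

end Cfsg.Agent.Lib.Helper16.HNP.C12
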