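import Cfsg.Agent.Lib.Helper28.TC2Range
import Cfsg.Agent.Lib.Helper16.HNP.Table
set_option autoImplicit false
set_option maxRecDepth 100000
set_option maxHeartbeats 0
set_option Elab.async false

namespace Cfsg.Agent.Lib.Helper16.HNP.C3
open Cfsg.Agent.Lib.Helper28.TC2Upper Cfsg.Agent.Lib.Helper28.TC2Lower Cfsg.Agent.Lib.Helper28.TC2Range Cfsg.Agent.Lib.Helper16.HNP.Table

theorem pc0 : Table.permRange table 1080000 9000 = true := by decide +kernel
theorem pc1 : Table.permRange table 1089000 9000 = true := by decide +kernel
theorem pc2 : Table.permRange table 1098000 9000 = true := by decide +kernel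
theorem pc3 : Table.permRange table 1107000 9000 = true := by decide +kernel
theorem pc4 : Table.permRange table 1116000 9000 = true := by decide +kernel
theorem pc5 : Table.permRange table 1125000 9000 = true := by decide +kernel
theorem pc6 : Table.permRange table 1134000 9000 = true := by decide +kernel
theorem pc7 : Table.permRange table 1143000 9000 = true := by decide +kernel
theorem pc8 : Table.permRange table 1152000 9000 = true := by decide +kernel
theorem pc9 : Table.permRange table 1161000 9000 = true := by decide +kernel
theorem pc10 : Table.permRange table 1170000 9000 = true := by decide +kernel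
theorem pc11 : Table.permRange table 1179000 9000 = true := by decide +kernel
theorem pc12 : Table.permRange table 1188000 9000 = true := by decide +kernel
theorem pc13 : Table.permRange table 1197000 9000 = true := by decide +kernel
theorem pc14 : Table.permRange table 1206000 9000 = true := by decide +kernel
theorem pc15 : Table.permRange table 1215000 9000 = true := by decide +kernel
theorem pc16 : Table.permRange table 1224000 9000 = true := by decide +kernel
theorem pc17 : Table.permRange table 1233000 9000 = true := by decide +kernel
theorem pc18 : Table.permRange table 1242000 9000 = true := by decide +kernel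
theorem pc19 : Table.permRange table 1251000 9000 = true := by decide +kernel
theorem pc20 : Table.permRange table 1260000 9000 = true := by decide +kernel
theorem pc21 : Table.permRange table 1269000 9000 = true := by decide +kernel
theorem pc22 : Table.permRange table 1278000 9000 = true := by decide +kernel
theorem pc23 : Table.permRange table 1287000 9000 = true := by decide +kernel
theorem pc24 : Table.permRange table 1296000 9000 = true := by decide +kernel
theorem pc25 : Table.permRange table 1305000 9000 = true := by decide +kernel
theorem pc26 : Table.permRange table 1314000 9000 = true := by decide +kernel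
theorem pc27 : Table.permRange table 1323000 9000 = true := by decide +kernel
theorem pc28 : Table.permRange table 1332000 9000 = true := by decide +kernel
theorem pc29 : Table.permRange table 1341000 9000 = true := by decide +kernel
theorem pc30 : Table.permRange table 1350000 9000 = true := by decide +kernel
theorem pc31 : Table.permRange table 1359000 9000 = true := by decide +kernel
theorem pc32 : Table.permRange table 1368000 9000 = true := by decide +kernel
theorem pc33 : Table.permRange table 1377000 9000 = true := by decide +kernel
theorem pc34 : Table.permRange table 1386000 9000 = true := by decide +kernel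
theorem pc35 : Table.permRange table 1395000 9000 = true := by decide +kernel
theorem pc36 : Table.permRange table 1404000 9000 = true := by decide +kernel
theorem pc37 : Table.permRange table 1413000 9000 = true := by decide +kernel
theorem pc38 : Table.permRange table 1422000 9000 = true := by decide +kernel
theorem pc39 : Table.permRange table 1431000 9000 = true := by decide +kernel

theorem range : ∀ p, 1080000 ≤ p → p < 1440000 → Table.permRow table p = true := by
  intro p h1 h2
  rcases Nat.lt_or_ge p 1089000 with h | h
  · exact (Table.permRange_iff table 1080000 9000).mp pc0 p (by omega) (by omega)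
  rcases Nat.lt_or_ge p 1098000 with h | h
  · exact (Table.permRange_iff table 1089000 9000).mp pc1 p (by omega) (by omega)
  rcases Nat.lt_or_ge p 1107000 with h | h
  · exact (Table.permRange_iff table 1098000 9000).mp pc2 p (by omega) (by omega)
  rcases Nat.lt_or_ge p 1116000 with h | h
  · exact (Table.permRange_iff table 1107000 9000).mp pc3 p (by omega) (by omega)
  rcases Nat.lt_or_ge p 1125000 with h | h
  · exact (Table.permRange_iff table 1116000 9000).mp pc4 p (by omega) (by omega)
  rcases Nat.lt_or_ge p 1134000 with h | h
  · exact (Table.permRange_iff table 1125000 9000).mp pc5 p (by omega) (by omega)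
  rcases Nat.lt_or_ge p 1143000 with h | h
  · exact (Table.permRange_iff table 1134000 9000).mp pc6 p (by omega) (by omega)
  rcases Nat.lt_or_ge p 1152000 with h | h
  · exact (Table.permRange_iff table 1143000 9000).mp pc7 p (by omega) (by omega)
  rcases Nat.lt_or_ge p 1161000 with h | h
  · exact (Table.permRange_iff table 1152000 9000).mp pc8 p (by omega) (by omega)
  rcases Nat.lt_or_ge p 1170000 with h | h
  · exact (Table.permRange_iff table 1161000 9000).mp pc9 p (by omega) (by omega)
  rcases Nat.lt_or_ge p 1179000 with h | h
  · exact (Table.permRange_iff table 1170000 9000).mp pc10 p (by omega) (by omega)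
  rcases Nat.lt_or_ge p 1188000 with h | h
  · exact (Table.permRange_iff table 1179000 9000).mp pc11 p (by omega) (by omega)
  rcases Nat.lt_or_ge p 1197000 with h | h
  · exact (Table.permRange_iff table 1188000 9000).mp pc12 p (by omega) (by omega)
  rcases Nat.lt_or_ge p 1206000 with h | h
  · exact (Table.permRange_iff table 1197000 9000).mp pc13 p (by omega) (by omega)
  rcases Nat.lt_or_ge p 1215000 with h | h
  · exact (Table.permRange_iff table 1206000 9000).mp pc14 p (by omega) (by omega)
  rcases Nat.lt_or_ge p 1224000 with h | h
  · exact (Table.permRange_iff table 1215000 9000).mp pc15 p (by omega) (by omega)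
  rcases Nat.lt_or_ge p 1233000 with h | h
  · exact (Table.permRange_iff table 1224000 9000).mp pc16 p (by omega) (by omega)
  rcases Nat.lt_or_ge p 1242000 with h | h
  · exact (Table.permRange_iff table 1233000 9000).mp pc17 p (by omega) (by omega)
  rcases Nat.lt_or_ge p 1251000 with h | h
  · exact (Table.permRange_iff table 1242000 9000).mp pc18 p (by omega) (by omega)
  rcases Nat.lt_or_ge p 1260000 with h | h
  · exact (Table.permRange_iff table 1251000 9000).mp pc19 p (by omega) (by omega)
  rcases Nat.lt_or_ge p 1269000 with h | h
  · exact (Table.permRange_iff table 1260000 9000).mp pc20 p (by omega) (by omega)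
  rcases Nat.lt_or_ge p 1278000 with h | h
  · exact (Table.permRange_iff table 1269000 9000).mp pc21 p (by omega) (by omega)
  rcases Nat.lt_or_ge p 1287000 with h | h
  · exact (Table.permRange_iff table 1278000 9000).mp pc22 p (by omega) (by omega)
  rcases Nat.lt_or_ge p 1296000 with h | h
  · exact (Table.permRange_iff table 1287000 9000).mp pc23 p (by omega) (by omega)
  rcases Nat.lt_or_ge p 1305000 with h | h
  · exact (Table.permRange_iff table 1296000 9000).mp pc24 p (by omega) (by omega)
  rcases Nat.lt_or_ge p 1314000 with h | h
  · exact (Table.permRange_iff table 1305000 9000).mp pc25 p (by omega) (by omega)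
  rcases Nat.lt_or_ge p 1323000 with h | h
  · exact (Table.permRange_iff table 1314000 9000).mp pc26 p (by omega) (by omega)
  rcases Nat.lt_or_ge p 1332000 with h | h
  · exact (Table.permRange_iff table 1323000 9000).mp pc27 p (by omega) (by omega)
  rcases Nat.lt_or_ge p 1341000 with h | h
  · exact (Table.permRange_iff table 1332000 9000).mp pc28 p (by omega) (by omega)
  rcases Nat.lt_or_ge p 1350000 with h | h
  · exact (Table.permRange_iff table 1341000 9000).mp pc29 p (by omega) (by omega)
  rcases Nat.lt_or_ge p 1359000 with h | h
  · exact (Table.permRange_iff table 1350000 9000).mp pc30 p (by omega) (by omega)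
  rcases Nat.lt_or_ge p 1368000 with h | h
  · exact (Table.permRange_iff table 1359000 9000).mp pc31 p (by omega) (by omega)
  rcases Nat.lt_or_ge p 1377000 with h | h
  · exact (Table.permRange_iff table 1368000 9000).mp pc32 p (by omega) (by omega)
  rcases Nat.lt_or_ge p 1386000 with h | h
  · exact (Table.permRange_iff table 1377000 9000).mp pc33 p (by omega) (by omega)
  rcases Nat.lt_or_ge p 1395000 with h | h
  · exact (Table.permRange_iff table 1386000 9000).mp pc34 p (by omega) (by omega)
  rcases Nat.lt_or_ge p 1404000 with h | h
  · exact (Table.permRange_iff table 1395000 9000).mp pc35 p (by omega) (by omega)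
  rcases Nat.lt_or_ge p 1413000 with h | h
  · exact (Table.permRange_iff table 1404000 9000).mp pc36 p (by omega) (by omega)
  rcases Nat.lt_or_ge p 1422000 with h | h
  · exact (Table.permRange_iff table 1413000 9000).mp pc37 p (by omega) (by omega)
  rcases Nat.lt_or_ge p 1431000 with h | h
  · exact (Table.permRange_iff table 1422000 9000).mp pc38 p (by omega) (by omega)
  exact (Table.permRange_iff table 1431000 9000).mp pc39 p (by omega) (by omega)

end Cfsg.Agent.Lib.Helper16.HNP.C3
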