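import Cfsg.Agent.Lib.Helper28.TC2Range
import Cfsg.Agent.Lib.Helper16.HNP.Table
import Cfsg.Agent.Lib.Helper16.HNP.C3
set_option autoImplicit false
set_option maxRecDepth 100000
set_option maxHeartbeats 0
set_option Elab.async false

namespace Cfsg.Agent.Lib.Helper16.HNP.C13
open Cfsg.Agent.Lib.Helper28.TC2Upper Cfsg.Agent.Lib.Helper28.TC2Lower Cfsg.Agent.Lib.Helper28.TC2Range Cfsg.Agent.Lib.Helper16.HNP.Table

theorem pc0 : table.relOK chkPaths 224000 700 = true := by decide +kernel
theorem pc1 : table.relOK chkPaths 224700 700 = true := by decide +kernel
theorem pc2 : table.relOK chkPaths 225400 700 = true := by decide +kernel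
theorem pc3 : table.relOK chkPaths 226100 700 = true := by decide +kernel
theorem pc4 : table.relOK chkPaths 226800 700 = true := by decide +kernel
theorem pc5 : table.relOK chkPaths 227500 700 = true := by decide +kernel
theorem pc6 : table.relOK chkPaths 228200 700 = true := by decide +kernel
theorem pc7 : table.relOK chkPaths 228900 700 = true := by decide +kernel
theorem pc8 : table.relOK chkPaths 229600 700 = true := by decide +kernel
theorem pc9 : table.relOK chkPaths 230300 700 = true := by decide +kernel
theorem pc10 : table.relOK chkPaths 231000 700 = true := by decide +kernel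
theorem pc11 : table.relOK chkPaths 231700 700 = true := by decide +kernel
theorem pc12 : table.relOK chkPaths 232400 700 = true := by decide +kernel
theorem pc13 : table.relOK chkPaths 233100 700 = true := by decide +kernel
theorem pc14 : table.relOK chkPaths 233800 700 = true := by decide +kernel
theorem pc15 : table.relOK chkPaths 234500 700 = true := by decide +kernel
theorem pc16 : table.relOK chkPaths 235200 700 = true := by decide +kernel
theorem pc17 : table.relOK chkPaths 235900 700 = true := by decide +kernel
theorem pc18 : table.relOK chkPaths 236600 700 = true := by decide +kernel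
theorem pc19 : table.relOK chkPaths 237300 700 = true := by decide +kernel
theorem pc20 : table.relOK chkPaths 238000 700 = true := by decide +kernel
theorem pc21 : table.relOK chkPaths 238700 700 = true := by decide +kernel
theorem pc22 : table.relOK chkPaths 239400 700 = true := by decide +kernel
theorem pc23 : table.relOK chkPaths 240100 700 = true := by decide +kernel
theorem pc24 : table.relOK chkPaths 240800 700 = true := by decide +kernel
theorem pc25 : table.relOK chkPaths 241500 700 = true := by decide +kernel
theorem pc26 : table.relOK chkPaths 242200 700 = true := by decide +kernel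
theorem pc27 : table.relOK chkPaths 242900 700 = true := by decide +kernel
theorem pc28 : table.relOK chkPaths 243600 700 = true := by decide +kernel
theorem pc29 : table.relOK chkPaths 244300 700 = true := by decide +kernel
theorem pc30 : table.relOK chkPaths 245000 700 = true := by decide +kernel
theorem pc31 : table.relOK chkPaths 245700 700 = true := by decide +kernel
theorem pc32 : table.relOK chkPaths 246400 700 = true := by decide +kernel
theorem pc33 : table.relOK chkPaths 247100 700 = true := by decide +kernel
theorem pc34 : table.relOK chkPaths 247800 700 = true := by decide +kernel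
theorem pc35 : table.relOK chkPaths 248500 700 = true := by decide +kernel
theorem pc36 : table.relOK chkPaths 249200 700 = true := by decide +kernel
theorem pc37 : table.relOK chkPaths 249900 700 = true := by decide +kernel
theorem pc38 : table.relOK chkPaths 250600 700 = true := by decide +kernel
theorem pc39 : table.relOK chkPaths 251300 700 = true := by decide +kernel

theorem range : ∀ p, 224000 ≤ p → p < 252000 → ∀ r ∈ chkPaths, table.walkT r p = p := by
  intro p h1 h2
  rcases Nat.lt_or_ge p 224700 with h | h
  · exact (Table.relOK_iff chkPaths 224000 700).mp pc0 p (by omega) (by omega)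
  rcases Nat.lt_or_ge p 225400 with h | h
  · exact (Table.relOK_iff chkPaths 224700 700).mp pc1 p (by omega) (by omega)
  rcases Nat.lt_or_ge p 226100 with h | h
  · exact (Table.relOK_iff chkPaths 225400 700).mp pc2 p (by omega) (by omega)
  rcases Nat.lt_or_ge p 226800 with h | h
  · exact (Table.relOK_iff chkPaths 226100 700).mp pc3 p (by omega) (by omega)
  rcases Nat.lt_or_ge p 227500 with h | h
  · exact (Table.relOK_iff chkPaths 226800 700).mp pc4 p (by omega) (by omega)
  rcases Nat.lt_or_ge p 228200 with h | h
  · exact (Table.relOK_iff chkPaths 227500 700).mp pc5 p (by omega) (by omega)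
  rcases Nat.lt_or_ge p 228900 with h | h
  · exact (Table.relOK_iff chkPaths 228200 700).mp pc6 p (by omega) (by omega)
  rcases Nat.lt_or_ge p 229600 with h | h
  · exact (Table.relOK_iff chkPaths 228900 700).mp pc7 p (by omega) (by omega)
  rcases Nat.lt_or_ge p 230300 with h | h
  · exact (Table.relOK_iff chkPaths 229600 700).mp pc8 p (by omega) (by omega)
  rcases Nat.lt_or_ge p 231000 with h | h
  · exact (Table.relOK_iff chkPaths 230300 700).mp pc9 p (by omega) (by omega)
  rcases Nat.lt_or_ge p 231700 with h | h
  · exact (Table.relOK_iff chkPaths 231000 700).mp pc10 p (by omega) (by omega)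
  rcases Nat.lt_or_ge p 232400 with h | h
  · exact (Table.relOK_iff chkPaths 231700 700).mp pc11 p (by omega) (by omega)
  rcases Nat.lt_or_ge p 233100 with h | h
  · exact (Table.relOK_iff chkPaths 232400 700).mp pc12 p (by omega) (by omega)
  rcases Nat.lt_or_ge p 233800 with h | h
  · exact (Table.relOK_iff chkPaths 233100 700).mp pc13 p (by omega) (by omega)
  rcases Nat.lt_or_ge p 234500 with h | h
  · exact (Table.relOK_iff chkPaths 233800 700).mp pc14 p (by omega) (by omega)
  rcases Nat.lt_or_ge p 235200 with h | h
  · exact (Table.relOK_iff chkPaths 234500 700).mp pc15 p (by omega) (by omega)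
  rcases Nat.lt_or_ge p 235900 with h | h
  · exact (Table.relOK_iff chkPaths 235200 700).mp pc16 p (by omega) (by omega)
  rcases Nat.lt_or_ge p 236600 with h | h
  · exact (Table.relOK_iff chkPaths 235900 700).mp pc17 p (by omega) (by omega)
  rcases Nat.lt_or_ge p 237300 with h | h
  · exact (Table.relOK_iff chkPaths 236600 700).mp pc18 p (by omega) (by omega)
  rcases Nat.lt_or_ge p 238000 with h | h
  · exact (Table.relOK_iff chkPaths 237300 700).mp pc19 p (by omega) (by omega)
  rcases Nat.lt_or_ge p 238700 with h | h
  · exact (Table.relOK_iff chkPaths 238000 700).mp pc20 p (by omega) (by omega)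
  rcases Nat.lt_or_ge p 239400 with h | h
  · exact (Table.relOK_iff chkPaths 238700 700).mp pc21 p (by omega) (by omega)
  rcases Nat.lt_or_ge p 240100 with h | h
  · exact (Table.relOK_iff chkPaths 239400 700).mp pc22 p (by omega) (by omega)
  rcases Nat.lt_or_ge p 240800 with h | h
  · exact (Table.relOK_iff chkPaths 240100 700).mp pc23 p (by omega) (by omega)
  rcases Nat.lt_or_ge p 241500 with h | h
  · exact (Table.relOK_iff chkPaths 240800 700).mp pc24 p (by omega) (by omega)
  rcases Nat.lt_or_ge p 242200 with h | h
  · exact (Table.relOK_iff chkPaths 241500 700).mp pc25 p (by omega) (by omega)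
  rcases Nat.lt_or_ge p 242900 with h | h
  · exact (Table.relOK_iff chkPaths 242200 700).mp pc26 p (by omega) (by omega)
  rcases Nat.lt_or_ge p 243600 with h | h
  · exact (Table.relOK_iff chkPaths 242900 700).mp pc27 p (by omega) (by omega)
  rcases Nat.lt_or_ge p 244300 with h | h
  · exact (Table.relOK_iff chkPaths 243600 700).mp pc28 p (by omega) (by omega)
  rcases Nat.lt_or_ge p 245000 with h | h
  · exact (Table.relOK_iff chkPaths 244300 700).mp pc29 p (by omega) (by omega)
  rcases Nat.lt_or_ge p 245700 with h | h
  · exact (Table.relOK_iff chkPaths 245000 700).mp pc30 p (by omega) (by omega)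
  rcases Nat.lt_or_ge p 246400 with h | h
  · exact (Table.relOK_iff chkPaths 245700 700).mp pc31 p (by omega) (by omega)
  rcases Nat.lt_or_ge p 247100 with h | h
  · exact (Table.relOK_iff chkPaths 246400 700).mp pc32 p (by omega) (by omega)
  rcases Nat.lt_or_ge p 247800 with h | h
  · exact (Table.relOK_iff chkPaths 247100 700).mp pc33 p (by omega) (by omega)
  rcases Nat.lt_or_ge p 248500 with h | h
  · exact (Table.relOK_iff chkPaths 247800 700).mp pc34 p (by omega) (by omega)
  rcases Nat.lt_or_ge p 249200 with h | h
  · exact (Table.relOK_iff chkPaths 248500 700).mp pc35 p (by omega) (by omega)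
  rcases Nat.lt_or_ge p 249900 with h | h
  · exact (Table.relOK_iff chkPaths 249200 700).mp pc36 p (by omega) (by omega)
  rcases Nat.lt_or_ge p 250600 with h | h
  · exact (Table.relOK_iff chkPaths 249900 700).mp pc37 p (by omega) (by omega)
  rcases Nat.lt_or_ge p 251300 with h | h
  · exact (Table.relOK_iff chkPaths 250600 700).mp pc38 p (by omega) (by omega)
  exact (Table.relOK_iff chkPaths 251300 700).mp pc39 p (by omega) (by omega)

end Cfsg.Agent.Lib.Helper16.HNP.C13
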