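import Cfsg.Agent.Lib.Helper28.TC2Range
import Cfsg.Agent.Lib.Helper16.HNP.Table
set_option autoImplicit false
set_option maxRecDepth 100000
set_option maxHeartbeats 0
set_option Elab.async false

namespace Cfsg.Agent.Lib.Helper16.HNP.C4
open Cfsg.Agent.Lib.Helper28.TC2Upper Cfsg.Agent.Lib.Helper28.TC2Lower Cfsg.Agent.Lib.Helper28.TC2Range Cfsg.Agent.Lib.Helper16.HNP.Table

theorem pc0 : Table.permRange table 1440000 9000 = true := by decide +kernel
theorem pc1 : Table.permRange table 1449000 9000 = true := by decide +kernel
theorem pc2 : Table.permRange table 1458000 9000 = true := by decide +kernel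
theorem pc3 : Table.permRange table 1467000 9000 = true := by decide +kernel
theorem pc4 : Table.permRange table 1476000 9000 = true := by decide +kernel
theorem pc5 : Table.permRange table 1485000 9000 = true := by decide +kernel
theorem pc6 : Table.permRange table 1494000 9000 = true := by decide +kernel
theorem pc7 : Table.permRange table 1503000 9000 = true := by decide +kernel
theorem pc8 : Table.permRange table 1512000 9000 = true := by decide +kernel
theorem pc9 : Table.permRange table 1521000 9000 = true := by decide +kernel
theorem pc10 : Table.permRange table 1530000 9000 = true := by decide +kernel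

theorem range : ∀ p, 1440000 ≤ p → p < 1539000 → Table.permRow table p = true := by
  intro p h1 h2
  rcases Nat.lt_or_ge p 1449000 with h | h
  · exact (Table.permRange_iff table 1440000 9000).mp pc0 p (by omega) (by omega)
  rcases Nat.lt_or_ge p 1458000 with h | h
  · exact (Table.permRange_iff table 1449000 9000).mp pc1 p (by omega) (by omega)
  rcases Nat.lt_or_ge p 1467000 with h | h
  · exact (Table.permRange_iff table 1458000 9000).mp pc2 p (by omega) (by omega)
  rcases Nat.lt_or_ge p 1476000 with h | h
  · exact (Table.permRange_iff table 1467000 9000).mp pc3 p (by omega) (by omega)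
  rcases Nat.lt_or_ge p 1485000 with h | h
  · exact (Table.permRange_iff table 1476000 9000).mp pc4 p (by omega) (by omega)
  rcases Nat.lt_or_ge p 1494000 with h | h
  · exact (Table.permRange_iff table 1485000 9000).mp pc5 p (by omega) (by omega)
  rcases Nat.lt_or_ge p 1503000 with h | h
  · exact (Table.permRange_iff table 1494000 9000).mp pc6 p (by omega) (by omega)
  rcases Nat.lt_or_ge p 1512000 with h | h
  · exact (Table.permRange_iff table 1503000 9000).mp pc7 p (by omega) (by omega)
  rcases Nat.lt_or_ge p 1521000 with h | h
  · exact (Table.permRange_iff table 1512000 9000).mp pc8 p (by omega) (by omega)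
  rcases Nat.lt_or_ge p 1530000 with h | h
  · exact (Table.permRange_iff table 1521000 9000).mp pc9 p (by omega) (by omega)
  exact (Table.permRange_iff table 1530000 9000).mp pc10 p (by omega) (by omega)

end Cfsg.Agent.Lib.Helper16.HNP.C4
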