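import Cfsg.Agent.Lib.Helper28.TC2Range
import Cfsg.Agent.Lib.Helper16.HNP.Table
import Cfsg.Agent.Lib.Helper16.HNP.C4
set_option autoImplicit false
set_option maxRecDepth 100000
set_option maxHeartbeats 0
set_option Elab.async false

namespace Cfsg.Agent.Lib.Helper16.HNP.C14
open Cfsg.Agent.Lib.Helper28.TC2Upper Cfsg.Agent.Lib.Helper28.TC2Lower Cfsg.Agent.Lib.Helper28.TC2Range Cfsg.Agent.Lib.Helper16.HNP.Table

theorem pc0 : table.relOK chkPaths 252000 700 = true := by decide +kernel
theorem pc1 : table.relOK chkPaths 252700 700 = true := by decide +kernel
theorem pc2 : table.relOK chkPaths 253400 700 = true := by decide +kernel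
theorem pc3 : table.relOK chkPaths 254100 700 = true := by decide +kernel
theorem pc4 : table.relOK chkPaths 254800 700 = true := by decide +kernel
theorem pc5 : table.relOK chkPaths 255500 700 = true := by decide +kernel
theorem pc6 : table.relOK chkPaths 256200 700 = true := by decide +kernel
theorem pc7 : table.relOK chkPaths 256900 700 = true := by decide +kernel
theorem pc8 : table.relOK chkPaths 257600 700 = true := by decide +kernel
theorem pc9 : table.relOK chkPaths 258300 700 = true := by decide +kernel
theorem pc10 : table.relOK chkPaths 259000 700 = true := by decide +kernel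
theorem pc11 : table.relOK chkPaths 259700 700 = true := by decide +kernel
theorem pc12 : table.relOK chkPaths 260400 700 = true := by decide +kernel
theorem pc13 : table.relOK chkPaths 261100 700 = true := by decide +kernel
theorem pc14 : table.relOK chkPaths 261800 700 = true := by decide +kernel
theorem pc15 : table.relOK chkPaths 262500 700 = true := by decide +kernel
theorem pc16 : table.relOK chkPaths 263200 700 = true := by decide +kernel
theorem pc17 : table.relOK chkPaths 263900 700 = true := by decide +kernel
theorem pc18 : table.relOK chkPaths 264600 700 = true := by decide +kernel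
theorem pc19 : table.relOK chkPaths 265300 700 = true := by decide +kernel
theorem pc20 : table.relOK chkPaths 266000 700 = true := by decide +kernel
theorem pc21 : table.relOK chkPaths 266700 700 = true := by decide +kernel
theorem pc22 : table.relOK chkPaths 267400 700 = true := by decide +kernel
theorem pc23 : table.relOK chkPaths 268100 700 = true := by decide +kernel
theorem pc24 : table.relOK chkPaths 268800 700 = true := by decide +kernel
theorem pc25 : table.relOK chkPaths 269500 700 = true := by decide +kernel
theorem pc26 : table.relOK chkPaths 270200 700 = true := by decide +kernel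
theorem pc27 : table.relOK chkPaths 270900 700 = true := by decide +kernel
theorem pc28 : table.relOK chkPaths 271600 700 = true := by decide +kernel
theorem pc29 : table.relOK chkPaths 272300 700 = true := by decide +kernel
theorem pc30 : table.relOK chkPaths 273000 700 = true := by decide +kernel
theorem pc31 : table.relOK chkPaths 273700 700 = true := by decide +kernel
theorem pc32 : table.relOK chkPaths 274400 700 = true := by decide +kernel
theorem pc33 : table.relOK chkPaths 275100 700 = true := by decide +kernel
theorem pc34 : table.relOK chkPaths 275800 700 = true := by decide +kernel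
theorem pc35 : table.relOK chkPaths 276500 700 = true := by decide +kernel
theorem pc36 : table.relOK chkPaths 277200 700 = true := by decide +kernel
theorem pc37 : table.relOK chkPaths 277900 700 = true := by decide +kernel
theorem pc38 : table.relOK chkPaths 278600 700 = true := by decide +kernel
theorem pc39 : table.relOK chkPaths 279300 700 = true := by decide +kernel

theorem range : ∀ p, 252000 ≤ p → p < 280000 → ∀ r ∈ chkPaths, table.walkT r p = p := by
  intro p h1 h2
  rcases Nat.lt_or_ge p 252700 with h | h
  · exact (Table.relOK_iff chkPaths 252000 700).mp pc0 p (by omega) (by omega)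
  rcases Nat.lt_or_ge p 253400 with h | h
  · exact (Table.relOK_iff chkPaths 252700 700).mp pc1 p (by omega) (by omega)
  rcases Nat.lt_or_ge p 254100 with h | h
  · exact (Table.relOK_iff chkPaths 253400 700).mp pc2 p (by omega) (by omega)
  rcases Nat.lt_or_ge p 254800 with h | h
  · exact (Table.relOK_iff chkPaths 254100 700).mp pc3 p (by omega) (by omega)
  rcases Nat.lt_or_ge p 255500 with h | h
  · exact (Table.relOK_iff chkPaths 254800 700).mp pc4 p (by omega) (by omega)
  rcases Nat.lt_or_ge p 256200 with h | h
  · exact (Table.relOK_iff chkPaths 255500 700).mp pc5 p (by omega) (by omega)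
  rcases Nat.lt_or_ge p 256900 with h | h
  · exact (Table.relOK_iff chkPaths 256200 700).mp pc6 p (by omega) (by omega)
  rcases Nat.lt_or_ge p 257600 with h | h
  · exact (Table.relOK_iff chkPaths 256900 700).mp pc7 p (by omega) (by omega)
  rcases Nat.lt_or_ge p 258300 with h | h
  · exact (Table.relOK_iff chkPaths 257600 700).mp pc8 p (by omega) (by omega)
  rcases Nat.lt_or_ge p 259000 with h | h
  · exact (Table.relOK_iff chkPaths 258300 700).mp pc9 p (by omega) (by omega)
  rcases Nat.lt_or_ge p 259700 with h | h
  · exact (Table.relOK_iff chkPaths 259000 700).mp pc10 p (by omega) (by omega)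
  rcases Nat.lt_or_ge p 260400 with h | h
  · exact (Table.relOK_iff chkPaths 259700 700).mp pc11 p (by omega) (by omega)
  rcases Nat.lt_or_ge p 261100 with h | h
  · exact (Table.relOK_iff chkPaths 260400 700).mp pc12 p (by omega) (by omega)
  rcases Nat.lt_or_ge p 261800 with h | h
  · exact (Table.relOK_iff chkPaths 261100 700).mp pc13 p (by omega) (by omega)
  rcases Nat.lt_or_ge p 262500 with h | h
  · exact (Table.relOK_iff chkPaths 261800 700).mp pc14 p (by omega) (by omega)
  rcases Nat.lt_or_ge p 263200 with h | h
  · exact (Table.relOK_iff chkPaths 262500 700).mp pc15 p (by omega) (by omega)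
  rcases Nat.lt_or_ge p 263900 with h | h
  · exact (Table.relOK_iff chkPaths 263200 700).mp pc16 p (by omega) (by omega)
  rcases Nat.lt_or_ge p 264600 with h | h
  · exact (Table.relOK_iff chkPaths 263900 700).mp pc17 p (by omega) (by omega)
  rcases Nat.lt_or_ge p 265300 with h | h
  · exact (Table.relOK_iff chkPaths 264600 700).mp pc18 p (by omega) (by omega)
  rcases Nat.lt_or_ge p 266000 with h | h
  · exact (Table.relOK_iff chkPaths 265300 700).mp pc19 p (by omega) (by omega)
  rcases Nat.lt_or_ge p 266700 with h | h
  · exact (Table.relOK_iff chkPaths 266000 700).mp pc20 p (by omega) (by omega)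
  rcases Nat.lt_or_ge p 267400 with h | h
  · exact (Table.relOK_iff chkPaths 266700 700).mp pc21 p (by omega) (by omega)
  rcases Nat.lt_or_ge p 268100 with h | h
  · exact (Table.relOK_iff chkPaths 267400 700).mp pc22 p (by omega) (by omega)
  rcases Nat.lt_or_ge p 268800 with h | h
  · exact (Table.relOK_iff chkPaths 268100 700).mp pc23 p (by omega) (by omega)
  rcases Nat.lt_or_ge p 269500 with h | h
  · exact (Table.relOK_iff chkPaths 268800 700).mp pc24 p (by omega) (by omega)
  rcases Nat.lt_or_ge p 270200 with h | h
  · exact (Table.relOK_iff chkPaths 269500 700).mp pc25 p (by omega) (by omega)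
  rcases Nat.lt_or_ge p 270900 with h | h
  · exact (Table.relOK_iff chkPaths 270200 700).mp pc26 p (by omega) (by omega)
  rcases Nat.lt_or_ge p 271600 with h | h
  · exact (Table.relOK_iff chkPaths 270900 700).mp pc27 p (by omega) (by omega)
  rcases Nat.lt_or_ge p 272300 with h | h
  · exact (Table.relOK_iff chkPaths 271600 700).mp pc28 p (by omega) (by omega)
  rcases Nat.lt_or_ge p 273000 with h | h
  · exact (Table.relOK_iff chkPaths 272300 700).mp pc29 p (by omega) (by omega)
  rcases Nat.lt_or_ge p 273700 with h | h
  · exact (Table.relOK_iff chkPaths 273000 700).mp pc30 p (by omega) (by omega)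
  rcases Nat.lt_or_ge p 274400 with h | h
  · exact (Table.relOK_iff chkPaths 273700 700).mp pc31 p (by omega) (by omega)
  rcases Nat.lt_or_ge p 275100 with h | h
  · exact (Table.relOK_iff chkPaths 274400 700).mp pc32 p (by omega) (by omega)
  rcases Nat.lt_or_ge p 275800 with h | h
  · exact (Table.relOK_iff chkPaths 275100 700).mp pc33 p (by omega) (by omega)
  rcases Nat.lt_or_ge p 276500 with h | h
  · exact (Table.relOK_iff chkPaths 275800 700).mp pc34 p (by omega) (by omega)
  rcases Nat.lt_or_ge p 277200 with h | h
  · exact (Table.relOK_iff chkPaths 276500 700).mp pc35 p (by omega) (by omega)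
  rcases Nat.lt_or_ge p 277900 with h | h
  · exact (Table.relOK_iff chkPaths 277200 700).mp pc36 p (by omega) (by omega)
  rcases Nat.lt_or_ge p 278600 with h | h
  · exact (Table.relOK_iff chkPaths 277900 700).mp pc37 p (by omega) (by omega)
  rcases Nat.lt_or_ge p 279300 with h | h
  · exact (Table.relOK_iff chkPaths 278600 700).mp pc38 p (by omega) (by omega)
  exact (Table.relOK_iff chkPaths 279300 700).mp pc39 p (by omega) (by omega)

end Cfsg.Agent.Lib.Helper16.HNP.C14
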