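import Cfsg.Agent.Lib.Helper28.TC2Range
import Cfsg.Agent.Lib.Helper16.HNP.Table
set_option autoImplicit false
set_option maxRecDepth 100000
set_option maxHeartbeats 0
set_option Elab.async false

namespace Cfsg.Agent.Lib.Helper16.HNP.C5
open Cfsg.Agent.Lib.Helper28.TC2Upper Cfsg.Agent.Lib.Helper28.TC2Lower Cfsg.Agent.Lib.Helper28.TC2Range Cfsg.Agent.Lib.Helper16.HNP.Table

theorem pc0 : table.relOK chkPaths 0 700 = true := by decide +kernel
theorem pc1 : table.relOK chkPaths 700 700 = true := by decide +kernel
theorem pc2 : table.relOK chkPaths 1400 700 = true := by decide +kernel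
theorem pc3 : table.relOK chkPaths 2100 700 = true := by decide +kernel
theorem pc4 : table.relOK chkPaths 2800 700 = true := by decide +kernel
theorem pc5 : table.relOK chkPaths 3500 700 = true := by decide +kernel
theorem pc6 : table.relOK chkPaths 4200 700 = true := by decide +kernel
theorem pc7 : table.relOK chkPaths 4900 700 = true := by decide +kernel
theorem pc8 : table.relOK chkPaths 5600 700 = true := by decide +kernel
theorem pc9 : table.relOK chkPaths 6300 700 = true := by decide +kernel
theorem pc10 : table.relOK chkPaths 7000 700 = true := by decide +kernel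
theorem pc11 : table.relOK chkPaths 7700 700 = true := by decide +kernel
theorem pc12 : table.relOK chkPaths 8400 700 = true := by decide +kernel
theorem pc13 : table.relOK chkPaths 9100 700 = true := by decide +kernel
theorem pc14 : table.relOK chkPaths 9800 700 = true := by decide +kernel
theorem pc15 : table.relOK chkPaths 10500 700 = true := by decide +kernel
theorem pc16 : table.relOK chkPaths 11200 700 = true := by decide +kernel
theorem pc17 : table.relOK chkPaths 11900 700 = true := by decide +kernel
theorem pc18 : table.relOK chkPaths 12600 700 = true := by decide +kernel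
theorem pc19 : table.relOK chkPaths 13300 700 = true := by decide +kernel
theorem pc20 : table.relOK chkPaths 14000 700 = true := by decide +kernel
theorem pc21 : table.relOK chkPaths 14700 700 = true := by decide +kernel
theorem pc22 : table.relOK chkPaths 15400 700 = true := by decide +kernel
theorem pc23 : table.relOK chkPaths 16100 700 = true := by decide +kernel
theorem pc24 : table.relOK chkPaths 16800 700 = true := by decide +kernel
theorem pc25 : table.relOK chkPaths 17500 700 = true := by decide +kernel
theorem pc26 : table.relOK chkPaths 18200 700 = true := by decide +kernel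
theorem pc27 : table.relOK chkPaths 18900 700 = true := by decide +kernel
theorem pc28 : table.relOK chkPaths 19600 700 = true := by decide +kernel
theorem pc29 : table.relOK chkPaths 20300 700 = true := by decide +kernel
theorem pc30 : table.relOK chkPaths 21000 700 = true := by decide +kernel
theorem pc31 : table.relOK chkPaths 21700 700 = true := by decide +kernel
theorem pc32 : table.relOK chkPaths 22400 700 = true := by decide +kernel
theorem pc33 : table.relOK chkPaths 23100 700 = true := by decide +kernel
theorem pc34 : table.relOK chkPaths 23800 700 = true := by decide +kernel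
theorem pc35 : table.relOK chkPaths 24500 700 = true := by decide +kernel
theorem pc36 : table.relOK chkPaths 25200 700 = true := by decide +kernel
theorem pc37 : table.relOK chkPaths 25900 700 = true := by decide +kernel
theorem pc38 : table.relOK chkPaths 26600 700 = true := by decide +kernel
theorem pc39 : table.relOK chkPaths 27300 700 = true := by decide +kernel

theorem range : ∀ p, 0 ≤ p → p < 28000 → ∀ r ∈ chkPaths, table.walkT r p = p := by
  intro p h1 h2
  rcases Nat.lt_or_ge p 700 with h | h
  · exact (Table.relOK_iff chkPaths 0 700).mp pc0 p (by omega) (by omega)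
  rcases Nat.lt_or_ge p 1400 with h | h
  · exact (Table.relOK_iff chkPaths 700 700).mp pc1 p (by omega) (by omega)
  rcases Nat.lt_or_ge p 2100 with h | h
  · exact (Table.relOK_iff chkPaths 1400 700).mp pc2 p (by omega) (by omega)
  rcases Nat.lt_or_ge p 2800 with h | h
  · exact (Table.relOK_iff chkPaths 2100 700).mp pc3 p (by omega) (by omega)
  rcases Nat.lt_or_ge p 3500 with h | h
  · exact (Table.relOK_iff chkPaths 2800 700).mp pc4 p (by omega) (by omega)
  rcases Nat.lt_or_ge p 4200 with h | h
  · exact (Table.relOK_iff chkPaths 3500 700).mp pc5 p (by omega) (by omega)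
  rcases Nat.lt_or_ge p 4900 with h | h
  · exact (Table.relOK_iff chkPaths 4200 700).mp pc6 p (by omega) (by omega)
  rcases Nat.lt_or_ge p 5600 with h | h
  · exact (Table.relOK_iff chkPaths 4900 700).mp pc7 p (by omega) (by omega)
  rcases Nat.lt_or_ge p 6300 with h | h
  · exact (Table.relOK_iff chkPaths 5600 700).mp pc8 p (by omega) (by omega)
  rcases Nat.lt_or_ge p 7000 with h | h
  · exact (Table.relOK_iff chkPaths 6300 700).mp pc9 p (by omega) (by omega)
  rcases Nat.lt_or_ge p 7700 with h | h
  · exact (Table.relOK_iff chkPaths 7000 700).mp pc10 p (by omega) (by omega)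
  rcases Nat.lt_or_ge p 8400 with h | h
  · exact (Table.relOK_iff chkPaths 7700 700).mp pc11 p (by omega) (by omega)
  rcases Nat.lt_or_ge p 9100 with h | h
  · exact (Table.relOK_iff chkPaths 8400 700).mp pc12 p (by omega) (by omega)
  rcases Nat.lt_or_ge p 9800 with h | h
  · exact (Table.relOK_iff chkPaths 9100 700).mp pc13 p (by omega) (by omega)
  rcases Nat.lt_or_ge p 10500 with h | h
  · exact (Table.relOK_iff chkPaths 9800 700).mp pc14 p (by omega) (by omega)
  rcases Nat.lt_or_ge p 11200 with h | h
  · exact (Table.relOK_iff chkPaths 10500 700).mp pc15 p (by omega) (by omega)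
  rcases Nat.lt_or_ge p 11900 with h | h
  · exact (Table.relOK_iff chkPaths 11200 700).mp pc16 p (by omega) (by omega)
  rcases Nat.lt_or_ge p 12600 with h | h
  · exact (Table.relOK_iff chkPaths 11900 700).mp pc17 p (by omega) (by omega)
  rcases Nat.lt_or_ge p 13300 with h | h
  · exact (Table.relOK_iff chkPaths 12600 700).mp pc18 p (by omega) (by omega)
  rcases Nat.lt_or_ge p 14000 with h | h
  · exact (Table.relOK_iff chkPaths 13300 700).mp pc19 p (by omega) (by omega)
  rcases Nat.lt_or_ge p 14700 with h | h
  · exact (Table.relOK_iff chkPaths 14000 700).mp pc20 p (by omega) (by omega)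
  rcases Nat.lt_or_ge p 15400 with h | h
  · exact (Table.relOK_iff chkPaths 14700 700).mp pc21 p (by omega) (by omega)
  rcases Nat.lt_or_ge p 16100 with h | h
  · exact (Table.relOK_iff chkPaths 15400 700).mp pc22 p (by omega) (by omega)
  rcases Nat.lt_or_ge p 16800 with h | h
  · exact (Table.relOK_iff chkPaths 16100 700).mp pc23 p (by omega) (by omega)
  rcases Nat.lt_or_ge p 17500 with h | h
  · exact (Table.relOK_iff chkPaths 16800 700).mp pc24 p (by omega) (by omega)
  rcases Nat.lt_or_ge p 18200 with h | h
  · exact (Table.relOK_iff chkPaths 17500 700).mp pc25 p (by omega) (by omega)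
  rcases Nat.lt_or_ge p 18900 with h | h
  · exact (Table.relOK_iff chkPaths 18200 700).mp pc26 p (by omega) (by omega)
  rcases Nat.lt_or_ge p 19600 with h | h
  · exact (Table.relOK_iff chkPaths 18900 700).mp pc27 p (by omega) (by omega)
  rcases Nat.lt_or_ge p 20300 with h | h
  · exact (Table.relOK_iff chkPaths 19600 700).mp pc28 p (by omega) (by omega)
  rcases Nat.lt_or_ge p 21000 with h | h
  · exact (Table.relOK_iff chkPaths 20300 700).mp pc29 p (by omega) (by omega)
  rcases Nat.lt_or_ge p 21700 with h | h
  · exact (Table.relOK_iff chkPaths 21000 700).mp pc30 p (by omega) (by omega)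
  rcases Nat.lt_or_ge p 22400 with h | h
  · exact (Table.relOK_iff chkPaths 21700 700).mp pc31 p (by omega) (by omega)
  rcases Nat.lt_or_ge p 23100 with h | h
  · exact (Table.relOK_iff chkPaths 22400 700).mp pc32 p (by omega) (by omega)
  rcases Nat.lt_or_ge p 23800 with h | h
  · exact (Table.relOK_iff chkPaths 23100 700).mp pc33 p (by omega) (by omega)
  rcases Nat.lt_or_ge p 24500 with h | h
  · exact (Table.relOK_iff chkPaths 23800 700).mp pc34 p (by omega) (by omega)
  rcases Nat.lt_or_ge p 25200 with h | h
  · exact (Table.relOK_iff chkPaths 24500 700).mp pc35 p (by omega) (by omega)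
  rcases Nat.lt_or_ge p 25900 with h | h
  · exact (Table.relOK_iff chkPaths 25200 700).mp pc36 p (by omega) (by omega)
  rcases Nat.lt_or_ge p 26600 with h | h
  · exact (Table.relOK_iff chkPaths 25900 700).mp pc37 p (by omega) (by omega)
  rcases Nat.lt_or_ge p 27300 with h | h
  · exact (Table.relOK_iff chkPaths 26600 700).mp pc38 p (by omega) (by omega)
  exact (Table.relOK_iff chkPaths 27300 700).mp pc39 p (by omega) (by omega)

end Cfsg.Agent.Lib.Helper16.HNP.C5
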