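import Cfsg.Agent.Lib.Helper28.TC2Range
import Cfsg.Agent.Lib.Helper16.HNP.Table
import Cfsg.Agent.Lib.Helper16.HNP.C5
set_option autoImplicit false
set_option maxRecDepth 100000
set_option maxHeartbeats 0
set_option Elab.async false

namespace Cfsg.Agent.Lib.Helper16.HNP.C15
open Cfsg.Agent.Lib.Helper28.TC2Upper Cfsg.Agent.Lib.Helper28.TC2Lower Cfsg.Agent.Lib.Helper28.TC2Range Cfsg.Agent.Lib.Helper16.HNP.Table

theorem pc0 : table.relOK chkPaths 280000 700 = true := by decide +kernel
theorem pc1 : table.relOK chkPaths 280700 700 = true := by decide +kernel
theorem pc2 : table.relOK chkPaths 281400 700 = true := by decide +kernel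
theorem pc3 : table.relOK chkPaths 282100 700 = true := by decide +kernel
theorem pc4 : table.relOK chkPaths 282800 700 = true := by decide +kernel
theorem pc5 : table.relOK chkPaths 283500 700 = true := by decide +kernel
theorem pc6 : table.relOK chkPaths 284200 700 = true := by decide +kernel
theorem pc7 : table.relOK chkPaths 284900 700 = true := by decide +kernel
theorem pc8 : table.relOK chkPaths 285600 700 = true := by decide +kernel
theorem pc9 : table.relOK chkPaths 286300 700 = true := by decide +kernel
theorem pc10 : table.relOK chkPaths 287000 700 = true := by decide +kernel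
theorem pc11 : table.relOK chkPaths 287700 700 = true := by decide +kernel
theorem pc12 : table.relOK chkPaths 288400 700 = true := by decide +kernel
theorem pc13 : table.relOK chkPaths 289100 700 = true := by decide +kernel
theorem pc14 : table.relOK chkPaths 289800 700 = true := by decide +kernel
theorem pc15 : table.relOK chkPaths 290500 700 = true := by decide +kernel
theorem pc16 : table.relOK chkPaths 291200 700 = true := by decide +kernel
theorem pc17 : table.relOK chkPaths 291900 700 = true := by decide +kernel
theorem pc18 : table.relOK chkPaths 292600 700 = true := by decide +kernel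
theorem pc19 : table.relOK chkPaths 293300 700 = true := by decide +kernel
theorem pc20 : table.relOK chkPaths 294000 700 = true := by decide +kernel
theorem pc21 : table.relOK chkPaths 294700 700 = true := by decide +kernel
theorem pc22 : table.relOK chkPaths 295400 700 = true := by decide +kernel
theorem pc23 : table.relOK chkPaths 296100 700 = true := by decide +kernel
theorem pc24 : table.relOK chkPaths 296800 700 = true := by decide +kernel
theorem pc25 : table.relOK chkPaths 297500 700 = true := by decide +kernel
theorem pc26 : table.relOK chkPaths 298200 700 = true := by decide +kernel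
theorem pc27 : table.relOK chkPaths 298900 700 = true := by decide +kernel
theorem pc28 : table.relOK chkPaths 299600 700 = true := by decide +kernel
theorem pc29 : table.relOK chkPaths 300300 700 = true := by decide +kernel
theorem pc30 : table.relOK chkPaths 301000 700 = true := by decide +kernel
theorem pc31 : table.relOK chkPaths 301700 700 = true := by decide +kernel
theorem pc32 : table.relOK chkPaths 302400 700 = true := by decide +kernel
theorem pc33 : table.relOK chkPaths 303100 700 = true := by decide +kernel
theorem pc34 : table.relOK chkPaths 303800 700 = true := by decide +kernel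
theorem pc35 : table.relOK chkPaths 304500 700 = true := by decide +kernel
theorem pc36 : table.relOK chkPaths 305200 700 = true := by decide +kernel
theorem pc37 : table.relOK chkPaths 305900 700 = true := by decide +kernel
theorem pc38 : table.relOK chkPaths 306600 700 = true := by decide +kernel
theorem pc39 : table.relOK chkPaths 307300 700 = true := by decide +kernel

theorem range : ∀ p, 280000 ≤ p → p < 308000 → ∀ r ∈ chkPaths, table.walkT r p = p := by
  intro p h1 h2
  rcases Nat.lt_or_ge p 280700 with h | h
  · exact (Table.relOK_iff chkPaths 280000 700).mp pc0 p (by omega) (by omega)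
  rcases Nat.lt_or_ge p 281400 with h | h
  · exact (Table.relOK_iff chkPaths 280700 700).mp pc1 p (by omega) (by omega)
  rcases Nat.lt_or_ge p 282100 with h | h
  · exact (Table.relOK_iff chkPaths 281400 700).mp pc2 p (by omega) (by omega)
  rcases Nat.lt_or_ge p 282800 with h | h
  · exact (Table.relOK_iff chkPaths 282100 700).mp pc3 p (by omega) (by omega)
  rcases Nat.lt_or_ge p 283500 with h | h
  · exact (Table.relOK_iff chkPaths 282800 700).mp pc4 p (by omega) (by omega)
  rcases Nat.lt_or_ge p 284200 with h | h
  · exact (Table.relOK_iff chkPaths 283500 700).mp pc5 p (by omega) (by omega)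
  rcases Nat.lt_or_ge p 284900 with h | h
  · exact (Table.relOK_iff chkPaths 284200 700).mp pc6 p (by omega) (by omega)
  rcases Nat.lt_or_ge p 285600 with h | h
  · exact (Table.relOK_iff chkPaths 284900 700).mp pc7 p (by omega) (by omega)
  rcases Nat.lt_or_ge p 286300 with h | h
  · exact (Table.relOK_iff chkPaths 285600 700).mp pc8 p (by omega) (by omega)
  rcases Nat.lt_or_ge p 287000 with h | h
  · exact (Table.relOK_iff chkPaths 286300 700).mp pc9 p (by omega) (by omega)
  rcases Nat.lt_or_ge p 287700 with h | h
  · exact (Table.relOK_iff chkPaths 287000 700).mp pc10 p (by omega) (by omega)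
  rcases Nat.lt_or_ge p 288400 with h | h
  · exact (Table.relOK_iff chkPaths 287700 700).mp pc11 p (by omega) (by omega)
  rcases Nat.lt_or_ge p 289100 with h | h
  · exact (Table.relOK_iff chkPaths 288400 700).mp pc12 p (by omega) (by omega)
  rcases Nat.lt_or_ge p 289800 with h | h
  · exact (Table.relOK_iff chkPaths 289100 700).mp pc13 p (by omega) (by omega)
  rcases Nat.lt_or_ge p 290500 with h | h
  · exact (Table.relOK_iff chkPaths 289800 700).mp pc14 p (by omega) (by omega)
  rcases Nat.lt_or_ge p 291200 with h | h
  · exact (Table.relOK_iff chkPaths 290500 700).mp pc15 p (by omega) (by omega)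
  rcases Nat.lt_or_ge p 291900 with h | h
  · exact (Table.relOK_iff chkPaths 291200 700).mp pc16 p (by omega) (by omega)
  rcases Nat.lt_or_ge p 292600 with h | h
  · exact (Table.relOK_iff chkPaths 291900 700).mp pc17 p (by omega) (by omega)
  rcases Nat.lt_or_ge p 293300 with h | h
  · exact (Table.relOK_iff chkPaths 292600 700).mp pc18 p (by omega) (by omega)
  rcases Nat.lt_or_ge p 294000 with h | h
  · exact (Table.relOK_iff chkPaths 293300 700).mp pc19 p (by omega) (by omega)
  rcases Nat.lt_or_ge p 294700 with h | h
  · exact (Table.relOK_iff chkPaths 294000 700).mp pc20 p (by omega) (by omega)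
  rcases Nat.lt_or_ge p 295400 with h | h
  · exact (Table.relOK_iff chkPaths 294700 700).mp pc21 p (by omega) (by omega)
  rcases Nat.lt_or_ge p 296100 with h | h
  · exact (Table.relOK_iff chkPaths 295400 700).mp pc22 p (by omega) (by omega)
  rcases Nat.lt_or_ge p 296800 with h | h
  · exact (Table.relOK_iff chkPaths 296100 700).mp pc23 p (by omega) (by omega)
  rcases Nat.lt_or_ge p 297500 with h | h
  · exact (Table.relOK_iff chkPaths 296800 700).mp pc24 p (by omega) (by omega)
  rcases Nat.lt_or_ge p 298200 with h | h
  · exact (Table.relOK_iff chkPaths 297500 700).mp pc25 p (by omega) (by omega)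
  rcases Nat.lt_or_ge p 298900 with h | h
  · exact (Table.relOK_iff chkPaths 298200 700).mp pc26 p (by omega) (by omega)
  rcases Nat.lt_or_ge p 299600 with h | h
  · exact (Table.relOK_iff chkPaths 298900 700).mp pc27 p (by omega) (by omega)
  rcases Nat.lt_or_ge p 300300 with h | h
  · exact (Table.relOK_iff chkPaths 299600 700).mp pc28 p (by omega) (by omega)
  rcases Nat.lt_or_ge p 301000 with h | h
  · exact (Table.relOK_iff chkPaths 300300 700).mp pc29 p (by omega) (by omega)
  rcases Nat.lt_or_ge p 301700 with h | h
  · exact (Table.relOK_iff chkPaths 301000 700).mp pc30 p (by omega) (by omega)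
  rcases Nat.lt_or_ge p 302400 with h | h
  · exact (Table.relOK_iff chkPaths 301700 700).mp pc31 p (by omega) (by omega)
  rcases Nat.lt_or_ge p 303100 with h | h
  · exact (Table.relOK_iff chkPaths 302400 700).mp pc32 p (by omega) (by omega)
  rcases Nat.lt_or_ge p 303800 with h | h
  · exact (Table.relOK_iff chkPaths 303100 700).mp pc33 p (by omega) (by omega)
  rcases Nat.lt_or_ge p 304500 with h | h
  · exact (Table.relOK_iff chkPaths 303800 700).mp pc34 p (by omega) (by omega)
  rcases Nat.lt_or_ge p 305200 with h | h
  · exact (Table.relOK_iff chkPaths 304500 700).mp pc35 p (by omega) (by omega)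
  rcases Nat.lt_or_ge p 305900 with h | h
  · exact (Table.relOK_iff chkPaths 305200 700).mp pc36 p (by omega) (by omega)
  rcases Nat.lt_or_ge p 306600 with h | h
  · exact (Table.relOK_iff chkPaths 305900 700).mp pc37 p (by omega) (by omega)
  rcases Nat.lt_or_ge p 307300 with h | h
  · exact (Table.relOK_iff chkPaths 306600 700).mp pc38 p (by omega) (by omega)
  exact (Table.relOK_iff chkPaths 307300 700).mp pc39 p (by omega) (by omega)

end Cfsg.Agent.Lib.Helper16.HNP.C15
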