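import Cfsg.Agent.Lib.Helper28.TC2Range
import Cfsg.Agent.Lib.Helper16.HNP.Table
set_option autoImplicit false
set_option maxRecDepth 100000
set_option maxHeartbeats 0
set_option Elab.async false

namespace Cfsg.Agent.Lib.Helper16.HNP.C6
open Cfsg.Agent.Lib.Helper28.TC2Upper Cfsg.Agent.Lib.Helper28.TC2Lower Cfsg.Agent.Lib.Helper28.TC2Range Cfsg.Agent.Lib.Helper16.HNP.Table

theorem pc0 : table.relOK chkPaths 28000 700 = true := by decide +kernel
theorem pc1 : table.relOK chkPaths 28700 700 = true := by decide +kernel
theorem pc2 : table.relOK chkPaths 29400 700 = true := by decide +kernel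
theorem pc3 : table.relOK chkPaths 30100 700 = true := by decide +kernel
theorem pc4 : table.relOK chkPaths 30800 700 = true := by decide +kernel
theorem pc5 : table.relOK chkPaths 31500 700 = true := by decide +kernel
theorem pc6 : table.relOK chkPaths 32200 700 = true := by decide +kernel
theorem pc7 : table.relOK chkPaths 32900 700 = true := by decide +kernel
theorem pc8 : table.relOK chkPaths 33600 700 = true := by decide +kernel
theorem pc9 : table.relOK chkPaths 34300 700 = true := by decide +kernel
theorem pc10 : table.relOK chkPaths 35000 700 = true := by decide +kernel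
theorem pc11 : table.relOK chkPaths 35700 700 = true := by decide +kernel
theorem pc12 : table.relOK chkPaths 36400 700 = true := by decide +kernel
theorem pc13 : table.relOK chkPaths 37100 700 = true := by decide +kernel
theorem pc14 : table.relOK chkPaths 37800 700 = true := by decide +kernel
theorem pc15 : table.relOK chkPaths 38500 700 = true := by decide +kernel
theorem pc16 : table.relOK chkPaths 39200 700 = true := by decide +kernel
theorem pc17 : table.relOK chkPaths 39900 700 = true := by decide +kernel
theorem pc18 : table.relOK chkPaths 40600 700 = true := by decide +kernel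
theorem pc19 : table.relOK chkPaths 41300 700 = true := by decide +kernel
theorem pc20 : table.relOK chkPaths 42000 700 = true := by decide +kernel
theorem pc21 : table.relOK chkPaths 42700 700 = true := by decide +kernel
theorem pc22 : table.relOK chkPaths 43400 700 = true := by decide +kernel
theorem pc23 : table.relOK chkPaths 44100 700 = true := by decide +kernel
theorem pc24 : table.relOK chkPaths 44800 700 = true := by decide +kernel
theorem pc25 : table.relOK chkPaths 45500 700 = true := by decide +kernel
theorem pc26 : table.relOK chkPaths 46200 700 = true := by decide +kernel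
theorem pc27 : table.relOK chkPaths 46900 700 = true := by decide +kernel
theorem pc28 : table.relOK chkPaths 47600 700 = true := by decide +kernel
theorem pc29 : table.relOK chkPaths 48300 700 = true := by decide +kernel
theorem pc30 : table.relOK chkPaths 49000 700 = true := by decide +kernel
theorem pc31 : table.relOK chkPaths 49700 700 = true := by decide +kernel
theorem pc32 : table.relOK chkPaths 50400 700 = true := by decide +kernel
theorem pc33 : table.relOK chkPaths 51100 700 = true := by decide +kernel
theorem pc34 : table.relOK chkPaths 51800 700 = true := by decide +kernel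
theorem pc35 : table.relOK chkPaths 52500 700 = true := by decide +kernel
theorem pc36 : table.relOK chkPaths 53200 700 = true := by decide +kernel
theorem pc37 : table.relOK chkPaths 53900 700 = true := by decide +kernel
theorem pc38 : table.relOK chkPaths 54600 700 = true := by decide +kernel
theorem pc39 : table.relOK chkPaths 55300 700 = true := by decide +kernel

theorem range : ∀ p, 28000 ≤ p → p < 56000 → ∀ r ∈ chkPaths, table.walkT r p = p := by
  intro p h1 h2
  rcases Nat.lt_or_ge p 28700 with h | h
  · exact (Table.relOK_iff chkPaths 28000 700).mp pc0 p (by omega) (by omega)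
  rcases Nat.lt_or_ge p 29400 with h | h
  · exact (Table.relOK_iff chkPaths 28700 700).mp pc1 p (by omega) (by omega)
  rcases Nat.lt_or_ge p 30100 with h | h
  · exact (Table.relOK_iff chkPaths 29400 700).mp pc2 p (by omega) (by omega)
  rcases Nat.lt_or_ge p 30800 with h | h
  · exact (Table.relOK_iff chkPaths 30100 700).mp pc3 p (by omega) (by omega)
  rcases Nat.lt_or_ge p 31500 with h | h
  · exact (Table.relOK_iff chkPaths 30800 700).mp pc4 p (by omega) (by omega)
  rcases Nat.lt_or_ge p 32200 with h | h
  · exact (Table.relOK_iff chkPaths 31500 700).mp pc5 p (by omega) (by omega)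
  rcases Nat.lt_or_ge p 32900 with h | h
  · exact (Table.relOK_iff chkPaths 32200 700).mp pc6 p (by omega) (by omega)
  rcases Nat.lt_or_ge p 33600 with h | h
  · exact (Table.relOK_iff chkPaths 32900 700).mp pc7 p (by omega) (by omega)
  rcases Nat.lt_or_ge p 34300 with h | h
  · exact (Table.relOK_iff chkPaths 33600 700).mp pc8 p (by omega) (by omega)
  rcases Nat.lt_or_ge p 35000 with h | h
  · exact (Table.relOK_iff chkPaths 34300 700).mp pc9 p (by omega) (by omega)
  rcases Nat.lt_or_ge p 35700 with h | h
  · exact (Table.relOK_iff chkPaths 35000 700).mp pc10 p (by omega) (by omega)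
  rcases Nat.lt_or_ge p 36400 with h | h
  · exact (Table.relOK_iff chkPaths 35700 700).mp pc11 p (by omega) (by omega)
  rcases Nat.lt_or_ge p 37100 with h | h
  · exact (Table.relOK_iff chkPaths 36400 700).mp pc12 p (by omega) (by omega)
  rcases Nat.lt_or_ge p 37800 with h | h
  · exact (Table.relOK_iff chkPaths 37100 700).mp pc13 p (by omega) (by omega)
  rcases Nat.lt_or_ge p 38500 with h | h
  · exact (Table.relOK_iff chkPaths 37800 700).mp pc14 p (by omega) (by omega)
  rcases Nat.lt_or_ge p 39200 with h | h
  · exact (Table.relOK_iff chkPaths 38500 700).mp pc15 p (by omega) (by omega)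
  rcases Nat.lt_or_ge p 39900 with h | h
  · exact (Table.relOK_iff chkPaths 39200 700).mp pc16 p (by omega) (by omega)
  rcases Nat.lt_or_ge p 40600 with h | h
  · exact (Table.relOK_iff chkPaths 39900 700).mp pc17 p (by omega) (by omega)
  rcases Nat.lt_or_ge p 41300 with h | h
  · exact (Table.relOK_iff chkPaths 40600 700).mp pc18 p (by omega) (by omega)
  rcases Nat.lt_or_ge p 42000 with h | h
  · exact (Table.relOK_iff chkPaths 41300 700).mp pc19 p (by omega) (by omega)
  rcases Nat.lt_or_ge p 42700 with h | h
  · exact (Table.relOK_iff chkPaths 42000 700).mp pc20 p (by omega) (by omega)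
  rcases Nat.lt_or_ge p 43400 with h | h
  · exact (Table.relOK_iff chkPaths 42700 700).mp pc21 p (by omega) (by omega)
  rcases Nat.lt_or_ge p 44100 with h | h
  · exact (Table.relOK_iff chkPaths 43400 700).mp pc22 p (by omega) (by omega)
  rcases Nat.lt_or_ge p 44800 with h | h
  · exact (Table.relOK_iff chkPaths 44100 700).mp pc23 p (by omega) (by omega)
  rcases Nat.lt_or_ge p 45500 with h | h
  · exact (Table.relOK_iff chkPaths 44800 700).mp pc24 p (by omega) (by omega)
  rcases Nat.lt_or_ge p 46200 with h | h
  · exact (Table.relOK_iff chkPaths 45500 700).mp pc25 p (by omega) (by omega)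
  rcases Nat.lt_or_ge p 46900 with h | h
  · exact (Table.relOK_iff chkPaths 46200 700).mp pc26 p (by omega) (by omega)
  rcases Nat.lt_or_ge p 47600 with h | h
  · exact (Table.relOK_iff chkPaths 46900 700).mp pc27 p (by omega) (by omega)
  rcases Nat.lt_or_ge p 48300 with h | h
  · exact (Table.relOK_iff chkPaths 47600 700).mp pc28 p (by omega) (by omega)
  rcases Nat.lt_or_ge p 49000 with h | h
  · exact (Table.relOK_iff chkPaths 48300 700).mp pc29 p (by omega) (by omega)
  rcases Nat.lt_or_ge p 49700 with h | h
  · exact (Table.relOK_iff chkPaths 49000 700).mp pc30 p (by omega) (by omega)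
  rcases Nat.lt_or_ge p 50400 with h | h
  · exact (Table.relOK_iff chkPaths 49700 700).mp pc31 p (by omega) (by omega)
  rcases Nat.lt_or_ge p 51100 with h | h
  · exact (Table.relOK_iff chkPaths 50400 700).mp pc32 p (by omega) (by omega)
  rcases Nat.lt_or_ge p 51800 with h | h
  · exact (Table.relOK_iff chkPaths 51100 700).mp pc33 p (by omega) (by omega)
  rcases Nat.lt_or_ge p 52500 with h | h
  · exact (Table.relOK_iff chkPaths 51800 700).mp pc34 p (by omega) (by omega)
  rcases Nat.lt_or_ge p 53200 with h | h
  · exact (Table.relOK_iff chkPaths 52500 700).mp pc35 p (by omega) (by omega)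
  rcases Nat.lt_or_ge p 53900 with h | h
  · exact (Table.relOK_iff chkPaths 53200 700).mp pc36 p (by omega) (by omega)
  rcases Nat.lt_or_ge p 54600 with h | h
  · exact (Table.relOK_iff chkPaths 53900 700).mp pc37 p (by omega) (by omega)
  rcases Nat.lt_or_ge p 55300 with h | h
  · exact (Table.relOK_iff chkPaths 54600 700).mp pc38 p (by omega) (by omega)
  exact (Table.relOK_iff chkPaths 55300 700).mp pc39 p (by omega) (by omega)

end Cfsg.Agent.Lib.Helper16.HNP.C6
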