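import Cfsg.Agent.Lib.Helper28.TC2Range
import Cfsg.Agent.Lib.Helper16.HNP.Table
import Cfsg.Agent.Lib.Helper16.HNP.C6
set_option autoImplicit false
set_option maxRecDepth 100000
set_option maxHeartbeats 0
set_option Elab.async false

namespace Cfsg.Agent.Lib.Helper16.HNP.C16
open Cfsg.Agent.Lib.Helper28.TC2Upper Cfsg.Agent.Lib.Helper28.TC2Lower Cfsg.Agent.Lib.Helper28.TC2Range Cfsg.Agent.Lib.Helper16.HNP.Table

theorem pc0 : table.relOK chkPaths 308000 700 = true := by decide +kernel
theorem pc1 : table.relOK chkPaths 308700 700 = true := by decide +kernel
theorem pc2 : table.relOK chkPaths 309400 700 = true := by decide +kernel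
theorem pc3 : table.relOK chkPaths 310100 700 = true := by decide +kernel
theorem pc4 : table.relOK chkPaths 310800 700 = true := by decide +kernel
theorem pc5 : table.relOK chkPaths 311500 700 = true := by decide +kernel
theorem pc6 : table.relOK chkPaths 312200 700 = true := by decide +kernel
theorem pc7 : table.relOK chkPaths 312900 700 = true := by decide +kernel
theorem pc8 : table.relOK chkPaths 313600 700 = true := by decide +kernel
theorem pc9 : table.relOK chkPaths 314300 700 = true := by decide +kernel
theorem pc10 : table.relOK chkPaths 315000 700 = true := by decide +kernel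
theorem pc11 : table.relOK chkPaths 315700 700 = true := by decide +kernel
theorem pc12 : table.relOK chkPaths 316400 700 = true := by decide +kernel
theorem pc13 : table.relOK chkPaths 317100 700 = true := by decide +kernel
theorem pc14 : table.relOK chkPaths 317800 700 = true := by decide +kernel
theorem pc15 : table.relOK chkPaths 318500 700 = true := by decide +kernel
theorem pc16 : table.relOK chkPaths 319200 700 = true := by decide +kernel
theorem pc17 : table.relOK chkPaths 319900 700 = true := by decide +kernel
theorem pc18 : table.relOK chkPaths 320600 700 = true := by decide +kernel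
theorem pc19 : table.relOK chkPaths 321300 700 = true := by decide +kernel
theorem pc20 : table.relOK chkPaths 322000 700 = true := by decide +kernel
theorem pc21 : table.relOK chkPaths 322700 700 = true := by decide +kernel
theorem pc22 : table.relOK chkPaths 323400 700 = true := by decide +kernel
theorem pc23 : table.relOK chkPaths 324100 700 = true := by decide +kernel
theorem pc24 : table.relOK chkPaths 324800 700 = true := by decide +kernel
theorem pc25 : table.relOK chkPaths 325500 700 = true := by decide +kernel
theorem pc26 : table.relOK chkPaths 326200 700 = true := by decide +kernel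
theorem pc27 : table.relOK chkPaths 326900 700 = true := by decide +kernel
theorem pc28 : table.relOK chkPaths 327600 700 = true := by decide +kernel
theorem pc29 : table.relOK chkPaths 328300 700 = true := by decide +kernel
theorem pc30 : table.relOK chkPaths 329000 700 = true := by decide +kernel
theorem pc31 : table.relOK chkPaths 329700 700 = true := by decide +kernel
theorem pc32 : table.relOK chkPaths 330400 700 = true := by decide +kernel
theorem pc33 : table.relOK chkPaths 331100 700 = true := by decide +kernel
theorem pc34 : table.relOK chkPaths 331800 700 = true := by decide +kernel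
theorem pc35 : table.relOK chkPaths 332500 700 = true := by decide +kernel
theorem pc36 : table.relOK chkPaths 333200 700 = true := by decide +kernel
theorem pc37 : table.relOK chkPaths 333900 700 = true := by decide +kernel
theorem pc38 : table.relOK chkPaths 334600 700 = true := by decide +kernel
theorem pc39 : table.relOK chkPaths 335300 700 = true := by decide +kernel

theorem range : ∀ p, 308000 ≤ p → p < 336000 → ∀ r ∈ chkPaths, table.walkT r p = p := by
  intro p h1 h2
  rcases Nat.lt_or_ge p 308700 with h | h
  · exact (Table.relOK_iff chkPaths 308000 700).mp pc0 p (by omega) (by omega)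
  rcases Nat.lt_or_ge p 309400 with h | h
  · exact (Table.relOK_iff chkPaths 308700 700).mp pc1 p (by omega) (by omega)
  rcases Nat.lt_or_ge p 310100 with h | h
  · exact (Table.relOK_iff chkPaths 309400 700).mp pc2 p (by omega) (by omega)
  rcases Nat.lt_or_ge p 310800 with h | h
  · exact (Table.relOK_iff chkPaths 310100 700).mp pc3 p (by omega) (by omega)
  rcases Nat.lt_or_ge p 311500 with h | h
  · exact (Table.relOK_iff chkPaths 310800 700).mp pc4 p (by omega) (by omega)
  rcases Nat.lt_or_ge p 312200 with h | h
  · exact (Table.relOK_iff chkPaths 311500 700).mp pc5 p (by omega) (by omega)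
  rcases Nat.lt_or_ge p 312900 with h | h
  · exact (Table.relOK_iff chkPaths 312200 700).mp pc6 p (by omega) (by omega)
  rcases Nat.lt_or_ge p 313600 with h | h
  · exact (Table.relOK_iff chkPaths 312900 700).mp pc7 p (by omega) (by omega)
  rcases Nat.lt_or_ge p 314300 with h | h
  · exact (Table.relOK_iff chkPaths 313600 700).mp pc8 p (by omega) (by omega)
  rcases Nat.lt_or_ge p 315000 with h | h
  · exact (Table.relOK_iff chkPaths 314300 700).mp pc9 p (by omega) (by omega)
  rcases Nat.lt_or_ge p 315700 with h | h
  · exact (Table.relOK_iff chkPaths 315000 700).mp pc10 p (by omega) (by omega)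
  rcases Nat.lt_or_ge p 316400 with h | h
  · exact (Table.relOK_iff chkPaths 315700 700).mp pc11 p (by omega) (by omega)
  rcases Nat.lt_or_ge p 317100 with h | h
  · exact (Table.relOK_iff chkPaths 316400 700).mp pc12 p (by omega) (by omega)
  rcases Nat.lt_or_ge p 317800 with h | h
  · exact (Table.relOK_iff chkPaths 317100 700).mp pc13 p (by omega) (by omega)
  rcases Nat.lt_or_ge p 318500 with h | h
  · exact (Table.relOK_iff chkPaths 317800 700).mp pc14 p (by omega) (by omega)
  rcases Nat.lt_or_ge p 319200 with h | h
  · exact (Table.relOK_iff chkPaths 318500 700).mp pc15 p (by omega) (by omega)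
  rcases Nat.lt_or_ge p 319900 with h | h
  · exact (Table.relOK_iff chkPaths 319200 700).mp pc16 p (by omega) (by omega)
  rcases Nat.lt_or_ge p 320600 with h | h
  · exact (Table.relOK_iff chkPaths 319900 700).mp pc17 p (by omega) (by omega)
  rcases Nat.lt_or_ge p 321300 with h | h
  · exact (Table.relOK_iff chkPaths 320600 700).mp pc18 p (by omega) (by omega)
  rcases Nat.lt_or_ge p 322000 with h | h
  · exact (Table.relOK_iff chkPaths 321300 700).mp pc19 p (by omega) (by omega)
  rcases Nat.lt_or_ge p 322700 with h | h
  · exact (Table.relOK_iff chkPaths 322000 700).mp pc20 p (by omega) (by omega)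
  rcases Nat.lt_or_ge p 323400 with h | h
  · exact (Table.relOK_iff chkPaths 322700 700).mp pc21 p (by omega) (by omega)
  rcases Nat.lt_or_ge p 324100 with h | h
  · exact (Table.relOK_iff chkPaths 323400 700).mp pc22 p (by omega) (by omega)
  rcases Nat.lt_or_ge p 324800 with h | h
  · exact (Table.relOK_iff chkPaths 324100 700).mp pc23 p (by omega) (by omega)
  rcases Nat.lt_or_ge p 325500 with h | h
  · exact (Table.relOK_iff chkPaths 324800 700).mp pc24 p (by omega) (by omega)
  rcases Nat.lt_or_ge p 326200 with h | h
  · exact (Table.relOK_iff chkPaths 325500 700).mp pc25 p (by omega) (by omega)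
  rcases Nat.lt_or_ge p 326900 with h | h
  · exact (Table.relOK_iff chkPaths 326200 700).mp pc26 p (by omega) (by omega)
  rcases Nat.lt_or_ge p 327600 with h | h
  · exact (Table.relOK_iff chkPaths 326900 700).mp pc27 p (by omega) (by omega)
  rcases Nat.lt_or_ge p 328300 with h | h
  · exact (Table.relOK_iff chkPaths 327600 700).mp pc28 p (by omega) (by omega)
  rcases Nat.lt_or_ge p 329000 with h | h
  · exact (Table.relOK_iff chkPaths 328300 700).mp pc29 p (by omega) (by omega)
  rcases Nat.lt_or_ge p 329700 with h | h
  · exact (Table.relOK_iff chkPaths 329000 700).mp pc30 p (by omega) (by omega)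
  rcases Nat.lt_or_ge p 330400 with h | h
  · exact (Table.relOK_iff chkPaths 329700 700).mp pc31 p (by omega) (by omega)
  rcases Nat.lt_or_ge p 331100 with h | h
  · exact (Table.relOK_iff chkPaths 330400 700).mp pc32 p (by omega) (by omega)
  rcases Nat.lt_or_ge p 331800 with h | h
  · exact (Table.relOK_iff chkPaths 331100 700).mp pc33 p (by omega) (by omega)
  rcases Nat.lt_or_ge p 332500 with h | h
  · exact (Table.relOK_iff chkPaths 331800 700).mp pc34 p (by omega) (by omega)
  rcases Nat.lt_or_ge p 333200 with h | h
  · exact (Table.relOK_iff chkPaths 332500 700).mp pc35 p (by omega) (by omega)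
  rcases Nat.lt_or_ge p 333900 with h | h
  · exact (Table.relOK_iff chkPaths 333200 700).mp pc36 p (by omega) (by omega)
  rcases Nat.lt_or_ge p 334600 with h | h
  · exact (Table.relOK_iff chkPaths 333900 700).mp pc37 p (by omega) (by omega)
  rcases Nat.lt_or_ge p 335300 with h | h
  · exact (Table.relOK_iff chkPaths 334600 700).mp pc38 p (by omega) (by omega)
  exact (Table.relOK_iff chkPaths 335300 700).mp pc39 p (by omega) (by omega)

end Cfsg.Agent.Lib.Helper16.HNP.C16
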