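import Cfsg.Agent.Lib.Helper28.TC2Range
import Cfsg.Agent.Lib.Helper16.HNP.Table
set_option autoImplicit false
set_option maxRecDepth 100000
set_option maxHeartbeats 0
set_option Elab.async false

namespace Cfsg.Agent.Lib.Helper16.HNP.C7
open Cfsg.Agent.Lib.Helper28.TC2Upper Cfsg.Agent.Lib.Helper28.TC2Lower Cfsg.Agent.Lib.Helper28.TC2Range Cfsg.Agent.Lib.Helper16.HNP.Table

theorem pc0 : table.relOK chkPaths 56000 700 = true := by decide +kernel
theorem pc1 : table.relOK chkPaths 56700 700 = true := by decide +kernel
theorem pc2 : table.relOK chkPaths 57400 700 = true := by decide +kernel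
theorem pc3 : table.relOK chkPaths 58100 700 = true := by decide +kernel
theorem pc4 : table.relOK chkPaths 58800 700 = true := by decide +kernel
theorem pc5 : table.relOK chkPaths 59500 700 = true := by decide +kernel
theorem pc6 : table.relOK chkPaths 60200 700 = true := by decide +kernel
theorem pc7 : table.relOK chkPaths 60900 700 = true := by decide +kernel
theorem pc8 : table.relOK chkPaths 61600 700 = true := by decide +kernel
theorem pc9 : table.relOK chkPaths 62300 700 = true := by decide +kernel
theorem pc10 : table.relOK chkPaths 63000 700 = true := by decide +kernel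
theorem pc11 : table.relOK chkPaths 63700 700 = true := by decide +kernel
theorem pc12 : table.relOK chkPaths 64400 700 = true := by decide +kernel
theorem pc13 : table.relOK chkPaths 65100 700 = true := by decide +kernel
theorem pc14 : table.relOK chkPaths 65800 700 = true := by decide +kernel
theorem pc15 : table.relOK chkPaths 66500 700 = true := by decide +kernel
theorem pc16 : table.relOK chkPaths 67200 700 = true := by decide +kernel
theorem pc17 : table.relOK chkPaths 67900 700 = true := by decide +kernel
theorem pc18 : table.relOK chkPaths 68600 700 = true := by decide +kernel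
theorem pc19 : table.relOK chkPaths 69300 700 = true := by decide +kernel
theorem pc20 : table.relOK chkPaths 70000 700 = true := by decide +kernel
theorem pc21 : table.relOK chkPaths 70700 700 = true := by decide +kernel
theorem pc22 : table.relOK chkPaths 71400 700 = true := by decide +kernel
theorem pc23 : table.relOK chkPaths 72100 700 = true := by decide +kernel
theorem pc24 : table.relOK chkPaths 72800 700 = true := by decide +kernel
theorem pc25 : table.relOK chkPaths 73500 700 = true := by decide +kernel
theorem pc26 : table.relOK chkPaths 74200 700 = true := by decide +kernel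
theorem pc27 : table.relOK chkPaths 74900 700 = true := by decide +kernel
theorem pc28 : table.relOK chkPaths 75600 700 = true := by decide +kernel
theorem pc29 : table.relOK chkPaths 76300 700 = true := by decide +kernel
theorem pc30 : table.relOK chkPaths 77000 700 = true := by decide +kernel
theorem pc31 : table.relOK chkPaths 77700 700 = true := by decide +kernel
theorem pc32 : table.relOK chkPaths 78400 700 = true := by decide +kernel
theorem pc33 : table.relOK chkPaths 79100 700 = true := by decide +kernel
theorem pc34 : table.relOK chkPaths 79800 700 = true := by decide +kernel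
theorem pc35 : table.relOK chkPaths 80500 700 = true := by decide +kernel
theorem pc36 : table.relOK chkPaths 81200 700 = true := by decide +kernel
theorem pc37 : table.relOK chkPaths 81900 700 = true := by decide +kernel
theorem pc38 : table.relOK chkPaths 82600 700 = true := by decide +kernel
theorem pc39 : table.relOK chkPaths 83300 700 = true := by decide +kernel

theorem range : ∀ p, 56000 ≤ p → p < 84000 → ∀ r ∈ chkPaths, table.walkT r p = p := by
  intro p h1 h2
  rcases Nat.lt_or_ge p 56700 with h | h
  · exact (Table.relOK_iff chkPaths 56000 700).mp pc0 p (by omega) (by omega)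
  rcases Nat.lt_or_ge p 57400 with h | h
  · exact (Table.relOK_iff chkPaths 56700 700).mp pc1 p (by omega) (by omega)
  rcases Nat.lt_or_ge p 58100 with h | h
  · exact (Table.relOK_iff chkPaths 57400 700).mp pc2 p (by omega) (by omega)
  rcases Nat.lt_or_ge p 58800 with h | h
  · exact (Table.relOK_iff chkPaths 58100 700).mp pc3 p (by omega) (by omega)
  rcases Nat.lt_or_ge p 59500 with h | h
  · exact (Table.relOK_iff chkPaths 58800 700).mp pc4 p (by omega) (by omega)
  rcases Nat.lt_or_ge p 60200 with h | h
  · exact (Table.relOK_iff chkPaths 59500 700).mp pc5 p (by omega) (by omega)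
  rcases Nat.lt_or_ge p 60900 with h | h
  · exact (Table.relOK_iff chkPaths 60200 700).mp pc6 p (by omega) (by omega)
  rcases Nat.lt_or_ge p 61600 with h | h
  · exact (Table.relOK_iff chkPaths 60900 700).mp pc7 p (by omega) (by omega)
  rcases Nat.lt_or_ge p 62300 with h | h
  · exact (Table.relOK_iff chkPaths 61600 700).mp pc8 p (by omega) (by omega)
  rcases Nat.lt_or_ge p 63000 with h | h
  · exact (Table.relOK_iff chkPaths 62300 700).mp pc9 p (by omega) (by omega)
  rcases Nat.lt_or_ge p 63700 with h | h
  · exact (Table.relOK_iff chkPaths 63000 700).mp pc10 p (by omega) (by omega)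
  rcases Nat.lt_or_ge p 64400 with h | h
  · exact (Table.relOK_iff chkPaths 63700 700).mp pc11 p (by omega) (by omega)
  rcases Nat.lt_or_ge p 65100 with h | h
  · exact (Table.relOK_iff chkPaths 64400 700).mp pc12 p (by omega) (by omega)
  rcases Nat.lt_or_ge p 65800 with h | h
  · exact (Table.relOK_iff chkPaths 65100 700).mp pc13 p (by omega) (by omega)
  rcases Nat.lt_or_ge p 66500 with h | h
  · exact (Table.relOK_iff chkPaths 65800 700).mp pc14 p (by omega) (by omega)
  rcases Nat.lt_or_ge p 67200 with h | h
  · exact (Table.relOK_iff chkPaths 66500 700).mp pc15 p (by omega) (by omega)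
  rcases Nat.lt_or_ge p 67900 with h | h
  · exact (Table.relOK_iff chkPaths 67200 700).mp pc16 p (by omega) (by omega)
  rcases Nat.lt_or_ge p 68600 with h | h
  · exact (Table.relOK_iff chkPaths 67900 700).mp pc17 p (by omega) (by omega)
  rcases Nat.lt_or_ge p 69300 with h | h
  · exact (Table.relOK_iff chkPaths 68600 700).mp pc18 p (by omega) (by omega)
  rcases Nat.lt_or_ge p 70000 with h | h
  · exact (Table.relOK_iff chkPaths 69300 700).mp pc19 p (by omega) (by omega)
  rcases Nat.lt_or_ge p 70700 with h | h
  · exact (Table.relOK_iff chkPaths 70000 700).mp pc20 p (by omega) (by omega)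
  rcases Nat.lt_or_ge p 71400 with h | h
  · exact (Table.relOK_iff chkPaths 70700 700).mp pc21 p (by omega) (by omega)
  rcases Nat.lt_or_ge p 72100 with h | h
  · exact (Table.relOK_iff chkPaths 71400 700).mp pc22 p (by omega) (by omega)
  rcases Nat.lt_or_ge p 72800 with h | h
  · exact (Table.relOK_iff chkPaths 72100 700).mp pc23 p (by omega) (by omega)
  rcases Nat.lt_or_ge p 73500 with h | h
  · exact (Table.relOK_iff chkPaths 72800 700).mp pc24 p (by omega) (by omega)
  rcases Nat.lt_or_ge p 74200 with h | h
  · exact (Table.relOK_iff chkPaths 73500 700).mp pc25 p (by omega) (by omega)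
  rcases Nat.lt_or_ge p 74900 with h | h
  · exact (Table.relOK_iff chkPaths 74200 700).mp pc26 p (by omega) (by omega)
  rcases Nat.lt_or_ge p 75600 with h | h
  · exact (Table.relOK_iff chkPaths 74900 700).mp pc27 p (by omega) (by omega)
  rcases Nat.lt_or_ge p 76300 with h | h
  · exact (Table.relOK_iff chkPaths 75600 700).mp pc28 p (by omega) (by omega)
  rcases Nat.lt_or_ge p 77000 with h | h
  · exact (Table.relOK_iff chkPaths 76300 700).mp pc29 p (by omega) (by omega)
  rcases Nat.lt_or_ge p 77700 with h | h
  · exact (Table.relOK_iff chkPaths 77000 700).mp pc30 p (by omega) (by omega)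
  rcases Nat.lt_or_ge p 78400 with h | h
  · exact (Table.relOK_iff chkPaths 77700 700).mp pc31 p (by omega) (by omega)
  rcases Nat.lt_or_ge p 79100 with h | h
  · exact (Table.relOK_iff chkPaths 78400 700).mp pc32 p (by omega) (by omega)
  rcases Nat.lt_or_ge p 79800 with h | h
  · exact (Table.relOK_iff chkPaths 79100 700).mp pc33 p (by omega) (by omega)
  rcases Nat.lt_or_ge p 80500 with h | h
  · exact (Table.relOK_iff chkPaths 79800 700).mp pc34 p (by omega) (by omega)
  rcases Nat.lt_or_ge p 81200 with h | h
  · exact (Table.relOK_iff chkPaths 80500 700).mp pc35 p (by omega) (by omega)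
  rcases Nat.lt_or_ge p 81900 with h | h
  · exact (Table.relOK_iff chkPaths 81200 700).mp pc36 p (by omega) (by omega)
  rcases Nat.lt_or_ge p 82600 with h | h
  · exact (Table.relOK_iff chkPaths 81900 700).mp pc37 p (by omega) (by omega)
  rcases Nat.lt_or_ge p 83300 with h | h
  · exact (Table.relOK_iff chkPaths 82600 700).mp pc38 p (by omega) (by omega)
  exact (Table.relOK_iff chkPaths 83300 700).mp pc39 p (by omega) (by omega)

end Cfsg.Agent.Lib.Helper16.HNP.C7
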