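import Cfsg.Agent.Lib.Helper28.TC2Range
import Cfsg.Agent.Lib.Helper16.HNP.Table
import Cfsg.Agent.Lib.Helper16.HNP.C7
set_option autoImplicit false
set_option maxRecDepth 100000
set_option maxHeartbeats 0
set_option Elab.async false

namespace Cfsg.Agent.Lib.Helper16.HNP.C17
open Cfsg.Agent.Lib.Helper28.TC2Upper Cfsg.Agent.Lib.Helper28.TC2Lower Cfsg.Agent.Lib.Helper28.TC2Range Cfsg.Agent.Lib.Helper16.HNP.Table

theorem pc0 : table.relOK chkPaths 336000 700 = true := by decide +kernel
theorem pc1 : table.relOK chkPaths 336700 700 = true := by decide +kernel
theorem pc2 : table.relOK chkPaths 337400 700 = true := by decide +kernel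
theorem pc3 : table.relOK chkPaths 338100 700 = true := by decide +kernel
theorem pc4 : table.relOK chkPaths 338800 700 = true := by decide +kernel
theorem pc5 : table.relOK chkPaths 339500 700 = true := by decide +kernel
theorem pc6 : table.relOK chkPaths 340200 700 = true := by decide +kernel
theorem pc7 : table.relOK chkPaths 340900 700 = true := by decide +kernel
theorem pc8 : table.relOK chkPaths 341600 700 = true := by decide +kernel
theorem pc9 : table.relOK chkPaths 342300 700 = true := by decide +kernel
theorem pc10 : table.relOK chkPaths 343000 700 = true := by decide +kernel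
theorem pc11 : table.relOK chkPaths 343700 700 = true := by decide +kernel
theorem pc12 : table.relOK chkPaths 344400 700 = true := by decide +kernel
theorem pc13 : table.relOK chkPaths 345100 700 = true := by decide +kernel
theorem pc14 : table.relOK chkPaths 345800 700 = true := by decide +kernel
theorem pc15 : table.relOK chkPaths 346500 700 = true := by decide +kernel
theorem pc16 : table.relOK chkPaths 347200 700 = true := by decide +kernel
theorem pc17 : table.relOK chkPaths 347900 700 = true := by decide +kernel
theorem pc18 : table.relOK chkPaths 348600 700 = true := by decide +kernel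
theorem pc19 : table.relOK chkPaths 349300 700 = true := by decide +kernel
theorem pc20 : table.relOK chkPaths 350000 700 = true := by decide +kernel
theorem pc21 : table.relOK chkPaths 350700 700 = true := by decide +kernel
theorem pc22 : table.relOK chkPaths 351400 700 = true := by decide +kernel
theorem pc23 : table.relOK chkPaths 352100 700 = true := by decide +kernel
theorem pc24 : table.relOK chkPaths 352800 700 = true := by decide +kernel
theorem pc25 : table.relOK chkPaths 353500 700 = true := by decide +kernel
theorem pc26 : table.relOK chkPaths 354200 700 = true := by decide +kernel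
theorem pc27 : table.relOK chkPaths 354900 700 = true := by decide +kernel
theorem pc28 : table.relOK chkPaths 355600 700 = true := by decide +kernel
theorem pc29 : table.relOK chkPaths 356300 700 = true := by decide +kernel
theorem pc30 : table.relOK chkPaths 357000 700 = true := by decide +kernel
theorem pc31 : table.relOK chkPaths 357700 700 = true := by decide +kernel
theorem pc32 : table.relOK chkPaths 358400 700 = true := by decide +kernel
theorem pc33 : table.relOK chkPaths 359100 700 = true := by decide +kernel
theorem pc34 : table.relOK chkPaths 359800 700 = true := by decide +kernel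
theorem pc35 : table.relOK chkPaths 360500 700 = true := by decide +kernel
theorem pc36 : table.relOK chkPaths 361200 700 = true := by decide +kernel
theorem pc37 : table.relOK chkPaths 361900 700 = true := by decide +kernel
theorem pc38 : table.relOK chkPaths 362600 700 = true := by decide +kernel
theorem pc39 : table.relOK chkPaths 363300 700 = true := by decide +kernel

theorem range : ∀ p, 336000 ≤ p → p < 364000 → ∀ r ∈ chkPaths, table.walkT r p = p := by
  intro p h1 h2
  rcases Nat.lt_or_ge p 336700 with h | h
  · exact (Table.relOK_iff chkPaths 336000 700).mp pc0 p (by omega) (by omega)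
  rcases Nat.lt_or_ge p 337400 with h | h
  · exact (Table.relOK_iff chkPaths 336700 700).mp pc1 p (by omega) (by omega)
  rcases Nat.lt_or_ge p 338100 with h | h
  · exact (Table.relOK_iff chkPaths 337400 700).mp pc2 p (by omega) (by omega)
  rcases Nat.lt_or_ge p 338800 with h | h
  · exact (Table.relOK_iff chkPaths 338100 700).mp pc3 p (by omega) (by omega)
  rcases Nat.lt_or_ge p 339500 with h | h
  · exact (Table.relOK_iff chkPaths 338800 700).mp pc4 p (by omega) (by omega)
  rcases Nat.lt_or_ge p 340200 with h | h
  · exact (Table.relOK_iff chkPaths 339500 700).mp pc5 p (by omega) (by omega)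
  rcases Nat.lt_or_ge p 340900 with h | h
  · exact (Table.relOK_iff chkPaths 340200 700).mp pc6 p (by omega) (by omega)
  rcases Nat.lt_or_ge p 341600 with h | h
  · exact (Table.relOK_iff chkPaths 340900 700).mp pc7 p (by omega) (by omega)
  rcases Nat.lt_or_ge p 342300 with h | h
  · exact (Table.relOK_iff chkPaths 341600 700).mp pc8 p (by omega) (by omega)
  rcases Nat.lt_or_ge p 343000 with h | h
  · exact (Table.relOK_iff chkPaths 342300 700).mp pc9 p (by omega) (by omega)
  rcases Nat.lt_or_ge p 343700 with h | h
  · exact (Table.relOK_iff chkPaths 343000 700).mp pc10 p (by omega) (by omega)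
  rcases Nat.lt_or_ge p 344400 with h | h
  · exact (Table.relOK_iff chkPaths 343700 700).mp pc11 p (by omega) (by omega)
  rcases Nat.lt_or_ge p 345100 with h | h
  · exact (Table.relOK_iff chkPaths 344400 700).mp pc12 p (by omega) (by omega)
  rcases Nat.lt_or_ge p 345800 with h | h
  · exact (Table.relOK_iff chkPaths 345100 700).mp pc13 p (by omega) (by omega)
  rcases Nat.lt_or_ge p 346500 with h | h
  · exact (Table.relOK_iff chkPaths 345800 700).mp pc14 p (by omega) (by omega)
  rcases Nat.lt_or_ge p 347200 with h | h
  · exact (Table.relOK_iff chkPaths 346500 700).mp pc15 p (by omega) (by omega)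
  rcases Nat.lt_or_ge p 347900 with h | h
  · exact (Table.relOK_iff chkPaths 347200 700).mp pc16 p (by omega) (by omega)
  rcases Nat.lt_or_ge p 348600 with h | h
  · exact (Table.relOK_iff chkPaths 347900 700).mp pc17 p (by omega) (by omega)
  rcases Nat.lt_or_ge p 349300 with h | h
  · exact (Table.relOK_iff chkPaths 348600 700).mp pc18 p (by omega) (by omega)
  rcases Nat.lt_or_ge p 350000 with h | h
  · exact (Table.relOK_iff chkPaths 349300 700).mp pc19 p (by omega) (by omega)
  rcases Nat.lt_or_ge p 350700 with h | h
  · exact (Table.relOK_iff chkPaths 350000 700).mp pc20 p (by omega) (by omega)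
  rcases Nat.lt_or_ge p 351400 with h | h
  · exact (Table.relOK_iff chkPaths 350700 700).mp pc21 p (by omega) (by omega)
  rcases Nat.lt_or_ge p 352100 with h | h
  · exact (Table.relOK_iff chkPaths 351400 700).mp pc22 p (by omega) (by omega)
  rcases Nat.lt_or_ge p 352800 with h | h
  · exact (Table.relOK_iff chkPaths 352100 700).mp pc23 p (by omega) (by omega)
  rcases Nat.lt_or_ge p 353500 with h | h
  · exact (Table.relOK_iff chkPaths 352800 700).mp pc24 p (by omega) (by omega)
  rcases Nat.lt_or_ge p 354200 with h | h
  · exact (Table.relOK_iff chkPaths 353500 700).mp pc25 p (by omega) (by omega)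
  rcases Nat.lt_or_ge p 354900 with h | h
  · exact (Table.relOK_iff chkPaths 354200 700).mp pc26 p (by omega) (by omega)
  rcases Nat.lt_or_ge p 355600 with h | h
  · exact (Table.relOK_iff chkPaths 354900 700).mp pc27 p (by omega) (by omega)
  rcases Nat.lt_or_ge p 356300 with h | h
  · exact (Table.relOK_iff chkPaths 355600 700).mp pc28 p (by omega) (by omega)
  rcases Nat.lt_or_ge p 357000 with h | h
  · exact (Table.relOK_iff chkPaths 356300 700).mp pc29 p (by omega) (by omega)
  rcases Nat.lt_or_ge p 357700 with h | h
  · exact (Table.relOK_iff chkPaths 357000 700).mp pc30 p (by omega) (by omega)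
  rcases Nat.lt_or_ge p 358400 with h | h
  · exact (Table.relOK_iff chkPaths 357700 700).mp pc31 p (by omega) (by omega)
  rcases Nat.lt_or_ge p 359100 with h | h
  · exact (Table.relOK_iff chkPaths 358400 700).mp pc32 p (by omega) (by omega)
  rcases Nat.lt_or_ge p 359800 with h | h
  · exact (Table.relOK_iff chkPaths 359100 700).mp pc33 p (by omega) (by omega)
  rcases Nat.lt_or_ge p 360500 with h | h
  · exact (Table.relOK_iff chkPaths 359800 700).mp pc34 p (by omega) (by omega)
  rcases Nat.lt_or_ge p 361200 with h | h
  · exact (Table.relOK_iff chkPaths 360500 700).mp pc35 p (by omega) (by omega)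
  rcases Nat.lt_or_ge p 361900 with h | h
  · exact (Table.relOK_iff chkPaths 361200 700).mp pc36 p (by omega) (by omega)
  rcases Nat.lt_or_ge p 362600 with h | h
  · exact (Table.relOK_iff chkPaths 361900 700).mp pc37 p (by omega) (by omega)
  rcases Nat.lt_or_ge p 363300 with h | h
  · exact (Table.relOK_iff chkPaths 362600 700).mp pc38 p (by omega) (by omega)
  exact (Table.relOK_iff chkPaths 363300 700).mp pc39 p (by omega) (by omega)

end Cfsg.Agent.Lib.Helper16.HNP.C17
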