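import Cfsg.Agent.Lib.Helper28.TC2Range
import Cfsg.Agent.Lib.Helper16.HNP.Table
set_option autoImplicit false
set_option maxRecDepth 100000
set_option maxHeartbeats 0
set_option Elab.async false

namespace Cfsg.Agent.Lib.Helper16.HNP.C8
open Cfsg.Agent.Lib.Helper28.TC2Upper Cfsg.Agent.Lib.Helper28.TC2Lower Cfsg.Agent.Lib.Helper28.TC2Range Cfsg.Agent.Lib.Helper16.HNP.Table

theorem pc0 : table.relOK chkPaths 84000 700 = true := by decide +kernel
theorem pc1 : table.relOK chkPaths 84700 700 = true := by decide +kernel
theorem pc2 : table.relOK chkPaths 85400 700 = true := by decide +kernel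
theorem pc3 : table.relOK chkPaths 86100 700 = true := by decide +kernel
theorem pc4 : table.relOK chkPaths 86800 700 = true := by decide +kernel
theorem pc5 : table.relOK chkPaths 87500 700 = true := by decide +kernel
theorem pc6 : table.relOK chkPaths 88200 700 = true := by decide +kernel
theorem pc7 : table.relOK chkPaths 88900 700 = true := by decide +kernel
theorem pc8 : table.relOK chkPaths 89600 700 = true := by decide +kernel
theorem pc9 : table.relOK chkPaths 90300 700 = true := by decide +kernel
theorem pc10 : table.relOK chkPaths 91000 700 = true := by decide +kernel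
theorem pc11 : table.relOK chkPaths 91700 700 = true := by decide +kernel
theorem pc12 : table.relOK chkPaths 92400 700 = true := by decide +kernel
theorem pc13 : table.relOK chkPaths 93100 700 = true := by decide +kernel
theorem pc14 : table.relOK chkPaths 93800 700 = true := by decide +kernel
theorem pc15 : table.relOK chkPaths 94500 700 = true := by decide +kernel
theorem pc16 : table.relOK chkPaths 95200 700 = true := by decide +kernel
theorem pc17 : table.relOK chkPaths 95900 700 = true := by decide +kernel
theorem pc18 : table.relOK chkPaths 96600 700 = true := by decide +kernel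
theorem pc19 : table.relOK chkPaths 97300 700 = true := by decide +kernel
theorem pc20 : table.relOK chkPaths 98000 700 = true := by decide +kernel
theorem pc21 : table.relOK chkPaths 98700 700 = true := by decide +kernel
theorem pc22 : table.relOK chkPaths 99400 700 = true := by decide +kernel
theorem pc23 : table.relOK chkPaths 100100 700 = true := by decide +kernel
theorem pc24 : table.relOK chkPaths 100800 700 = true := by decide +kernel
theorem pc25 : table.relOK chkPaths 101500 700 = true := by decide +kernel
theorem pc26 : table.relOK chkPaths 102200 700 = true := by decide +kernel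
theorem pc27 : table.relOK chkPaths 102900 700 = true := by decide +kernel
theorem pc28 : table.relOK chkPaths 103600 700 = true := by decide +kernel
theorem pc29 : table.relOK chkPaths 104300 700 = true := by decide +kernel
theorem pc30 : table.relOK chkPaths 105000 700 = true := by decide +kernel
theorem pc31 : table.relOK chkPaths 105700 700 = true := by decide +kernel
theorem pc32 : table.relOK chkPaths 106400 700 = true := by decide +kernel
theorem pc33 : table.relOK chkPaths 107100 700 = true := by decide +kernel
theorem pc34 : table.relOK chkPaths 107800 700 = true := by decide +kernel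
theorem pc35 : table.relOK chkPaths 108500 700 = true := by decide +kernel
theorem pc36 : table.relOK chkPaths 109200 700 = true := by decide +kernel
theorem pc37 : table.relOK chkPaths 109900 700 = true := by decide +kernel
theorem pc38 : table.relOK chkPaths 110600 700 = true := by decide +kernel
theorem pc39 : table.relOK chkPaths 111300 700 = true := by decide +kernel

theorem range : ∀ p, 84000 ≤ p → p < 112000 → ∀ r ∈ chkPaths, table.walkT r p = p := by
  intro p h1 h2
  rcases Nat.lt_or_ge p 84700 with h | h
  · exact (Table.relOK_iff chkPaths 84000 700).mp pc0 p (by omega) (by omega)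
  rcases Nat.lt_or_ge p 85400 with h | h
  · exact (Table.relOK_iff chkPaths 84700 700).mp pc1 p (by omega) (by omega)
  rcases Nat.lt_or_ge p 86100 with h | h
  · exact (Table.relOK_iff chkPaths 85400 700).mp pc2 p (by omega) (by omega)
  rcases Nat.lt_or_ge p 86800 with h | h
  · exact (Table.relOK_iff chkPaths 86100 700).mp pc3 p (by omega) (by omega)
  rcases Nat.lt_or_ge p 87500 with h | h
  · exact (Table.relOK_iff chkPaths 86800 700).mp pc4 p (by omega) (by omega)
  rcases Nat.lt_or_ge p 88200 with h | h
  · exact (Table.relOK_iff chkPaths 87500 700).mp pc5 p (by omega) (by omega)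
  rcases Nat.lt_or_ge p 88900 with h | h
  · exact (Table.relOK_iff chkPaths 88200 700).mp pc6 p (by omega) (by omega)
  rcases Nat.lt_or_ge p 89600 with h | h
  · exact (Table.relOK_iff chkPaths 88900 700).mp pc7 p (by omega) (by omega)
  rcases Nat.lt_or_ge p 90300 with h | h
  · exact (Table.relOK_iff chkPaths 89600 700).mp pc8 p (by omega) (by omega)
  rcases Nat.lt_or_ge p 91000 with h | h
  · exact (Table.relOK_iff chkPaths 90300 700).mp pc9 p (by omega) (by omega)
  rcases Nat.lt_or_ge p 91700 with h | h
  · exact (Table.relOK_iff chkPaths 91000 700).mp pc10 p (by omega) (by omega)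
  rcases Nat.lt_or_ge p 92400 with h | h
  · exact (Table.relOK_iff chkPaths 91700 700).mp pc11 p (by omega) (by omega)
  rcases Nat.lt_or_ge p 93100 with h | h
  · exact (Table.relOK_iff chkPaths 92400 700).mp pc12 p (by omega) (by omega)
  rcases Nat.lt_or_ge p 93800 with h | h
  · exact (Table.relOK_iff chkPaths 93100 700).mp pc13 p (by omega) (by omega)
  rcases Nat.lt_or_ge p 94500 with h | h
  · exact (Table.relOK_iff chkPaths 93800 700).mp pc14 p (by omega) (by omega)
  rcases Nat.lt_or_ge p 95200 with h | h
  · exact (Table.relOK_iff chkPaths 94500 700).mp pc15 p (by omega) (by omega)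
  rcases Nat.lt_or_ge p 95900 with h | h
  · exact (Table.relOK_iff chkPaths 95200 700).mp pc16 p (by omega) (by omega)
  rcases Nat.lt_or_ge p 96600 with h | h
  · exact (Table.relOK_iff chkPaths 95900 700).mp pc17 p (by omega) (by omega)
  rcases Nat.lt_or_ge p 97300 with h | h
  · exact (Table.relOK_iff chkPaths 96600 700).mp pc18 p (by omega) (by omega)
  rcases Nat.lt_or_ge p 98000 with h | h
  · exact (Table.relOK_iff chkPaths 97300 700).mp pc19 p (by omega) (by omega)
  rcases Nat.lt_or_ge p 98700 with h | h
  · exact (Table.relOK_iff chkPaths 98000 700).mp pc20 p (by omega) (by omega)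
  rcases Nat.lt_or_ge p 99400 with h | h
  · exact (Table.relOK_iff chkPaths 98700 700).mp pc21 p (by omega) (by omega)
  rcases Nat.lt_or_ge p 100100 with h | h
  · exact (Table.relOK_iff chkPaths 99400 700).mp pc22 p (by omega) (by omega)
  rcases Nat.lt_or_ge p 100800 with h | h
  · exact (Table.relOK_iff chkPaths 100100 700).mp pc23 p (by omega) (by omega)
  rcases Nat.lt_or_ge p 101500 with h | h
  · exact (Table.relOK_iff chkPaths 100800 700).mp pc24 p (by omega) (by omega)
  rcases Nat.lt_or_ge p 102200 with h | h
  · exact (Table.relOK_iff chkPaths 101500 700).mp pc25 p (by omega) (by omega)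
  rcases Nat.lt_or_ge p 102900 with h | h
  · exact (Table.relOK_iff chkPaths 102200 700).mp pc26 p (by omega) (by omega)
  rcases Nat.lt_or_ge p 103600 with h | h
  · exact (Table.relOK_iff chkPaths 102900 700).mp pc27 p (by omega) (by omega)
  rcases Nat.lt_or_ge p 104300 with h | h
  · exact (Table.relOK_iff chkPaths 103600 700).mp pc28 p (by omega) (by omega)
  rcases Nat.lt_or_ge p 105000 with h | h
  · exact (Table.relOK_iff chkPaths 104300 700).mp pc29 p (by omega) (by omega)
  rcases Nat.lt_or_ge p 105700 with h | h
  · exact (Table.relOK_iff chkPaths 105000 700).mp pc30 p (by omega) (by omega)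
  rcases Nat.lt_or_ge p 106400 with h | h
  · exact (Table.relOK_iff chkPaths 105700 700).mp pc31 p (by omega) (by omega)
  rcases Nat.lt_or_ge p 107100 with h | h
  · exact (Table.relOK_iff chkPaths 106400 700).mp pc32 p (by omega) (by omega)
  rcases Nat.lt_or_ge p 107800 with h | h
  · exact (Table.relOK_iff chkPaths 107100 700).mp pc33 p (by omega) (by omega)
  rcases Nat.lt_or_ge p 108500 with h | h
  · exact (Table.relOK_iff chkPaths 107800 700).mp pc34 p (by omega) (by omega)
  rcases Nat.lt_or_ge p 109200 with h | h
  · exact (Table.relOK_iff chkPaths 108500 700).mp pc35 p (by omega) (by omega)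
  rcases Nat.lt_or_ge p 109900 with h | h
  · exact (Table.relOK_iff chkPaths 109200 700).mp pc36 p (by omega) (by omega)
  rcases Nat.lt_or_ge p 110600 with h | h
  · exact (Table.relOK_iff chkPaths 109900 700).mp pc37 p (by omega) (by omega)
  rcases Nat.lt_or_ge p 111300 with h | h
  · exact (Table.relOK_iff chkPaths 110600 700).mp pc38 p (by omega) (by omega)
  exact (Table.relOK_iff chkPaths 111300 700).mp pc39 p (by omega) (by omega)

end Cfsg.Agent.Lib.Helper16.HNP.C8
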