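import Cfsg.Agent.Lib.Helper28.TC2Range
import Cfsg.Agent.Lib.Helper16.HNP.Table
import Cfsg.Agent.Lib.Helper16.HNP.C8
set_option autoImplicit false
set_option maxRecDepth 100000
set_option maxHeartbeats 0
set_option Elab.async false

namespace Cfsg.Agent.Lib.Helper16.HNP.C18
open Cfsg.Agent.Lib.Helper28.TC2Upper Cfsg.Agent.Lib.Helper28.TC2Lower Cfsg.Agent.Lib.Helper28.TC2Range Cfsg.Agent.Lib.Helper16.HNP.Table

theorem pc0 : table.relOK chkPaths 364000 700 = true := by decide +kernel
theorem pc1 : table.relOK chkPaths 364700 700 = true := by decide +kernel
theorem pc2 : table.relOK chkPaths 365400 700 = true := by decide +kernel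
theorem pc3 : table.relOK chkPaths 366100 700 = true := by decide +kernel
theorem pc4 : table.relOK chkPaths 366800 700 = true := by decide +kernel
theorem pc5 : table.relOK chkPaths 367500 700 = true := by decide +kernel
theorem pc6 : table.relOK chkPaths 368200 700 = true := by decide +kernel
theorem pc7 : table.relOK chkPaths 368900 700 = true := by decide +kernel
theorem pc8 : table.relOK chkPaths 369600 700 = true := by decide +kernel
theorem pc9 : table.relOK chkPaths 370300 700 = true := by decide +kernel
theorem pc10 : table.relOK chkPaths 371000 700 = true := by decide +kernel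
theorem pc11 : table.relOK chkPaths 371700 700 = true := by decide +kernel
theorem pc12 : table.relOK chkPaths 372400 700 = true := by decide +kernel
theorem pc13 : table.relOK chkPaths 373100 700 = true := by decide +kernel
theorem pc14 : table.relOK chkPaths 373800 700 = true := by decide +kernel
theorem pc15 : table.relOK chkPaths 374500 700 = true := by decide +kernel
theorem pc16 : table.relOK chkPaths 375200 700 = true := by decide +kernel
theorem pc17 : table.relOK chkPaths 375900 700 = true := by decide +kernel
theorem pc18 : table.relOK chkPaths 376600 700 = true := by decide +kernel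
theorem pc19 : table.relOK chkPaths 377300 700 = true := by decide +kernel
theorem pc20 : table.relOK chkPaths 378000 700 = true := by decide +kernel
theorem pc21 : table.relOK chkPaths 378700 700 = true := by decide +kernel
theorem pc22 : table.relOK chkPaths 379400 700 = true := by decide +kernel
theorem pc23 : table.relOK chkPaths 380100 700 = true := by decide +kernel
theorem pc24 : table.relOK chkPaths 380800 700 = true := by decide +kernel
theorem pc25 : table.relOK chkPaths 381500 700 = true := by decide +kernel
theorem pc26 : table.relOK chkPaths 382200 700 = true := by decide +kernel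
theorem pc27 : table.relOK chkPaths 382900 700 = true := by decide +kernel
theorem pc28 : table.relOK chkPaths 383600 700 = true := by decide +kernel
theorem pc29 : table.relOK chkPaths 384300 700 = true := by decide +kernel
theorem pc30 : table.relOK chkPaths 385000 700 = true := by decide +kernel
theorem pc31 : table.relOK chkPaths 385700 700 = true := by decide +kernel
theorem pc32 : table.relOK chkPaths 386400 700 = true := by decide +kernel
theorem pc33 : table.relOK chkPaths 387100 700 = true := by decide +kernel
theorem pc34 : table.relOK chkPaths 387800 700 = true := by decide +kernel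
theorem pc35 : table.relOK chkPaths 388500 700 = true := by decide +kernel
theorem pc36 : table.relOK chkPaths 389200 700 = true := by decide +kernel
theorem pc37 : table.relOK chkPaths 389900 700 = true := by decide +kernel
theorem pc38 : table.relOK chkPaths 390600 700 = true := by decide +kernel
theorem pc39 : table.relOK chkPaths 391300 700 = true := by decide +kernel

theorem range : ∀ p, 364000 ≤ p → p < 392000 → ∀ r ∈ chkPaths, table.walkT r p = p := by
  intro p h1 h2
  rcases Nat.lt_or_ge p 364700 with h | h
  · exact (Table.relOK_iff chkPaths 364000 700).mp pc0 p (by omega) (by omega)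
  rcases Nat.lt_or_ge p 365400 with h | h
  · exact (Table.relOK_iff chkPaths 364700 700).mp pc1 p (by omega) (by omega)
  rcases Nat.lt_or_ge p 366100 with h | h
  · exact (Table.relOK_iff chkPaths 365400 700).mp pc2 p (by omega) (by omega)
  rcases Nat.lt_or_ge p 366800 with h | h
  · exact (Table.relOK_iff chkPaths 366100 700).mp pc3 p (by omega) (by omega)
  rcases Nat.lt_or_ge p 367500 with h | h
  · exact (Table.relOK_iff chkPaths 366800 700).mp pc4 p (by omega) (by omega)
  rcases Nat.lt_or_ge p 368200 with h | h
  · exact (Table.relOK_iff chkPaths 367500 700).mp pc5 p (by omega) (by omega)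
  rcases Nat.lt_or_ge p 368900 with h | h
  · exact (Table.relOK_iff chkPaths 368200 700).mp pc6 p (by omega) (by omega)
  rcases Nat.lt_or_ge p 369600 with h | h
  · exact (Table.relOK_iff chkPaths 368900 700).mp pc7 p (by omega) (by omega)
  rcases Nat.lt_or_ge p 370300 with h | h
  · exact (Table.relOK_iff chkPaths 369600 700).mp pc8 p (by omega) (by omega)
  rcases Nat.lt_or_ge p 371000 with h | h
  · exact (Table.relOK_iff chkPaths 370300 700).mp pc9 p (by omega) (by omega)
  rcases Nat.lt_or_ge p 371700 with h | h
  · exact (Table.relOK_iff chkPaths 371000 700).mp pc10 p (by omega) (by omega)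
  rcases Nat.lt_or_ge p 372400 with h | h
  · exact (Table.relOK_iff chkPaths 371700 700).mp pc11 p (by omega) (by omega)
  rcases Nat.lt_or_ge p 373100 with h | h
  · exact (Table.relOK_iff chkPaths 372400 700).mp pc12 p (by omega) (by omega)
  rcases Nat.lt_or_ge p 373800 with h | h
  · exact (Table.relOK_iff chkPaths 373100 700).mp pc13 p (by omega) (by omega)
  rcases Nat.lt_or_ge p 374500 with h | h
  · exact (Table.relOK_iff chkPaths 373800 700).mp pc14 p (by omega) (by omega)
  rcases Nat.lt_or_ge p 375200 with h | h
  · exact (Table.relOK_iff chkPaths 374500 700).mp pc15 p (by omega) (by omega)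
  rcases Nat.lt_or_ge p 375900 with h | h
  · exact (Table.relOK_iff chkPaths 375200 700).mp pc16 p (by omega) (by omega)
  rcases Nat.lt_or_ge p 376600 with h | h
  · exact (Table.relOK_iff chkPaths 375900 700).mp pc17 p (by omega) (by omega)
  rcases Nat.lt_or_ge p 377300 with h | h
  · exact (Table.relOK_iff chkPaths 376600 700).mp pc18 p (by omega) (by omega)
  rcases Nat.lt_or_ge p 378000 with h | h
  · exact (Table.relOK_iff chkPaths 377300 700).mp pc19 p (by omega) (by omega)
  rcases Nat.lt_or_ge p 378700 with h | h
  · exact (Table.relOK_iff chkPaths 378000 700).mp pc20 p (by omega) (by omega)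
  rcases Nat.lt_or_ge p 379400 with h | h
  · exact (Table.relOK_iff chkPaths 378700 700).mp pc21 p (by omega) (by omega)
  rcases Nat.lt_or_ge p 380100 with h | h
  · exact (Table.relOK_iff chkPaths 379400 700).mp pc22 p (by omega) (by omega)
  rcases Nat.lt_or_ge p 380800 with h | h
  · exact (Table.relOK_iff chkPaths 380100 700).mp pc23 p (by omega) (by omega)
  rcases Nat.lt_or_ge p 381500 with h | h
  · exact (Table.relOK_iff chkPaths 380800 700).mp pc24 p (by omega) (by omega)
  rcases Nat.lt_or_ge p 382200 with h | h
  · exact (Table.relOK_iff chkPaths 381500 700).mp pc25 p (by omega) (by omega)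
  rcases Nat.lt_or_ge p 382900 with h | h
  · exact (Table.relOK_iff chkPaths 382200 700).mp pc26 p (by omega) (by omega)
  rcases Nat.lt_or_ge p 383600 with h | h
  · exact (Table.relOK_iff chkPaths 382900 700).mp pc27 p (by omega) (by omega)
  rcases Nat.lt_or_ge p 384300 with h | h
  · exact (Table.relOK_iff chkPaths 383600 700).mp pc28 p (by omega) (by omega)
  rcases Nat.lt_or_ge p 385000 with h | h
  · exact (Table.relOK_iff chkPaths 384300 700).mp pc29 p (by omega) (by omega)
  rcases Nat.lt_or_ge p 385700 with h | h
  · exact (Table.relOK_iff chkPaths 385000 700).mp pc30 p (by omega) (by omega)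
  rcases Nat.lt_or_ge p 386400 with h | h
  · exact (Table.relOK_iff chkPaths 385700 700).mp pc31 p (by omega) (by omega)
  rcases Nat.lt_or_ge p 387100 with h | h
  · exact (Table.relOK_iff chkPaths 386400 700).mp pc32 p (by omega) (by omega)
  rcases Nat.lt_or_ge p 387800 with h | h
  · exact (Table.relOK_iff chkPaths 387100 700).mp pc33 p (by omega) (by omega)
  rcases Nat.lt_or_ge p 388500 with h | h
  · exact (Table.relOK_iff chkPaths 387800 700).mp pc34 p (by omega) (by omega)
  rcases Nat.lt_or_ge p 389200 with h | h
  · exact (Table.relOK_iff chkPaths 388500 700).mp pc35 p (by omega) (by omega)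
  rcases Nat.lt_or_ge p 389900 with h | h
  · exact (Table.relOK_iff chkPaths 389200 700).mp pc36 p (by omega) (by omega)
  rcases Nat.lt_or_ge p 390600 with h | h
  · exact (Table.relOK_iff chkPaths 389900 700).mp pc37 p (by omega) (by omega)
  rcases Nat.lt_or_ge p 391300 with h | h
  · exact (Table.relOK_iff chkPaths 390600 700).mp pc38 p (by omega) (by omega)
  exact (Table.relOK_iff chkPaths 391300 700).mp pc39 p (by omega) (by omega)

end Cfsg.Agent.Lib.Helper16.HNP.C18
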