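import Cfsg.Agent.Lib.Helper28.TC2Range
import Cfsg.Agent.Lib.Helper16.HNP.Table
set_option autoImplicit false
set_option maxRecDepth 100000
set_option maxHeartbeats 0
set_option Elab.async false

namespace Cfsg.Agent.Lib.Helper16.HNP.C9
open Cfsg.Agent.Lib.Helper28.TC2Upper Cfsg.Agent.Lib.Helper28.TC2Lower Cfsg.Agent.Lib.Helper28.TC2Range Cfsg.Agent.Lib.Helper16.HNP.Table

theorem pc0 : table.relOK chkPaths 112000 700 = true := by decide +kernel
theorem pc1 : table.relOK chkPaths 112700 700 = true := by decide +kernel
theorem pc2 : table.relOK chkPaths 113400 700 = true := by decide +kernel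
theorem pc3 : table.relOK chkPaths 114100 700 = true := by decide +kernel
theorem pc4 : table.relOK chkPaths 114800 700 = true := by decide +kernel
theorem pc5 : table.relOK chkPaths 115500 700 = true := by decide +kernel
theorem pc6 : table.relOK chkPaths 116200 700 = true := by decide +kernel
theorem pc7 : table.relOK chkPaths 116900 700 = true := by decide +kernel
theorem pc8 : table.relOK chkPaths 117600 700 = true := by decide +kernel
theorem pc9 : table.relOK chkPaths 118300 700 = true := by decide +kernel
theorem pc10 : table.relOK chkPaths 119000 700 = true := by decide +kernel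
theorem pc11 : table.relOK chkPaths 119700 700 = true := by decide +kernel
theorem pc12 : table.relOK chkPaths 120400 700 = true := by decide +kernel
theorem pc13 : table.relOK chkPaths 121100 700 = true := by decide +kernel
theorem pc14 : table.relOK chkPaths 121800 700 = true := by decide +kernel
theorem pc15 : table.relOK chkPaths 122500 700 = true := by decide +kernel
theorem pc16 : table.relOK chkPaths 123200 700 = true := by decide +kernel
theorem pc17 : table.relOK chkPaths 123900 700 = true := by decide +kernel
theorem pc18 : table.relOK chkPaths 124600 700 = true := by decide +kernel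
theorem pc19 : table.relOK chkPaths 125300 700 = true := by decide +kernel
theorem pc20 : table.relOK chkPaths 126000 700 = true := by decide +kernel
theorem pc21 : table.relOK chkPaths 126700 700 = true := by decide +kernel
theorem pc22 : table.relOK chkPaths 127400 700 = true := by decide +kernel
theorem pc23 : table.relOK chkPaths 128100 700 = true := by decide +kernel
theorem pc24 : table.relOK chkPaths 128800 700 = true := by decide +kernel
theorem pc25 : table.relOK chkPaths 129500 700 = true := by decide +kernel
theorem pc26 : table.relOK chkPaths 130200 700 = true := by decide +kernel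
theorem pc27 : table.relOK chkPaths 130900 700 = true := by decide +kernel
theorem pc28 : table.relOK chkPaths 131600 700 = true := by decide +kernel
theorem pc29 : table.relOK chkPaths 132300 700 = true := by decide +kernel
theorem pc30 : table.relOK chkPaths 133000 700 = true := by decide +kernel
theorem pc31 : table.relOK chkPaths 133700 700 = true := by decide +kernel
theorem pc32 : table.relOK chkPaths 134400 700 = true := by decide +kernel
theorem pc33 : table.relOK chkPaths 135100 700 = true := by decide +kernel
theorem pc34 : table.relOK chkPaths 135800 700 = true := by decide +kernel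
theorem pc35 : table.relOK chkPaths 136500 700 = true := by decide +kernel
theorem pc36 : table.relOK chkPaths 137200 700 = true := by decide +kernel
theorem pc37 : table.relOK chkPaths 137900 700 = true := by decide +kernel
theorem pc38 : table.relOK chkPaths 138600 700 = true := by decide +kernel
theorem pc39 : table.relOK chkPaths 139300 700 = true := by decide +kernel

theorem range : ∀ p, 112000 ≤ p → p < 140000 → ∀ r ∈ chkPaths, table.walkT r p = p := by
  intro p h1 h2
  rcases Nat.lt_or_ge p 112700 with h | h
  · exact (Table.relOK_iff chkPaths 112000 700).mp pc0 p (by omega) (by omega)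
  rcases Nat.lt_or_ge p 113400 with h | h
  · exact (Table.relOK_iff chkPaths 112700 700).mp pc1 p (by omega) (by omega)
  rcases Nat.lt_or_ge p 114100 with h | h
  · exact (Table.relOK_iff chkPaths 113400 700).mp pc2 p (by omega) (by omega)
  rcases Nat.lt_or_ge p 114800 with h | h
  · exact (Table.relOK_iff chkPaths 114100 700).mp pc3 p (by omega) (by omega)
  rcases Nat.lt_or_ge p 115500 with h | h
  · exact (Table.relOK_iff chkPaths 114800 700).mp pc4 p (by omega) (by omega)
  rcases Nat.lt_or_ge p 116200 with h | h
  · exact (Table.relOK_iff chkPaths 115500 700).mp pc5 p (by omega) (by omega)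
  rcases Nat.lt_or_ge p 116900 with h | h
  · exact (Table.relOK_iff chkPaths 116200 700).mp pc6 p (by omega) (by omega)
  rcases Nat.lt_or_ge p 117600 with h | h
  · exact (Table.relOK_iff chkPaths 116900 700).mp pc7 p (by omega) (by omega)
  rcases Nat.lt_or_ge p 118300 with h | h
  · exact (Table.relOK_iff chkPaths 117600 700).mp pc8 p (by omega) (by omega)
  rcases Nat.lt_or_ge p 119000 with h | h
  · exact (Table.relOK_iff chkPaths 118300 700).mp pc9 p (by omega) (by omega)
  rcases Nat.lt_or_ge p 119700 with h | h
  · exact (Table.relOK_iff chkPaths 119000 700).mp pc10 p (by omega) (by omega)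
  rcases Nat.lt_or_ge p 120400 with h | h
  · exact (Table.relOK_iff chkPaths 119700 700).mp pc11 p (by omega) (by omega)
  rcases Nat.lt_or_ge p 121100 with h | h
  · exact (Table.relOK_iff chkPaths 120400 700).mp pc12 p (by omega) (by omega)
  rcases Nat.lt_or_ge p 121800 with h | h
  · exact (Table.relOK_iff chkPaths 121100 700).mp pc13 p (by omega) (by omega)
  rcases Nat.lt_or_ge p 122500 with h | h
  · exact (Table.relOK_iff chkPaths 121800 700).mp pc14 p (by omega) (by omega)
  rcases Nat.lt_or_ge p 123200 with h | h
  · exact (Table.relOK_iff chkPaths 122500 700).mp pc15 p (by omega) (by omega)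
  rcases Nat.lt_or_ge p 123900 with h | h
  · exact (Table.relOK_iff chkPaths 123200 700).mp pc16 p (by omega) (by omega)
  rcases Nat.lt_or_ge p 124600 with h | h
  · exact (Table.relOK_iff chkPaths 123900 700).mp pc17 p (by omega) (by omega)
  rcases Nat.lt_or_ge p 125300 with h | h
  · exact (Table.relOK_iff chkPaths 124600 700).mp pc18 p (by omega) (by omega)
  rcases Nat.lt_or_ge p 126000 with h | h
  · exact (Table.relOK_iff chkPaths 125300 700).mp pc19 p (by omega) (by omega)
  rcases Nat.lt_or_ge p 126700 with h | h
  · exact (Table.relOK_iff chkPaths 126000 700).mp pc20 p (by omega) (by omega)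
  rcases Nat.lt_or_ge p 127400 with h | h
  · exact (Table.relOK_iff chkPaths 126700 700).mp pc21 p (by omega) (by omega)
  rcases Nat.lt_or_ge p 128100 with h | h
  · exact (Table.relOK_iff chkPaths 127400 700).mp pc22 p (by omega) (by omega)
  rcases Nat.lt_or_ge p 128800 with h | h
  · exact (Table.relOK_iff chkPaths 128100 700).mp pc23 p (by omega) (by omega)
  rcases Nat.lt_or_ge p 129500 with h | h
  · exact (Table.relOK_iff chkPaths 128800 700).mp pc24 p (by omega) (by omega)
  rcases Nat.lt_or_ge p 130200 with h | h
  · exact (Table.relOK_iff chkPaths 129500 700).mp pc25 p (by omega) (by omega)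
  rcases Nat.lt_or_ge p 130900 with h | h
  · exact (Table.relOK_iff chkPaths 130200 700).mp pc26 p (by omega) (by omega)
  rcases Nat.lt_or_ge p 131600 with h | h
  · exact (Table.relOK_iff chkPaths 130900 700).mp pc27 p (by omega) (by omega)
  rcases Nat.lt_or_ge p 132300 with h | h
  · exact (Table.relOK_iff chkPaths 131600 700).mp pc28 p (by omega) (by omega)
  rcases Nat.lt_or_ge p 133000 with h | h
  · exact (Table.relOK_iff chkPaths 132300 700).mp pc29 p (by omega) (by omega)
  rcases Nat.lt_or_ge p 133700 with h | h
  · exact (Table.relOK_iff chkPaths 133000 700).mp pc30 p (by omega) (by omega)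
  rcases Nat.lt_or_ge p 134400 with h | h
  · exact (Table.relOK_iff chkPaths 133700 700).mp pc31 p (by omega) (by omega)
  rcases Nat.lt_or_ge p 135100 with h | h
  · exact (Table.relOK_iff chkPaths 134400 700).mp pc32 p (by omega) (by omega)
  rcases Nat.lt_or_ge p 135800 with h | h
  · exact (Table.relOK_iff chkPaths 135100 700).mp pc33 p (by omega) (by omega)
  rcases Nat.lt_or_ge p 136500 with h | h
  · exact (Table.relOK_iff chkPaths 135800 700).mp pc34 p (by omega) (by omega)
  rcases Nat.lt_or_ge p 137200 with h | h
  · exact (Table.relOK_iff chkPaths 136500 700).mp pc35 p (by omega) (by omega)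
  rcases Nat.lt_or_ge p 137900 with h | h
  · exact (Table.relOK_iff chkPaths 137200 700).mp pc36 p (by omega) (by omega)
  rcases Nat.lt_or_ge p 138600 with h | h
  · exact (Table.relOK_iff chkPaths 137900 700).mp pc37 p (by omega) (by omega)
  rcases Nat.lt_or_ge p 139300 with h | h
  · exact (Table.relOK_iff chkPaths 138600 700).mp pc38 p (by omega) (by omega)
  exact (Table.relOK_iff chkPaths 139300 700).mp pc39 p (by omega) (by omega)

end Cfsg.Agent.Lib.Helper16.HNP.C9
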