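import Cfsg.Agent.Lib.Helper28.TC2Range
import Cfsg.Agent.Lib.Helper16.HNP.Table
import Cfsg.Agent.Lib.Helper16.HNP.C9
set_option autoImplicit false
set_option maxRecDepth 100000
set_option maxHeartbeats 0
set_option Elab.async false

namespace Cfsg.Agent.Lib.Helper16.HNP.C19
open Cfsg.Agent.Lib.Helper28.TC2Upper Cfsg.Agent.Lib.Helper28.TC2Lower Cfsg.Agent.Lib.Helper28.TC2Range Cfsg.Agent.Lib.Helper16.HNP.Table

theorem pc0 : table.relOK chkPaths 392000 700 = true := by decide +kernel
theorem pc1 : table.relOK chkPaths 392700 700 = true := by decide +kernel
theorem pc2 : table.relOK chkPaths 393400 700 = true := by decide +kernel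
theorem pc3 : table.relOK chkPaths 394100 700 = true := by decide +kernel
theorem pc4 : table.relOK chkPaths 394800 700 = true := by decide +kernel
theorem pc5 : table.relOK chkPaths 395500 700 = true := by decide +kernel
theorem pc6 : table.relOK chkPaths 396200 700 = true := by decide +kernel
theorem pc7 : table.relOK chkPaths 396900 700 = true := by decide +kernel
theorem pc8 : table.relOK chkPaths 397600 700 = true := by decide +kernel
theorem pc9 : table.relOK chkPaths 398300 700 = true := by decide +kernel
theorem pc10 : table.relOK chkPaths 399000 700 = true := by decide +kernel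
theorem pc11 : table.relOK chkPaths 399700 700 = true := by decide +kernel
theorem pc12 : table.relOK chkPaths 400400 700 = true := by decide +kernel
theorem pc13 : table.relOK chkPaths 401100 700 = true := by decide +kernel
theorem pc14 : table.relOK chkPaths 401800 700 = true := by decide +kernel
theorem pc15 : table.relOK chkPaths 402500 700 = true := by decide +kernel
theorem pc16 : table.relOK chkPaths 403200 700 = true := by decide +kernel
theorem pc17 : table.relOK chkPaths 403900 700 = true := by decide +kernel
theorem pc18 : table.relOK chkPaths 404600 700 = true := by decide +kernel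
theorem pc19 : table.relOK chkPaths 405300 700 = true := by decide +kernel
theorem pc20 : table.relOK chkPaths 406000 700 = true := by decide +kernel
theorem pc21 : table.relOK chkPaths 406700 700 = true := by decide +kernel
theorem pc22 : table.relOK chkPaths 407400 700 = true := by decide +kernel
theorem pc23 : table.relOK chkPaths 408100 700 = true := by decide +kernel
theorem pc24 : table.relOK chkPaths 408800 700 = true := by decide +kernel
theorem pc25 : table.relOK chkPaths 409500 700 = true := by decide +kernel
theorem pc26 : table.relOK chkPaths 410200 700 = true := by decide +kernel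
theorem pc27 : table.relOK chkPaths 410900 700 = true := by decide +kernel
theorem pc28 : table.relOK chkPaths 411600 700 = true := by decide +kernel
theorem pc29 : table.relOK chkPaths 412300 700 = true := by decide +kernel
theorem pc30 : table.relOK chkPaths 413000 700 = true := by decide +kernel
theorem pc31 : table.relOK chkPaths 413700 700 = true := by decide +kernel
theorem pc32 : table.relOK chkPaths 414400 700 = true := by decide +kernel
theorem pc33 : table.relOK chkPaths 415100 700 = true := by decide +kernel
theorem pc34 : table.relOK chkPaths 415800 700 = true := by decide +kernel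
theorem pc35 : table.relOK chkPaths 416500 700 = true := by decide +kernel
theorem pc36 : table.relOK chkPaths 417200 700 = true := by decide +kernel
theorem pc37 : table.relOK chkPaths 417900 700 = true := by decide +kernel
theorem pc38 : table.relOK chkPaths 418600 700 = true := by decide +kernel
theorem pc39 : table.relOK chkPaths 419300 700 = true := by decide +kernel

theorem range : ∀ p, 392000 ≤ p → p < 420000 → ∀ r ∈ chkPaths, table.walkT r p = p := by
  intro p h1 h2
  rcases Nat.lt_or_ge p 392700 with h | h
  · exact (Table.relOK_iff chkPaths 392000 700).mp pc0 p (by omega) (by omega)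
  rcases Nat.lt_or_ge p 393400 with h | h
  · exact (Table.relOK_iff chkPaths 392700 700).mp pc1 p (by omega) (by omega)
  rcases Nat.lt_or_ge p 394100 with h | h
  · exact (Table.relOK_iff chkPaths 393400 700).mp pc2 p (by omega) (by omega)
  rcases Nat.lt_or_ge p 394800 with h | h
  · exact (Table.relOK_iff chkPaths 394100 700).mp pc3 p (by omega) (by omega)
  rcases Nat.lt_or_ge p 395500 with h | h
  · exact (Table.relOK_iff chkPaths 394800 700).mp pc4 p (by omega) (by omega)
  rcases Nat.lt_or_ge p 396200 with h | h
  · exact (Table.relOK_iff chkPaths 395500 700).mp pc5 p (by omega) (by omega)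
  rcases Nat.lt_or_ge p 396900 with h | h
  · exact (Table.relOK_iff chkPaths 396200 700).mp pc6 p (by omega) (by omega)
  rcases Nat.lt_or_ge p 397600 with h | h
  · exact (Table.relOK_iff chkPaths 396900 700).mp pc7 p (by omega) (by omega)
  rcases Nat.lt_or_ge p 398300 with h | h
  · exact (Table.relOK_iff chkPaths 397600 700).mp pc8 p (by omega) (by omega)
  rcases Nat.lt_or_ge p 399000 with h | h
  · exact (Table.relOK_iff chkPaths 398300 700).mp pc9 p (by omega) (by omega)
  rcases Nat.lt_or_ge p 399700 with h | h
  · exact (Table.relOK_iff chkPaths 399000 700).mp pc10 p (by omega) (by omega)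
  rcases Nat.lt_or_ge p 400400 with h | h
  · exact (Table.relOK_iff chkPaths 399700 700).mp pc11 p (by omega) (by omega)
  rcases Nat.lt_or_ge p 401100 with h | h
  · exact (Table.relOK_iff chkPaths 400400 700).mp pc12 p (by omega) (by omega)
  rcases Nat.lt_or_ge p 401800 with h | h
  · exact (Table.relOK_iff chkPaths 401100 700).mp pc13 p (by omega) (by omega)
  rcases Nat.lt_or_ge p 402500 with h | h
  · exact (Table.relOK_iff chkPaths 401800 700).mp pc14 p (by omega) (by omega)
  rcases Nat.lt_or_ge p 403200 with h | h
  · exact (Table.relOK_iff chkPaths 402500 700).mp pc15 p (by omega) (by omega)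
  rcases Nat.lt_or_ge p 403900 with h | h
  · exact (Table.relOK_iff chkPaths 403200 700).mp pc16 p (by omega) (by omega)
  rcases Nat.lt_or_ge p 404600 with h | h
  · exact (Table.relOK_iff chkPaths 403900 700).mp pc17 p (by omega) (by omega)
  rcases Nat.lt_or_ge p 405300 with h | h
  · exact (Table.relOK_iff chkPaths 404600 700).mp pc18 p (by omega) (by omega)
  rcases Nat.lt_or_ge p 406000 with h | h
  · exact (Table.relOK_iff chkPaths 405300 700).mp pc19 p (by omega) (by omega)
  rcases Nat.lt_or_ge p 406700 with h | h
  · exact (Table.relOK_iff chkPaths 406000 700).mp pc20 p (by omega) (by omega)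
  rcases Nat.lt_or_ge p 407400 with h | h
  · exact (Table.relOK_iff chkPaths 406700 700).mp pc21 p (by omega) (by omega)
  rcases Nat.lt_or_ge p 408100 with h | h
  · exact (Table.relOK_iff chkPaths 407400 700).mp pc22 p (by omega) (by omega)
  rcases Nat.lt_or_ge p 408800 with h | h
  · exact (Table.relOK_iff chkPaths 408100 700).mp pc23 p (by omega) (by omega)
  rcases Nat.lt_or_ge p 409500 with h | h
  · exact (Table.relOK_iff chkPaths 408800 700).mp pc24 p (by omega) (by omega)
  rcases Nat.lt_or_ge p 410200 with h | h
  · exact (Table.relOK_iff chkPaths 409500 700).mp pc25 p (by omega) (by omega)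
  rcases Nat.lt_or_ge p 410900 with h | h
  · exact (Table.relOK_iff chkPaths 410200 700).mp pc26 p (by omega) (by omega)
  rcases Nat.lt_or_ge p 411600 with h | h
  · exact (Table.relOK_iff chkPaths 410900 700).mp pc27 p (by omega) (by omega)
  rcases Nat.lt_or_ge p 412300 with h | h
  · exact (Table.relOK_iff chkPaths 411600 700).mp pc28 p (by omega) (by omega)
  rcases Nat.lt_or_ge p 413000 with h | h
  · exact (Table.relOK_iff chkPaths 412300 700).mp pc29 p (by omega) (by omega)
  rcases Nat.lt_or_ge p 413700 with h | h
  · exact (Table.relOK_iff chkPaths 413000 700).mp pc30 p (by omega) (by omega)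
  rcases Nat.lt_or_ge p 414400 with h | h
  · exact (Table.relOK_iff chkPaths 413700 700).mp pc31 p (by omega) (by omega)
  rcases Nat.lt_or_ge p 415100 with h | h
  · exact (Table.relOK_iff chkPaths 414400 700).mp pc32 p (by omega) (by omega)
  rcases Nat.lt_or_ge p 415800 with h | h
  · exact (Table.relOK_iff chkPaths 415100 700).mp pc33 p (by omega) (by omega)
  rcases Nat.lt_or_ge p 416500 with h | h
  · exact (Table.relOK_iff chkPaths 415800 700).mp pc34 p (by omega) (by omega)
  rcases Nat.lt_or_ge p 417200 with h | h
  · exact (Table.relOK_iff chkPaths 416500 700).mp pc35 p (by omega) (by omega)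
  rcases Nat.lt_or_ge p 417900 with h | h
  · exact (Table.relOK_iff chkPaths 417200 700).mp pc36 p (by omega) (by omega)
  rcases Nat.lt_or_ge p 418600 with h | h
  · exact (Table.relOK_iff chkPaths 417900 700).mp pc37 p (by omega) (by omega)
  rcases Nat.lt_or_ge p 419300 with h | h
  · exact (Table.relOK_iff chkPaths 418600 700).mp pc38 p (by omega) (by omega)
  exact (Table.relOK_iff chkPaths 419300 700).mp pc39 p (by omega) (by omega)

end Cfsg.Agent.Lib.Helper16.HNP.C19
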