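import Cfsg.Agent.Lib.Helper28.TC2Range
import Cfsg.Agent.Lib.Helper16.HNP.Table
import Cfsg.Agent.Lib.Helper16.HNP.C10
set_option autoImplicit false
set_option maxRecDepth 100000
set_option maxHeartbeats 0
set_option Elab.async false

namespace Cfsg.Agent.Lib.Helper16.HNP.C20
open Cfsg.Agent.Lib.Helper28.TC2Upper Cfsg.Agent.Lib.Helper28.TC2Lower Cfsg.Agent.Lib.Helper28.TC2Range Cfsg.Agent.Lib.Helper16.HNP.Table

theorem pc0 : table.relOK chkPaths 420000 700 = true := by decide +kernel
theorem pc1 : table.relOK chkPaths 420700 700 = true := by decide +kernel
theorem pc2 : table.relOK chkPaths 421400 700 = true := by decide +kernel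
theorem pc3 : table.relOK chkPaths 422100 700 = true := by decide +kernel
theorem pc4 : table.relOK chkPaths 422800 700 = true := by decide +kernel
theorem pc5 : table.relOK chkPaths 423500 700 = true := by decide +kernel
theorem pc6 : table.relOK chkPaths 424200 700 = true := by decide +kernel
theorem pc7 : table.relOK chkPaths 424900 700 = true := by decide +kernel
theorem pc8 : table.relOK chkPaths 425600 700 = true := by decide +kernel
theorem pc9 : table.relOK chkPaths 426300 700 = true := by decide +kernel
theorem pc10 : table.relOK chkPaths 427000 700 = true := by decide +kernel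
theorem pc11 : table.relOK chkPaths 427700 700 = true := by decide +kernel
theorem pc12 : table.relOK chkPaths 428400 700 = true := by decide +kernel
theorem pc13 : table.relOK chkPaths 429100 700 = true := by decide +kernel
theorem pc14 : table.relOK chkPaths 429800 700 = true := by decide +kernel
theorem pc15 : table.relOK chkPaths 430500 700 = true := by decide +kernel
theorem pc16 : table.relOK chkPaths 431200 700 = true := by decide +kernel
theorem pc17 : table.relOK chkPaths 431900 700 = true := by decide +kernel
theorem pc18 : table.relOK chkPaths 432600 700 = true := by decide +kernel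
theorem pc19 : table.relOK chkPaths 433300 700 = true := by decide +kernel
theorem pc20 : table.relOK chkPaths 434000 700 = true := by decide +kernel
theorem pc21 : table.relOK chkPaths 434700 700 = true := by decide +kernel
theorem pc22 : table.relOK chkPaths 435400 700 = true := by decide +kernel
theorem pc23 : table.relOK chkPaths 436100 700 = true := by decide +kernel
theorem pc24 : table.relOK chkPaths 436800 700 = true := by decide +kernel
theorem pc25 : table.relOK chkPaths 437500 700 = true := by decide +kernel
theorem pc26 : table.relOK chkPaths 438200 700 = true := by decide +kernel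
theorem pc27 : table.relOK chkPaths 438900 700 = true := by decide +kernel
theorem pc28 : table.relOK chkPaths 439600 700 = true := by decide +kernel
theorem pc29 : table.relOK chkPaths 440300 700 = true := by decide +kernel
theorem pc30 : table.relOK chkPaths 441000 700 = true := by decide +kernel
theorem pc31 : table.relOK chkPaths 441700 700 = true := by decide +kernel
theorem pc32 : table.relOK chkPaths 442400 700 = true := by decide +kernel
theorem pc33 : table.relOK chkPaths 443100 700 = true := by decide +kernel
theorem pc34 : table.relOK chkPaths 443800 700 = true := by decide +kernel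
theorem pc35 : table.relOK chkPaths 444500 700 = true := by decide +kernel
theorem pc36 : table.relOK chkPaths 445200 700 = true := by decide +kernel
theorem pc37 : table.relOK chkPaths 445900 700 = true := by decide +kernel
theorem pc38 : table.relOK chkPaths 446600 700 = true := by decide +kernel
theorem pc39 : table.relOK chkPaths 447300 700 = true := by decide +kernel

theorem range : ∀ p, 420000 ≤ p → p < 448000 → ∀ r ∈ chkPaths, table.walkT r p = p := by
  intro p h1 h2
  rcases Nat.lt_or_ge p 420700 with h | h
  · exact (Table.relOK_iff chkPaths 420000 700).mp pc0 p (by omega) (by omega)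
  rcases Nat.lt_or_ge p 421400 with h | h
  · exact (Table.relOK_iff chkPaths 420700 700).mp pc1 p (by omega) (by omega)
  rcases Nat.lt_or_ge p 422100 with h | h
  · exact (Table.relOK_iff chkPaths 421400 700).mp pc2 p (by omega) (by omega)
  rcases Nat.lt_or_ge p 422800 with h | h
  · exact (Table.relOK_iff chkPaths 422100 700).mp pc3 p (by omega) (by omega)
  rcases Nat.lt_or_ge p 423500 with h | h
  · exact (Table.relOK_iff chkPaths 422800 700).mp pc4 p (by omega) (by omega)
  rcases Nat.lt_or_ge p 424200 with h | h
  · exact (Table.relOK_iff chkPaths 423500 700).mp pc5 p (by omega) (by omega)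
  rcases Nat.lt_or_ge p 424900 with h | h
  · exact (Table.relOK_iff chkPaths 424200 700).mp pc6 p (by omega) (by omega)
  rcases Nat.lt_or_ge p 425600 with h | h
  · exact (Table.relOK_iff chkPaths 424900 700).mp pc7 p (by omega) (by omega)
  rcases Nat.lt_or_ge p 426300 with h | h
  · exact (Table.relOK_iff chkPaths 425600 700).mp pc8 p (by omega) (by omega)
  rcases Nat.lt_or_ge p 427000 with h | h
  · exact (Table.relOK_iff chkPaths 426300 700).mp pc9 p (by omega) (by omega)
  rcases Nat.lt_or_ge p 427700 with h | h
  · exact (Table.relOK_iff chkPaths 427000 700).mp pc10 p (by omega) (by omega)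
  rcases Nat.lt_or_ge p 428400 with h | h
  · exact (Table.relOK_iff chkPaths 427700 700).mp pc11 p (by omega) (by omega)
  rcases Nat.lt_or_ge p 429100 with h | h
  · exact (Table.relOK_iff chkPaths 428400 700).mp pc12 p (by omega) (by omega)
  rcases Nat.lt_or_ge p 429800 with h | h
  · exact (Table.relOK_iff chkPaths 429100 700).mp pc13 p (by omega) (by omega)
  rcases Nat.lt_or_ge p 430500 with h | h
  · exact (Table.relOK_iff chkPaths 429800 700).mp pc14 p (by omega) (by omega)
  rcases Nat.lt_or_ge p 431200 with h | h
  · exact (Table.relOK_iff chkPaths 430500 700).mp pc15 p (by omega) (by omega)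
  rcases Nat.lt_or_ge p 431900 with h | h
  · exact (Table.relOK_iff chkPaths 431200 700).mp pc16 p (by omega) (by omega)
  rcases Nat.lt_or_ge p 432600 with h | h
  · exact (Table.relOK_iff chkPaths 431900 700).mp pc17 p (by omega) (by omega)
  rcases Nat.lt_or_ge p 433300 with h | h
  · exact (Table.relOK_iff chkPaths 432600 700).mp pc18 p (by omega) (by omega)
  rcases Nat.lt_or_ge p 434000 with h | h
  · exact (Table.relOK_iff chkPaths 433300 700).mp pc19 p (by omega) (by omega)
  rcases Nat.lt_or_ge p 434700 with h | h
  · exact (Table.relOK_iff chkPaths 434000 700).mp pc20 p (by omega) (by omega)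
  rcases Nat.lt_or_ge p 435400 with h | h
  · exact (Table.relOK_iff chkPaths 434700 700).mp pc21 p (by omega) (by omega)
  rcases Nat.lt_or_ge p 436100 with h | h
  · exact (Table.relOK_iff chkPaths 435400 700).mp pc22 p (by omega) (by omega)
  rcases Nat.lt_or_ge p 436800 with h | h
  · exact (Table.relOK_iff chkPaths 436100 700).mp pc23 p (by omega) (by omega)
  rcases Nat.lt_or_ge p 437500 with h | h
  · exact (Table.relOK_iff chkPaths 436800 700).mp pc24 p (by omega) (by omega)
  rcases Nat.lt_or_ge p 438200 with h | h
  · exact (Table.relOK_iff chkPaths 437500 700).mp pc25 p (by omega) (by omega)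
  rcases Nat.lt_or_ge p 438900 with h | h
  · exact (Table.relOK_iff chkPaths 438200 700).mp pc26 p (by omega) (by omega)
  rcases Nat.lt_or_ge p 439600 with h | h
  · exact (Table.relOK_iff chkPaths 438900 700).mp pc27 p (by omega) (by omega)
  rcases Nat.lt_or_ge p 440300 with h | h
  · exact (Table.relOK_iff chkPaths 439600 700).mp pc28 p (by omega) (by omega)
  rcases Nat.lt_or_ge p 441000 with h | h
  · exact (Table.relOK_iff chkPaths 440300 700).mp pc29 p (by omega) (by omega)
  rcases Nat.lt_or_ge p 441700 with h | h
  · exact (Table.relOK_iff chkPaths 441000 700).mp pc30 p (by omega) (by omega)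
  rcases Nat.lt_or_ge p 442400 with h | h
  · exact (Table.relOK_iff chkPaths 441700 700).mp pc31 p (by omega) (by omega)
  rcases Nat.lt_or_ge p 443100 with h | h
  · exact (Table.relOK_iff chkPaths 442400 700).mp pc32 p (by omega) (by omega)
  rcases Nat.lt_or_ge p 443800 with h | h
  · exact (Table.relOK_iff chkPaths 443100 700).mp pc33 p (by omega) (by omega)
  rcases Nat.lt_or_ge p 444500 with h | h
  · exact (Table.relOK_iff chkPaths 443800 700).mp pc34 p (by omega) (by omega)
  rcases Nat.lt_or_ge p 445200 with h | h
  · exact (Table.relOK_iff chkPaths 444500 700).mp pc35 p (by omega) (by omega)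
  rcases Nat.lt_or_ge p 445900 with h | h
  · exact (Table.relOK_iff chkPaths 445200 700).mp pc36 p (by omega) (by omega)
  rcases Nat.lt_or_ge p 446600 with h | h
  · exact (Table.relOK_iff chkPaths 445900 700).mp pc37 p (by omega) (by omega)
  rcases Nat.lt_or_ge p 447300 with h | h
  · exact (Table.relOK_iff chkPaths 446600 700).mp pc38 p (by omega) (by omega)
  exact (Table.relOK_iff chkPaths 447300 700).mp pc39 p (by omega) (by omega)

end Cfsg.Agent.Lib.Helper16.HNP.C20
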