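import Cfsg.Agent.Lib.Helper28.TC2Range
import Cfsg.Agent.Lib.Helper16.HNP.Table
import Cfsg.Agent.Lib.Helper16.HNP.C11
set_option autoImplicit false
set_option maxRecDepth 100000
set_option maxHeartbeats 0
set_option Elab.async false

namespace Cfsg.Agent.Lib.Helper16.HNP.C21
open Cfsg.Agent.Lib.Helper28.TC2Upper Cfsg.Agent.Lib.Helper28.TC2Lower Cfsg.Agent.Lib.Helper28.TC2Range Cfsg.Agent.Lib.Helper16.HNP.Table

theorem pc0 : table.relOK chkPaths 448000 700 = true := by decide +kernel
theorem pc1 : table.relOK chkPaths 448700 700 = true := by decide +kernel
theorem pc2 : table.relOK chkPaths 449400 700 = true := by decide +kernel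
theorem pc3 : table.relOK chkPaths 450100 700 = true := by decide +kernel
theorem pc4 : table.relOK chkPaths 450800 700 = true := by decide +kernel
theorem pc5 : table.relOK chkPaths 451500 700 = true := by decide +kernel
theorem pc6 : table.relOK chkPaths 452200 700 = true := by decide +kernel
theorem pc7 : table.relOK chkPaths 452900 700 = true := by decide +kernel
theorem pc8 : table.relOK chkPaths 453600 700 = true := by decide +kernel
theorem pc9 : table.relOK chkPaths 454300 700 = true := by decide +kernel
theorem pc10 : table.relOK chkPaths 455000 700 = true := by decide +kernel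
theorem pc11 : table.relOK chkPaths 455700 700 = true := by decide +kernel
theorem pc12 : table.relOK chkPaths 456400 700 = true := by decide +kernel
theorem pc13 : table.relOK chkPaths 457100 700 = true := by decide +kernel
theorem pc14 : table.relOK chkPaths 457800 700 = true := by decide +kernel
theorem pc15 : table.relOK chkPaths 458500 700 = true := by decide +kernel
theorem pc16 : table.relOK chkPaths 459200 700 = true := by decide +kernel
theorem pc17 : table.relOK chkPaths 459900 700 = true := by decide +kernel
theorem pc18 : table.relOK chkPaths 460600 700 = true := by decide +kernel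
theorem pc19 : table.relOK chkPaths 461300 700 = true := by decide +kernel
theorem pc20 : table.relOK chkPaths 462000 700 = true := by decide +kernel
theorem pc21 : table.relOK chkPaths 462700 700 = true := by decide +kernel
theorem pc22 : table.relOK chkPaths 463400 700 = true := by decide +kernel
theorem pc23 : table.relOK chkPaths 464100 700 = true := by decide +kernel
theorem pc24 : table.relOK chkPaths 464800 700 = true := by decide +kernel
theorem pc25 : table.relOK chkPaths 465500 700 = true := by decide +kernel
theorem pc26 : table.relOK chkPaths 466200 700 = true := by decide +kernel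
theorem pc27 : table.relOK chkPaths 466900 700 = true := by decide +kernel
theorem pc28 : table.relOK chkPaths 467600 700 = true := by decide +kernel
theorem pc29 : table.relOK chkPaths 468300 700 = true := by decide +kernel
theorem pc30 : table.relOK chkPaths 469000 700 = true := by decide +kernel
theorem pc31 : table.relOK chkPaths 469700 700 = true := by decide +kernel
theorem pc32 : table.relOK chkPaths 470400 700 = true := by decide +kernel
theorem pc33 : table.relOK chkPaths 471100 700 = true := by decide +kernel
theorem pc34 : table.relOK chkPaths 471800 700 = true := by decide +kernel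
theorem pc35 : table.relOK chkPaths 472500 700 = true := by decide +kernel
theorem pc36 : table.relOK chkPaths 473200 700 = true := by decide +kernel
theorem pc37 : table.relOK chkPaths 473900 700 = true := by decide +kernel
theorem pc38 : table.relOK chkPaths 474600 700 = true := by decide +kernel
theorem pc39 : table.relOK chkPaths 475300 700 = true := by decide +kernel

theorem range : ∀ p, 448000 ≤ p → p < 476000 → ∀ r ∈ chkPaths, table.walkT r p = p := by
  intro p h1 h2
  rcases Nat.lt_or_ge p 448700 with h | h
  · exact (Table.relOK_iff chkPaths 448000 700).mp pc0 p (by omega) (by omega)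
  rcases Nat.lt_or_ge p 449400 with h | h
  · exact (Table.relOK_iff chkPaths 448700 700).mp pc1 p (by omega) (by omega)
  rcases Nat.lt_or_ge p 450100 with h | h
  · exact (Table.relOK_iff chkPaths 449400 700).mp pc2 p (by omega) (by omega)
  rcases Nat.lt_or_ge p 450800 with h | h
  · exact (Table.relOK_iff chkPaths 450100 700).mp pc3 p (by omega) (by omega)
  rcases Nat.lt_or_ge p 451500 with h | h
  · exact (Table.relOK_iff chkPaths 450800 700).mp pc4 p (by omega) (by omega)
  rcases Nat.lt_or_ge p 452200 with h | h
  · exact (Table.relOK_iff chkPaths 451500 700).mp pc5 p (by omega) (by omega)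
  rcases Nat.lt_or_ge p 452900 with h | h
  · exact (Table.relOK_iff chkPaths 452200 700).mp pc6 p (by omega) (by omega)
  rcases Nat.lt_or_ge p 453600 with h | h
  · exact (Table.relOK_iff chkPaths 452900 700).mp pc7 p (by omega) (by omega)
  rcases Nat.lt_or_ge p 454300 with h | h
  · exact (Table.relOK_iff chkPaths 453600 700).mp pc8 p (by omega) (by omega)
  rcases Nat.lt_or_ge p 455000 with h | h
  · exact (Table.relOK_iff chkPaths 454300 700).mp pc9 p (by omega) (by omega)
  rcases Nat.lt_or_ge p 455700 with h | h
  · exact (Table.relOK_iff chkPaths 455000 700).mp pc10 p (by omega) (by omega)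
  rcases Nat.lt_or_ge p 456400 with h | h
  · exact (Table.relOK_iff chkPaths 455700 700).mp pc11 p (by omega) (by omega)
  rcases Nat.lt_or_ge p 457100 with h | h
  · exact (Table.relOK_iff chkPaths 456400 700).mp pc12 p (by omega) (by omega)
  rcases Nat.lt_or_ge p 457800 with h | h
  · exact (Table.relOK_iff chkPaths 457100 700).mp pc13 p (by omega) (by omega)
  rcases Nat.lt_or_ge p 458500 with h | h
  · exact (Table.relOK_iff chkPaths 457800 700).mp pc14 p (by omega) (by omega)
  rcases Nat.lt_or_ge p 459200 with h | h
  · exact (Table.relOK_iff chkPaths 458500 700).mp pc15 p (by omega) (by omega)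
  rcases Nat.lt_or_ge p 459900 with h | h
  · exact (Table.relOK_iff chkPaths 459200 700).mp pc16 p (by omega) (by omega)
  rcases Nat.lt_or_ge p 460600 with h | h
  · exact (Table.relOK_iff chkPaths 459900 700).mp pc17 p (by omega) (by omega)
  rcases Nat.lt_or_ge p 461300 with h | h
  · exact (Table.relOK_iff chkPaths 460600 700).mp pc18 p (by omega) (by omega)
  rcases Nat.lt_or_ge p 462000 with h | h
  · exact (Table.relOK_iff chkPaths 461300 700).mp pc19 p (by omega) (by omega)
  rcases Nat.lt_or_ge p 462700 with h | h
  · exact (Table.relOK_iff chkPaths 462000 700).mp pc20 p (by omega) (by omega)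
  rcases Nat.lt_or_ge p 463400 with h | h
  · exact (Table.relOK_iff chkPaths 462700 700).mp pc21 p (by omega) (by omega)
  rcases Nat.lt_or_ge p 464100 with h | h
  · exact (Table.relOK_iff chkPaths 463400 700).mp pc22 p (by omega) (by omega)
  rcases Nat.lt_or_ge p 464800 with h | h
  · exact (Table.relOK_iff chkPaths 464100 700).mp pc23 p (by omega) (by omega)
  rcases Nat.lt_or_ge p 465500 with h | h
  · exact (Table.relOK_iff chkPaths 464800 700).mp pc24 p (by omega) (by omega)
  rcases Nat.lt_or_ge p 466200 with h | h
  · exact (Table.relOK_iff chkPaths 465500 700).mp pc25 p (by omega) (by omega)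
  rcases Nat.lt_or_ge p 466900 with h | h
  · exact (Table.relOK_iff chkPaths 466200 700).mp pc26 p (by omega) (by omega)
  rcases Nat.lt_or_ge p 467600 with h | h
  · exact (Table.relOK_iff chkPaths 466900 700).mp pc27 p (by omega) (by omega)
  rcases Nat.lt_or_ge p 468300 with h | h
  · exact (Table.relOK_iff chkPaths 467600 700).mp pc28 p (by omega) (by omega)
  rcases Nat.lt_or_ge p 469000 with h | h
  · exact (Table.relOK_iff chkPaths 468300 700).mp pc29 p (by omega) (by omega)
  rcases Nat.lt_or_ge p 469700 with h | h
  · exact (Table.relOK_iff chkPaths 469000 700).mp pc30 p (by omega) (by omega)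
  rcases Nat.lt_or_ge p 470400 with h | h
  · exact (Table.relOK_iff chkPaths 469700 700).mp pc31 p (by omega) (by omega)
  rcases Nat.lt_or_ge p 471100 with h | h
  · exact (Table.relOK_iff chkPaths 470400 700).mp pc32 p (by omega) (by omega)
  rcases Nat.lt_or_ge p 471800 with h | h
  · exact (Table.relOK_iff chkPaths 471100 700).mp pc33 p (by omega) (by omega)
  rcases Nat.lt_or_ge p 472500 with h | h
  · exact (Table.relOK_iff chkPaths 471800 700).mp pc34 p (by omega) (by omega)
  rcases Nat.lt_or_ge p 473200 with h | h
  · exact (Table.relOK_iff chkPaths 472500 700).mp pc35 p (by omega) (by omega)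
  rcases Nat.lt_or_ge p 473900 with h | h
  · exact (Table.relOK_iff chkPaths 473200 700).mp pc36 p (by omega) (by omega)
  rcases Nat.lt_or_ge p 474600 with h | h
  · exact (Table.relOK_iff chkPaths 473900 700).mp pc37 p (by omega) (by omega)
  rcases Nat.lt_or_ge p 475300 with h | h
  · exact (Table.relOK_iff chkPaths 474600 700).mp pc38 p (by omega) (by omega)
  exact (Table.relOK_iff chkPaths 475300 700).mp pc39 p (by omega) (by omega)

end Cfsg.Agent.Lib.Helper16.HNP.C21
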