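import Cfsg.Agent.Lib.Helper28.TC2Range
import Cfsg.Agent.Lib.Helper16.HNP.Table
import Cfsg.Agent.Lib.Helper16.HNP.C13
set_option autoImplicit false
set_option maxRecDepth 100000
set_option maxHeartbeats 0
set_option Elab.async false

namespace Cfsg.Agent.Lib.Helper16.HNP.C23
open Cfsg.Agent.Lib.Helper28.TC2Upper Cfsg.Agent.Lib.Helper28.TC2Lower Cfsg.Agent.Lib.Helper28.TC2Range Cfsg.Agent.Lib.Helper16.HNP.Table

theorem pc0 : table.relOK chkPaths 504000 700 = true := by decide +kernel
theorem pc1 : table.relOK chkPaths 504700 700 = true := by decide +kernel
theorem pc2 : table.relOK chkPaths 505400 700 = true := by decide +kernel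
theorem pc3 : table.relOK chkPaths 506100 700 = true := by decide +kernel
theorem pc4 : table.relOK chkPaths 506800 700 = true := by decide +kernel
theorem pc5 : table.relOK chkPaths 507500 700 = true := by decide +kernel
theorem pc6 : table.relOK chkPaths 508200 700 = true := by decide +kernel
theorem pc7 : table.relOK chkPaths 508900 700 = true := by decide +kernel
theorem pc8 : table.relOK chkPaths 509600 700 = true := by decide +kernel
theorem pc9 : table.relOK chkPaths 510300 700 = true := by decide +kernel
theorem pc10 : table.relOK chkPaths 511000 700 = true := by decide +kernel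
theorem pc11 : table.relOK chkPaths 511700 700 = true := by decide +kernel
theorem pc12 : table.relOK chkPaths 512400 700 = true := by decide +kernel
theorem pc13 : table.relOK chkPaths 513100 700 = true := by decide +kernel
theorem pc14 : table.relOK chkPaths 513800 700 = true := by decide +kernel
theorem pc15 : table.relOK chkPaths 514500 700 = true := by decide +kernel
theorem pc16 : table.relOK chkPaths 515200 700 = true := by decide +kernel
theorem pc17 : table.relOK chkPaths 515900 700 = true := by decide +kernel
theorem pc18 : table.relOK chkPaths 516600 700 = true := by decide +kernel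
theorem pc19 : table.relOK chkPaths 517300 700 = true := by decide +kernel
theorem pc20 : table.relOK chkPaths 518000 700 = true := by decide +kernel
theorem pc21 : table.relOK chkPaths 518700 700 = true := by decide +kernel
theorem pc22 : table.relOK chkPaths 519400 700 = true := by decide +kernel
theorem pc23 : table.relOK chkPaths 520100 700 = true := by decide +kernel
theorem pc24 : table.relOK chkPaths 520800 700 = true := by decide +kernel
theorem pc25 : table.relOK chkPaths 521500 700 = true := by decide +kernel
theorem pc26 : table.relOK chkPaths 522200 700 = true := by decide +kernel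
theorem pc27 : table.relOK chkPaths 522900 700 = true := by decide +kernel
theorem pc28 : table.relOK chkPaths 523600 700 = true := by decide +kernel
theorem pc29 : table.relOK chkPaths 524300 700 = true := by decide +kernel
theorem pc30 : table.relOK chkPaths 525000 700 = true := by decide +kernel
theorem pc31 : table.relOK chkPaths 525700 700 = true := by decide +kernel
theorem pc32 : table.relOK chkPaths 526400 700 = true := by decide +kernel
theorem pc33 : table.relOK chkPaths 527100 700 = true := by decide +kernel
theorem pc34 : table.relOK chkPaths 527800 700 = true := by decide +kernel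
theorem pc35 : table.relOK chkPaths 528500 700 = true := by decide +kernel
theorem pc36 : table.relOK chkPaths 529200 700 = true := by decide +kernel
theorem pc37 : table.relOK chkPaths 529900 700 = true := by decide +kernel
theorem pc38 : table.relOK chkPaths 530600 700 = true := by decide +kernel
theorem pc39 : table.relOK chkPaths 531300 700 = true := by decide +kernel

theorem range : ∀ p, 504000 ≤ p → p < 532000 → ∀ r ∈ chkPaths, table.walkT r p = p := by
  intro p h1 h2
  rcases Nat.lt_or_ge p 504700 with h | h
  · exact (Table.relOK_iff chkPaths 504000 700).mp pc0 p (by omega) (by omega)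
  rcases Nat.lt_or_ge p 505400 with h | h
  · exact (Table.relOK_iff chkPaths 504700 700).mp pc1 p (by omega) (by omega)
  rcases Nat.lt_or_ge p 506100 with h | h
  · exact (Table.relOK_iff chkPaths 505400 700).mp pc2 p (by omega) (by omega)
  rcases Nat.lt_or_ge p 506800 with h | h
  · exact (Table.relOK_iff chkPaths 506100 700).mp pc3 p (by omega) (by omega)
  rcases Nat.lt_or_ge p 507500 with h | h
  · exact (Table.relOK_iff chkPaths 506800 700).mp pc4 p (by omega) (by omega)
  rcases Nat.lt_or_ge p 508200 with h | h
  · exact (Table.relOK_iff chkPaths 507500 700).mp pc5 p (by omega) (by omega)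
  rcases Nat.lt_or_ge p 508900 with h | h
  · exact (Table.relOK_iff chkPaths 508200 700).mp pc6 p (by omega) (by omega)
  rcases Nat.lt_or_ge p 509600 with h | h
  · exact (Table.relOK_iff chkPaths 508900 700).mp pc7 p (by omega) (by omega)
  rcases Nat.lt_or_ge p 510300 with h | h
  · exact (Table.relOK_iff chkPaths 509600 700).mp pc8 p (by omega) (by omega)
  rcases Nat.lt_or_ge p 511000 with h | h
  · exact (Table.relOK_iff chkPaths 510300 700).mp pc9 p (by omega) (by omega)
  rcases Nat.lt_or_ge p 511700 with h | h
  · exact (Table.relOK_iff chkPaths 511000 700).mp pc10 p (by omega) (by omega)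
  rcases Nat.lt_or_ge p 512400 with h | h
  · exact (Table.relOK_iff chkPaths 511700 700).mp pc11 p (by omega) (by omega)
  rcases Nat.lt_or_ge p 513100 with h | h
  · exact (Table.relOK_iff chkPaths 512400 700).mp pc12 p (by omega) (by omega)
  rcases Nat.lt_or_ge p 513800 with h | h
  · exact (Table.relOK_iff chkPaths 513100 700).mp pc13 p (by omega) (by omega)
  rcases Nat.lt_or_ge p 514500 with h | h
  · exact (Table.relOK_iff chkPaths 513800 700).mp pc14 p (by omega) (by omega)
  rcases Nat.lt_or_ge p 515200 with h | h
  · exact (Table.relOK_iff chkPaths 514500 700).mp pc15 p (by omega) (by omega)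
  rcases Nat.lt_or_ge p 515900 with h | h
  · exact (Table.relOK_iff chkPaths 515200 700).mp pc16 p (by omega) (by omega)
  rcases Nat.lt_or_ge p 516600 with h | h
  · exact (Table.relOK_iff chkPaths 515900 700).mp pc17 p (by omega) (by omega)
  rcases Nat.lt_or_ge p 517300 with h | h
  · exact (Table.relOK_iff chkPaths 516600 700).mp pc18 p (by omega) (by omega)
  rcases Nat.lt_or_ge p 518000 with h | h
  · exact (Table.relOK_iff chkPaths 517300 700).mp pc19 p (by omega) (by omega)
  rcases Nat.lt_or_ge p 518700 with h | h
  · exact (Table.relOK_iff chkPaths 518000 700).mp pc20 p (by omega) (by omega)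
  rcases Nat.lt_or_ge p 519400 with h | h
  · exact (Table.relOK_iff chkPaths 518700 700).mp pc21 p (by omega) (by omega)
  rcases Nat.lt_or_ge p 520100 with h | h
  · exact (Table.relOK_iff chkPaths 519400 700).mp pc22 p (by omega) (by omega)
  rcases Nat.lt_or_ge p 520800 with h | h
  · exact (Table.relOK_iff chkPaths 520100 700).mp pc23 p (by omega) (by omega)
  rcases Nat.lt_or_ge p 521500 with h | h
  · exact (Table.relOK_iff chkPaths 520800 700).mp pc24 p (by omega) (by omega)
  rcases Nat.lt_or_ge p 522200 with h | h
  · exact (Table.relOK_iff chkPaths 521500 700).mp pc25 p (by omega) (by omega)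
  rcases Nat.lt_or_ge p 522900 with h | h
  · exact (Table.relOK_iff chkPaths 522200 700).mp pc26 p (by omega) (by omega)
  rcases Nat.lt_or_ge p 523600 with h | h
  · exact (Table.relOK_iff chkPaths 522900 700).mp pc27 p (by omega) (by omega)
  rcases Nat.lt_or_ge p 524300 with h | h
  · exact (Table.relOK_iff chkPaths 523600 700).mp pc28 p (by omega) (by omega)
  rcases Nat.lt_or_ge p 525000 with h | h
  · exact (Table.relOK_iff chkPaths 524300 700).mp pc29 p (by omega) (by omega)
  rcases Nat.lt_or_ge p 525700 with h | h
  · exact (Table.relOK_iff chkPaths 525000 700).mp pc30 p (by omega) (by omega)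
  rcases Nat.lt_or_ge p 526400 with h | h
  · exact (Table.relOK_iff chkPaths 525700 700).mp pc31 p (by omega) (by omega)
  rcases Nat.lt_or_ge p 527100 with h | h
  · exact (Table.relOK_iff chkPaths 526400 700).mp pc32 p (by omega) (by omega)
  rcases Nat.lt_or_ge p 527800 with h | h
  · exact (Table.relOK_iff chkPaths 527100 700).mp pc33 p (by omega) (by omega)
  rcases Nat.lt_or_ge p 528500 with h | h
  · exact (Table.relOK_iff chkPaths 527800 700).mp pc34 p (by omega) (by omega)
  rcases Nat.lt_or_ge p 529200 with h | h
  · exact (Table.relOK_iff chkPaths 528500 700).mp pc35 p (by omega) (by omega)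
  rcases Nat.lt_or_ge p 529900 with h | h
  · exact (Table.relOK_iff chkPaths 529200 700).mp pc36 p (by omega) (by omega)
  rcases Nat.lt_or_ge p 530600 with h | h
  · exact (Table.relOK_iff chkPaths 529900 700).mp pc37 p (by omega) (by omega)
  rcases Nat.lt_or_ge p 531300 with h | h
  · exact (Table.relOK_iff chkPaths 530600 700).mp pc38 p (by omega) (by omega)
  exact (Table.relOK_iff chkPaths 531300 700).mp pc39 p (by omega) (by omega)

end Cfsg.Agent.Lib.Helper16.HNP.C23
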