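import Cfsg.Agent.Lib.Helper28.TC2Range
import Cfsg.Agent.Lib.Helper16.HNP.Table
import Cfsg.Agent.Lib.Helper16.HNP.C14
set_option autoImplicit false
set_option maxRecDepth 100000
set_option maxHeartbeats 0
set_option Elab.async false

namespace Cfsg.Agent.Lib.Helper16.HNP.C24
open Cfsg.Agent.Lib.Helper28.TC2Upper Cfsg.Agent.Lib.Helper28.TC2Lower Cfsg.Agent.Lib.Helper28.TC2Range Cfsg.Agent.Lib.Helper16.HNP.Table

theorem pc0 : table.relOK chkPaths 532000 700 = true := by decide +kernel
theorem pc1 : table.relOK chkPaths 532700 700 = true := by decide +kernel
theorem pc2 : table.relOK chkPaths 533400 700 = true := by decide +kernel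
theorem pc3 : table.relOK chkPaths 534100 700 = true := by decide +kernel
theorem pc4 : table.relOK chkPaths 534800 700 = true := by decide +kernel
theorem pc5 : table.relOK chkPaths 535500 700 = true := by decide +kernel
theorem pc6 : table.relOK chkPaths 536200 700 = true := by decide +kernel
theorem pc7 : table.relOK chkPaths 536900 700 = true := by decide +kernel
theorem pc8 : table.relOK chkPaths 537600 700 = true := by decide +kernel
theorem pc9 : table.relOK chkPaths 538300 700 = true := by decide +kernel
theorem pc10 : table.relOK chkPaths 539000 700 = true := by decide +kernel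
theorem pc11 : table.relOK chkPaths 539700 700 = true := by decide +kernel
theorem pc12 : table.relOK chkPaths 540400 700 = true := by decide +kernel
theorem pc13 : table.relOK chkPaths 541100 700 = true := by decide +kernel
theorem pc14 : table.relOK chkPaths 541800 700 = true := by decide +kernel
theorem pc15 : table.relOK chkPaths 542500 700 = true := by decide +kernel
theorem pc16 : table.relOK chkPaths 543200 700 = true := by decide +kernel
theorem pc17 : table.relOK chkPaths 543900 700 = true := by decide +kernel
theorem pc18 : table.relOK chkPaths 544600 700 = true := by decide +kernel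
theorem pc19 : table.relOK chkPaths 545300 700 = true := by decide +kernel
theorem pc20 : table.relOK chkPaths 546000 700 = true := by decide +kernel
theorem pc21 : table.relOK chkPaths 546700 700 = true := by decide +kernel
theorem pc22 : table.relOK chkPaths 547400 700 = true := by decide +kernel
theorem pc23 : table.relOK chkPaths 548100 700 = true := by decide +kernel
theorem pc24 : table.relOK chkPaths 548800 700 = true := by decide +kernel
theorem pc25 : table.relOK chkPaths 549500 700 = true := by decide +kernel
theorem pc26 : table.relOK chkPaths 550200 700 = true := by decide +kernel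
theorem pc27 : table.relOK chkPaths 550900 700 = true := by decide +kernel
theorem pc28 : table.relOK chkPaths 551600 700 = true := by decide +kernel
theorem pc29 : table.relOK chkPaths 552300 700 = true := by decide +kernel
theorem pc30 : table.relOK chkPaths 553000 700 = true := by decide +kernel
theorem pc31 : table.relOK chkPaths 553700 700 = true := by decide +kernel
theorem pc32 : table.relOK chkPaths 554400 700 = true := by decide +kernel
theorem pc33 : table.relOK chkPaths 555100 700 = true := by decide +kernel
theorem pc34 : table.relOK chkPaths 555800 700 = true := by decide +kernel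
theorem pc35 : table.relOK chkPaths 556500 700 = true := by decide +kernel
theorem pc36 : table.relOK chkPaths 557200 700 = true := by decide +kernel
theorem pc37 : table.relOK chkPaths 557900 700 = true := by decide +kernel
theorem pc38 : table.relOK chkPaths 558600 700 = true := by decide +kernel
theorem pc39 : table.relOK chkPaths 559300 700 = true := by decide +kernel

theorem range : ∀ p, 532000 ≤ p → p < 560000 → ∀ r ∈ chkPaths, table.walkT r p = p := by
  intro p h1 h2
  rcases Nat.lt_or_ge p 532700 with h | h
  · exact (Table.relOK_iff chkPaths 532000 700).mp pc0 p (by omega) (by omega)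
  rcases Nat.lt_or_ge p 533400 with h | h
  · exact (Table.relOK_iff chkPaths 532700 700).mp pc1 p (by omega) (by omega)
  rcases Nat.lt_or_ge p 534100 with h | h
  · exact (Table.relOK_iff chkPaths 533400 700).mp pc2 p (by omega) (by omega)
  rcases Nat.lt_or_ge p 534800 with h | h
  · exact (Table.relOK_iff chkPaths 534100 700).mp pc3 p (by omega) (by omega)
  rcases Nat.lt_or_ge p 535500 with h | h
  · exact (Table.relOK_iff chkPaths 534800 700).mp pc4 p (by omega) (by omega)
  rcases Nat.lt_or_ge p 536200 with h | h
  · exact (Table.relOK_iff chkPaths 535500 700).mp pc5 p (by omega) (by omega)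
  rcases Nat.lt_or_ge p 536900 with h | h
  · exact (Table.relOK_iff chkPaths 536200 700).mp pc6 p (by omega) (by omega)
  rcases Nat.lt_or_ge p 537600 with h | h
  · exact (Table.relOK_iff chkPaths 536900 700).mp pc7 p (by omega) (by omega)
  rcases Nat.lt_or_ge p 538300 with h | h
  · exact (Table.relOK_iff chkPaths 537600 700).mp pc8 p (by omega) (by omega)
  rcases Nat.lt_or_ge p 539000 with h | h
  · exact (Table.relOK_iff chkPaths 538300 700).mp pc9 p (by omega) (by omega)
  rcases Nat.lt_or_ge p 539700 with h | h
  · exact (Table.relOK_iff chkPaths 539000 700).mp pc10 p (by omega) (by omega)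
  rcases Nat.lt_or_ge p 540400 with h | h
  · exact (Table.relOK_iff chkPaths 539700 700).mp pc11 p (by omega) (by omega)
  rcases Nat.lt_or_ge p 541100 with h | h
  · exact (Table.relOK_iff chkPaths 540400 700).mp pc12 p (by omega) (by omega)
  rcases Nat.lt_or_ge p 541800 with h | h
  · exact (Table.relOK_iff chkPaths 541100 700).mp pc13 p (by omega) (by omega)
  rcases Nat.lt_or_ge p 542500 with h | h
  · exact (Table.relOK_iff chkPaths 541800 700).mp pc14 p (by omega) (by omega)
  rcases Nat.lt_or_ge p 543200 with h | h
  · exact (Table.relOK_iff chkPaths 542500 700).mp pc15 p (by omega) (by omega)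
  rcases Nat.lt_or_ge p 543900 with h | h
  · exact (Table.relOK_iff chkPaths 543200 700).mp pc16 p (by omega) (by omega)
  rcases Nat.lt_or_ge p 544600 with h | h
  · exact (Table.relOK_iff chkPaths 543900 700).mp pc17 p (by omega) (by omega)
  rcases Nat.lt_or_ge p 545300 with h | h
  · exact (Table.relOK_iff chkPaths 544600 700).mp pc18 p (by omega) (by omega)
  rcases Nat.lt_or_ge p 546000 with h | h
  · exact (Table.relOK_iff chkPaths 545300 700).mp pc19 p (by omega) (by omega)
  rcases Nat.lt_or_ge p 546700 with h | h
  · exact (Table.relOK_iff chkPaths 546000 700).mp pc20 p (by omega) (by omega)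
  rcases Nat.lt_or_ge p 547400 with h | h
  · exact (Table.relOK_iff chkPaths 546700 700).mp pc21 p (by omega) (by omega)
  rcases Nat.lt_or_ge p 548100 with h | h
  · exact (Table.relOK_iff chkPaths 547400 700).mp pc22 p (by omega) (by omega)
  rcases Nat.lt_or_ge p 548800 with h | h
  · exact (Table.relOK_iff chkPaths 548100 700).mp pc23 p (by omega) (by omega)
  rcases Nat.lt_or_ge p 549500 with h | h
  · exact (Table.relOK_iff chkPaths 548800 700).mp pc24 p (by omega) (by omega)
  rcases Nat.lt_or_ge p 550200 with h | h
  · exact (Table.relOK_iff chkPaths 549500 700).mp pc25 p (by omega) (by omega)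
  rcases Nat.lt_or_ge p 550900 with h | h
  · exact (Table.relOK_iff chkPaths 550200 700).mp pc26 p (by omega) (by omega)
  rcases Nat.lt_or_ge p 551600 with h | h
  · exact (Table.relOK_iff chkPaths 550900 700).mp pc27 p (by omega) (by omega)
  rcases Nat.lt_or_ge p 552300 with h | h
  · exact (Table.relOK_iff chkPaths 551600 700).mp pc28 p (by omega) (by omega)
  rcases Nat.lt_or_ge p 553000 with h | h
  · exact (Table.relOK_iff chkPaths 552300 700).mp pc29 p (by omega) (by omega)
  rcases Nat.lt_or_ge p 553700 with h | h
  · exact (Table.relOK_iff chkPaths 553000 700).mp pc30 p (by omega) (by omega)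
  rcases Nat.lt_or_ge p 554400 with h | h
  · exact (Table.relOK_iff chkPaths 553700 700).mp pc31 p (by omega) (by omega)
  rcases Nat.lt_or_ge p 555100 with h | h
  · exact (Table.relOK_iff chkPaths 554400 700).mp pc32 p (by omega) (by omega)
  rcases Nat.lt_or_ge p 555800 with h | h
  · exact (Table.relOK_iff chkPaths 555100 700).mp pc33 p (by omega) (by omega)
  rcases Nat.lt_or_ge p 556500 with h | h
  · exact (Table.relOK_iff chkPaths 555800 700).mp pc34 p (by omega) (by omega)
  rcases Nat.lt_or_ge p 557200 with h | h
  · exact (Table.relOK_iff chkPaths 556500 700).mp pc35 p (by omega) (by omega)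
  rcases Nat.lt_or_ge p 557900 with h | h
  · exact (Table.relOK_iff chkPaths 557200 700).mp pc36 p (by omega) (by omega)
  rcases Nat.lt_or_ge p 558600 with h | h
  · exact (Table.relOK_iff chkPaths 557900 700).mp pc37 p (by omega) (by omega)
  rcases Nat.lt_or_ge p 559300 with h | h
  · exact (Table.relOK_iff chkPaths 558600 700).mp pc38 p (by omega) (by omega)
  exact (Table.relOK_iff chkPaths 559300 700).mp pc39 p (by omega) (by omega)

end Cfsg.Agent.Lib.Helper16.HNP.C24
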