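import Cfsg.Agent.Lib.Helper28.TC2Range
import Cfsg.Agent.Lib.Helper16.HNP.Table
import Cfsg.Agent.Lib.Helper16.HNP.C15
set_option autoImplicit false
set_option maxRecDepth 100000
set_option maxHeartbeats 0
set_option Elab.async false

namespace Cfsg.Agent.Lib.Helper16.HNP.C25
open Cfsg.Agent.Lib.Helper28.TC2Upper Cfsg.Agent.Lib.Helper28.TC2Lower Cfsg.Agent.Lib.Helper28.TC2Range Cfsg.Agent.Lib.Helper16.HNP.Table

theorem pc0 : table.relOK chkPaths 560000 700 = true := by decide +kernel
theorem pc1 : table.relOK chkPaths 560700 700 = true := by decide +kernel
theorem pc2 : table.relOK chkPaths 561400 700 = true := by decide +kernel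
theorem pc3 : table.relOK chkPaths 562100 700 = true := by decide +kernel
theorem pc4 : table.relOK chkPaths 562800 700 = true := by decide +kernel
theorem pc5 : table.relOK chkPaths 563500 700 = true := by decide +kernel
theorem pc6 : table.relOK chkPaths 564200 700 = true := by decide +kernel
theorem pc7 : table.relOK chkPaths 564900 700 = true := by decide +kernel
theorem pc8 : table.relOK chkPaths 565600 700 = true := by decide +kernel
theorem pc9 : table.relOK chkPaths 566300 700 = true := by decide +kernel
theorem pc10 : table.relOK chkPaths 567000 700 = true := by decide +kernel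
theorem pc11 : table.relOK chkPaths 567700 700 = true := by decide +kernel
theorem pc12 : table.relOK chkPaths 568400 700 = true := by decide +kernel
theorem pc13 : table.relOK chkPaths 569100 700 = true := by decide +kernel
theorem pc14 : table.relOK chkPaths 569800 700 = true := by decide +kernel
theorem pc15 : table.relOK chkPaths 570500 700 = true := by decide +kernel
theorem pc16 : table.relOK chkPaths 571200 700 = true := by decide +kernel
theorem pc17 : table.relOK chkPaths 571900 700 = true := by decide +kernel
theorem pc18 : table.relOK chkPaths 572600 700 = true := by decide +kernel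
theorem pc19 : table.relOK chkPaths 573300 700 = true := by decide +kernel
theorem pc20 : table.relOK chkPaths 574000 700 = true := by decide +kernel
theorem pc21 : table.relOK chkPaths 574700 700 = true := by decide +kernel
theorem pc22 : table.relOK chkPaths 575400 700 = true := by decide +kernel
theorem pc23 : table.relOK chkPaths 576100 700 = true := by decide +kernel
theorem pc24 : table.relOK chkPaths 576800 700 = true := by decide +kernel
theorem pc25 : table.relOK chkPaths 577500 700 = true := by decide +kernel
theorem pc26 : table.relOK chkPaths 578200 700 = true := by decide +kernel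
theorem pc27 : table.relOK chkPaths 578900 700 = true := by decide +kernel
theorem pc28 : table.relOK chkPaths 579600 700 = true := by decide +kernel
theorem pc29 : table.relOK chkPaths 580300 700 = true := by decide +kernel
theorem pc30 : table.relOK chkPaths 581000 700 = true := by decide +kernel
theorem pc31 : table.relOK chkPaths 581700 700 = true := by decide +kernel
theorem pc32 : table.relOK chkPaths 582400 700 = true := by decide +kernel
theorem pc33 : table.relOK chkPaths 583100 700 = true := by decide +kernel
theorem pc34 : table.relOK chkPaths 583800 700 = true := by decide +kernel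
theorem pc35 : table.relOK chkPaths 584500 700 = true := by decide +kernel
theorem pc36 : table.relOK chkPaths 585200 700 = true := by decide +kernel
theorem pc37 : table.relOK chkPaths 585900 700 = true := by decide +kernel
theorem pc38 : table.relOK chkPaths 586600 700 = true := by decide +kernel
theorem pc39 : table.relOK chkPaths 587300 700 = true := by decide +kernel

theorem range : ∀ p, 560000 ≤ p → p < 588000 → ∀ r ∈ chkPaths, table.walkT r p = p := by
  intro p h1 h2
  rcases Nat.lt_or_ge p 560700 with h | h
  · exact (Table.relOK_iff chkPaths 560000 700).mp pc0 p (by omega) (by omega)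
  rcases Nat.lt_or_ge p 561400 with h | h
  · exact (Table.relOK_iff chkPaths 560700 700).mp pc1 p (by omega) (by omega)
  rcases Nat.lt_or_ge p 562100 with h | h
  · exact (Table.relOK_iff chkPaths 561400 700).mp pc2 p (by omega) (by omega)
  rcases Nat.lt_or_ge p 562800 with h | h
  · exact (Table.relOK_iff chkPaths 562100 700).mp pc3 p (by omega) (by omega)
  rcases Nat.lt_or_ge p 563500 with h | h
  · exact (Table.relOK_iff chkPaths 562800 700).mp pc4 p (by omega) (by omega)
  rcases Nat.lt_or_ge p 564200 with h | h
  · exact (Table.relOK_iff chkPaths 563500 700).mp pc5 p (by omega) (by omega)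
  rcases Nat.lt_or_ge p 564900 with h | h
  · exact (Table.relOK_iff chkPaths 564200 700).mp pc6 p (by omega) (by omega)
  rcases Nat.lt_or_ge p 565600 with h | h
  · exact (Table.relOK_iff chkPaths 564900 700).mp pc7 p (by omega) (by omega)
  rcases Nat.lt_or_ge p 566300 with h | h
  · exact (Table.relOK_iff chkPaths 565600 700).mp pc8 p (by omega) (by omega)
  rcases Nat.lt_or_ge p 567000 with h | h
  · exact (Table.relOK_iff chkPaths 566300 700).mp pc9 p (by omega) (by omega)
  rcases Nat.lt_or_ge p 567700 with h | h
  · exact (Table.relOK_iff chkPaths 567000 700).mp pc10 p (by omega) (by omega)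
  rcases Nat.lt_or_ge p 568400 with h | h
  · exact (Table.relOK_iff chkPaths 567700 700).mp pc11 p (by omega) (by omega)
  rcases Nat.lt_or_ge p 569100 with h | h
  · exact (Table.relOK_iff chkPaths 568400 700).mp pc12 p (by omega) (by omega)
  rcases Nat.lt_or_ge p 569800 with h | h
  · exact (Table.relOK_iff chkPaths 569100 700).mp pc13 p (by omega) (by omega)
  rcases Nat.lt_or_ge p 570500 with h | h
  · exact (Table.relOK_iff chkPaths 569800 700).mp pc14 p (by omega) (by omega)
  rcases Nat.lt_or_ge p 571200 with h | h
  · exact (Table.relOK_iff chkPaths 570500 700).mp pc15 p (by omega) (by omega)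
  rcases Nat.lt_or_ge p 571900 with h | h
  · exact (Table.relOK_iff chkPaths 571200 700).mp pc16 p (by omega) (by omega)
  rcases Nat.lt_or_ge p 572600 with h | h
  · exact (Table.relOK_iff chkPaths 571900 700).mp pc17 p (by omega) (by omega)
  rcases Nat.lt_or_ge p 573300 with h | h
  · exact (Table.relOK_iff chkPaths 572600 700).mp pc18 p (by omega) (by omega)
  rcases Nat.lt_or_ge p 574000 with h | h
  · exact (Table.relOK_iff chkPaths 573300 700).mp pc19 p (by omega) (by omega)
  rcases Nat.lt_or_ge p 574700 with h | h
  · exact (Table.relOK_iff chkPaths 574000 700).mp pc20 p (by omega) (by omega)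
  rcases Nat.lt_or_ge p 575400 with h | h
  · exact (Table.relOK_iff chkPaths 574700 700).mp pc21 p (by omega) (by omega)
  rcases Nat.lt_or_ge p 576100 with h | h
  · exact (Table.relOK_iff chkPaths 575400 700).mp pc22 p (by omega) (by omega)
  rcases Nat.lt_or_ge p 576800 with h | h
  · exact (Table.relOK_iff chkPaths 576100 700).mp pc23 p (by omega) (by omega)
  rcases Nat.lt_or_ge p 577500 with h | h
  · exact (Table.relOK_iff chkPaths 576800 700).mp pc24 p (by omega) (by omega)
  rcases Nat.lt_or_ge p 578200 with h | h
  · exact (Table.relOK_iff chkPaths 577500 700).mp pc25 p (by omega) (by omega)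
  rcases Nat.lt_or_ge p 578900 with h | h
  · exact (Table.relOK_iff chkPaths 578200 700).mp pc26 p (by omega) (by omega)
  rcases Nat.lt_or_ge p 579600 with h | h
  · exact (Table.relOK_iff chkPaths 578900 700).mp pc27 p (by omega) (by omega)
  rcases Nat.lt_or_ge p 580300 with h | h
  · exact (Table.relOK_iff chkPaths 579600 700).mp pc28 p (by omega) (by omega)
  rcases Nat.lt_or_ge p 581000 with h | h
  · exact (Table.relOK_iff chkPaths 580300 700).mp pc29 p (by omega) (by omega)
  rcases Nat.lt_or_ge p 581700 with h | h
  · exact (Table.relOK_iff chkPaths 581000 700).mp pc30 p (by omega) (by omega)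
  rcases Nat.lt_or_ge p 582400 with h | h
  · exact (Table.relOK_iff chkPaths 581700 700).mp pc31 p (by omega) (by omega)
  rcases Nat.lt_or_ge p 583100 with h | h
  · exact (Table.relOK_iff chkPaths 582400 700).mp pc32 p (by omega) (by omega)
  rcases Nat.lt_or_ge p 583800 with h | h
  · exact (Table.relOK_iff chkPaths 583100 700).mp pc33 p (by omega) (by omega)
  rcases Nat.lt_or_ge p 584500 with h | h
  · exact (Table.relOK_iff chkPaths 583800 700).mp pc34 p (by omega) (by omega)
  rcases Nat.lt_or_ge p 585200 with h | h
  · exact (Table.relOK_iff chkPaths 584500 700).mp pc35 p (by omega) (by omega)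
  rcases Nat.lt_or_ge p 585900 with h | h
  · exact (Table.relOK_iff chkPaths 585200 700).mp pc36 p (by omega) (by omega)
  rcases Nat.lt_or_ge p 586600 with h | h
  · exact (Table.relOK_iff chkPaths 585900 700).mp pc37 p (by omega) (by omega)
  rcases Nat.lt_or_ge p 587300 with h | h
  · exact (Table.relOK_iff chkPaths 586600 700).mp pc38 p (by omega) (by omega)
  exact (Table.relOK_iff chkPaths 587300 700).mp pc39 p (by omega) (by omega)

end Cfsg.Agent.Lib.Helper16.HNP.C25
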