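import Cfsg.Agent.Lib.Helper28.TC2Range
import Cfsg.Agent.Lib.Helper16.HNP.Table
import Cfsg.Agent.Lib.Helper16.HNP.C16
set_option autoImplicit false
set_option maxRecDepth 100000
set_option maxHeartbeats 0
set_option Elab.async false

namespace Cfsg.Agent.Lib.Helper16.HNP.C26
open Cfsg.Agent.Lib.Helper28.TC2Upper Cfsg.Agent.Lib.Helper28.TC2Lower Cfsg.Agent.Lib.Helper28.TC2Range Cfsg.Agent.Lib.Helper16.HNP.Table

theorem pc0 : table.relOK chkPaths 588000 700 = true := by decide +kernel
theorem pc1 : table.relOK chkPaths 588700 700 = true := by decide +kernel
theorem pc2 : table.relOK chkPaths 589400 700 = true := by decide +kernel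
theorem pc3 : table.relOK chkPaths 590100 700 = true := by decide +kernel
theorem pc4 : table.relOK chkPaths 590800 700 = true := by decide +kernel
theorem pc5 : table.relOK chkPaths 591500 700 = true := by decide +kernel
theorem pc6 : table.relOK chkPaths 592200 700 = true := by decide +kernel
theorem pc7 : table.relOK chkPaths 592900 700 = true := by decide +kernel
theorem pc8 : table.relOK chkPaths 593600 700 = true := by decide +kernel
theorem pc9 : table.relOK chkPaths 594300 700 = true := by decide +kernel
theorem pc10 : table.relOK chkPaths 595000 700 = true := by decide +kernel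
theorem pc11 : table.relOK chkPaths 595700 700 = true := by decide +kernel
theorem pc12 : table.relOK chkPaths 596400 700 = true := by decide +kernel
theorem pc13 : table.relOK chkPaths 597100 700 = true := by decide +kernel
theorem pc14 : table.relOK chkPaths 597800 700 = true := by decide +kernel
theorem pc15 : table.relOK chkPaths 598500 700 = true := by decide +kernel
theorem pc16 : table.relOK chkPaths 599200 700 = true := by decide +kernel
theorem pc17 : table.relOK chkPaths 599900 700 = true := by decide +kernel
theorem pc18 : table.relOK chkPaths 600600 700 = true := by decide +kernel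
theorem pc19 : table.relOK chkPaths 601300 700 = true := by decide +kernel
theorem pc20 : table.relOK chkPaths 602000 700 = true := by decide +kernel
theorem pc21 : table.relOK chkPaths 602700 700 = true := by decide +kernel
theorem pc22 : table.relOK chkPaths 603400 700 = true := by decide +kernel
theorem pc23 : table.relOK chkPaths 604100 700 = true := by decide +kernel
theorem pc24 : table.relOK chkPaths 604800 700 = true := by decide +kernel
theorem pc25 : table.relOK chkPaths 605500 700 = true := by decide +kernel
theorem pc26 : table.relOK chkPaths 606200 700 = true := by decide +kernel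
theorem pc27 : table.relOK chkPaths 606900 700 = true := by decide +kernel
theorem pc28 : table.relOK chkPaths 607600 700 = true := by decide +kernel
theorem pc29 : table.relOK chkPaths 608300 700 = true := by decide +kernel
theorem pc30 : table.relOK chkPaths 609000 700 = true := by decide +kernel
theorem pc31 : table.relOK chkPaths 609700 700 = true := by decide +kernel
theorem pc32 : table.relOK chkPaths 610400 700 = true := by decide +kernel
theorem pc33 : table.relOK chkPaths 611100 700 = true := by decide +kernel
theorem pc34 : table.relOK chkPaths 611800 700 = true := by decide +kernel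
theorem pc35 : table.relOK chkPaths 612500 700 = true := by decide +kernel
theorem pc36 : table.relOK chkPaths 613200 700 = true := by decide +kernel
theorem pc37 : table.relOK chkPaths 613900 700 = true := by decide +kernel
theorem pc38 : table.relOK chkPaths 614600 700 = true := by decide +kernel
theorem pc39 : table.relOK chkPaths 615300 700 = true := by decide +kernel

theorem range : ∀ p, 588000 ≤ p → p < 616000 → ∀ r ∈ chkPaths, table.walkT r p = p := by
  intro p h1 h2
  rcases Nat.lt_or_ge p 588700 with h | h
  · exact (Table.relOK_iff chkPaths 588000 700).mp pc0 p (by omega) (by omega)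
  rcases Nat.lt_or_ge p 589400 with h | h
  · exact (Table.relOK_iff chkPaths 588700 700).mp pc1 p (by omega) (by omega)
  rcases Nat.lt_or_ge p 590100 with h | h
  · exact (Table.relOK_iff chkPaths 589400 700).mp pc2 p (by omega) (by omega)
  rcases Nat.lt_or_ge p 590800 with h | h
  · exact (Table.relOK_iff chkPaths 590100 700).mp pc3 p (by omega) (by omega)
  rcases Nat.lt_or_ge p 591500 with h | h
  · exact (Table.relOK_iff chkPaths 590800 700).mp pc4 p (by omega) (by omega)
  rcases Nat.lt_or_ge p 592200 with h | h
  · exact (Table.relOK_iff chkPaths 591500 700).mp pc5 p (by omega) (by omega)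
  rcases Nat.lt_or_ge p 592900 with h | h
  · exact (Table.relOK_iff chkPaths 592200 700).mp pc6 p (by omega) (by omega)
  rcases Nat.lt_or_ge p 593600 with h | h
  · exact (Table.relOK_iff chkPaths 592900 700).mp pc7 p (by omega) (by omega)
  rcases Nat.lt_or_ge p 594300 with h | h
  · exact (Table.relOK_iff chkPaths 593600 700).mp pc8 p (by omega) (by omega)
  rcases Nat.lt_or_ge p 595000 with h | h
  · exact (Table.relOK_iff chkPaths 594300 700).mp pc9 p (by omega) (by omega)
  rcases Nat.lt_or_ge p 595700 with h | h
  · exact (Table.relOK_iff chkPaths 595000 700).mp pc10 p (by omega) (by omega)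
  rcases Nat.lt_or_ge p 596400 with h | h
  · exact (Table.relOK_iff chkPaths 595700 700).mp pc11 p (by omega) (by omega)
  rcases Nat.lt_or_ge p 597100 with h | h
  · exact (Table.relOK_iff chkPaths 596400 700).mp pc12 p (by omega) (by omega)
  rcases Nat.lt_or_ge p 597800 with h | h
  · exact (Table.relOK_iff chkPaths 597100 700).mp pc13 p (by omega) (by omega)
  rcases Nat.lt_or_ge p 598500 with h | h
  · exact (Table.relOK_iff chkPaths 597800 700).mp pc14 p (by omega) (by omega)
  rcases Nat.lt_or_ge p 599200 with h | h
  · exact (Table.relOK_iff chkPaths 598500 700).mp pc15 p (by omega) (by omega)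
  rcases Nat.lt_or_ge p 599900 with h | h
  · exact (Table.relOK_iff chkPaths 599200 700).mp pc16 p (by omega) (by omega)
  rcases Nat.lt_or_ge p 600600 with h | h
  · exact (Table.relOK_iff chkPaths 599900 700).mp pc17 p (by omega) (by omega)
  rcases Nat.lt_or_ge p 601300 with h | h
  · exact (Table.relOK_iff chkPaths 600600 700).mp pc18 p (by omega) (by omega)
  rcases Nat.lt_or_ge p 602000 with h | h
  · exact (Table.relOK_iff chkPaths 601300 700).mp pc19 p (by omega) (by omega)
  rcases Nat.lt_or_ge p 602700 with h | h
  · exact (Table.relOK_iff chkPaths 602000 700).mp pc20 p (by omega) (by omega)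
  rcases Nat.lt_or_ge p 603400 with h | h
  · exact (Table.relOK_iff chkPaths 602700 700).mp pc21 p (by omega) (by omega)
  rcases Nat.lt_or_ge p 604100 with h | h
  · exact (Table.relOK_iff chkPaths 603400 700).mp pc22 p (by omega) (by omega)
  rcases Nat.lt_or_ge p 604800 with h | h
  · exact (Table.relOK_iff chkPaths 604100 700).mp pc23 p (by omega) (by omega)
  rcases Nat.lt_or_ge p 605500 with h | h
  · exact (Table.relOK_iff chkPaths 604800 700).mp pc24 p (by omega) (by omega)
  rcases Nat.lt_or_ge p 606200 with h | h
  · exact (Table.relOK_iff chkPaths 605500 700).mp pc25 p (by omega) (by omega)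
  rcases Nat.lt_or_ge p 606900 with h | h
  · exact (Table.relOK_iff chkPaths 606200 700).mp pc26 p (by omega) (by omega)
  rcases Nat.lt_or_ge p 607600 with h | h
  · exact (Table.relOK_iff chkPaths 606900 700).mp pc27 p (by omega) (by omega)
  rcases Nat.lt_or_ge p 608300 with h | h
  · exact (Table.relOK_iff chkPaths 607600 700).mp pc28 p (by omega) (by omega)
  rcases Nat.lt_or_ge p 609000 with h | h
  · exact (Table.relOK_iff chkPaths 608300 700).mp pc29 p (by omega) (by omega)
  rcases Nat.lt_or_ge p 609700 with h | h
  · exact (Table.relOK_iff chkPaths 609000 700).mp pc30 p (by omega) (by omega)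
  rcases Nat.lt_or_ge p 610400 with h | h
  · exact (Table.relOK_iff chkPaths 609700 700).mp pc31 p (by omega) (by omega)
  rcases Nat.lt_or_ge p 611100 with h | h
  · exact (Table.relOK_iff chkPaths 610400 700).mp pc32 p (by omega) (by omega)
  rcases Nat.lt_or_ge p 611800 with h | h
  · exact (Table.relOK_iff chkPaths 611100 700).mp pc33 p (by omega) (by omega)
  rcases Nat.lt_or_ge p 612500 with h | h
  · exact (Table.relOK_iff chkPaths 611800 700).mp pc34 p (by omega) (by omega)
  rcases Nat.lt_or_ge p 613200 with h | h
  · exact (Table.relOK_iff chkPaths 612500 700).mp pc35 p (by omega) (by omega)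
  rcases Nat.lt_or_ge p 613900 with h | h
  · exact (Table.relOK_iff chkPaths 613200 700).mp pc36 p (by omega) (by omega)
  rcases Nat.lt_or_ge p 614600 with h | h
  · exact (Table.relOK_iff chkPaths 613900 700).mp pc37 p (by omega) (by omega)
  rcases Nat.lt_or_ge p 615300 with h | h
  · exact (Table.relOK_iff chkPaths 614600 700).mp pc38 p (by omega) (by omega)
  exact (Table.relOK_iff chkPaths 615300 700).mp pc39 p (by omega) (by omega)

end Cfsg.Agent.Lib.Helper16.HNP.C26
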