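import Cfsg.Agent.Lib.Helper28.TC2Range
import Cfsg.Agent.Lib.Helper16.HNP.Table
import Cfsg.Agent.Lib.Helper16.HNP.C17
set_option autoImplicit false
set_option maxRecDepth 100000
set_option maxHeartbeats 0
set_option Elab.async false

namespace Cfsg.Agent.Lib.Helper16.HNP.C27
open Cfsg.Agent.Lib.Helper28.TC2Upper Cfsg.Agent.Lib.Helper28.TC2Lower Cfsg.Agent.Lib.Helper28.TC2Range Cfsg.Agent.Lib.Helper16.HNP.Table

theorem pc0 : table.relOK chkPaths 616000 700 = true := by decide +kernel
theorem pc1 : table.relOK chkPaths 616700 700 = true := by decide +kernel
theorem pc2 : table.relOK chkPaths 617400 700 = true := by decide +kernel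
theorem pc3 : table.relOK chkPaths 618100 700 = true := by decide +kernel
theorem pc4 : table.relOK chkPaths 618800 700 = true := by decide +kernel
theorem pc5 : table.relOK chkPaths 619500 700 = true := by decide +kernel
theorem pc6 : table.relOK chkPaths 620200 700 = true := by decide +kernel
theorem pc7 : table.relOK chkPaths 620900 700 = true := by decide +kernel
theorem pc8 : table.relOK chkPaths 621600 700 = true := by decide +kernel
theorem pc9 : table.relOK chkPaths 622300 700 = true := by decide +kernel
theorem pc10 : table.relOK chkPaths 623000 700 = true := by decide +kernel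
theorem pc11 : table.relOK chkPaths 623700 700 = true := by decide +kernel
theorem pc12 : table.relOK chkPaths 624400 700 = true := by decide +kernel
theorem pc13 : table.relOK chkPaths 625100 700 = true := by decide +kernel
theorem pc14 : table.relOK chkPaths 625800 700 = true := by decide +kernel
theorem pc15 : table.relOK chkPaths 626500 700 = true := by decide +kernel
theorem pc16 : table.relOK chkPaths 627200 700 = true := by decide +kernel
theorem pc17 : table.relOK chkPaths 627900 700 = true := by decide +kernel
theorem pc18 : table.relOK chkPaths 628600 700 = true := by decide +kernel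
theorem pc19 : table.relOK chkPaths 629300 700 = true := by decide +kernel
theorem pc20 : table.relOK chkPaths 630000 700 = true := by decide +kernel
theorem pc21 : table.relOK chkPaths 630700 700 = true := by decide +kernel
theorem pc22 : table.relOK chkPaths 631400 700 = true := by decide +kernel
theorem pc23 : table.relOK chkPaths 632100 700 = true := by decide +kernel
theorem pc24 : table.relOK chkPaths 632800 700 = true := by decide +kernel
theorem pc25 : table.relOK chkPaths 633500 700 = true := by decide +kernel
theorem pc26 : table.relOK chkPaths 634200 700 = true := by decide +kernel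
theorem pc27 : table.relOK chkPaths 634900 700 = true := by decide +kernel
theorem pc28 : table.relOK chkPaths 635600 700 = true := by decide +kernel
theorem pc29 : table.relOK chkPaths 636300 700 = true := by decide +kernel
theorem pc30 : table.relOK chkPaths 637000 700 = true := by decide +kernel
theorem pc31 : table.relOK chkPaths 637700 700 = true := by decide +kernel
theorem pc32 : table.relOK chkPaths 638400 700 = true := by decide +kernel
theorem pc33 : table.relOK chkPaths 639100 700 = true := by decide +kernel
theorem pc34 : table.relOK chkPaths 639800 700 = true := by decide +kernel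
theorem pc35 : table.relOK chkPaths 640500 700 = true := by decide +kernel
theorem pc36 : table.relOK chkPaths 641200 700 = true := by decide +kernel
theorem pc37 : table.relOK chkPaths 641900 700 = true := by decide +kernel
theorem pc38 : table.relOK chkPaths 642600 700 = true := by decide +kernel
theorem pc39 : table.relOK chkPaths 643300 700 = true := by decide +kernel

theorem range : ∀ p, 616000 ≤ p → p < 644000 → ∀ r ∈ chkPaths, table.walkT r p = p := by
  intro p h1 h2
  rcases Nat.lt_or_ge p 616700 with h | h
  · exact (Table.relOK_iff chkPaths 616000 700).mp pc0 p (by omega) (by omega)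
  rcases Nat.lt_or_ge p 617400 with h | h
  · exact (Table.relOK_iff chkPaths 616700 700).mp pc1 p (by omega) (by omega)
  rcases Nat.lt_or_ge p 618100 with h | h
  · exact (Table.relOK_iff chkPaths 617400 700).mp pc2 p (by omega) (by omega)
  rcases Nat.lt_or_ge p 618800 with h | h
  · exact (Table.relOK_iff chkPaths 618100 700).mp pc3 p (by omega) (by omega)
  rcases Nat.lt_or_ge p 619500 with h | h
  · exact (Table.relOK_iff chkPaths 618800 700).mp pc4 p (by omega) (by omega)
  rcases Nat.lt_or_ge p 620200 with h | h
  · exact (Table.relOK_iff chkPaths 619500 700).mp pc5 p (by omega) (by omega)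
  rcases Nat.lt_or_ge p 620900 with h | h
  · exact (Table.relOK_iff chkPaths 620200 700).mp pc6 p (by omega) (by omega)
  rcases Nat.lt_or_ge p 621600 with h | h
  · exact (Table.relOK_iff chkPaths 620900 700).mp pc7 p (by omega) (by omega)
  rcases Nat.lt_or_ge p 622300 with h | h
  · exact (Table.relOK_iff chkPaths 621600 700).mp pc8 p (by omega) (by omega)
  rcases Nat.lt_or_ge p 623000 with h | h
  · exact (Table.relOK_iff chkPaths 622300 700).mp pc9 p (by omega) (by omega)
  rcases Nat.lt_or_ge p 623700 with h | h
  · exact (Table.relOK_iff chkPaths 623000 700).mp pc10 p (by omega) (by omega)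
  rcases Nat.lt_or_ge p 624400 with h | h
  · exact (Table.relOK_iff chkPaths 623700 700).mp pc11 p (by omega) (by omega)
  rcases Nat.lt_or_ge p 625100 with h | h
  · exact (Table.relOK_iff chkPaths 624400 700).mp pc12 p (by omega) (by omega)
  rcases Nat.lt_or_ge p 625800 with h | h
  · exact (Table.relOK_iff chkPaths 625100 700).mp pc13 p (by omega) (by omega)
  rcases Nat.lt_or_ge p 626500 with h | h
  · exact (Table.relOK_iff chkPaths 625800 700).mp pc14 p (by omega) (by omega)
  rcases Nat.lt_or_ge p 627200 with h | h
  · exact (Table.relOK_iff chkPaths 626500 700).mp pc15 p (by omega) (by omega)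
  rcases Nat.lt_or_ge p 627900 with h | h
  · exact (Table.relOK_iff chkPaths 627200 700).mp pc16 p (by omega) (by omega)
  rcases Nat.lt_or_ge p 628600 with h | h
  · exact (Table.relOK_iff chkPaths 627900 700).mp pc17 p (by omega) (by omega)
  rcases Nat.lt_or_ge p 629300 with h | h
  · exact (Table.relOK_iff chkPaths 628600 700).mp pc18 p (by omega) (by omega)
  rcases Nat.lt_or_ge p 630000 with h | h
  · exact (Table.relOK_iff chkPaths 629300 700).mp pc19 p (by omega) (by omega)
  rcases Nat.lt_or_ge p 630700 with h | h
  · exact (Table.relOK_iff chkPaths 630000 700).mp pc20 p (by omega) (by omega)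
  rcases Nat.lt_or_ge p 631400 with h | h
  · exact (Table.relOK_iff chkPaths 630700 700).mp pc21 p (by omega) (by omega)
  rcases Nat.lt_or_ge p 632100 with h | h
  · exact (Table.relOK_iff chkPaths 631400 700).mp pc22 p (by omega) (by omega)
  rcases Nat.lt_or_ge p 632800 with h | h
  · exact (Table.relOK_iff chkPaths 632100 700).mp pc23 p (by omega) (by omega)
  rcases Nat.lt_or_ge p 633500 with h | h
  · exact (Table.relOK_iff chkPaths 632800 700).mp pc24 p (by omega) (by omega)
  rcases Nat.lt_or_ge p 634200 with h | h
  · exact (Table.relOK_iff chkPaths 633500 700).mp pc25 p (by omega) (by omega)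
  rcases Nat.lt_or_ge p 634900 with h | h
  · exact (Table.relOK_iff chkPaths 634200 700).mp pc26 p (by omega) (by omega)
  rcases Nat.lt_or_ge p 635600 with h | h
  · exact (Table.relOK_iff chkPaths 634900 700).mp pc27 p (by omega) (by omega)
  rcases Nat.lt_or_ge p 636300 with h | h
  · exact (Table.relOK_iff chkPaths 635600 700).mp pc28 p (by omega) (by omega)
  rcases Nat.lt_or_ge p 637000 with h | h
  · exact (Table.relOK_iff chkPaths 636300 700).mp pc29 p (by omega) (by omega)
  rcases Nat.lt_or_ge p 637700 with h | h
  · exact (Table.relOK_iff chkPaths 637000 700).mp pc30 p (by omega) (by omega)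
  rcases Nat.lt_or_ge p 638400 with h | h
  · exact (Table.relOK_iff chkPaths 637700 700).mp pc31 p (by omega) (by omega)
  rcases Nat.lt_or_ge p 639100 with h | h
  · exact (Table.relOK_iff chkPaths 638400 700).mp pc32 p (by omega) (by omega)
  rcases Nat.lt_or_ge p 639800 with h | h
  · exact (Table.relOK_iff chkPaths 639100 700).mp pc33 p (by omega) (by omega)
  rcases Nat.lt_or_ge p 640500 with h | h
  · exact (Table.relOK_iff chkPaths 639800 700).mp pc34 p (by omega) (by omega)
  rcases Nat.lt_or_ge p 641200 with h | h
  · exact (Table.relOK_iff chkPaths 640500 700).mp pc35 p (by omega) (by omega)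
  rcases Nat.lt_or_ge p 641900 with h | h
  · exact (Table.relOK_iff chkPaths 641200 700).mp pc36 p (by omega) (by omega)
  rcases Nat.lt_or_ge p 642600 with h | h
  · exact (Table.relOK_iff chkPaths 641900 700).mp pc37 p (by omega) (by omega)
  rcases Nat.lt_or_ge p 643300 with h | h
  · exact (Table.relOK_iff chkPaths 642600 700).mp pc38 p (by omega) (by omega)
  exact (Table.relOK_iff chkPaths 643300 700).mp pc39 p (by omega) (by omega)

end Cfsg.Agent.Lib.Helper16.HNP.C27
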