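import Cfsg.Agent.Lib.Helper28.TC2Range
import Cfsg.Agent.Lib.Helper16.HNP.Table
import Cfsg.Agent.Lib.Helper16.HNP.C18
set_option autoImplicit false
set_option maxRecDepth 100000
set_option maxHeartbeats 0
set_option Elab.async false

namespace Cfsg.Agent.Lib.Helper16.HNP.C28
open Cfsg.Agent.Lib.Helper28.TC2Upper Cfsg.Agent.Lib.Helper28.TC2Lower Cfsg.Agent.Lib.Helper28.TC2Range Cfsg.Agent.Lib.Helper16.HNP.Table

theorem pc0 : table.relOK chkPaths 644000 700 = true := by decide +kernel
theorem pc1 : table.relOK chkPaths 644700 700 = true := by decide +kernel
theorem pc2 : table.relOK chkPaths 645400 700 = true := by decide +kernel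
theorem pc3 : table.relOK chkPaths 646100 700 = true := by decide +kernel
theorem pc4 : table.relOK chkPaths 646800 700 = true := by decide +kernel
theorem pc5 : table.relOK chkPaths 647500 700 = true := by decide +kernel
theorem pc6 : table.relOK chkPaths 648200 700 = true := by decide +kernel
theorem pc7 : table.relOK chkPaths 648900 700 = true := by decide +kernel
theorem pc8 : table.relOK chkPaths 649600 700 = true := by decide +kernel
theorem pc9 : table.relOK chkPaths 650300 700 = true := by decide +kernel
theorem pc10 : table.relOK chkPaths 651000 700 = true := by decide +kernel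
theorem pc11 : table.relOK chkPaths 651700 700 = true := by decide +kernel
theorem pc12 : table.relOK chkPaths 652400 700 = true := by decide +kernel
theorem pc13 : table.relOK chkPaths 653100 700 = true := by decide +kernel
theorem pc14 : table.relOK chkPaths 653800 700 = true := by decide +kernel
theorem pc15 : table.relOK chkPaths 654500 700 = true := by decide +kernel
theorem pc16 : table.relOK chkPaths 655200 700 = true := by decide +kernel
theorem pc17 : table.relOK chkPaths 655900 700 = true := by decide +kernel
theorem pc18 : table.relOK chkPaths 656600 700 = true := by decide +kernel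
theorem pc19 : table.relOK chkPaths 657300 700 = true := by decide +kernel
theorem pc20 : table.relOK chkPaths 658000 700 = true := by decide +kernel
theorem pc21 : table.relOK chkPaths 658700 700 = true := by decide +kernel
theorem pc22 : table.relOK chkPaths 659400 700 = true := by decide +kernel
theorem pc23 : table.relOK chkPaths 660100 700 = true := by decide +kernel
theorem pc24 : table.relOK chkPaths 660800 700 = true := by decide +kernel
theorem pc25 : table.relOK chkPaths 661500 700 = true := by decide +kernel
theorem pc26 : table.relOK chkPaths 662200 700 = true := by decide +kernel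
theorem pc27 : table.relOK chkPaths 662900 700 = true := by decide +kernel
theorem pc28 : table.relOK chkPaths 663600 700 = true := by decide +kernel
theorem pc29 : table.relOK chkPaths 664300 700 = true := by decide +kernel
theorem pc30 : table.relOK chkPaths 665000 700 = true := by decide +kernel
theorem pc31 : table.relOK chkPaths 665700 700 = true := by decide +kernel
theorem pc32 : table.relOK chkPaths 666400 700 = true := by decide +kernel
theorem pc33 : table.relOK chkPaths 667100 700 = true := by decide +kernel
theorem pc34 : table.relOK chkPaths 667800 700 = true := by decide +kernel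
theorem pc35 : table.relOK chkPaths 668500 700 = true := by decide +kernel
theorem pc36 : table.relOK chkPaths 669200 700 = true := by decide +kernel
theorem pc37 : table.relOK chkPaths 669900 700 = true := by decide +kernel
theorem pc38 : table.relOK chkPaths 670600 700 = true := by decide +kernel
theorem pc39 : table.relOK chkPaths 671300 700 = true := by decide +kernel

theorem range : ∀ p, 644000 ≤ p → p < 672000 → ∀ r ∈ chkPaths, table.walkT r p = p := by
  intro p h1 h2
  rcases Nat.lt_or_ge p 644700 with h | h
  · exact (Table.relOK_iff chkPaths 644000 700).mp pc0 p (by omega) (by omega)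
  rcases Nat.lt_or_ge p 645400 with h | h
  · exact (Table.relOK_iff chkPaths 644700 700).mp pc1 p (by omega) (by omega)
  rcases Nat.lt_or_ge p 646100 with h | h
  · exact (Table.relOK_iff chkPaths 645400 700).mp pc2 p (by omega) (by omega)
  rcases Nat.lt_or_ge p 646800 with h | h
  · exact (Table.relOK_iff chkPaths 646100 700).mp pc3 p (by omega) (by omega)
  rcases Nat.lt_or_ge p 647500 with h | h
  · exact (Table.relOK_iff chkPaths 646800 700).mp pc4 p (by omega) (by omega)
  rcases Nat.lt_or_ge p 648200 with h | h
  · exact (Table.relOK_iff chkPaths 647500 700).mp pc5 p (by omega) (by omega)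
  rcases Nat.lt_or_ge p 648900 with h | h
  · exact (Table.relOK_iff chkPaths 648200 700).mp pc6 p (by omega) (by omega)
  rcases Nat.lt_or_ge p 649600 with h | h
  · exact (Table.relOK_iff chkPaths 648900 700).mp pc7 p (by omega) (by omega)
  rcases Nat.lt_or_ge p 650300 with h | h
  · exact (Table.relOK_iff chkPaths 649600 700).mp pc8 p (by omega) (by omega)
  rcases Nat.lt_or_ge p 651000 with h | h
  · exact (Table.relOK_iff chkPaths 650300 700).mp pc9 p (by omega) (by omega)
  rcases Nat.lt_or_ge p 651700 with h | h
  · exact (Table.relOK_iff chkPaths 651000 700).mp pc10 p (by omega) (by omega)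
  rcases Nat.lt_or_ge p 652400 with h | h
  · exact (Table.relOK_iff chkPaths 651700 700).mp pc11 p (by omega) (by omega)
  rcases Nat.lt_or_ge p 653100 with h | h
  · exact (Table.relOK_iff chkPaths 652400 700).mp pc12 p (by omega) (by omega)
  rcases Nat.lt_or_ge p 653800 with h | h
  · exact (Table.relOK_iff chkPaths 653100 700).mp pc13 p (by omega) (by omega)
  rcases Nat.lt_or_ge p 654500 with h | h
  · exact (Table.relOK_iff chkPaths 653800 700).mp pc14 p (by omega) (by omega)
  rcases Nat.lt_or_ge p 655200 with h | h
  · exact (Table.relOK_iff chkPaths 654500 700).mp pc15 p (by omega) (by omega)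
  rcases Nat.lt_or_ge p 655900 with h | h
  · exact (Table.relOK_iff chkPaths 655200 700).mp pc16 p (by omega) (by omega)
  rcases Nat.lt_or_ge p 656600 with h | h
  · exact (Table.relOK_iff chkPaths 655900 700).mp pc17 p (by omega) (by omega)
  rcases Nat.lt_or_ge p 657300 with h | h
  · exact (Table.relOK_iff chkPaths 656600 700).mp pc18 p (by omega) (by omega)
  rcases Nat.lt_or_ge p 658000 with h | h
  · exact (Table.relOK_iff chkPaths 657300 700).mp pc19 p (by omega) (by omega)
  rcases Nat.lt_or_ge p 658700 with h | h
  · exact (Table.relOK_iff chkPaths 658000 700).mp pc20 p (by omega) (by omega)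
  rcases Nat.lt_or_ge p 659400 with h | h
  · exact (Table.relOK_iff chkPaths 658700 700).mp pc21 p (by omega) (by omega)
  rcases Nat.lt_or_ge p 660100 with h | h
  · exact (Table.relOK_iff chkPaths 659400 700).mp pc22 p (by omega) (by omega)
  rcases Nat.lt_or_ge p 660800 with h | h
  · exact (Table.relOK_iff chkPaths 660100 700).mp pc23 p (by omega) (by omega)
  rcases Nat.lt_or_ge p 661500 with h | h
  · exact (Table.relOK_iff chkPaths 660800 700).mp pc24 p (by omega) (by omega)
  rcases Nat.lt_or_ge p 662200 with h | h
  · exact (Table.relOK_iff chkPaths 661500 700).mp pc25 p (by omega) (by omega)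
  rcases Nat.lt_or_ge p 662900 with h | h
  · exact (Table.relOK_iff chkPaths 662200 700).mp pc26 p (by omega) (by omega)
  rcases Nat.lt_or_ge p 663600 with h | h
  · exact (Table.relOK_iff chkPaths 662900 700).mp pc27 p (by omega) (by omega)
  rcases Nat.lt_or_ge p 664300 with h | h
  · exact (Table.relOK_iff chkPaths 663600 700).mp pc28 p (by omega) (by omega)
  rcases Nat.lt_or_ge p 665000 with h | h
  · exact (Table.relOK_iff chkPaths 664300 700).mp pc29 p (by omega) (by omega)
  rcases Nat.lt_or_ge p 665700 with h | h
  · exact (Table.relOK_iff chkPaths 665000 700).mp pc30 p (by omega) (by omega)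
  rcases Nat.lt_or_ge p 666400 with h | h
  · exact (Table.relOK_iff chkPaths 665700 700).mp pc31 p (by omega) (by omega)
  rcases Nat.lt_or_ge p 667100 with h | h
  · exact (Table.relOK_iff chkPaths 666400 700).mp pc32 p (by omega) (by omega)
  rcases Nat.lt_or_ge p 667800 with h | h
  · exact (Table.relOK_iff chkPaths 667100 700).mp pc33 p (by omega) (by omega)
  rcases Nat.lt_or_ge p 668500 with h | h
  · exact (Table.relOK_iff chkPaths 667800 700).mp pc34 p (by omega) (by omega)
  rcases Nat.lt_or_ge p 669200 with h | h
  · exact (Table.relOK_iff chkPaths 668500 700).mp pc35 p (by omega) (by omega)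
  rcases Nat.lt_or_ge p 669900 with h | h
  · exact (Table.relOK_iff chkPaths 669200 700).mp pc36 p (by omega) (by omega)
  rcases Nat.lt_or_ge p 670600 with h | h
  · exact (Table.relOK_iff chkPaths 669900 700).mp pc37 p (by omega) (by omega)
  rcases Nat.lt_or_ge p 671300 with h | h
  · exact (Table.relOK_iff chkPaths 670600 700).mp pc38 p (by omega) (by omega)
  exact (Table.relOK_iff chkPaths 671300 700).mp pc39 p (by omega) (by omega)

end Cfsg.Agent.Lib.Helper16.HNP.C28
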