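import Cfsg.Agent.Lib.Helper28.TC2Range
import Cfsg.Agent.Lib.Helper16.HNP.Table
import Cfsg.Agent.Lib.Helper16.HNP.C19
set_option autoImplicit false
set_option maxRecDepth 100000
set_option maxHeartbeats 0
set_option Elab.async false

namespace Cfsg.Agent.Lib.Helper16.HNP.C29
open Cfsg.Agent.Lib.Helper28.TC2Upper Cfsg.Agent.Lib.Helper28.TC2Lower Cfsg.Agent.Lib.Helper28.TC2Range Cfsg.Agent.Lib.Helper16.HNP.Table

theorem pc0 : table.relOK chkPaths 672000 700 = true := by decide +kernel
theorem pc1 : table.relOK chkPaths 672700 700 = true := by decide +kernel
theorem pc2 : table.relOK chkPaths 673400 700 = true := by decide +kernel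
theorem pc3 : table.relOK chkPaths 674100 700 = true := by decide +kernel
theorem pc4 : table.relOK chkPaths 674800 700 = true := by decide +kernel
theorem pc5 : table.relOK chkPaths 675500 700 = true := by decide +kernel
theorem pc6 : table.relOK chkPaths 676200 700 = true := by decide +kernel
theorem pc7 : table.relOK chkPaths 676900 700 = true := by decide +kernel
theorem pc8 : table.relOK chkPaths 677600 700 = true := by decide +kernel
theorem pc9 : table.relOK chkPaths 678300 700 = true := by decide +kernel
theorem pc10 : table.relOK chkPaths 679000 700 = true := by decide +kernel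
theorem pc11 : table.relOK chkPaths 679700 700 = true := by decide +kernel
theorem pc12 : table.relOK chkPaths 680400 700 = true := by decide +kernel
theorem pc13 : table.relOK chkPaths 681100 700 = true := by decide +kernel
theorem pc14 : table.relOK chkPaths 681800 700 = true := by decide +kernel
theorem pc15 : table.relOK chkPaths 682500 700 = true := by decide +kernel
theorem pc16 : table.relOK chkPaths 683200 700 = true := by decide +kernel
theorem pc17 : table.relOK chkPaths 683900 700 = true := by decide +kernel
theorem pc18 : table.relOK chkPaths 684600 700 = true := by decide +kernel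
theorem pc19 : table.relOK chkPaths 685300 700 = true := by decide +kernel
theorem pc20 : table.relOK chkPaths 686000 700 = true := by decide +kernel
theorem pc21 : table.relOK chkPaths 686700 700 = true := by decide +kernel
theorem pc22 : table.relOK chkPaths 687400 700 = true := by decide +kernel
theorem pc23 : table.relOK chkPaths 688100 700 = true := by decide +kernel
theorem pc24 : table.relOK chkPaths 688800 700 = true := by decide +kernel
theorem pc25 : table.relOK chkPaths 689500 700 = true := by decide +kernel
theorem pc26 : table.relOK chkPaths 690200 700 = true := by decide +kernel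
theorem pc27 : table.relOK chkPaths 690900 700 = true := by decide +kernel
theorem pc28 : table.relOK chkPaths 691600 700 = true := by decide +kernel
theorem pc29 : table.relOK chkPaths 692300 700 = true := by decide +kernel
theorem pc30 : table.relOK chkPaths 693000 700 = true := by decide +kernel
theorem pc31 : table.relOK chkPaths 693700 700 = true := by decide +kernel
theorem pc32 : table.relOK chkPaths 694400 700 = true := by decide +kernel
theorem pc33 : table.relOK chkPaths 695100 700 = true := by decide +kernel
theorem pc34 : table.relOK chkPaths 695800 700 = true := by decide +kernel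
theorem pc35 : table.relOK chkPaths 696500 700 = true := by decide +kernel
theorem pc36 : table.relOK chkPaths 697200 700 = true := by decide +kernel
theorem pc37 : table.relOK chkPaths 697900 700 = true := by decide +kernel
theorem pc38 : table.relOK chkPaths 698600 700 = true := by decide +kernel
theorem pc39 : table.relOK chkPaths 699300 700 = true := by decide +kernel

theorem range : ∀ p, 672000 ≤ p → p < 700000 → ∀ r ∈ chkPaths, table.walkT r p = p := by
  intro p h1 h2
  rcases Nat.lt_or_ge p 672700 with h | h
  · exact (Table.relOK_iff chkPaths 672000 700).mp pc0 p (by omega) (by omega)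
  rcases Nat.lt_or_ge p 673400 with h | h
  · exact (Table.relOK_iff chkPaths 672700 700).mp pc1 p (by omega) (by omega)
  rcases Nat.lt_or_ge p 674100 with h | h
  · exact (Table.relOK_iff chkPaths 673400 700).mp pc2 p (by omega) (by omega)
  rcases Nat.lt_or_ge p 674800 with h | h
  · exact (Table.relOK_iff chkPaths 674100 700).mp pc3 p (by omega) (by omega)
  rcases Nat.lt_or_ge p 675500 with h | h
  · exact (Table.relOK_iff chkPaths 674800 700).mp pc4 p (by omega) (by omega)
  rcases Nat.lt_or_ge p 676200 with h | h
  · exact (Table.relOK_iff chkPaths 675500 700).mp pc5 p (by omega) (by omega)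
  rcases Nat.lt_or_ge p 676900 with h | h
  · exact (Table.relOK_iff chkPaths 676200 700).mp pc6 p (by omega) (by omega)
  rcases Nat.lt_or_ge p 677600 with h | h
  · exact (Table.relOK_iff chkPaths 676900 700).mp pc7 p (by omega) (by omega)
  rcases Nat.lt_or_ge p 678300 with h | h
  · exact (Table.relOK_iff chkPaths 677600 700).mp pc8 p (by omega) (by omega)
  rcases Nat.lt_or_ge p 679000 with h | h
  · exact (Table.relOK_iff chkPaths 678300 700).mp pc9 p (by omega) (by omega)
  rcases Nat.lt_or_ge p 679700 with h | h
  · exact (Table.relOK_iff chkPaths 679000 700).mp pc10 p (by omega) (by omega)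
  rcases Nat.lt_or_ge p 680400 with h | h
  · exact (Table.relOK_iff chkPaths 679700 700).mp pc11 p (by omega) (by omega)
  rcases Nat.lt_or_ge p 681100 with h | h
  · exact (Table.relOK_iff chkPaths 680400 700).mp pc12 p (by omega) (by omega)
  rcases Nat.lt_or_ge p 681800 with h | h
  · exact (Table.relOK_iff chkPaths 681100 700).mp pc13 p (by omega) (by omega)
  rcases Nat.lt_or_ge p 682500 with h | h
  · exact (Table.relOK_iff chkPaths 681800 700).mp pc14 p (by omega) (by omega)
  rcases Nat.lt_or_ge p 683200 with h | h
  · exact (Table.relOK_iff chkPaths 682500 700).mp pc15 p (by omega) (by omega)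
  rcases Nat.lt_or_ge p 683900 with h | h
  · exact (Table.relOK_iff chkPaths 683200 700).mp pc16 p (by omega) (by omega)
  rcases Nat.lt_or_ge p 684600 with h | h
  · exact (Table.relOK_iff chkPaths 683900 700).mp pc17 p (by omega) (by omega)
  rcases Nat.lt_or_ge p 685300 with h | h
  · exact (Table.relOK_iff chkPaths 684600 700).mp pc18 p (by omega) (by omega)
  rcases Nat.lt_or_ge p 686000 with h | h
  · exact (Table.relOK_iff chkPaths 685300 700).mp pc19 p (by omega) (by omega)
  rcases Nat.lt_or_ge p 686700 with h | h
  · exact (Table.relOK_iff chkPaths 686000 700).mp pc20 p (by omega) (by omega)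
  rcases Nat.lt_or_ge p 687400 with h | h
  · exact (Table.relOK_iff chkPaths 686700 700).mp pc21 p (by omega) (by omega)
  rcases Nat.lt_or_ge p 688100 with h | h
  · exact (Table.relOK_iff chkPaths 687400 700).mp pc22 p (by omega) (by omega)
  rcases Nat.lt_or_ge p 688800 with h | h
  · exact (Table.relOK_iff chkPaths 688100 700).mp pc23 p (by omega) (by omega)
  rcases Nat.lt_or_ge p 689500 with h | h
  · exact (Table.relOK_iff chkPaths 688800 700).mp pc24 p (by omega) (by omega)
  rcases Nat.lt_or_ge p 690200 with h | h
  · exact (Table.relOK_iff chkPaths 689500 700).mp pc25 p (by omega) (by omega)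
  rcases Nat.lt_or_ge p 690900 with h | h
  · exact (Table.relOK_iff chkPaths 690200 700).mp pc26 p (by omega) (by omega)
  rcases Nat.lt_or_ge p 691600 with h | h
  · exact (Table.relOK_iff chkPaths 690900 700).mp pc27 p (by omega) (by omega)
  rcases Nat.lt_or_ge p 692300 with h | h
  · exact (Table.relOK_iff chkPaths 691600 700).mp pc28 p (by omega) (by omega)
  rcases Nat.lt_or_ge p 693000 with h | h
  · exact (Table.relOK_iff chkPaths 692300 700).mp pc29 p (by omega) (by omega)
  rcases Nat.lt_or_ge p 693700 with h | h
  · exact (Table.relOK_iff chkPaths 693000 700).mp pc30 p (by omega) (by omega)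
  rcases Nat.lt_or_ge p 694400 with h | h
  · exact (Table.relOK_iff chkPaths 693700 700).mp pc31 p (by omega) (by omega)
  rcases Nat.lt_or_ge p 695100 with h | h
  · exact (Table.relOK_iff chkPaths 694400 700).mp pc32 p (by omega) (by omega)
  rcases Nat.lt_or_ge p 695800 with h | h
  · exact (Table.relOK_iff chkPaths 695100 700).mp pc33 p (by omega) (by omega)
  rcases Nat.lt_or_ge p 696500 with h | h
  · exact (Table.relOK_iff chkPaths 695800 700).mp pc34 p (by omega) (by omega)
  rcases Nat.lt_or_ge p 697200 with h | h
  · exact (Table.relOK_iff chkPaths 696500 700).mp pc35 p (by omega) (by omega)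
  rcases Nat.lt_or_ge p 697900 with h | h
  · exact (Table.relOK_iff chkPaths 697200 700).mp pc36 p (by omega) (by omega)
  rcases Nat.lt_or_ge p 698600 with h | h
  · exact (Table.relOK_iff chkPaths 697900 700).mp pc37 p (by omega) (by omega)
  rcases Nat.lt_or_ge p 699300 with h | h
  · exact (Table.relOK_iff chkPaths 698600 700).mp pc38 p (by omega) (by omega)
  exact (Table.relOK_iff chkPaths 699300 700).mp pc39 p (by omega) (by omega)

end Cfsg.Agent.Lib.Helper16.HNP.C29
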