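import Cfsg.Agent.Lib.Helper28.TC2Range
import Cfsg.Agent.Lib.Helper16.HNP.Table
import Cfsg.Agent.Lib.Helper16.HNP.C20
set_option autoImplicit false
set_option maxRecDepth 100000
set_option maxHeartbeats 0
set_option Elab.async false

namespace Cfsg.Agent.Lib.Helper16.HNP.C30
open Cfsg.Agent.Lib.Helper28.TC2Upper Cfsg.Agent.Lib.Helper28.TC2Lower Cfsg.Agent.Lib.Helper28.TC2Range Cfsg.Agent.Lib.Helper16.HNP.Table

theorem pc0 : table.relOK chkPaths 700000 700 = true := by decide +kernel
theorem pc1 : table.relOK chkPaths 700700 700 = true := by decide +kernel
theorem pc2 : table.relOK chkPaths 701400 700 = true := by decide +kernel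
theorem pc3 : table.relOK chkPaths 702100 700 = true := by decide +kernel
theorem pc4 : table.relOK chkPaths 702800 700 = true := by decide +kernel
theorem pc5 : table.relOK chkPaths 703500 700 = true := by decide +kernel
theorem pc6 : table.relOK chkPaths 704200 700 = true := by decide +kernel
theorem pc7 : table.relOK chkPaths 704900 700 = true := by decide +kernel
theorem pc8 : table.relOK chkPaths 705600 700 = true := by decide +kernel
theorem pc9 : table.relOK chkPaths 706300 700 = true := by decide +kernel
theorem pc10 : table.relOK chkPaths 707000 700 = true := by decide +kernel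
theorem pc11 : table.relOK chkPaths 707700 700 = true := by decide +kernel
theorem pc12 : table.relOK chkPaths 708400 700 = true := by decide +kernel
theorem pc13 : table.relOK chkPaths 709100 700 = true := by decide +kernel
theorem pc14 : table.relOK chkPaths 709800 700 = true := by decide +kernel
theorem pc15 : table.relOK chkPaths 710500 700 = true := by decide +kernel
theorem pc16 : table.relOK chkPaths 711200 700 = true := by decide +kernel
theorem pc17 : table.relOK chkPaths 711900 700 = true := by decide +kernel
theorem pc18 : table.relOK chkPaths 712600 700 = true := by decide +kernel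
theorem pc19 : table.relOK chkPaths 713300 700 = true := by decide +kernel
theorem pc20 : table.relOK chkPaths 714000 700 = true := by decide +kernel
theorem pc21 : table.relOK chkPaths 714700 700 = true := by decide +kernel
theorem pc22 : table.relOK chkPaths 715400 700 = true := by decide +kernel
theorem pc23 : table.relOK chkPaths 716100 700 = true := by decide +kernel
theorem pc24 : table.relOK chkPaths 716800 700 = true := by decide +kernel
theorem pc25 : table.relOK chkPaths 717500 700 = true := by decide +kernel
theorem pc26 : table.relOK chkPaths 718200 700 = true := by decide +kernel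
theorem pc27 : table.relOK chkPaths 718900 700 = true := by decide +kernel
theorem pc28 : table.relOK chkPaths 719600 700 = true := by decide +kernel
theorem pc29 : table.relOK chkPaths 720300 700 = true := by decide +kernel
theorem pc30 : table.relOK chkPaths 721000 700 = true := by decide +kernel
theorem pc31 : table.relOK chkPaths 721700 700 = true := by decide +kernel
theorem pc32 : table.relOK chkPaths 722400 700 = true := by decide +kernel
theorem pc33 : table.relOK chkPaths 723100 700 = true := by decide +kernel
theorem pc34 : table.relOK chkPaths 723800 700 = true := by decide +kernel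
theorem pc35 : table.relOK chkPaths 724500 700 = true := by decide +kernel
theorem pc36 : table.relOK chkPaths 725200 700 = true := by decide +kernel
theorem pc37 : table.relOK chkPaths 725900 700 = true := by decide +kernel
theorem pc38 : table.relOK chkPaths 726600 700 = true := by decide +kernel
theorem pc39 : table.relOK chkPaths 727300 700 = true := by decide +kernel

theorem range : ∀ p, 700000 ≤ p → p < 728000 → ∀ r ∈ chkPaths, table.walkT r p = p := by
  intro p h1 h2
  rcases Nat.lt_or_ge p 700700 with h | h
  · exact (Table.relOK_iff chkPaths 700000 700).mp pc0 p (by omega) (by omega)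
  rcases Nat.lt_or_ge p 701400 with h | h
  · exact (Table.relOK_iff chkPaths 700700 700).mp pc1 p (by omega) (by omega)
  rcases Nat.lt_or_ge p 702100 with h | h
  · exact (Table.relOK_iff chkPaths 701400 700).mp pc2 p (by omega) (by omega)
  rcases Nat.lt_or_ge p 702800 with h | h
  · exact (Table.relOK_iff chkPaths 702100 700).mp pc3 p (by omega) (by omega)
  rcases Nat.lt_or_ge p 703500 with h | h
  · exact (Table.relOK_iff chkPaths 702800 700).mp pc4 p (by omega) (by omega)
  rcases Nat.lt_or_ge p 704200 with h | h
  · exact (Table.relOK_iff chkPaths 703500 700).mp pc5 p (by omega) (by omega)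
  rcases Nat.lt_or_ge p 704900 with h | h
  · exact (Table.relOK_iff chkPaths 704200 700).mp pc6 p (by omega) (by omega)
  rcases Nat.lt_or_ge p 705600 with h | h
  · exact (Table.relOK_iff chkPaths 704900 700).mp pc7 p (by omega) (by omega)
  rcases Nat.lt_or_ge p 706300 with h | h
  · exact (Table.relOK_iff chkPaths 705600 700).mp pc8 p (by omega) (by omega)
  rcases Nat.lt_or_ge p 707000 with h | h
  · exact (Table.relOK_iff chkPaths 706300 700).mp pc9 p (by omega) (by omega)
  rcases Nat.lt_or_ge p 707700 with h | h
  · exact (Table.relOK_iff chkPaths 707000 700).mp pc10 p (by omega) (by omega)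
  rcases Nat.lt_or_ge p 708400 with h | h
  · exact (Table.relOK_iff chkPaths 707700 700).mp pc11 p (by omega) (by omega)
  rcases Nat.lt_or_ge p 709100 with h | h
  · exact (Table.relOK_iff chkPaths 708400 700).mp pc12 p (by omega) (by omega)
  rcases Nat.lt_or_ge p 709800 with h | h
  · exact (Table.relOK_iff chkPaths 709100 700).mp pc13 p (by omega) (by omega)
  rcases Nat.lt_or_ge p 710500 with h | h
  · exact (Table.relOK_iff chkPaths 709800 700).mp pc14 p (by omega) (by omega)
  rcases Nat.lt_or_ge p 711200 with h | h
  · exact (Table.relOK_iff chkPaths 710500 700).mp pc15 p (by omega) (by omega)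
  rcases Nat.lt_or_ge p 711900 with h | h
  · exact (Table.relOK_iff chkPaths 711200 700).mp pc16 p (by omega) (by omega)
  rcases Nat.lt_or_ge p 712600 with h | h
  · exact (Table.relOK_iff chkPaths 711900 700).mp pc17 p (by omega) (by omega)
  rcases Nat.lt_or_ge p 713300 with h | h
  · exact (Table.relOK_iff chkPaths 712600 700).mp pc18 p (by omega) (by omega)
  rcases Nat.lt_or_ge p 714000 with h | h
  · exact (Table.relOK_iff chkPaths 713300 700).mp pc19 p (by omega) (by omega)
  rcases Nat.lt_or_ge p 714700 with h | h
  · exact (Table.relOK_iff chkPaths 714000 700).mp pc20 p (by omega) (by omega)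
  rcases Nat.lt_or_ge p 715400 with h | h
  · exact (Table.relOK_iff chkPaths 714700 700).mp pc21 p (by omega) (by omega)
  rcases Nat.lt_or_ge p 716100 with h | h
  · exact (Table.relOK_iff chkPaths 715400 700).mp pc22 p (by omega) (by omega)
  rcases Nat.lt_or_ge p 716800 with h | h
  · exact (Table.relOK_iff chkPaths 716100 700).mp pc23 p (by omega) (by omega)
  rcases Nat.lt_or_ge p 717500 with h | h
  · exact (Table.relOK_iff chkPaths 716800 700).mp pc24 p (by omega) (by omega)
  rcases Nat.lt_or_ge p 718200 with h | h
  · exact (Table.relOK_iff chkPaths 717500 700).mp pc25 p (by omega) (by omega)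
  rcases Nat.lt_or_ge p 718900 with h | h
  · exact (Table.relOK_iff chkPaths 718200 700).mp pc26 p (by omega) (by omega)
  rcases Nat.lt_or_ge p 719600 with h | h
  · exact (Table.relOK_iff chkPaths 718900 700).mp pc27 p (by omega) (by omega)
  rcases Nat.lt_or_ge p 720300 with h | h
  · exact (Table.relOK_iff chkPaths 719600 700).mp pc28 p (by omega) (by omega)
  rcases Nat.lt_or_ge p 721000 with h | h
  · exact (Table.relOK_iff chkPaths 720300 700).mp pc29 p (by omega) (by omega)
  rcases Nat.lt_or_ge p 721700 with h | h
  · exact (Table.relOK_iff chkPaths 721000 700).mp pc30 p (by omega) (by omega)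
  rcases Nat.lt_or_ge p 722400 with h | h
  · exact (Table.relOK_iff chkPaths 721700 700).mp pc31 p (by omega) (by omega)
  rcases Nat.lt_or_ge p 723100 with h | h
  · exact (Table.relOK_iff chkPaths 722400 700).mp pc32 p (by omega) (by omega)
  rcases Nat.lt_or_ge p 723800 with h | h
  · exact (Table.relOK_iff chkPaths 723100 700).mp pc33 p (by omega) (by omega)
  rcases Nat.lt_or_ge p 724500 with h | h
  · exact (Table.relOK_iff chkPaths 723800 700).mp pc34 p (by omega) (by omega)
  rcases Nat.lt_or_ge p 725200 with h | h
  · exact (Table.relOK_iff chkPaths 724500 700).mp pc35 p (by omega) (by omega)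
  rcases Nat.lt_or_ge p 725900 with h | h
  · exact (Table.relOK_iff chkPaths 725200 700).mp pc36 p (by omega) (by omega)
  rcases Nat.lt_or_ge p 726600 with h | h
  · exact (Table.relOK_iff chkPaths 725900 700).mp pc37 p (by omega) (by omega)
  rcases Nat.lt_or_ge p 727300 with h | h
  · exact (Table.relOK_iff chkPaths 726600 700).mp pc38 p (by omega) (by omega)
  exact (Table.relOK_iff chkPaths 727300 700).mp pc39 p (by omega) (by omega)

end Cfsg.Agent.Lib.Helper16.HNP.C30
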