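import Cfsg.Agent.Lib.Helper28.TC2Range
import Cfsg.Agent.Lib.Helper16.HNP.Table
import Cfsg.Agent.Lib.Helper16.HNP.C21
set_option autoImplicit false
set_option maxRecDepth 100000
set_option maxHeartbeats 0
set_option Elab.async false

namespace Cfsg.Agent.Lib.Helper16.HNP.C31
open Cfsg.Agent.Lib.Helper28.TC2Upper Cfsg.Agent.Lib.Helper28.TC2Lower Cfsg.Agent.Lib.Helper28.TC2Range Cfsg.Agent.Lib.Helper16.HNP.Table

theorem pc0 : table.relOK chkPaths 728000 700 = true := by decide +kernel
theorem pc1 : table.relOK chkPaths 728700 700 = true := by decide +kernel
theorem pc2 : table.relOK chkPaths 729400 700 = true := by decide +kernel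
theorem pc3 : table.relOK chkPaths 730100 700 = true := by decide +kernel
theorem pc4 : table.relOK chkPaths 730800 700 = true := by decide +kernel
theorem pc5 : table.relOK chkPaths 731500 700 = true := by decide +kernel
theorem pc6 : table.relOK chkPaths 732200 700 = true := by decide +kernel
theorem pc7 : table.relOK chkPaths 732900 700 = true := by decide +kernel
theorem pc8 : table.relOK chkPaths 733600 700 = true := by decide +kernel
theorem pc9 : table.relOK chkPaths 734300 700 = true := by decide +kernel
theorem pc10 : table.relOK chkPaths 735000 700 = true := by decide +kernel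
theorem pc11 : table.relOK chkPaths 735700 700 = true := by decide +kernel
theorem pc12 : table.relOK chkPaths 736400 700 = true := by decide +kernel
theorem pc13 : table.relOK chkPaths 737100 700 = true := by decide +kernel
theorem pc14 : table.relOK chkPaths 737800 700 = true := by decide +kernel
theorem pc15 : table.relOK chkPaths 738500 700 = true := by decide +kernel
theorem pc16 : table.relOK chkPaths 739200 700 = true := by decide +kernel
theorem pc17 : table.relOK chkPaths 739900 700 = true := by decide +kernel
theorem pc18 : table.relOK chkPaths 740600 700 = true := by decide +kernel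
theorem pc19 : table.relOK chkPaths 741300 700 = true := by decide +kernel
theorem pc20 : table.relOK chkPaths 742000 700 = true := by decide +kernel
theorem pc21 : table.relOK chkPaths 742700 700 = true := by decide +kernel
theorem pc22 : table.relOK chkPaths 743400 700 = true := by decide +kernel
theorem pc23 : table.relOK chkPaths 744100 700 = true := by decide +kernel
theorem pc24 : table.relOK chkPaths 744800 700 = true := by decide +kernel
theorem pc25 : table.relOK chkPaths 745500 700 = true := by decide +kernel
theorem pc26 : table.relOK chkPaths 746200 700 = true := by decide +kernel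
theorem pc27 : table.relOK chkPaths 746900 700 = true := by decide +kernel
theorem pc28 : table.relOK chkPaths 747600 700 = true := by decide +kernel
theorem pc29 : table.relOK chkPaths 748300 700 = true := by decide +kernel
theorem pc30 : table.relOK chkPaths 749000 700 = true := by decide +kernel
theorem pc31 : table.relOK chkPaths 749700 700 = true := by decide +kernel
theorem pc32 : table.relOK chkPaths 750400 700 = true := by decide +kernel
theorem pc33 : table.relOK chkPaths 751100 700 = true := by decide +kernel
theorem pc34 : table.relOK chkPaths 751800 700 = true := by decide +kernel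
theorem pc35 : table.relOK chkPaths 752500 700 = true := by decide +kernel
theorem pc36 : table.relOK chkPaths 753200 700 = true := by decide +kernel
theorem pc37 : table.relOK chkPaths 753900 700 = true := by decide +kernel
theorem pc38 : table.relOK chkPaths 754600 700 = true := by decide +kernel
theorem pc39 : table.relOK chkPaths 755300 700 = true := by decide +kernel

theorem range : ∀ p, 728000 ≤ p → p < 756000 → ∀ r ∈ chkPaths, table.walkT r p = p := by
  intro p h1 h2
  rcases Nat.lt_or_ge p 728700 with h | h
  · exact (Table.relOK_iff chkPaths 728000 700).mp pc0 p (by omega) (by omega)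
  rcases Nat.lt_or_ge p 729400 with h | h
  · exact (Table.relOK_iff chkPaths 728700 700).mp pc1 p (by omega) (by omega)
  rcases Nat.lt_or_ge p 730100 with h | h
  · exact (Table.relOK_iff chkPaths 729400 700).mp pc2 p (by omega) (by omega)
  rcases Nat.lt_or_ge p 730800 with h | h
  · exact (Table.relOK_iff chkPaths 730100 700).mp pc3 p (by omega) (by omega)
  rcases Nat.lt_or_ge p 731500 with h | h
  · exact (Table.relOK_iff chkPaths 730800 700).mp pc4 p (by omega) (by omega)
  rcases Nat.lt_or_ge p 732200 with h | h
  · exact (Table.relOK_iff chkPaths 731500 700).mp pc5 p (by omega) (by omega)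
  rcases Nat.lt_or_ge p 732900 with h | h
  · exact (Table.relOK_iff chkPaths 732200 700).mp pc6 p (by omega) (by omega)
  rcases Nat.lt_or_ge p 733600 with h | h
  · exact (Table.relOK_iff chkPaths 732900 700).mp pc7 p (by omega) (by omega)
  rcases Nat.lt_or_ge p 734300 with h | h
  · exact (Table.relOK_iff chkPaths 733600 700).mp pc8 p (by omega) (by omega)
  rcases Nat.lt_or_ge p 735000 with h | h
  · exact (Table.relOK_iff chkPaths 734300 700).mp pc9 p (by omega) (by omega)
  rcases Nat.lt_or_ge p 735700 with h | h
  · exact (Table.relOK_iff chkPaths 735000 700).mp pc10 p (by omega) (by omega)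
  rcases Nat.lt_or_ge p 736400 with h | h
  · exact (Table.relOK_iff chkPaths 735700 700).mp pc11 p (by omega) (by omega)
  rcases Nat.lt_or_ge p 737100 with h | h
  · exact (Table.relOK_iff chkPaths 736400 700).mp pc12 p (by omega) (by omega)
  rcases Nat.lt_or_ge p 737800 with h | h
  · exact (Table.relOK_iff chkPaths 737100 700).mp pc13 p (by omega) (by omega)
  rcases Nat.lt_or_ge p 738500 with h | h
  · exact (Table.relOK_iff chkPaths 737800 700).mp pc14 p (by omega) (by omega)
  rcases Nat.lt_or_ge p 739200 with h | h
  · exact (Table.relOK_iff chkPaths 738500 700).mp pc15 p (by omega) (by omega)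
  rcases Nat.lt_or_ge p 739900 with h | h
  · exact (Table.relOK_iff chkPaths 739200 700).mp pc16 p (by omega) (by omega)
  rcases Nat.lt_or_ge p 740600 with h | h
  · exact (Table.relOK_iff chkPaths 739900 700).mp pc17 p (by omega) (by omega)
  rcases Nat.lt_or_ge p 741300 with h | h
  · exact (Table.relOK_iff chkPaths 740600 700).mp pc18 p (by omega) (by omega)
  rcases Nat.lt_or_ge p 742000 with h | h
  · exact (Table.relOK_iff chkPaths 741300 700).mp pc19 p (by omega) (by omega)
  rcases Nat.lt_or_ge p 742700 with h | h
  · exact (Table.relOK_iff chkPaths 742000 700).mp pc20 p (by omega) (by omega)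
  rcases Nat.lt_or_ge p 743400 with h | h
  · exact (Table.relOK_iff chkPaths 742700 700).mp pc21 p (by omega) (by omega)
  rcases Nat.lt_or_ge p 744100 with h | h
  · exact (Table.relOK_iff chkPaths 743400 700).mp pc22 p (by omega) (by omega)
  rcases Nat.lt_or_ge p 744800 with h | h
  · exact (Table.relOK_iff chkPaths 744100 700).mp pc23 p (by omega) (by omega)
  rcases Nat.lt_or_ge p 745500 with h | h
  · exact (Table.relOK_iff chkPaths 744800 700).mp pc24 p (by omega) (by omega)
  rcases Nat.lt_or_ge p 746200 with h | h
  · exact (Table.relOK_iff chkPaths 745500 700).mp pc25 p (by omega) (by omega)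
  rcases Nat.lt_or_ge p 746900 with h | h
  · exact (Table.relOK_iff chkPaths 746200 700).mp pc26 p (by omega) (by omega)
  rcases Nat.lt_or_ge p 747600 with h | h
  · exact (Table.relOK_iff chkPaths 746900 700).mp pc27 p (by omega) (by omega)
  rcases Nat.lt_or_ge p 748300 with h | h
  · exact (Table.relOK_iff chkPaths 747600 700).mp pc28 p (by omega) (by omega)
  rcases Nat.lt_or_ge p 749000 with h | h
  · exact (Table.relOK_iff chkPaths 748300 700).mp pc29 p (by omega) (by omega)
  rcases Nat.lt_or_ge p 749700 with h | h
  · exact (Table.relOK_iff chkPaths 749000 700).mp pc30 p (by omega) (by omega)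
  rcases Nat.lt_or_ge p 750400 with h | h
  · exact (Table.relOK_iff chkPaths 749700 700).mp pc31 p (by omega) (by omega)
  rcases Nat.lt_or_ge p 751100 with h | h
  · exact (Table.relOK_iff chkPaths 750400 700).mp pc32 p (by omega) (by omega)
  rcases Nat.lt_or_ge p 751800 with h | h
  · exact (Table.relOK_iff chkPaths 751100 700).mp pc33 p (by omega) (by omega)
  rcases Nat.lt_or_ge p 752500 with h | h
  · exact (Table.relOK_iff chkPaths 751800 700).mp pc34 p (by omega) (by omega)
  rcases Nat.lt_or_ge p 753200 with h | h
  · exact (Table.relOK_iff chkPaths 752500 700).mp pc35 p (by omega) (by omega)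
  rcases Nat.lt_or_ge p 753900 with h | h
  · exact (Table.relOK_iff chkPaths 753200 700).mp pc36 p (by omega) (by omega)
  rcases Nat.lt_or_ge p 754600 with h | h
  · exact (Table.relOK_iff chkPaths 753900 700).mp pc37 p (by omega) (by omega)
  rcases Nat.lt_or_ge p 755300 with h | h
  · exact (Table.relOK_iff chkPaths 754600 700).mp pc38 p (by omega) (by omega)
  exact (Table.relOK_iff chkPaths 755300 700).mp pc39 p (by omega) (by omega)

end Cfsg.Agent.Lib.Helper16.HNP.C31
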