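import Cfsg.Agent.Lib.Helper28.TC2Range
import Cfsg.Agent.Lib.Helper16.HNP.Table
import Cfsg.Agent.Lib.Helper16.HNP.C12
set_option autoImplicit false
set_option maxRecDepth 100000
set_option maxHeartbeats 0
set_option Elab.async false

namespace Cfsg.Agent.Lib.Helper16.HNP.C22
open Cfsg.Agent.Lib.Helper28.TC2Upper Cfsg.Agent.Lib.Helper28.TC2Lower Cfsg.Agent.Lib.Helper28.TC2Range Cfsg.Agent.Lib.Helper16.HNP.Table

theorem pc0 : table.relOK chkPaths 476000 700 = true := by decide +kernel
theorem pc1 : table.relOK chkPaths 476700 700 = true := by decide +kernel
theorem pc2 : table.relOK chkPaths 477400 700 = true := by decide +kernel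
theorem pc3 : table.relOK chkPaths 478100 700 = true := by decide +kernel
theorem pc4 : table.relOK chkPaths 478800 700 = true := by decide +kernel
theorem pc5 : table.relOK chkPaths 479500 700 = true := by decide +kernel
theorem pc6 : table.relOK chkPaths 480200 700 = true := by decide +kernel
theorem pc7 : table.relOK chkPaths 480900 700 = true := by decide +kernel
theorem pc8 : table.relOK chkPaths 481600 700 = true := by decide +kernel
theorem pc9 : table.relOK chkPaths 482300 700 = true := by decide +kernel
theorem pc10 : table.relOK chkPaths 483000 700 = true := by decide +kernel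
theorem pc11 : table.relOK chkPaths 483700 700 = true := by decide +kernel
theorem pc12 : table.relOK chkPaths 484400 700 = true := by decide +kernel
theorem pc13 : table.relOK chkPaths 485100 700 = true := by decide +kernel
theorem pc14 : table.relOK chkPaths 485800 700 = true := by decide +kernel
theorem pc15 : table.relOK chkPaths 486500 700 = true := by decide +kernel
theorem pc16 : table.relOK chkPaths 487200 700 = true := by decide +kernel
theorem pc17 : table.relOK chkPaths 487900 700 = true := by decide +kernel
theorem pc18 : table.relOK chkPaths 488600 700 = true := by decide +kernel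
theorem pc19 : table.relOK chkPaths 489300 700 = true := by decide +kernel
theorem pc20 : table.relOK chkPaths 490000 700 = true := by decide +kernel
theorem pc21 : table.relOK chkPaths 490700 700 = true := by decide +kernel
theorem pc22 : table.relOK chkPaths 491400 700 = true := by decide +kernel
theorem pc23 : table.relOK chkPaths 492100 700 = true := by decide +kernel
theorem pc24 : table.relOK chkPaths 492800 700 = true := by decide +kernel
theorem pc25 : table.relOK chkPaths 493500 700 = true := by decide +kernel
theorem pc26 : table.relOK chkPaths 494200 700 = true := by decide +kernel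
theorem pc27 : table.relOK chkPaths 494900 700 = true := by decide +kernel
theorem pc28 : table.relOK chkPaths 495600 700 = true := by decide +kernel
theorem pc29 : table.relOK chkPaths 496300 700 = true := by decide +kernel
theorem pc30 : table.relOK chkPaths 497000 700 = true := by decide +kernel
theorem pc31 : table.relOK chkPaths 497700 700 = true := by decide +kernel
theorem pc32 : table.relOK chkPaths 498400 700 = true := by decide +kernel
theorem pc33 : table.relOK chkPaths 499100 700 = true := by decide +kernel
theorem pc34 : table.relOK chkPaths 499800 700 = true := by decide +kernel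
theorem pc35 : table.relOK chkPaths 500500 700 = true := by decide +kernel
theorem pc36 : table.relOK chkPaths 501200 700 = true := by decide +kernel
theorem pc37 : table.relOK chkPaths 501900 700 = true := by decide +kernel
theorem pc38 : table.relOK chkPaths 502600 700 = true := by decide +kernel
theorem pc39 : table.relOK chkPaths 503300 700 = true := by decide +kernel

theorem range : ∀ p, 476000 ≤ p → p < 504000 → ∀ r ∈ chkPaths, table.walkT r p = p := by
  intro p h1 h2
  rcases Nat.lt_or_ge p 476700 with h | h
  · exact (Table.relOK_iff chkPaths 476000 700).mp pc0 p (by omega) (by omega)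
  rcases Nat.lt_or_ge p 477400 with h | h
  · exact (Table.relOK_iff chkPaths 476700 700).mp pc1 p (by omega) (by omega)
  rcases Nat.lt_or_ge p 478100 with h | h
  · exact (Table.relOK_iff chkPaths 477400 700).mp pc2 p (by omega) (by omega)
  rcases Nat.lt_or_ge p 478800 with h | h
  · exact (Table.relOK_iff chkPaths 478100 700).mp pc3 p (by omega) (by omega)
  rcases Nat.lt_or_ge p 479500 with h | h
  · exact (Table.relOK_iff chkPaths 478800 700).mp pc4 p (by omega) (by omega)
  rcases Nat.lt_or_ge p 480200 with h | h
  · exact (Table.relOK_iff chkPaths 479500 700).mp pc5 p (by omega) (by omega)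
  rcases Nat.lt_or_ge p 480900 with h | h
  · exact (Table.relOK_iff chkPaths 480200 700).mp pc6 p (by omega) (by omega)
  rcases Nat.lt_or_ge p 481600 with h | h
  · exact (Table.relOK_iff chkPaths 480900 700).mp pc7 p (by omega) (by omega)
  rcases Nat.lt_or_ge p 482300 with h | h
  · exact (Table.relOK_iff chkPaths 481600 700).mp pc8 p (by omega) (by omega)
  rcases Nat.lt_or_ge p 483000 with h | h
  · exact (Table.relOK_iff chkPaths 482300 700).mp pc9 p (by omega) (by omega)
  rcases Nat.lt_or_ge p 483700 with h | h
  · exact (Table.relOK_iff chkPaths 483000 700).mp pc10 p (by omega) (by omega)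
  rcases Nat.lt_or_ge p 484400 with h | h
  · exact (Table.relOK_iff chkPaths 483700 700).mp pc11 p (by omega) (by omega)
  rcases Nat.lt_or_ge p 485100 with h | h
  · exact (Table.relOK_iff chkPaths 484400 700).mp pc12 p (by omega) (by omega)
  rcases Nat.lt_or_ge p 485800 with h | h
  · exact (Table.relOK_iff chkPaths 485100 700).mp pc13 p (by omega) (by omega)
  rcases Nat.lt_or_ge p 486500 with h | h
  · exact (Table.relOK_iff chkPaths 485800 700).mp pc14 p (by omega) (by omega)
  rcases Nat.lt_or_ge p 487200 with h | h
  · exact (Table.relOK_iff chkPaths 486500 700).mp pc15 p (by omega) (by omega)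
  rcases Nat.lt_or_ge p 487900 with h | h
  · exact (Table.relOK_iff chkPaths 487200 700).mp pc16 p (by omega) (by omega)
  rcases Nat.lt_or_ge p 488600 with h | h
  · exact (Table.relOK_iff chkPaths 487900 700).mp pc17 p (by omega) (by omega)
  rcases Nat.lt_or_ge p 489300 with h | h
  · exact (Table.relOK_iff chkPaths 488600 700).mp pc18 p (by omega) (by omega)
  rcases Nat.lt_or_ge p 490000 with h | h
  · exact (Table.relOK_iff chkPaths 489300 700).mp pc19 p (by omega) (by omega)
  rcases Nat.lt_or_ge p 490700 with h | h
  · exact (Table.relOK_iff chkPaths 490000 700).mp pc20 p (by omega) (by omega)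
  rcases Nat.lt_or_ge p 491400 with h | h
  · exact (Table.relOK_iff chkPaths 490700 700).mp pc21 p (by omega) (by omega)
  rcases Nat.lt_or_ge p 492100 with h | h
  · exact (Table.relOK_iff chkPaths 491400 700).mp pc22 p (by omega) (by omega)
  rcases Nat.lt_or_ge p 492800 with h | h
  · exact (Table.relOK_iff chkPaths 492100 700).mp pc23 p (by omega) (by omega)
  rcases Nat.lt_or_ge p 493500 with h | h
  · exact (Table.relOK_iff chkPaths 492800 700).mp pc24 p (by omega) (by omega)
  rcases Nat.lt_or_ge p 494200 with h | h
  · exact (Table.relOK_iff chkPaths 493500 700).mp pc25 p (by omega) (by omega)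
  rcases Nat.lt_or_ge p 494900 with h | h
  · exact (Table.relOK_iff chkPaths 494200 700).mp pc26 p (by omega) (by omega)
  rcases Nat.lt_or_ge p 495600 with h | h
  · exact (Table.relOK_iff chkPaths 494900 700).mp pc27 p (by omega) (by omega)
  rcases Nat.lt_or_ge p 496300 with h | h
  · exact (Table.relOK_iff chkPaths 495600 700).mp pc28 p (by omega) (by omega)
  rcases Nat.lt_or_ge p 497000 with h | h
  · exact (Table.relOK_iff chkPaths 496300 700).mp pc29 p (by omega) (by omega)
  rcases Nat.lt_or_ge p 497700 with h | h
  · exact (Table.relOK_iff chkPaths 497000 700).mp pc30 p (by omega) (by omega)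
  rcases Nat.lt_or_ge p 498400 with h | h
  · exact (Table.relOK_iff chkPaths 497700 700).mp pc31 p (by omega) (by omega)
  rcases Nat.lt_or_ge p 499100 with h | h
  · exact (Table.relOK_iff chkPaths 498400 700).mp pc32 p (by omega) (by omega)
  rcases Nat.lt_or_ge p 499800 with h | h
  · exact (Table.relOK_iff chkPaths 499100 700).mp pc33 p (by omega) (by omega)
  rcases Nat.lt_or_ge p 500500 with h | h
  · exact (Table.relOK_iff chkPaths 499800 700).mp pc34 p (by omega) (by omega)
  rcases Nat.lt_or_ge p 501200 with h | h
  · exact (Table.relOK_iff chkPaths 500500 700).mp pc35 p (by omega) (by omega)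
  rcases Nat.lt_or_ge p 501900 with h | h
  · exact (Table.relOK_iff chkPaths 501200 700).mp pc36 p (by omega) (by omega)
  rcases Nat.lt_or_ge p 502600 with h | h
  · exact (Table.relOK_iff chkPaths 501900 700).mp pc37 p (by omega) (by omega)
  rcases Nat.lt_or_ge p 503300 with h | h
  · exact (Table.relOK_iff chkPaths 502600 700).mp pc38 p (by omega) (by omega)
  exact (Table.relOK_iff chkPaths 503300 700).mp pc39 p (by omega) (by omega)

end Cfsg.Agent.Lib.Helper16.HNP.C22
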