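import Cfsg.Agent.Lib.Helper28.TC2Range
import Cfsg.Agent.Lib.Helper16.HNP.Table
import Cfsg.Agent.Lib.Helper16.HNP.C22
set_option autoImplicit false
set_option maxRecDepth 100000
set_option maxHeartbeats 0
set_option Elab.async false

namespace Cfsg.Agent.Lib.Helper16.HNP.C32
open Cfsg.Agent.Lib.Helper28.TC2Upper Cfsg.Agent.Lib.Helper28.TC2Lower Cfsg.Agent.Lib.Helper28.TC2Range Cfsg.Agent.Lib.Helper16.HNP.Table

theorem pc0 : table.relOK chkPaths 756000 700 = true := by decide +kernel
theorem pc1 : table.relOK chkPaths 756700 700 = true := by decide +kernel
theorem pc2 : table.relOK chkPaths 757400 700 = true := by decide +kernel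
theorem pc3 : table.relOK chkPaths 758100 700 = true := by decide +kernel
theorem pc4 : table.relOK chkPaths 758800 700 = true := by decide +kernel
theorem pc5 : table.relOK chkPaths 759500 700 = true := by decide +kernel
theorem pc6 : table.relOK chkPaths 760200 700 = true := by decide +kernel
theorem pc7 : table.relOK chkPaths 760900 700 = true := by decide +kernel
theorem pc8 : table.relOK chkPaths 761600 700 = true := by decide +kernel
theorem pc9 : table.relOK chkPaths 762300 700 = true := by decide +kernel
theorem pc10 : table.relOK chkPaths 763000 700 = true := by decide +kernel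
theorem pc11 : table.relOK chkPaths 763700 700 = true := by decide +kernel
theorem pc12 : table.relOK chkPaths 764400 700 = true := by decide +kernel
theorem pc13 : table.relOK chkPaths 765100 700 = true := by decide +kernel
theorem pc14 : table.relOK chkPaths 765800 700 = true := by decide +kernel
theorem pc15 : table.relOK chkPaths 766500 700 = true := by decide +kernel
theorem pc16 : table.relOK chkPaths 767200 700 = true := by decide +kernel
theorem pc17 : table.relOK chkPaths 767900 700 = true := by decide +kernel
theorem pc18 : table.relOK chkPaths 768600 700 = true := by decide +kernel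
theorem pc19 : table.relOK chkPaths 769300 700 = true := by decide +kernel
theorem pc20 : table.relOK chkPaths 770000 700 = true := by decide +kernel
theorem pc21 : table.relOK chkPaths 770700 700 = true := by decide +kernel
theorem pc22 : table.relOK chkPaths 771400 700 = true := by decide +kernel
theorem pc23 : table.relOK chkPaths 772100 700 = true := by decide +kernel
theorem pc24 : table.relOK chkPaths 772800 700 = true := by decide +kernel
theorem pc25 : table.relOK chkPaths 773500 700 = true := by decide +kernel
theorem pc26 : table.relOK chkPaths 774200 700 = true := by decide +kernel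
theorem pc27 : table.relOK chkPaths 774900 700 = true := by decide +kernel
theorem pc28 : table.relOK chkPaths 775600 700 = true := by decide +kernel
theorem pc29 : table.relOK chkPaths 776300 700 = true := by decide +kernel
theorem pc30 : table.relOK chkPaths 777000 700 = true := by decide +kernel
theorem pc31 : table.relOK chkPaths 777700 700 = true := by decide +kernel
theorem pc32 : table.relOK chkPaths 778400 700 = true := by decide +kernel
theorem pc33 : table.relOK chkPaths 779100 700 = true := by decide +kernel
theorem pc34 : table.relOK chkPaths 779800 700 = true := by decide +kernel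
theorem pc35 : table.relOK chkPaths 780500 700 = true := by decide +kernel
theorem pc36 : table.relOK chkPaths 781200 700 = true := by decide +kernel
theorem pc37 : table.relOK chkPaths 781900 700 = true := by decide +kernel
theorem pc38 : table.relOK chkPaths 782600 700 = true := by decide +kernel
theorem pc39 : table.relOK chkPaths 783300 700 = true := by decide +kernel

theorem range : ∀ p, 756000 ≤ p → p < 784000 → ∀ r ∈ chkPaths, table.walkT r p = p := by
  intro p h1 h2
  rcases Nat.lt_or_ge p 756700 with h | h
  · exact (Table.relOK_iff chkPaths 756000 700).mp pc0 p (by omega) (by omega)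
  rcases Nat.lt_or_ge p 757400 with h | h
  · exact (Table.relOK_iff chkPaths 756700 700).mp pc1 p (by omega) (by omega)
  rcases Nat.lt_or_ge p 758100 with h | h
  · exact (Table.relOK_iff chkPaths 757400 700).mp pc2 p (by omega) (by omega)
  rcases Nat.lt_or_ge p 758800 with h | h
  · exact (Table.relOK_iff chkPaths 758100 700).mp pc3 p (by omega) (by omega)
  rcases Nat.lt_or_ge p 759500 with h | h
  · exact (Table.relOK_iff chkPaths 758800 700).mp pc4 p (by omega) (by omega)
  rcases Nat.lt_or_ge p 760200 with h | h
  · exact (Table.relOK_iff chkPaths 759500 700).mp pc5 p (by omega) (by omega)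
  rcases Nat.lt_or_ge p 760900 with h | h
  · exact (Table.relOK_iff chkPaths 760200 700).mp pc6 p (by omega) (by omega)
  rcases Nat.lt_or_ge p 761600 with h | h
  · exact (Table.relOK_iff chkPaths 760900 700).mp pc7 p (by omega) (by omega)
  rcases Nat.lt_or_ge p 762300 with h | h
  · exact (Table.relOK_iff chkPaths 761600 700).mp pc8 p (by omega) (by omega)
  rcases Nat.lt_or_ge p 763000 with h | h
  · exact (Table.relOK_iff chkPaths 762300 700).mp pc9 p (by omega) (by omega)
  rcases Nat.lt_or_ge p 763700 with h | h
  · exact (Table.relOK_iff chkPaths 763000 700).mp pc10 p (by omega) (by omega)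
  rcases Nat.lt_or_ge p 764400 with h | h
  · exact (Table.relOK_iff chkPaths 763700 700).mp pc11 p (by omega) (by omega)
  rcases Nat.lt_or_ge p 765100 with h | h
  · exact (Table.relOK_iff chkPaths 764400 700).mp pc12 p (by omega) (by omega)
  rcases Nat.lt_or_ge p 765800 with h | h
  · exact (Table.relOK_iff chkPaths 765100 700).mp pc13 p (by omega) (by omega)
  rcases Nat.lt_or_ge p 766500 with h | h
  · exact (Table.relOK_iff chkPaths 765800 700).mp pc14 p (by omega) (by omega)
  rcases Nat.lt_or_ge p 767200 with h | h
  · exact (Table.relOK_iff chkPaths 766500 700).mp pc15 p (by omega) (by omega)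
  rcases Nat.lt_or_ge p 767900 with h | h
  · exact (Table.relOK_iff chkPaths 767200 700).mp pc16 p (by omega) (by omega)
  rcases Nat.lt_or_ge p 768600 with h | h
  · exact (Table.relOK_iff chkPaths 767900 700).mp pc17 p (by omega) (by omega)
  rcases Nat.lt_or_ge p 769300 with h | h
  · exact (Table.relOK_iff chkPaths 768600 700).mp pc18 p (by omega) (by omega)
  rcases Nat.lt_or_ge p 770000 with h | h
  · exact (Table.relOK_iff chkPaths 769300 700).mp pc19 p (by omega) (by omega)
  rcases Nat.lt_or_ge p 770700 with h | h
  · exact (Table.relOK_iff chkPaths 770000 700).mp pc20 p (by omega) (by omega)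
  rcases Nat.lt_or_ge p 771400 with h | h
  · exact (Table.relOK_iff chkPaths 770700 700).mp pc21 p (by omega) (by omega)
  rcases Nat.lt_or_ge p 772100 with h | h
  · exact (Table.relOK_iff chkPaths 771400 700).mp pc22 p (by omega) (by omega)
  rcases Nat.lt_or_ge p 772800 with h | h
  · exact (Table.relOK_iff chkPaths 772100 700).mp pc23 p (by omega) (by omega)
  rcases Nat.lt_or_ge p 773500 with h | h
  · exact (Table.relOK_iff chkPaths 772800 700).mp pc24 p (by omega) (by omega)
  rcases Nat.lt_or_ge p 774200 with h | h
  · exact (Table.relOK_iff chkPaths 773500 700).mp pc25 p (by omega) (by omega)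
  rcases Nat.lt_or_ge p 774900 with h | h
  · exact (Table.relOK_iff chkPaths 774200 700).mp pc26 p (by omega) (by omega)
  rcases Nat.lt_or_ge p 775600 with h | h
  · exact (Table.relOK_iff chkPaths 774900 700).mp pc27 p (by omega) (by omega)
  rcases Nat.lt_or_ge p 776300 with h | h
  · exact (Table.relOK_iff chkPaths 775600 700).mp pc28 p (by omega) (by omega)
  rcases Nat.lt_or_ge p 777000 with h | h
  · exact (Table.relOK_iff chkPaths 776300 700).mp pc29 p (by omega) (by omega)
  rcases Nat.lt_or_ge p 777700 with h | h
  · exact (Table.relOK_iff chkPaths 777000 700).mp pc30 p (by omega) (by omega)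
  rcases Nat.lt_or_ge p 778400 with h | h
  · exact (Table.relOK_iff chkPaths 777700 700).mp pc31 p (by omega) (by omega)
  rcases Nat.lt_or_ge p 779100 with h | h
  · exact (Table.relOK_iff chkPaths 778400 700).mp pc32 p (by omega) (by omega)
  rcases Nat.lt_or_ge p 779800 with h | h
  · exact (Table.relOK_iff chkPaths 779100 700).mp pc33 p (by omega) (by omega)
  rcases Nat.lt_or_ge p 780500 with h | h
  · exact (Table.relOK_iff chkPaths 779800 700).mp pc34 p (by omega) (by omega)
  rcases Nat.lt_or_ge p 781200 with h | h
  · exact (Table.relOK_iff chkPaths 780500 700).mp pc35 p (by omega) (by omega)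
  rcases Nat.lt_or_ge p 781900 with h | h
  · exact (Table.relOK_iff chkPaths 781200 700).mp pc36 p (by omega) (by omega)
  rcases Nat.lt_or_ge p 782600 with h | h
  · exact (Table.relOK_iff chkPaths 781900 700).mp pc37 p (by omega) (by omega)
  rcases Nat.lt_or_ge p 783300 with h | h
  · exact (Table.relOK_iff chkPaths 782600 700).mp pc38 p (by omega) (by omega)
  exact (Table.relOK_iff chkPaths 783300 700).mp pc39 p (by omega) (by omega)

end Cfsg.Agent.Lib.Helper16.HNP.C32
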