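import Cfsg.Agent.Lib.Helper28.TC2Range
import Cfsg.Agent.Lib.Helper16.HNP.Table
import Cfsg.Agent.Lib.Helper16.HNP.C23
set_option autoImplicit false
set_option maxRecDepth 100000
set_option maxHeartbeats 0
set_option Elab.async false

namespace Cfsg.Agent.Lib.Helper16.HNP.C33
open Cfsg.Agent.Lib.Helper28.TC2Upper Cfsg.Agent.Lib.Helper28.TC2Lower Cfsg.Agent.Lib.Helper28.TC2Range Cfsg.Agent.Lib.Helper16.HNP.Table

theorem pc0 : table.relOK chkPaths 784000 700 = true := by decide +kernel
theorem pc1 : table.relOK chkPaths 784700 700 = true := by decide +kernel
theorem pc2 : table.relOK chkPaths 785400 700 = true := by decide +kernel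
theorem pc3 : table.relOK chkPaths 786100 700 = true := by decide +kernel
theorem pc4 : table.relOK chkPaths 786800 700 = true := by decide +kernel
theorem pc5 : table.relOK chkPaths 787500 700 = true := by decide +kernel
theorem pc6 : table.relOK chkPaths 788200 700 = true := by decide +kernel
theorem pc7 : table.relOK chkPaths 788900 700 = true := by decide +kernel
theorem pc8 : table.relOK chkPaths 789600 700 = true := by decide +kernel
theorem pc9 : table.relOK chkPaths 790300 700 = true := by decide +kernel
theorem pc10 : table.relOK chkPaths 791000 700 = true := by decide +kernel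
theorem pc11 : table.relOK chkPaths 791700 700 = true := by decide +kernel
theorem pc12 : table.relOK chkPaths 792400 700 = true := by decide +kernel
theorem pc13 : table.relOK chkPaths 793100 700 = true := by decide +kernel
theorem pc14 : table.relOK chkPaths 793800 700 = true := by decide +kernel
theorem pc15 : table.relOK chkPaths 794500 700 = true := by decide +kernel
theorem pc16 : table.relOK chkPaths 795200 700 = true := by decide +kernel
theorem pc17 : table.relOK chkPaths 795900 700 = true := by decide +kernel
theorem pc18 : table.relOK chkPaths 796600 700 = true := by decide +kernel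
theorem pc19 : table.relOK chkPaths 797300 700 = true := by decide +kernel
theorem pc20 : table.relOK chkPaths 798000 700 = true := by decide +kernel
theorem pc21 : table.relOK chkPaths 798700 700 = true := by decide +kernel
theorem pc22 : table.relOK chkPaths 799400 700 = true := by decide +kernel
theorem pc23 : table.relOK chkPaths 800100 700 = true := by decide +kernel
theorem pc24 : table.relOK chkPaths 800800 700 = true := by decide +kernel
theorem pc25 : table.relOK chkPaths 801500 700 = true := by decide +kernel
theorem pc26 : table.relOK chkPaths 802200 700 = true := by decide +kernel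
theorem pc27 : table.relOK chkPaths 802900 700 = true := by decide +kernel
theorem pc28 : table.relOK chkPaths 803600 700 = true := by decide +kernel
theorem pc29 : table.relOK chkPaths 804300 700 = true := by decide +kernel
theorem pc30 : table.relOK chkPaths 805000 700 = true := by decide +kernel
theorem pc31 : table.relOK chkPaths 805700 700 = true := by decide +kernel
theorem pc32 : table.relOK chkPaths 806400 700 = true := by decide +kernel
theorem pc33 : table.relOK chkPaths 807100 700 = true := by decide +kernel
theorem pc34 : table.relOK chkPaths 807800 700 = true := by decide +kernel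
theorem pc35 : table.relOK chkPaths 808500 700 = true := by decide +kernel
theorem pc36 : table.relOK chkPaths 809200 700 = true := by decide +kernel
theorem pc37 : table.relOK chkPaths 809900 700 = true := by decide +kernel
theorem pc38 : table.relOK chkPaths 810600 700 = true := by decide +kernel
theorem pc39 : table.relOK chkPaths 811300 700 = true := by decide +kernel

theorem range : ∀ p, 784000 ≤ p → p < 812000 → ∀ r ∈ chkPaths, table.walkT r p = p := by
  intro p h1 h2
  rcases Nat.lt_or_ge p 784700 with h | h
  · exact (Table.relOK_iff chkPaths 784000 700).mp pc0 p (by omega) (by omega)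
  rcases Nat.lt_or_ge p 785400 with h | h
  · exact (Table.relOK_iff chkPaths 784700 700).mp pc1 p (by omega) (by omega)
  rcases Nat.lt_or_ge p 786100 with h | h
  · exact (Table.relOK_iff chkPaths 785400 700).mp pc2 p (by omega) (by omega)
  rcases Nat.lt_or_ge p 786800 with h | h
  · exact (Table.relOK_iff chkPaths 786100 700).mp pc3 p (by omega) (by omega)
  rcases Nat.lt_or_ge p 787500 with h | h
  · exact (Table.relOK_iff chkPaths 786800 700).mp pc4 p (by omega) (by omega)
  rcases Nat.lt_or_ge p 788200 with h | h
  · exact (Table.relOK_iff chkPaths 787500 700).mp pc5 p (by omega) (by omega)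
  rcases Nat.lt_or_ge p 788900 with h | h
  · exact (Table.relOK_iff chkPaths 788200 700).mp pc6 p (by omega) (by omega)
  rcases Nat.lt_or_ge p 789600 with h | h
  · exact (Table.relOK_iff chkPaths 788900 700).mp pc7 p (by omega) (by omega)
  rcases Nat.lt_or_ge p 790300 with h | h
  · exact (Table.relOK_iff chkPaths 789600 700).mp pc8 p (by omega) (by omega)
  rcases Nat.lt_or_ge p 791000 with h | h
  · exact (Table.relOK_iff chkPaths 790300 700).mp pc9 p (by omega) (by omega)
  rcases Nat.lt_or_ge p 791700 with h | h
  · exact (Table.relOK_iff chkPaths 791000 700).mp pc10 p (by omega) (by omega)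
  rcases Nat.lt_or_ge p 792400 with h | h
  · exact (Table.relOK_iff chkPaths 791700 700).mp pc11 p (by omega) (by omega)
  rcases Nat.lt_or_ge p 793100 with h | h
  · exact (Table.relOK_iff chkPaths 792400 700).mp pc12 p (by omega) (by omega)
  rcases Nat.lt_or_ge p 793800 with h | h
  · exact (Table.relOK_iff chkPaths 793100 700).mp pc13 p (by omega) (by omega)
  rcases Nat.lt_or_ge p 794500 with h | h
  · exact (Table.relOK_iff chkPaths 793800 700).mp pc14 p (by omega) (by omega)
  rcases Nat.lt_or_ge p 795200 with h | h
  · exact (Table.relOK_iff chkPaths 794500 700).mp pc15 p (by omega) (by omega)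
  rcases Nat.lt_or_ge p 795900 with h | h
  · exact (Table.relOK_iff chkPaths 795200 700).mp pc16 p (by omega) (by omega)
  rcases Nat.lt_or_ge p 796600 with h | h
  · exact (Table.relOK_iff chkPaths 795900 700).mp pc17 p (by omega) (by omega)
  rcases Nat.lt_or_ge p 797300 with h | h
  · exact (Table.relOK_iff chkPaths 796600 700).mp pc18 p (by omega) (by omega)
  rcases Nat.lt_or_ge p 798000 with h | h
  · exact (Table.relOK_iff chkPaths 797300 700).mp pc19 p (by omega) (by omega)
  rcases Nat.lt_or_ge p 798700 with h | h
  · exact (Table.relOK_iff chkPaths 798000 700).mp pc20 p (by omega) (by omega)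
  rcases Nat.lt_or_ge p 799400 with h | h
  · exact (Table.relOK_iff chkPaths 798700 700).mp pc21 p (by omega) (by omega)
  rcases Nat.lt_or_ge p 800100 with h | h
  · exact (Table.relOK_iff chkPaths 799400 700).mp pc22 p (by omega) (by omega)
  rcases Nat.lt_or_ge p 800800 with h | h
  · exact (Table.relOK_iff chkPaths 800100 700).mp pc23 p (by omega) (by omega)
  rcases Nat.lt_or_ge p 801500 with h | h
  · exact (Table.relOK_iff chkPaths 800800 700).mp pc24 p (by omega) (by omega)
  rcases Nat.lt_or_ge p 802200 with h | h
  · exact (Table.relOK_iff chkPaths 801500 700).mp pc25 p (by omega) (by omega)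
  rcases Nat.lt_or_ge p 802900 with h | h
  · exact (Table.relOK_iff chkPaths 802200 700).mp pc26 p (by omega) (by omega)
  rcases Nat.lt_or_ge p 803600 with h | h
  · exact (Table.relOK_iff chkPaths 802900 700).mp pc27 p (by omega) (by omega)
  rcases Nat.lt_or_ge p 804300 with h | h
  · exact (Table.relOK_iff chkPaths 803600 700).mp pc28 p (by omega) (by omega)
  rcases Nat.lt_or_ge p 805000 with h | h
  · exact (Table.relOK_iff chkPaths 804300 700).mp pc29 p (by omega) (by omega)
  rcases Nat.lt_or_ge p 805700 with h | h
  · exact (Table.relOK_iff chkPaths 805000 700).mp pc30 p (by omega) (by omega)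
  rcases Nat.lt_or_ge p 806400 with h | h
  · exact (Table.relOK_iff chkPaths 805700 700).mp pc31 p (by omega) (by omega)
  rcases Nat.lt_or_ge p 807100 with h | h
  · exact (Table.relOK_iff chkPaths 806400 700).mp pc32 p (by omega) (by omega)
  rcases Nat.lt_or_ge p 807800 with h | h
  · exact (Table.relOK_iff chkPaths 807100 700).mp pc33 p (by omega) (by omega)
  rcases Nat.lt_or_ge p 808500 with h | h
  · exact (Table.relOK_iff chkPaths 807800 700).mp pc34 p (by omega) (by omega)
  rcases Nat.lt_or_ge p 809200 with h | h
  · exact (Table.relOK_iff chkPaths 808500 700).mp pc35 p (by omega) (by omega)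
  rcases Nat.lt_or_ge p 809900 with h | h
  · exact (Table.relOK_iff chkPaths 809200 700).mp pc36 p (by omega) (by omega)
  rcases Nat.lt_or_ge p 810600 with h | h
  · exact (Table.relOK_iff chkPaths 809900 700).mp pc37 p (by omega) (by omega)
  rcases Nat.lt_or_ge p 811300 with h | h
  · exact (Table.relOK_iff chkPaths 810600 700).mp pc38 p (by omega) (by omega)
  exact (Table.relOK_iff chkPaths 811300 700).mp pc39 p (by omega) (by omega)

end Cfsg.Agent.Lib.Helper16.HNP.C33
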