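import Cfsg.Agent.Lib.Helper28.TC2Range
import Cfsg.Agent.Lib.Helper16.HNP.Table
import Cfsg.Agent.Lib.Helper16.HNP.C24
set_option autoImplicit false
set_option maxRecDepth 100000
set_option maxHeartbeats 0
set_option Elab.async false

namespace Cfsg.Agent.Lib.Helper16.HNP.C34
open Cfsg.Agent.Lib.Helper28.TC2Upper Cfsg.Agent.Lib.Helper28.TC2Lower Cfsg.Agent.Lib.Helper28.TC2Range Cfsg.Agent.Lib.Helper16.HNP.Table

theorem pc0 : table.relOK chkPaths 812000 700 = true := by decide +kernel
theorem pc1 : table.relOK chkPaths 812700 700 = true := by decide +kernel
theorem pc2 : table.relOK chkPaths 813400 700 = true := by decide +kernel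
theorem pc3 : table.relOK chkPaths 814100 700 = true := by decide +kernel
theorem pc4 : table.relOK chkPaths 814800 700 = true := by decide +kernel
theorem pc5 : table.relOK chkPaths 815500 700 = true := by decide +kernel
theorem pc6 : table.relOK chkPaths 816200 700 = true := by decide +kernel
theorem pc7 : table.relOK chkPaths 816900 700 = true := by decide +kernel
theorem pc8 : table.relOK chkPaths 817600 700 = true := by decide +kernel
theorem pc9 : table.relOK chkPaths 818300 700 = true := by decide +kernel
theorem pc10 : table.relOK chkPaths 819000 700 = true := by decide +kernel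
theorem pc11 : table.relOK chkPaths 819700 700 = true := by decide +kernel
theorem pc12 : table.relOK chkPaths 820400 700 = true := by decide +kernel
theorem pc13 : table.relOK chkPaths 821100 700 = true := by decide +kernel
theorem pc14 : table.relOK chkPaths 821800 700 = true := by decide +kernel
theorem pc15 : table.relOK chkPaths 822500 700 = true := by decide +kernel
theorem pc16 : table.relOK chkPaths 823200 700 = true := by decide +kernel
theorem pc17 : table.relOK chkPaths 823900 700 = true := by decide +kernel
theorem pc18 : table.relOK chkPaths 824600 700 = true := by decide +kernel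
theorem pc19 : table.relOK chkPaths 825300 700 = true := by decide +kernel
theorem pc20 : table.relOK chkPaths 826000 700 = true := by decide +kernel
theorem pc21 : table.relOK chkPaths 826700 700 = true := by decide +kernel
theorem pc22 : table.relOK chkPaths 827400 700 = true := by decide +kernel
theorem pc23 : table.relOK chkPaths 828100 700 = true := by decide +kernel
theorem pc24 : table.relOK chkPaths 828800 700 = true := by decide +kernel
theorem pc25 : table.relOK chkPaths 829500 700 = true := by decide +kernel
theorem pc26 : table.relOK chkPaths 830200 700 = true := by decide +kernel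
theorem pc27 : table.relOK chkPaths 830900 700 = true := by decide +kernel
theorem pc28 : table.relOK chkPaths 831600 700 = true := by decide +kernel
theorem pc29 : table.relOK chkPaths 832300 700 = true := by decide +kernel
theorem pc30 : table.relOK chkPaths 833000 700 = true := by decide +kernel
theorem pc31 : table.relOK chkPaths 833700 700 = true := by decide +kernel
theorem pc32 : table.relOK chkPaths 834400 700 = true := by decide +kernel
theorem pc33 : table.relOK chkPaths 835100 700 = true := by decide +kernel
theorem pc34 : table.relOK chkPaths 835800 700 = true := by decide +kernel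
theorem pc35 : table.relOK chkPaths 836500 700 = true := by decide +kernel
theorem pc36 : table.relOK chkPaths 837200 700 = true := by decide +kernel
theorem pc37 : table.relOK chkPaths 837900 700 = true := by decide +kernel
theorem pc38 : table.relOK chkPaths 838600 700 = true := by decide +kernel
theorem pc39 : table.relOK chkPaths 839300 700 = true := by decide +kernel

theorem range : ∀ p, 812000 ≤ p → p < 840000 → ∀ r ∈ chkPaths, table.walkT r p = p := by
  intro p h1 h2
  rcases Nat.lt_or_ge p 812700 with h | h
  · exact (Table.relOK_iff chkPaths 812000 700).mp pc0 p (by omega) (by omega)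
  rcases Nat.lt_or_ge p 813400 with h | h
  · exact (Table.relOK_iff chkPaths 812700 700).mp pc1 p (by omega) (by omega)
  rcases Nat.lt_or_ge p 814100 with h | h
  · exact (Table.relOK_iff chkPaths 813400 700).mp pc2 p (by omega) (by omega)
  rcases Nat.lt_or_ge p 814800 with h | h
  · exact (Table.relOK_iff chkPaths 814100 700).mp pc3 p (by omega) (by omega)
  rcases Nat.lt_or_ge p 815500 with h | h
  · exact (Table.relOK_iff chkPaths 814800 700).mp pc4 p (by omega) (by omega)
  rcases Nat.lt_or_ge p 816200 with h | h
  · exact (Table.relOK_iff chkPaths 815500 700).mp pc5 p (by omega) (by omega)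
  rcases Nat.lt_or_ge p 816900 with h | h
  · exact (Table.relOK_iff chkPaths 816200 700).mp pc6 p (by omega) (by omega)
  rcases Nat.lt_or_ge p 817600 with h | h
  · exact (Table.relOK_iff chkPaths 816900 700).mp pc7 p (by omega) (by omega)
  rcases Nat.lt_or_ge p 818300 with h | h
  · exact (Table.relOK_iff chkPaths 817600 700).mp pc8 p (by omega) (by omega)
  rcases Nat.lt_or_ge p 819000 with h | h
  · exact (Table.relOK_iff chkPaths 818300 700).mp pc9 p (by omega) (by omega)
  rcases Nat.lt_or_ge p 819700 with h | h
  · exact (Table.relOK_iff chkPaths 819000 700).mp pc10 p (by omega) (by omega)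
  rcases Nat.lt_or_ge p 820400 with h | h
  · exact (Table.relOK_iff chkPaths 819700 700).mp pc11 p (by omega) (by omega)
  rcases Nat.lt_or_ge p 821100 with h | h
  · exact (Table.relOK_iff chkPaths 820400 700).mp pc12 p (by omega) (by omega)
  rcases Nat.lt_or_ge p 821800 with h | h
  · exact (Table.relOK_iff chkPaths 821100 700).mp pc13 p (by omega) (by omega)
  rcases Nat.lt_or_ge p 822500 with h | h
  · exact (Table.relOK_iff chkPaths 821800 700).mp pc14 p (by omega) (by omega)
  rcases Nat.lt_or_ge p 823200 with h | h
  · exact (Table.relOK_iff chkPaths 822500 700).mp pc15 p (by omega) (by omega)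
  rcases Nat.lt_or_ge p 823900 with h | h
  · exact (Table.relOK_iff chkPaths 823200 700).mp pc16 p (by omega) (by omega)
  rcases Nat.lt_or_ge p 824600 with h | h
  · exact (Table.relOK_iff chkPaths 823900 700).mp pc17 p (by omega) (by omega)
  rcases Nat.lt_or_ge p 825300 with h | h
  · exact (Table.relOK_iff chkPaths 824600 700).mp pc18 p (by omega) (by omega)
  rcases Nat.lt_or_ge p 826000 with h | h
  · exact (Table.relOK_iff chkPaths 825300 700).mp pc19 p (by omega) (by omega)
  rcases Nat.lt_or_ge p 826700 with h | h
  · exact (Table.relOK_iff chkPaths 826000 700).mp pc20 p (by omega) (by omega)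
  rcases Nat.lt_or_ge p 827400 with h | h
  · exact (Table.relOK_iff chkPaths 826700 700).mp pc21 p (by omega) (by omega)
  rcases Nat.lt_or_ge p 828100 with h | h
  · exact (Table.relOK_iff chkPaths 827400 700).mp pc22 p (by omega) (by omega)
  rcases Nat.lt_or_ge p 828800 with h | h
  · exact (Table.relOK_iff chkPaths 828100 700).mp pc23 p (by omega) (by omega)
  rcases Nat.lt_or_ge p 829500 with h | h
  · exact (Table.relOK_iff chkPaths 828800 700).mp pc24 p (by omega) (by omega)
  rcases Nat.lt_or_ge p 830200 with h | h
  · exact (Table.relOK_iff chkPaths 829500 700).mp pc25 p (by omega) (by omega)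
  rcases Nat.lt_or_ge p 830900 with h | h
  · exact (Table.relOK_iff chkPaths 830200 700).mp pc26 p (by omega) (by omega)
  rcases Nat.lt_or_ge p 831600 with h | h
  · exact (Table.relOK_iff chkPaths 830900 700).mp pc27 p (by omega) (by omega)
  rcases Nat.lt_or_ge p 832300 with h | h
  · exact (Table.relOK_iff chkPaths 831600 700).mp pc28 p (by omega) (by omega)
  rcases Nat.lt_or_ge p 833000 with h | h
  · exact (Table.relOK_iff chkPaths 832300 700).mp pc29 p (by omega) (by omega)
  rcases Nat.lt_or_ge p 833700 with h | h
  · exact (Table.relOK_iff chkPaths 833000 700).mp pc30 p (by omega) (by omega)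
  rcases Nat.lt_or_ge p 834400 with h | h
  · exact (Table.relOK_iff chkPaths 833700 700).mp pc31 p (by omega) (by omega)
  rcases Nat.lt_or_ge p 835100 with h | h
  · exact (Table.relOK_iff chkPaths 834400 700).mp pc32 p (by omega) (by omega)
  rcases Nat.lt_or_ge p 835800 with h | h
  · exact (Table.relOK_iff chkPaths 835100 700).mp pc33 p (by omega) (by omega)
  rcases Nat.lt_or_ge p 836500 with h | h
  · exact (Table.relOK_iff chkPaths 835800 700).mp pc34 p (by omega) (by omega)
  rcases Nat.lt_or_ge p 837200 with h | h
  · exact (Table.relOK_iff chkPaths 836500 700).mp pc35 p (by omega) (by omega)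
  rcases Nat.lt_or_ge p 837900 with h | h
  · exact (Table.relOK_iff chkPaths 837200 700).mp pc36 p (by omega) (by omega)
  rcases Nat.lt_or_ge p 838600 with h | h
  · exact (Table.relOK_iff chkPaths 837900 700).mp pc37 p (by omega) (by omega)
  rcases Nat.lt_or_ge p 839300 with h | h
  · exact (Table.relOK_iff chkPaths 838600 700).mp pc38 p (by omega) (by omega)
  exact (Table.relOK_iff chkPaths 839300 700).mp pc39 p (by omega) (by omega)

end Cfsg.Agent.Lib.Helper16.HNP.C34
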