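import Cfsg.Agent.Lib.Helper28.TC2Range
import Cfsg.Agent.Lib.Helper16.HNP.Table
import Cfsg.Agent.Lib.Helper16.HNP.C26
set_option autoImplicit false
set_option maxRecDepth 100000
set_option maxHeartbeats 0
set_option Elab.async false

namespace Cfsg.Agent.Lib.Helper16.HNP.C36
open Cfsg.Agent.Lib.Helper28.TC2Upper Cfsg.Agent.Lib.Helper28.TC2Lower Cfsg.Agent.Lib.Helper28.TC2Range Cfsg.Agent.Lib.Helper16.HNP.Table

theorem pc0 : table.relOK chkPaths 868000 700 = true := by decide +kernel
theorem pc1 : table.relOK chkPaths 868700 700 = true := by decide +kernel
theorem pc2 : table.relOK chkPaths 869400 700 = true := by decide +kernel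
theorem pc3 : table.relOK chkPaths 870100 700 = true := by decide +kernel
theorem pc4 : table.relOK chkPaths 870800 700 = true := by decide +kernel
theorem pc5 : table.relOK chkPaths 871500 700 = true := by decide +kernel
theorem pc6 : table.relOK chkPaths 872200 700 = true := by decide +kernel
theorem pc7 : table.relOK chkPaths 872900 700 = true := by decide +kernel
theorem pc8 : table.relOK chkPaths 873600 700 = true := by decide +kernel
theorem pc9 : table.relOK chkPaths 874300 700 = true := by decide +kernel
theorem pc10 : table.relOK chkPaths 875000 700 = true := by decide +kernel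
theorem pc11 : table.relOK chkPaths 875700 700 = true := by decide +kernel
theorem pc12 : table.relOK chkPaths 876400 700 = true := by decide +kernel
theorem pc13 : table.relOK chkPaths 877100 700 = true := by decide +kernel
theorem pc14 : table.relOK chkPaths 877800 700 = true := by decide +kernel
theorem pc15 : table.relOK chkPaths 878500 700 = true := by decide +kernel
theorem pc16 : table.relOK chkPaths 879200 700 = true := by decide +kernel
theorem pc17 : table.relOK chkPaths 879900 700 = true := by decide +kernel
theorem pc18 : table.relOK chkPaths 880600 700 = true := by decide +kernel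
theorem pc19 : table.relOK chkPaths 881300 700 = true := by decide +kernel
theorem pc20 : table.relOK chkPaths 882000 700 = true := by decide +kernel
theorem pc21 : table.relOK chkPaths 882700 700 = true := by decide +kernel
theorem pc22 : table.relOK chkPaths 883400 700 = true := by decide +kernel
theorem pc23 : table.relOK chkPaths 884100 700 = true := by decide +kernel
theorem pc24 : table.relOK chkPaths 884800 700 = true := by decide +kernel
theorem pc25 : table.relOK chkPaths 885500 700 = true := by decide +kernel
theorem pc26 : table.relOK chkPaths 886200 700 = true := by decide +kernel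
theorem pc27 : table.relOK chkPaths 886900 700 = true := by decide +kernel
theorem pc28 : table.relOK chkPaths 887600 700 = true := by decide +kernel
theorem pc29 : table.relOK chkPaths 888300 700 = true := by decide +kernel
theorem pc30 : table.relOK chkPaths 889000 700 = true := by decide +kernel
theorem pc31 : table.relOK chkPaths 889700 700 = true := by decide +kernel
theorem pc32 : table.relOK chkPaths 890400 700 = true := by decide +kernel
theorem pc33 : table.relOK chkPaths 891100 700 = true := by decide +kernel
theorem pc34 : table.relOK chkPaths 891800 700 = true := by decide +kernel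
theorem pc35 : table.relOK chkPaths 892500 700 = true := by decide +kernel
theorem pc36 : table.relOK chkPaths 893200 700 = true := by decide +kernel
theorem pc37 : table.relOK chkPaths 893900 700 = true := by decide +kernel
theorem pc38 : table.relOK chkPaths 894600 700 = true := by decide +kernel
theorem pc39 : table.relOK chkPaths 895300 700 = true := by decide +kernel

theorem range : ∀ p, 868000 ≤ p → p < 896000 → ∀ r ∈ chkPaths, table.walkT r p = p := by
  intro p h1 h2
  rcases Nat.lt_or_ge p 868700 with h | h
  · exact (Table.relOK_iff chkPaths 868000 700).mp pc0 p (by omega) (by omega)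
  rcases Nat.lt_or_ge p 869400 with h | h
  · exact (Table.relOK_iff chkPaths 868700 700).mp pc1 p (by omega) (by omega)
  rcases Nat.lt_or_ge p 870100 with h | h
  · exact (Table.relOK_iff chkPaths 869400 700).mp pc2 p (by omega) (by omega)
  rcases Nat.lt_or_ge p 870800 with h | h
  · exact (Table.relOK_iff chkPaths 870100 700).mp pc3 p (by omega) (by omega)
  rcases Nat.lt_or_ge p 871500 with h | h
  · exact (Table.relOK_iff chkPaths 870800 700).mp pc4 p (by omega) (by omega)
  rcases Nat.lt_or_ge p 872200 with h | h
  · exact (Table.relOK_iff chkPaths 871500 700).mp pc5 p (by omega) (by omega)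
  rcases Nat.lt_or_ge p 872900 with h | h
  · exact (Table.relOK_iff chkPaths 872200 700).mp pc6 p (by omega) (by omega)
  rcases Nat.lt_or_ge p 873600 with h | h
  · exact (Table.relOK_iff chkPaths 872900 700).mp pc7 p (by omega) (by omega)
  rcases Nat.lt_or_ge p 874300 with h | h
  · exact (Table.relOK_iff chkPaths 873600 700).mp pc8 p (by omega) (by omega)
  rcases Nat.lt_or_ge p 875000 with h | h
  · exact (Table.relOK_iff chkPaths 874300 700).mp pc9 p (by omega) (by omega)
  rcases Nat.lt_or_ge p 875700 with h | h
  · exact (Table.relOK_iff chkPaths 875000 700).mp pc10 p (by omega) (by omega)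
  rcases Nat.lt_or_ge p 876400 with h | h
  · exact (Table.relOK_iff chkPaths 875700 700).mp pc11 p (by omega) (by omega)
  rcases Nat.lt_or_ge p 877100 with h | h
  · exact (Table.relOK_iff chkPaths 876400 700).mp pc12 p (by omega) (by omega)
  rcases Nat.lt_or_ge p 877800 with h | h
  · exact (Table.relOK_iff chkPaths 877100 700).mp pc13 p (by omega) (by omega)
  rcases Nat.lt_or_ge p 878500 with h | h
  · exact (Table.relOK_iff chkPaths 877800 700).mp pc14 p (by omega) (by omega)
  rcases Nat.lt_or_ge p 879200 with h | h
  · exact (Table.relOK_iff chkPaths 878500 700).mp pc15 p (by omega) (by omega)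
  rcases Nat.lt_or_ge p 879900 with h | h
  · exact (Table.relOK_iff chkPaths 879200 700).mp pc16 p (by omega) (by omega)
  rcases Nat.lt_or_ge p 880600 with h | h
  · exact (Table.relOK_iff chkPaths 879900 700).mp pc17 p (by omega) (by omega)
  rcases Nat.lt_or_ge p 881300 with h | h
  · exact (Table.relOK_iff chkPaths 880600 700).mp pc18 p (by omega) (by omega)
  rcases Nat.lt_or_ge p 882000 with h | h
  · exact (Table.relOK_iff chkPaths 881300 700).mp pc19 p (by omega) (by omega)
  rcases Nat.lt_or_ge p 882700 with h | h
  · exact (Table.relOK_iff chkPaths 882000 700).mp pc20 p (by omega) (by omega)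
  rcases Nat.lt_or_ge p 883400 with h | h
  · exact (Table.relOK_iff chkPaths 882700 700).mp pc21 p (by omega) (by omega)
  rcases Nat.lt_or_ge p 884100 with h | h
  · exact (Table.relOK_iff chkPaths 883400 700).mp pc22 p (by omega) (by omega)
  rcases Nat.lt_or_ge p 884800 with h | h
  · exact (Table.relOK_iff chkPaths 884100 700).mp pc23 p (by omega) (by omega)
  rcases Nat.lt_or_ge p 885500 with h | h
  · exact (Table.relOK_iff chkPaths 884800 700).mp pc24 p (by omega) (by omega)
  rcases Nat.lt_or_ge p 886200 with h | h
  · exact (Table.relOK_iff chkPaths 885500 700).mp pc25 p (by omega) (by omega)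
  rcases Nat.lt_or_ge p 886900 with h | h
  · exact (Table.relOK_iff chkPaths 886200 700).mp pc26 p (by omega) (by omega)
  rcases Nat.lt_or_ge p 887600 with h | h
  · exact (Table.relOK_iff chkPaths 886900 700).mp pc27 p (by omega) (by omega)
  rcases Nat.lt_or_ge p 888300 with h | h
  · exact (Table.relOK_iff chkPaths 887600 700).mp pc28 p (by omega) (by omega)
  rcases Nat.lt_or_ge p 889000 with h | h
  · exact (Table.relOK_iff chkPaths 888300 700).mp pc29 p (by omega) (by omega)
  rcases Nat.lt_or_ge p 889700 with h | h
  · exact (Table.relOK_iff chkPaths 889000 700).mp pc30 p (by omega) (by omega)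
  rcases Nat.lt_or_ge p 890400 with h | h
  · exact (Table.relOK_iff chkPaths 889700 700).mp pc31 p (by omega) (by omega)
  rcases Nat.lt_or_ge p 891100 with h | h
  · exact (Table.relOK_iff chkPaths 890400 700).mp pc32 p (by omega) (by omega)
  rcases Nat.lt_or_ge p 891800 with h | h
  · exact (Table.relOK_iff chkPaths 891100 700).mp pc33 p (by omega) (by omega)
  rcases Nat.lt_or_ge p 892500 with h | h
  · exact (Table.relOK_iff chkPaths 891800 700).mp pc34 p (by omega) (by omega)
  rcases Nat.lt_or_ge p 893200 with h | h
  · exact (Table.relOK_iff chkPaths 892500 700).mp pc35 p (by omega) (by omega)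
  rcases Nat.lt_or_ge p 893900 with h | h
  · exact (Table.relOK_iff chkPaths 893200 700).mp pc36 p (by omega) (by omega)
  rcases Nat.lt_or_ge p 894600 with h | h
  · exact (Table.relOK_iff chkPaths 893900 700).mp pc37 p (by omega) (by omega)
  rcases Nat.lt_or_ge p 895300 with h | h
  · exact (Table.relOK_iff chkPaths 894600 700).mp pc38 p (by omega) (by omega)
  exact (Table.relOK_iff chkPaths 895300 700).mp pc39 p (by omega) (by omega)

end Cfsg.Agent.Lib.Helper16.HNP.C36
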