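import Cfsg.Agent.Lib.Helper28.TC2Range
import Cfsg.Agent.Lib.Helper16.HNP.Table
import Cfsg.Agent.Lib.Helper16.HNP.C27
set_option autoImplicit false
set_option maxRecDepth 100000
set_option maxHeartbeats 0
set_option Elab.async false

namespace Cfsg.Agent.Lib.Helper16.HNP.C37
open Cfsg.Agent.Lib.Helper28.TC2Upper Cfsg.Agent.Lib.Helper28.TC2Lower Cfsg.Agent.Lib.Helper28.TC2Range Cfsg.Agent.Lib.Helper16.HNP.Table

theorem pc0 : table.relOK chkPaths 896000 700 = true := by decide +kernel
theorem pc1 : table.relOK chkPaths 896700 700 = true := by decide +kernel
theorem pc2 : table.relOK chkPaths 897400 700 = true := by decide +kernel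
theorem pc3 : table.relOK chkPaths 898100 700 = true := by decide +kernel
theorem pc4 : table.relOK chkPaths 898800 700 = true := by decide +kernel
theorem pc5 : table.relOK chkPaths 899500 700 = true := by decide +kernel
theorem pc6 : table.relOK chkPaths 900200 700 = true := by decide +kernel
theorem pc7 : table.relOK chkPaths 900900 700 = true := by decide +kernel
theorem pc8 : table.relOK chkPaths 901600 700 = true := by decide +kernel
theorem pc9 : table.relOK chkPaths 902300 700 = true := by decide +kernel
theorem pc10 : table.relOK chkPaths 903000 700 = true := by decide +kernel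
theorem pc11 : table.relOK chkPaths 903700 700 = true := by decide +kernel
theorem pc12 : table.relOK chkPaths 904400 700 = true := by decide +kernel
theorem pc13 : table.relOK chkPaths 905100 700 = true := by decide +kernel
theorem pc14 : table.relOK chkPaths 905800 700 = true := by decide +kernel
theorem pc15 : table.relOK chkPaths 906500 700 = true := by decide +kernel
theorem pc16 : table.relOK chkPaths 907200 700 = true := by decide +kernel
theorem pc17 : table.relOK chkPaths 907900 700 = true := by decide +kernel
theorem pc18 : table.relOK chkPaths 908600 700 = true := by decide +kernel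
theorem pc19 : table.relOK chkPaths 909300 700 = true := by decide +kernel
theorem pc20 : table.relOK chkPaths 910000 700 = true := by decide +kernel
theorem pc21 : table.relOK chkPaths 910700 700 = true := by decide +kernel
theorem pc22 : table.relOK chkPaths 911400 700 = true := by decide +kernel
theorem pc23 : table.relOK chkPaths 912100 700 = true := by decide +kernel
theorem pc24 : table.relOK chkPaths 912800 700 = true := by decide +kernel
theorem pc25 : table.relOK chkPaths 913500 700 = true := by decide +kernel
theorem pc26 : table.relOK chkPaths 914200 700 = true := by decide +kernel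
theorem pc27 : table.relOK chkPaths 914900 700 = true := by decide +kernel
theorem pc28 : table.relOK chkPaths 915600 700 = true := by decide +kernel
theorem pc29 : table.relOK chkPaths 916300 700 = true := by decide +kernel
theorem pc30 : table.relOK chkPaths 917000 700 = true := by decide +kernel
theorem pc31 : table.relOK chkPaths 917700 700 = true := by decide +kernel
theorem pc32 : table.relOK chkPaths 918400 700 = true := by decide +kernel
theorem pc33 : table.relOK chkPaths 919100 700 = true := by decide +kernel
theorem pc34 : table.relOK chkPaths 919800 700 = true := by decide +kernel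
theorem pc35 : table.relOK chkPaths 920500 700 = true := by decide +kernel
theorem pc36 : table.relOK chkPaths 921200 700 = true := by decide +kernel
theorem pc37 : table.relOK chkPaths 921900 700 = true := by decide +kernel
theorem pc38 : table.relOK chkPaths 922600 700 = true := by decide +kernel
theorem pc39 : table.relOK chkPaths 923300 700 = true := by decide +kernel

theorem range : ∀ p, 896000 ≤ p → p < 924000 → ∀ r ∈ chkPaths, table.walkT r p = p := by
  intro p h1 h2
  rcases Nat.lt_or_ge p 896700 with h | h
  · exact (Table.relOK_iff chkPaths 896000 700).mp pc0 p (by omega) (by omega)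
  rcases Nat.lt_or_ge p 897400 with h | h
  · exact (Table.relOK_iff chkPaths 896700 700).mp pc1 p (by omega) (by omega)
  rcases Nat.lt_or_ge p 898100 with h | h
  · exact (Table.relOK_iff chkPaths 897400 700).mp pc2 p (by omega) (by omega)
  rcases Nat.lt_or_ge p 898800 with h | h
  · exact (Table.relOK_iff chkPaths 898100 700).mp pc3 p (by omega) (by omega)
  rcases Nat.lt_or_ge p 899500 with h | h
  · exact (Table.relOK_iff chkPaths 898800 700).mp pc4 p (by omega) (by omega)
  rcases Nat.lt_or_ge p 900200 with h | h
  · exact (Table.relOK_iff chkPaths 899500 700).mp pc5 p (by omega) (by omega)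
  rcases Nat.lt_or_ge p 900900 with h | h
  · exact (Table.relOK_iff chkPaths 900200 700).mp pc6 p (by omega) (by omega)
  rcases Nat.lt_or_ge p 901600 with h | h
  · exact (Table.relOK_iff chkPaths 900900 700).mp pc7 p (by omega) (by omega)
  rcases Nat.lt_or_ge p 902300 with h | h
  · exact (Table.relOK_iff chkPaths 901600 700).mp pc8 p (by omega) (by omega)
  rcases Nat.lt_or_ge p 903000 with h | h
  · exact (Table.relOK_iff chkPaths 902300 700).mp pc9 p (by omega) (by omega)
  rcases Nat.lt_or_ge p 903700 with h | h
  · exact (Table.relOK_iff chkPaths 903000 700).mp pc10 p (by omega) (by omega)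
  rcases Nat.lt_or_ge p 904400 with h | h
  · exact (Table.relOK_iff chkPaths 903700 700).mp pc11 p (by omega) (by omega)
  rcases Nat.lt_or_ge p 905100 with h | h
  · exact (Table.relOK_iff chkPaths 904400 700).mp pc12 p (by omega) (by omega)
  rcases Nat.lt_or_ge p 905800 with h | h
  · exact (Table.relOK_iff chkPaths 905100 700).mp pc13 p (by omega) (by omega)
  rcases Nat.lt_or_ge p 906500 with h | h
  · exact (Table.relOK_iff chkPaths 905800 700).mp pc14 p (by omega) (by omega)
  rcases Nat.lt_or_ge p 907200 with h | h
  · exact (Table.relOK_iff chkPaths 906500 700).mp pc15 p (by omega) (by omega)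
  rcases Nat.lt_or_ge p 907900 with h | h
  · exact (Table.relOK_iff chkPaths 907200 700).mp pc16 p (by omega) (by omega)
  rcases Nat.lt_or_ge p 908600 with h | h
  · exact (Table.relOK_iff chkPaths 907900 700).mp pc17 p (by omega) (by omega)
  rcases Nat.lt_or_ge p 909300 with h | h
  · exact (Table.relOK_iff chkPaths 908600 700).mp pc18 p (by omega) (by omega)
  rcases Nat.lt_or_ge p 910000 with h | h
  · exact (Table.relOK_iff chkPaths 909300 700).mp pc19 p (by omega) (by omega)
  rcases Nat.lt_or_ge p 910700 with h | h
  · exact (Table.relOK_iff chkPaths 910000 700).mp pc20 p (by omega) (by omega)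
  rcases Nat.lt_or_ge p 911400 with h | h
  · exact (Table.relOK_iff chkPaths 910700 700).mp pc21 p (by omega) (by omega)
  rcases Nat.lt_or_ge p 912100 with h | h
  · exact (Table.relOK_iff chkPaths 911400 700).mp pc22 p (by omega) (by omega)
  rcases Nat.lt_or_ge p 912800 with h | h
  · exact (Table.relOK_iff chkPaths 912100 700).mp pc23 p (by omega) (by omega)
  rcases Nat.lt_or_ge p 913500 with h | h
  · exact (Table.relOK_iff chkPaths 912800 700).mp pc24 p (by omega) (by omega)
  rcases Nat.lt_or_ge p 914200 with h | h
  · exact (Table.relOK_iff chkPaths 913500 700).mp pc25 p (by omega) (by omega)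
  rcases Nat.lt_or_ge p 914900 with h | h
  · exact (Table.relOK_iff chkPaths 914200 700).mp pc26 p (by omega) (by omega)
  rcases Nat.lt_or_ge p 915600 with h | h
  · exact (Table.relOK_iff chkPaths 914900 700).mp pc27 p (by omega) (by omega)
  rcases Nat.lt_or_ge p 916300 with h | h
  · exact (Table.relOK_iff chkPaths 915600 700).mp pc28 p (by omega) (by omega)
  rcases Nat.lt_or_ge p 917000 with h | h
  · exact (Table.relOK_iff chkPaths 916300 700).mp pc29 p (by omega) (by omega)
  rcases Nat.lt_or_ge p 917700 with h | h
  · exact (Table.relOK_iff chkPaths 917000 700).mp pc30 p (by omega) (by omega)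
  rcases Nat.lt_or_ge p 918400 with h | h
  · exact (Table.relOK_iff chkPaths 917700 700).mp pc31 p (by omega) (by omega)
  rcases Nat.lt_or_ge p 919100 with h | h
  · exact (Table.relOK_iff chkPaths 918400 700).mp pc32 p (by omega) (by omega)
  rcases Nat.lt_or_ge p 919800 with h | h
  · exact (Table.relOK_iff chkPaths 919100 700).mp pc33 p (by omega) (by omega)
  rcases Nat.lt_or_ge p 920500 with h | h
  · exact (Table.relOK_iff chkPaths 919800 700).mp pc34 p (by omega) (by omega)
  rcases Nat.lt_or_ge p 921200 with h | h
  · exact (Table.relOK_iff chkPaths 920500 700).mp pc35 p (by omega) (by omega)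
  rcases Nat.lt_or_ge p 921900 with h | h
  · exact (Table.relOK_iff chkPaths 921200 700).mp pc36 p (by omega) (by omega)
  rcases Nat.lt_or_ge p 922600 with h | h
  · exact (Table.relOK_iff chkPaths 921900 700).mp pc37 p (by omega) (by omega)
  rcases Nat.lt_or_ge p 923300 with h | h
  · exact (Table.relOK_iff chkPaths 922600 700).mp pc38 p (by omega) (by omega)
  exact (Table.relOK_iff chkPaths 923300 700).mp pc39 p (by omega) (by omega)

end Cfsg.Agent.Lib.Helper16.HNP.C37
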