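import Cfsg.Agent.Lib.Helper28.TC2Range
import Cfsg.Agent.Lib.Helper16.HNP.Table
import Cfsg.Agent.Lib.Helper16.HNP.C28
set_option autoImplicit false
set_option maxRecDepth 100000
set_option maxHeartbeats 0
set_option Elab.async false

namespace Cfsg.Agent.Lib.Helper16.HNP.C38
open Cfsg.Agent.Lib.Helper28.TC2Upper Cfsg.Agent.Lib.Helper28.TC2Lower Cfsg.Agent.Lib.Helper28.TC2Range Cfsg.Agent.Lib.Helper16.HNP.Table

theorem pc0 : table.relOK chkPaths 924000 700 = true := by decide +kernel
theorem pc1 : table.relOK chkPaths 924700 700 = true := by decide +kernel
theorem pc2 : table.relOK chkPaths 925400 700 = true := by decide +kernel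
theorem pc3 : table.relOK chkPaths 926100 700 = true := by decide +kernel
theorem pc4 : table.relOK chkPaths 926800 700 = true := by decide +kernel
theorem pc5 : table.relOK chkPaths 927500 700 = true := by decide +kernel
theorem pc6 : table.relOK chkPaths 928200 700 = true := by decide +kernel
theorem pc7 : table.relOK chkPaths 928900 700 = true := by decide +kernel
theorem pc8 : table.relOK chkPaths 929600 700 = true := by decide +kernel
theorem pc9 : table.relOK chkPaths 930300 700 = true := by decide +kernel
theorem pc10 : table.relOK chkPaths 931000 700 = true := by decide +kernel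
theorem pc11 : table.relOK chkPaths 931700 700 = true := by decide +kernel
theorem pc12 : table.relOK chkPaths 932400 700 = true := by decide +kernel
theorem pc13 : table.relOK chkPaths 933100 700 = true := by decide +kernel
theorem pc14 : table.relOK chkPaths 933800 700 = true := by decide +kernel
theorem pc15 : table.relOK chkPaths 934500 700 = true := by decide +kernel
theorem pc16 : table.relOK chkPaths 935200 700 = true := by decide +kernel
theorem pc17 : table.relOK chkPaths 935900 700 = true := by decide +kernel
theorem pc18 : table.relOK chkPaths 936600 700 = true := by decide +kernel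
theorem pc19 : table.relOK chkPaths 937300 700 = true := by decide +kernel
theorem pc20 : table.relOK chkPaths 938000 700 = true := by decide +kernel
theorem pc21 : table.relOK chkPaths 938700 700 = true := by decide +kernel
theorem pc22 : table.relOK chkPaths 939400 700 = true := by decide +kernel
theorem pc23 : table.relOK chkPaths 940100 700 = true := by decide +kernel
theorem pc24 : table.relOK chkPaths 940800 700 = true := by decide +kernel
theorem pc25 : table.relOK chkPaths 941500 700 = true := by decide +kernel
theorem pc26 : table.relOK chkPaths 942200 700 = true := by decide +kernel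
theorem pc27 : table.relOK chkPaths 942900 700 = true := by decide +kernel
theorem pc28 : table.relOK chkPaths 943600 700 = true := by decide +kernel
theorem pc29 : table.relOK chkPaths 944300 700 = true := by decide +kernel
theorem pc30 : table.relOK chkPaths 945000 700 = true := by decide +kernel
theorem pc31 : table.relOK chkPaths 945700 700 = true := by decide +kernel
theorem pc32 : table.relOK chkPaths 946400 700 = true := by decide +kernel
theorem pc33 : table.relOK chkPaths 947100 700 = true := by decide +kernel
theorem pc34 : table.relOK chkPaths 947800 700 = true := by decide +kernel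
theorem pc35 : table.relOK chkPaths 948500 700 = true := by decide +kernel
theorem pc36 : table.relOK chkPaths 949200 700 = true := by decide +kernel
theorem pc37 : table.relOK chkPaths 949900 700 = true := by decide +kernel
theorem pc38 : table.relOK chkPaths 950600 700 = true := by decide +kernel
theorem pc39 : table.relOK chkPaths 951300 700 = true := by decide +kernel

theorem range : ∀ p, 924000 ≤ p → p < 952000 → ∀ r ∈ chkPaths, table.walkT r p = p := by
  intro p h1 h2
  rcases Nat.lt_or_ge p 924700 with h | h
  · exact (Table.relOK_iff chkPaths 924000 700).mp pc0 p (by omega) (by omega)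
  rcases Nat.lt_or_ge p 925400 with h | h
  · exact (Table.relOK_iff chkPaths 924700 700).mp pc1 p (by omega) (by omega)
  rcases Nat.lt_or_ge p 926100 with h | h
  · exact (Table.relOK_iff chkPaths 925400 700).mp pc2 p (by omega) (by omega)
  rcases Nat.lt_or_ge p 926800 with h | h
  · exact (Table.relOK_iff chkPaths 926100 700).mp pc3 p (by omega) (by omega)
  rcases Nat.lt_or_ge p 927500 with h | h
  · exact (Table.relOK_iff chkPaths 926800 700).mp pc4 p (by omega) (by omega)
  rcases Nat.lt_or_ge p 928200 with h | h
  · exact (Table.relOK_iff chkPaths 927500 700).mp pc5 p (by omega) (by omega)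
  rcases Nat.lt_or_ge p 928900 with h | h
  · exact (Table.relOK_iff chkPaths 928200 700).mp pc6 p (by omega) (by omega)
  rcases Nat.lt_or_ge p 929600 with h | h
  · exact (Table.relOK_iff chkPaths 928900 700).mp pc7 p (by omega) (by omega)
  rcases Nat.lt_or_ge p 930300 with h | h
  · exact (Table.relOK_iff chkPaths 929600 700).mp pc8 p (by omega) (by omega)
  rcases Nat.lt_or_ge p 931000 with h | h
  · exact (Table.relOK_iff chkPaths 930300 700).mp pc9 p (by omega) (by omega)
  rcases Nat.lt_or_ge p 931700 with h | h
  · exact (Table.relOK_iff chkPaths 931000 700).mp pc10 p (by omega) (by omega)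
  rcases Nat.lt_or_ge p 932400 with h | h
  · exact (Table.relOK_iff chkPaths 931700 700).mp pc11 p (by omega) (by omega)
  rcases Nat.lt_or_ge p 933100 with h | h
  · exact (Table.relOK_iff chkPaths 932400 700).mp pc12 p (by omega) (by omega)
  rcases Nat.lt_or_ge p 933800 with h | h
  · exact (Table.relOK_iff chkPaths 933100 700).mp pc13 p (by omega) (by omega)
  rcases Nat.lt_or_ge p 934500 with h | h
  · exact (Table.relOK_iff chkPaths 933800 700).mp pc14 p (by omega) (by omega)
  rcases Nat.lt_or_ge p 935200 with h | h
  · exact (Table.relOK_iff chkPaths 934500 700).mp pc15 p (by omega) (by omega)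
  rcases Nat.lt_or_ge p 935900 with h | h
  · exact (Table.relOK_iff chkPaths 935200 700).mp pc16 p (by omega) (by omega)
  rcases Nat.lt_or_ge p 936600 with h | h
  · exact (Table.relOK_iff chkPaths 935900 700).mp pc17 p (by omega) (by omega)
  rcases Nat.lt_or_ge p 937300 with h | h
  · exact (Table.relOK_iff chkPaths 936600 700).mp pc18 p (by omega) (by omega)
  rcases Nat.lt_or_ge p 938000 with h | h
  · exact (Table.relOK_iff chkPaths 937300 700).mp pc19 p (by omega) (by omega)
  rcases Nat.lt_or_ge p 938700 with h | h
  · exact (Table.relOK_iff chkPaths 938000 700).mp pc20 p (by omega) (by omega)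
  rcases Nat.lt_or_ge p 939400 with h | h
  · exact (Table.relOK_iff chkPaths 938700 700).mp pc21 p (by omega) (by omega)
  rcases Nat.lt_or_ge p 940100 with h | h
  · exact (Table.relOK_iff chkPaths 939400 700).mp pc22 p (by omega) (by omega)
  rcases Nat.lt_or_ge p 940800 with h | h
  · exact (Table.relOK_iff chkPaths 940100 700).mp pc23 p (by omega) (by omega)
  rcases Nat.lt_or_ge p 941500 with h | h
  · exact (Table.relOK_iff chkPaths 940800 700).mp pc24 p (by omega) (by omega)
  rcases Nat.lt_or_ge p 942200 with h | h
  · exact (Table.relOK_iff chkPaths 941500 700).mp pc25 p (by omega) (by omega)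
  rcases Nat.lt_or_ge p 942900 with h | h
  · exact (Table.relOK_iff chkPaths 942200 700).mp pc26 p (by omega) (by omega)
  rcases Nat.lt_or_ge p 943600 with h | h
  · exact (Table.relOK_iff chkPaths 942900 700).mp pc27 p (by omega) (by omega)
  rcases Nat.lt_or_ge p 944300 with h | h
  · exact (Table.relOK_iff chkPaths 943600 700).mp pc28 p (by omega) (by omega)
  rcases Nat.lt_or_ge p 945000 with h | h
  · exact (Table.relOK_iff chkPaths 944300 700).mp pc29 p (by omega) (by omega)
  rcases Nat.lt_or_ge p 945700 with h | h
  · exact (Table.relOK_iff chkPaths 945000 700).mp pc30 p (by omega) (by omega)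
  rcases Nat.lt_or_ge p 946400 with h | h
  · exact (Table.relOK_iff chkPaths 945700 700).mp pc31 p (by omega) (by omega)
  rcases Nat.lt_or_ge p 947100 with h | h
  · exact (Table.relOK_iff chkPaths 946400 700).mp pc32 p (by omega) (by omega)
  rcases Nat.lt_or_ge p 947800 with h | h
  · exact (Table.relOK_iff chkPaths 947100 700).mp pc33 p (by omega) (by omega)
  rcases Nat.lt_or_ge p 948500 with h | h
  · exact (Table.relOK_iff chkPaths 947800 700).mp pc34 p (by omega) (by omega)
  rcases Nat.lt_or_ge p 949200 with h | h
  · exact (Table.relOK_iff chkPaths 948500 700).mp pc35 p (by omega) (by omega)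
  rcases Nat.lt_or_ge p 949900 with h | h
  · exact (Table.relOK_iff chkPaths 949200 700).mp pc36 p (by omega) (by omega)
  rcases Nat.lt_or_ge p 950600 with h | h
  · exact (Table.relOK_iff chkPaths 949900 700).mp pc37 p (by omega) (by omega)
  rcases Nat.lt_or_ge p 951300 with h | h
  · exact (Table.relOK_iff chkPaths 950600 700).mp pc38 p (by omega) (by omega)
  exact (Table.relOK_iff chkPaths 951300 700).mp pc39 p (by omega) (by omega)

end Cfsg.Agent.Lib.Helper16.HNP.C38
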