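import Cfsg.Agent.Lib.Helper28.TC2Range
import Cfsg.Agent.Lib.Helper16.HNP.Table
import Cfsg.Agent.Lib.Helper16.HNP.C29
set_option autoImplicit false
set_option maxRecDepth 100000
set_option maxHeartbeats 0
set_option Elab.async false

namespace Cfsg.Agent.Lib.Helper16.HNP.C39
open Cfsg.Agent.Lib.Helper28.TC2Upper Cfsg.Agent.Lib.Helper28.TC2Lower Cfsg.Agent.Lib.Helper28.TC2Range Cfsg.Agent.Lib.Helper16.HNP.Table

theorem pc0 : table.relOK chkPaths 952000 700 = true := by decide +kernel
theorem pc1 : table.relOK chkPaths 952700 700 = true := by decide +kernel
theorem pc2 : table.relOK chkPaths 953400 700 = true := by decide +kernel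
theorem pc3 : table.relOK chkPaths 954100 700 = true := by decide +kernel
theorem pc4 : table.relOK chkPaths 954800 700 = true := by decide +kernel
theorem pc5 : table.relOK chkPaths 955500 700 = true := by decide +kernel
theorem pc6 : table.relOK chkPaths 956200 700 = true := by decide +kernel
theorem pc7 : table.relOK chkPaths 956900 700 = true := by decide +kernel
theorem pc8 : table.relOK chkPaths 957600 700 = true := by decide +kernel
theorem pc9 : table.relOK chkPaths 958300 700 = true := by decide +kernel
theorem pc10 : table.relOK chkPaths 959000 700 = true := by decide +kernel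
theorem pc11 : table.relOK chkPaths 959700 700 = true := by decide +kernel
theorem pc12 : table.relOK chkPaths 960400 700 = true := by decide +kernel
theorem pc13 : table.relOK chkPaths 961100 700 = true := by decide +kernel
theorem pc14 : table.relOK chkPaths 961800 700 = true := by decide +kernel
theorem pc15 : table.relOK chkPaths 962500 700 = true := by decide +kernel
theorem pc16 : table.relOK chkPaths 963200 700 = true := by decide +kernel
theorem pc17 : table.relOK chkPaths 963900 700 = true := by decide +kernel
theorem pc18 : table.relOK chkPaths 964600 700 = true := by decide +kernel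
theorem pc19 : table.relOK chkPaths 965300 700 = true := by decide +kernel
theorem pc20 : table.relOK chkPaths 966000 700 = true := by decide +kernel
theorem pc21 : table.relOK chkPaths 966700 700 = true := by decide +kernel
theorem pc22 : table.relOK chkPaths 967400 700 = true := by decide +kernel
theorem pc23 : table.relOK chkPaths 968100 700 = true := by decide +kernel
theorem pc24 : table.relOK chkPaths 968800 700 = true := by decide +kernel
theorem pc25 : table.relOK chkPaths 969500 700 = true := by decide +kernel
theorem pc26 : table.relOK chkPaths 970200 700 = true := by decide +kernel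
theorem pc27 : table.relOK chkPaths 970900 700 = true := by decide +kernel
theorem pc28 : table.relOK chkPaths 971600 700 = true := by decide +kernel
theorem pc29 : table.relOK chkPaths 972300 700 = true := by decide +kernel
theorem pc30 : table.relOK chkPaths 973000 700 = true := by decide +kernel
theorem pc31 : table.relOK chkPaths 973700 700 = true := by decide +kernel
theorem pc32 : table.relOK chkPaths 974400 700 = true := by decide +kernel
theorem pc33 : table.relOK chkPaths 975100 700 = true := by decide +kernel
theorem pc34 : table.relOK chkPaths 975800 700 = true := by decide +kernel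
theorem pc35 : table.relOK chkPaths 976500 700 = true := by decide +kernel
theorem pc36 : table.relOK chkPaths 977200 700 = true := by decide +kernel
theorem pc37 : table.relOK chkPaths 977900 700 = true := by decide +kernel
theorem pc38 : table.relOK chkPaths 978600 700 = true := by decide +kernel
theorem pc39 : table.relOK chkPaths 979300 700 = true := by decide +kernel

theorem range : ∀ p, 952000 ≤ p → p < 980000 → ∀ r ∈ chkPaths, table.walkT r p = p := by
  intro p h1 h2
  rcases Nat.lt_or_ge p 952700 with h | h
  · exact (Table.relOK_iff chkPaths 952000 700).mp pc0 p (by omega) (by omega)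
  rcases Nat.lt_or_ge p 953400 with h | h
  · exact (Table.relOK_iff chkPaths 952700 700).mp pc1 p (by omega) (by omega)
  rcases Nat.lt_or_ge p 954100 with h | h
  · exact (Table.relOK_iff chkPaths 953400 700).mp pc2 p (by omega) (by omega)
  rcases Nat.lt_or_ge p 954800 with h | h
  · exact (Table.relOK_iff chkPaths 954100 700).mp pc3 p (by omega) (by omega)
  rcases Nat.lt_or_ge p 955500 with h | h
  · exact (Table.relOK_iff chkPaths 954800 700).mp pc4 p (by omega) (by omega)
  rcases Nat.lt_or_ge p 956200 with h | h
  · exact (Table.relOK_iff chkPaths 955500 700).mp pc5 p (by omega) (by omega)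
  rcases Nat.lt_or_ge p 956900 with h | h
  · exact (Table.relOK_iff chkPaths 956200 700).mp pc6 p (by omega) (by omega)
  rcases Nat.lt_or_ge p 957600 with h | h
  · exact (Table.relOK_iff chkPaths 956900 700).mp pc7 p (by omega) (by omega)
  rcases Nat.lt_or_ge p 958300 with h | h
  · exact (Table.relOK_iff chkPaths 957600 700).mp pc8 p (by omega) (by omega)
  rcases Nat.lt_or_ge p 959000 with h | h
  · exact (Table.relOK_iff chkPaths 958300 700).mp pc9 p (by omega) (by omega)
  rcases Nat.lt_or_ge p 959700 with h | h
  · exact (Table.relOK_iff chkPaths 959000 700).mp pc10 p (by omega) (by omega)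
  rcases Nat.lt_or_ge p 960400 with h | h
  · exact (Table.relOK_iff chkPaths 959700 700).mp pc11 p (by omega) (by omega)
  rcases Nat.lt_or_ge p 961100 with h | h
  · exact (Table.relOK_iff chkPaths 960400 700).mp pc12 p (by omega) (by omega)
  rcases Nat.lt_or_ge p 961800 with h | h
  · exact (Table.relOK_iff chkPaths 961100 700).mp pc13 p (by omega) (by omega)
  rcases Nat.lt_or_ge p 962500 with h | h
  · exact (Table.relOK_iff chkPaths 961800 700).mp pc14 p (by omega) (by omega)
  rcases Nat.lt_or_ge p 963200 with h | h
  · exact (Table.relOK_iff chkPaths 962500 700).mp pc15 p (by omega) (by omega)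
  rcases Nat.lt_or_ge p 963900 with h | h
  · exact (Table.relOK_iff chkPaths 963200 700).mp pc16 p (by omega) (by omega)
  rcases Nat.lt_or_ge p 964600 with h | h
  · exact (Table.relOK_iff chkPaths 963900 700).mp pc17 p (by omega) (by omega)
  rcases Nat.lt_or_ge p 965300 with h | h
  · exact (Table.relOK_iff chkPaths 964600 700).mp pc18 p (by omega) (by omega)
  rcases Nat.lt_or_ge p 966000 with h | h
  · exact (Table.relOK_iff chkPaths 965300 700).mp pc19 p (by omega) (by omega)
  rcases Nat.lt_or_ge p 966700 with h | h
  · exact (Table.relOK_iff chkPaths 966000 700).mp pc20 p (by omega) (by omega)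
  rcases Nat.lt_or_ge p 967400 with h | h
  · exact (Table.relOK_iff chkPaths 966700 700).mp pc21 p (by omega) (by omega)
  rcases Nat.lt_or_ge p 968100 with h | h
  · exact (Table.relOK_iff chkPaths 967400 700).mp pc22 p (by omega) (by omega)
  rcases Nat.lt_or_ge p 968800 with h | h
  · exact (Table.relOK_iff chkPaths 968100 700).mp pc23 p (by omega) (by omega)
  rcases Nat.lt_or_ge p 969500 with h | h
  · exact (Table.relOK_iff chkPaths 968800 700).mp pc24 p (by omega) (by omega)
  rcases Nat.lt_or_ge p 970200 with h | h
  · exact (Table.relOK_iff chkPaths 969500 700).mp pc25 p (by omega) (by omega)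
  rcases Nat.lt_or_ge p 970900 with h | h
  · exact (Table.relOK_iff chkPaths 970200 700).mp pc26 p (by omega) (by omega)
  rcases Nat.lt_or_ge p 971600 with h | h
  · exact (Table.relOK_iff chkPaths 970900 700).mp pc27 p (by omega) (by omega)
  rcases Nat.lt_or_ge p 972300 with h | h
  · exact (Table.relOK_iff chkPaths 971600 700).mp pc28 p (by omega) (by omega)
  rcases Nat.lt_or_ge p 973000 with h | h
  · exact (Table.relOK_iff chkPaths 972300 700).mp pc29 p (by omega) (by omega)
  rcases Nat.lt_or_ge p 973700 with h | h
  · exact (Table.relOK_iff chkPaths 973000 700).mp pc30 p (by omega) (by omega)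
  rcases Nat.lt_or_ge p 974400 with h | h
  · exact (Table.relOK_iff chkPaths 973700 700).mp pc31 p (by omega) (by omega)
  rcases Nat.lt_or_ge p 975100 with h | h
  · exact (Table.relOK_iff chkPaths 974400 700).mp pc32 p (by omega) (by omega)
  rcases Nat.lt_or_ge p 975800 with h | h
  · exact (Table.relOK_iff chkPaths 975100 700).mp pc33 p (by omega) (by omega)
  rcases Nat.lt_or_ge p 976500 with h | h
  · exact (Table.relOK_iff chkPaths 975800 700).mp pc34 p (by omega) (by omega)
  rcases Nat.lt_or_ge p 977200 with h | h
  · exact (Table.relOK_iff chkPaths 976500 700).mp pc35 p (by omega) (by omega)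
  rcases Nat.lt_or_ge p 977900 with h | h
  · exact (Table.relOK_iff chkPaths 977200 700).mp pc36 p (by omega) (by omega)
  rcases Nat.lt_or_ge p 978600 with h | h
  · exact (Table.relOK_iff chkPaths 977900 700).mp pc37 p (by omega) (by omega)
  rcases Nat.lt_or_ge p 979300 with h | h
  · exact (Table.relOK_iff chkPaths 978600 700).mp pc38 p (by omega) (by omega)
  exact (Table.relOK_iff chkPaths 979300 700).mp pc39 p (by omega) (by omega)

end Cfsg.Agent.Lib.Helper16.HNP.C39
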