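import Cfsg.Agent.Lib.Helper28.TC2Range
import Cfsg.Agent.Lib.Helper16.HNP.Table
import Cfsg.Agent.Lib.Helper16.HNP.C30
set_option autoImplicit false
set_option maxRecDepth 100000
set_option maxHeartbeats 0
set_option Elab.async false

namespace Cfsg.Agent.Lib.Helper16.HNP.C40
open Cfsg.Agent.Lib.Helper28.TC2Upper Cfsg.Agent.Lib.Helper28.TC2Lower Cfsg.Agent.Lib.Helper28.TC2Range Cfsg.Agent.Lib.Helper16.HNP.Table

theorem pc0 : table.relOK chkPaths 980000 700 = true := by decide +kernel
theorem pc1 : table.relOK chkPaths 980700 700 = true := by decide +kernel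
theorem pc2 : table.relOK chkPaths 981400 700 = true := by decide +kernel
theorem pc3 : table.relOK chkPaths 982100 700 = true := by decide +kernel
theorem pc4 : table.relOK chkPaths 982800 700 = true := by decide +kernel
theorem pc5 : table.relOK chkPaths 983500 700 = true := by decide +kernel
theorem pc6 : table.relOK chkPaths 984200 700 = true := by decide +kernel
theorem pc7 : table.relOK chkPaths 984900 700 = true := by decide +kernel
theorem pc8 : table.relOK chkPaths 985600 700 = true := by decide +kernel
theorem pc9 : table.relOK chkPaths 986300 700 = true := by decide +kernel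
theorem pc10 : table.relOK chkPaths 987000 700 = true := by decide +kernel
theorem pc11 : table.relOK chkPaths 987700 700 = true := by decide +kernel
theorem pc12 : table.relOK chkPaths 988400 700 = true := by decide +kernel
theorem pc13 : table.relOK chkPaths 989100 700 = true := by decide +kernel
theorem pc14 : table.relOK chkPaths 989800 700 = true := by decide +kernel
theorem pc15 : table.relOK chkPaths 990500 700 = true := by decide +kernel
theorem pc16 : table.relOK chkPaths 991200 700 = true := by decide +kernel
theorem pc17 : table.relOK chkPaths 991900 700 = true := by decide +kernel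
theorem pc18 : table.relOK chkPaths 992600 700 = true := by decide +kernel
theorem pc19 : table.relOK chkPaths 993300 700 = true := by decide +kernel
theorem pc20 : table.relOK chkPaths 994000 700 = true := by decide +kernel
theorem pc21 : table.relOK chkPaths 994700 700 = true := by decide +kernel
theorem pc22 : table.relOK chkPaths 995400 700 = true := by decide +kernel
theorem pc23 : table.relOK chkPaths 996100 700 = true := by decide +kernel
theorem pc24 : table.relOK chkPaths 996800 700 = true := by decide +kernel
theorem pc25 : table.relOK chkPaths 997500 700 = true := by decide +kernel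
theorem pc26 : table.relOK chkPaths 998200 700 = true := by decide +kernel
theorem pc27 : table.relOK chkPaths 998900 700 = true := by decide +kernel
theorem pc28 : table.relOK chkPaths 999600 700 = true := by decide +kernel
theorem pc29 : table.relOK chkPaths 1000300 700 = true := by decide +kernel
theorem pc30 : table.relOK chkPaths 1001000 700 = true := by decide +kernel
theorem pc31 : table.relOK chkPaths 1001700 700 = true := by decide +kernel
theorem pc32 : table.relOK chkPaths 1002400 700 = true := by decide +kernel
theorem pc33 : table.relOK chkPaths 1003100 700 = true := by decide +kernel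
theorem pc34 : table.relOK chkPaths 1003800 700 = true := by decide +kernel
theorem pc35 : table.relOK chkPaths 1004500 700 = true := by decide +kernel
theorem pc36 : table.relOK chkPaths 1005200 700 = true := by decide +kernel
theorem pc37 : table.relOK chkPaths 1005900 700 = true := by decide +kernel
theorem pc38 : table.relOK chkPaths 1006600 700 = true := by decide +kernel
theorem pc39 : table.relOK chkPaths 1007300 700 = true := by decide +kernel

theorem range : ∀ p, 980000 ≤ p → p < 1008000 → ∀ r ∈ chkPaths, table.walkT r p = p := by
  intro p h1 h2
  rcases Nat.lt_or_ge p 980700 with h | h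
  · exact (Table.relOK_iff chkPaths 980000 700).mp pc0 p (by omega) (by omega)
  rcases Nat.lt_or_ge p 981400 with h | h
  · exact (Table.relOK_iff chkPaths 980700 700).mp pc1 p (by omega) (by omega)
  rcases Nat.lt_or_ge p 982100 with h | h
  · exact (Table.relOK_iff chkPaths 981400 700).mp pc2 p (by omega) (by omega)
  rcases Nat.lt_or_ge p 982800 with h | h
  · exact (Table.relOK_iff chkPaths 982100 700).mp pc3 p (by omega) (by omega)
  rcases Nat.lt_or_ge p 983500 with h | h
  · exact (Table.relOK_iff chkPaths 982800 700).mp pc4 p (by omega) (by omega)
  rcases Nat.lt_or_ge p 984200 with h | h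
  · exact (Table.relOK_iff chkPaths 983500 700).mp pc5 p (by omega) (by omega)
  rcases Nat.lt_or_ge p 984900 with h | h
  · exact (Table.relOK_iff chkPaths 984200 700).mp pc6 p (by omega) (by omega)
  rcases Nat.lt_or_ge p 985600 with h | h
  · exact (Table.relOK_iff chkPaths 984900 700).mp pc7 p (by omega) (by omega)
  rcases Nat.lt_or_ge p 986300 with h | h
  · exact (Table.relOK_iff chkPaths 985600 700).mp pc8 p (by omega) (by omega)
  rcases Nat.lt_or_ge p 987000 with h | h
  · exact (Table.relOK_iff chkPaths 986300 700).mp pc9 p (by omega) (by omega)
  rcases Nat.lt_or_ge p 987700 with h | h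
  · exact (Table.relOK_iff chkPaths 987000 700).mp pc10 p (by omega) (by omega)
  rcases Nat.lt_or_ge p 988400 with h | h
  · exact (Table.relOK_iff chkPaths 987700 700).mp pc11 p (by omega) (by omega)
  rcases Nat.lt_or_ge p 989100 with h | h
  · exact (Table.relOK_iff chkPaths 988400 700).mp pc12 p (by omega) (by omega)
  rcases Nat.lt_or_ge p 989800 with h | h
  · exact (Table.relOK_iff chkPaths 989100 700).mp pc13 p (by omega) (by omega)
  rcases Nat.lt_or_ge p 990500 with h | h
  · exact (Table.relOK_iff chkPaths 989800 700).mp pc14 p (by omega) (by omega)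
  rcases Nat.lt_or_ge p 991200 with h | h
  · exact (Table.relOK_iff chkPaths 990500 700).mp pc15 p (by omega) (by omega)
  rcases Nat.lt_or_ge p 991900 with h | h
  · exact (Table.relOK_iff chkPaths 991200 700).mp pc16 p (by omega) (by omega)
  rcases Nat.lt_or_ge p 992600 with h | h
  · exact (Table.relOK_iff chkPaths 991900 700).mp pc17 p (by omega) (by omega)
  rcases Nat.lt_or_ge p 993300 with h | h
  · exact (Table.relOK_iff chkPaths 992600 700).mp pc18 p (by omega) (by omega)
  rcases Nat.lt_or_ge p 994000 with h | h
  · exact (Table.relOK_iff chkPaths 993300 700).mp pc19 p (by omega) (by omega)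
  rcases Nat.lt_or_ge p 994700 with h | h
  · exact (Table.relOK_iff chkPaths 994000 700).mp pc20 p (by omega) (by omega)
  rcases Nat.lt_or_ge p 995400 with h | h
  · exact (Table.relOK_iff chkPaths 994700 700).mp pc21 p (by omega) (by omega)
  rcases Nat.lt_or_ge p 996100 with h | h
  · exact (Table.relOK_iff chkPaths 995400 700).mp pc22 p (by omega) (by omega)
  rcases Nat.lt_or_ge p 996800 with h | h
  · exact (Table.relOK_iff chkPaths 996100 700).mp pc23 p (by omega) (by omega)
  rcases Nat.lt_or_ge p 997500 with h | h
  · exact (Table.relOK_iff chkPaths 996800 700).mp pc24 p (by omega) (by omega)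
  rcases Nat.lt_or_ge p 998200 with h | h
  · exact (Table.relOK_iff chkPaths 997500 700).mp pc25 p (by omega) (by omega)
  rcases Nat.lt_or_ge p 998900 with h | h
  · exact (Table.relOK_iff chkPaths 998200 700).mp pc26 p (by omega) (by omega)
  rcases Nat.lt_or_ge p 999600 with h | h
  · exact (Table.relOK_iff chkPaths 998900 700).mp pc27 p (by omega) (by omega)
  rcases Nat.lt_or_ge p 1000300 with h | h
  · exact (Table.relOK_iff chkPaths 999600 700).mp pc28 p (by omega) (by omega)
  rcases Nat.lt_or_ge p 1001000 with h | h
  · exact (Table.relOK_iff chkPaths 1000300 700).mp pc29 p (by omega) (by omega)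
  rcases Nat.lt_or_ge p 1001700 with h | h
  · exact (Table.relOK_iff chkPaths 1001000 700).mp pc30 p (by omega) (by omega)
  rcases Nat.lt_or_ge p 1002400 with h | h
  · exact (Table.relOK_iff chkPaths 1001700 700).mp pc31 p (by omega) (by omega)
  rcases Nat.lt_or_ge p 1003100 with h | h
  · exact (Table.relOK_iff chkPaths 1002400 700).mp pc32 p (by omega) (by omega)
  rcases Nat.lt_or_ge p 1003800 with h | h
  · exact (Table.relOK_iff chkPaths 1003100 700).mp pc33 p (by omega) (by omega)
  rcases Nat.lt_or_ge p 1004500 with h | h
  · exact (Table.relOK_iff chkPaths 1003800 700).mp pc34 p (by omega) (by omega)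
  rcases Nat.lt_or_ge p 1005200 with h | h
  · exact (Table.relOK_iff chkPaths 1004500 700).mp pc35 p (by omega) (by omega)
  rcases Nat.lt_or_ge p 1005900 with h | h
  · exact (Table.relOK_iff chkPaths 1005200 700).mp pc36 p (by omega) (by omega)
  rcases Nat.lt_or_ge p 1006600 with h | h
  · exact (Table.relOK_iff chkPaths 1005900 700).mp pc37 p (by omega) (by omega)
  rcases Nat.lt_or_ge p 1007300 with h | h
  · exact (Table.relOK_iff chkPaths 1006600 700).mp pc38 p (by omega) (by omega)
  exact (Table.relOK_iff chkPaths 1007300 700).mp pc39 p (by omega) (by omega)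

end Cfsg.Agent.Lib.Helper16.HNP.C40
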