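import Cfsg.Agent.Lib.Helper28.TC2Range
import Cfsg.Agent.Lib.Helper16.HNP.Table
import Cfsg.Agent.Lib.Helper16.HNP.C31
set_option autoImplicit false
set_option maxRecDepth 100000
set_option maxHeartbeats 0
set_option Elab.async false

namespace Cfsg.Agent.Lib.Helper16.HNP.C41
open Cfsg.Agent.Lib.Helper28.TC2Upper Cfsg.Agent.Lib.Helper28.TC2Lower Cfsg.Agent.Lib.Helper28.TC2Range Cfsg.Agent.Lib.Helper16.HNP.Table

theorem pc0 : table.relOK chkPaths 1008000 700 = true := by decide +kernel
theorem pc1 : table.relOK chkPaths 1008700 700 = true := by decide +kernel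
theorem pc2 : table.relOK chkPaths 1009400 700 = true := by decide +kernel
theorem pc3 : table.relOK chkPaths 1010100 700 = true := by decide +kernel
theorem pc4 : table.relOK chkPaths 1010800 700 = true := by decide +kernel
theorem pc5 : table.relOK chkPaths 1011500 700 = true := by decide +kernel
theorem pc6 : table.relOK chkPaths 1012200 700 = true := by decide +kernel
theorem pc7 : table.relOK chkPaths 1012900 700 = true := by decide +kernel
theorem pc8 : table.relOK chkPaths 1013600 700 = true := by decide +kernel
theorem pc9 : table.relOK chkPaths 1014300 700 = true := by decide +kernel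
theorem pc10 : table.relOK chkPaths 1015000 700 = true := by decide +kernel
theorem pc11 : table.relOK chkPaths 1015700 700 = true := by decide +kernel
theorem pc12 : table.relOK chkPaths 1016400 700 = true := by decide +kernel
theorem pc13 : table.relOK chkPaths 1017100 700 = true := by decide +kernel
theorem pc14 : table.relOK chkPaths 1017800 700 = true := by decide +kernel
theorem pc15 : table.relOK chkPaths 1018500 700 = true := by decide +kernel
theorem pc16 : table.relOK chkPaths 1019200 700 = true := by decide +kernel
theorem pc17 : table.relOK chkPaths 1019900 700 = true := by decide +kernel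
theorem pc18 : table.relOK chkPaths 1020600 700 = true := by decide +kernel
theorem pc19 : table.relOK chkPaths 1021300 700 = true := by decide +kernel
theorem pc20 : table.relOK chkPaths 1022000 700 = true := by decide +kernel
theorem pc21 : table.relOK chkPaths 1022700 700 = true := by decide +kernel
theorem pc22 : table.relOK chkPaths 1023400 700 = true := by decide +kernel
theorem pc23 : table.relOK chkPaths 1024100 700 = true := by decide +kernel
theorem pc24 : table.relOK chkPaths 1024800 700 = true := by decide +kernel
theorem pc25 : table.relOK chkPaths 1025500 700 = true := by decide +kernel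
theorem pc26 : table.relOK chkPaths 1026200 700 = true := by decide +kernel
theorem pc27 : table.relOK chkPaths 1026900 700 = true := by decide +kernel
theorem pc28 : table.relOK chkPaths 1027600 700 = true := by decide +kernel
theorem pc29 : table.relOK chkPaths 1028300 700 = true := by decide +kernel
theorem pc30 : table.relOK chkPaths 1029000 700 = true := by decide +kernel
theorem pc31 : table.relOK chkPaths 1029700 700 = true := by decide +kernel
theorem pc32 : table.relOK chkPaths 1030400 700 = true := by decide +kernel
theorem pc33 : table.relOK chkPaths 1031100 700 = true := by decide +kernel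
theorem pc34 : table.relOK chkPaths 1031800 700 = true := by decide +kernel
theorem pc35 : table.relOK chkPaths 1032500 700 = true := by decide +kernel
theorem pc36 : table.relOK chkPaths 1033200 700 = true := by decide +kernel
theorem pc37 : table.relOK chkPaths 1033900 700 = true := by decide +kernel
theorem pc38 : table.relOK chkPaths 1034600 700 = true := by decide +kernel
theorem pc39 : table.relOK chkPaths 1035300 700 = true := by decide +kernel

theorem range : ∀ p, 1008000 ≤ p → p < 1036000 → ∀ r ∈ chkPaths, table.walkT r p = p := by
  intro p h1 h2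
  rcases Nat.lt_or_ge p 1008700 with h | h
  · exact (Table.relOK_iff chkPaths 1008000 700).mp pc0 p (by omega) (by omega)
  rcases Nat.lt_or_ge p 1009400 with h | h
  · exact (Table.relOK_iff chkPaths 1008700 700).mp pc1 p (by omega) (by omega)
  rcases Nat.lt_or_ge p 1010100 with h | h
  · exact (Table.relOK_iff chkPaths 1009400 700).mp pc2 p (by omega) (by omega)
  rcases Nat.lt_or_ge p 1010800 with h | h
  · exact (Table.relOK_iff chkPaths 1010100 700).mp pc3 p (by omega) (by omega)
  rcases Nat.lt_or_ge p 1011500 with h | h
  · exact (Table.relOK_iff chkPaths 1010800 700).mp pc4 p (by omega) (by omega)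
  rcases Nat.lt_or_ge p 1012200 with h | h
  · exact (Table.relOK_iff chkPaths 1011500 700).mp pc5 p (by omega) (by omega)
  rcases Nat.lt_or_ge p 1012900 with h | h
  · exact (Table.relOK_iff chkPaths 1012200 700).mp pc6 p (by omega) (by omega)
  rcases Nat.lt_or_ge p 1013600 with h | h
  · exact (Table.relOK_iff chkPaths 1012900 700).mp pc7 p (by omega) (by omega)
  rcases Nat.lt_or_ge p 1014300 with h | h
  · exact (Table.relOK_iff chkPaths 1013600 700).mp pc8 p (by omega) (by omega)
  rcases Nat.lt_or_ge p 1015000 with h | h
  · exact (Table.relOK_iff chkPaths 1014300 700).mp pc9 p (by omega) (by omega)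
  rcases Nat.lt_or_ge p 1015700 with h | h
  · exact (Table.relOK_iff chkPaths 1015000 700).mp pc10 p (by omega) (by omega)
  rcases Nat.lt_or_ge p 1016400 with h | h
  · exact (Table.relOK_iff chkPaths 1015700 700).mp pc11 p (by omega) (by omega)
  rcases Nat.lt_or_ge p 1017100 with h | h
  · exact (Table.relOK_iff chkPaths 1016400 700).mp pc12 p (by omega) (by omega)
  rcases Nat.lt_or_ge p 1017800 with h | h
  · exact (Table.relOK_iff chkPaths 1017100 700).mp pc13 p (by omega) (by omega)
  rcases Nat.lt_or_ge p 1018500 with h | h
  · exact (Table.relOK_iff chkPaths 1017800 700).mp pc14 p (by omega) (by omega)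
  rcases Nat.lt_or_ge p 1019200 with h | h
  · exact (Table.relOK_iff chkPaths 1018500 700).mp pc15 p (by omega) (by omega)
  rcases Nat.lt_or_ge p 1019900 with h | h
  · exact (Table.relOK_iff chkPaths 1019200 700).mp pc16 p (by omega) (by omega)
  rcases Nat.lt_or_ge p 1020600 with h | h
  · exact (Table.relOK_iff chkPaths 1019900 700).mp pc17 p (by omega) (by omega)
  rcases Nat.lt_or_ge p 1021300 with h | h
  · exact (Table.relOK_iff chkPaths 1020600 700).mp pc18 p (by omega) (by omega)
  rcases Nat.lt_or_ge p 1022000 with h | h
  · exact (Table.relOK_iff chkPaths 1021300 700).mp pc19 p (by omega) (by omega)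
  rcases Nat.lt_or_ge p 1022700 with h | h
  · exact (Table.relOK_iff chkPaths 1022000 700).mp pc20 p (by omega) (by omega)
  rcases Nat.lt_or_ge p 1023400 with h | h
  · exact (Table.relOK_iff chkPaths 1022700 700).mp pc21 p (by omega) (by omega)
  rcases Nat.lt_or_ge p 1024100 with h | h
  · exact (Table.relOK_iff chkPaths 1023400 700).mp pc22 p (by omega) (by omega)
  rcases Nat.lt_or_ge p 1024800 with h | h
  · exact (Table.relOK_iff chkPaths 1024100 700).mp pc23 p (by omega) (by omega)
  rcases Nat.lt_or_ge p 1025500 with h | h
  · exact (Table.relOK_iff chkPaths 1024800 700).mp pc24 p (by omega) (by omega)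
  rcases Nat.lt_or_ge p 1026200 with h | h
  · exact (Table.relOK_iff chkPaths 1025500 700).mp pc25 p (by omega) (by omega)
  rcases Nat.lt_or_ge p 1026900 with h | h
  · exact (Table.relOK_iff chkPaths 1026200 700).mp pc26 p (by omega) (by omega)
  rcases Nat.lt_or_ge p 1027600 with h | h
  · exact (Table.relOK_iff chkPaths 1026900 700).mp pc27 p (by omega) (by omega)
  rcases Nat.lt_or_ge p 1028300 with h | h
  · exact (Table.relOK_iff chkPaths 1027600 700).mp pc28 p (by omega) (by omega)
  rcases Nat.lt_or_ge p 1029000 with h | h
  · exact (Table.relOK_iff chkPaths 1028300 700).mp pc29 p (by omega) (by omega)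
  rcases Nat.lt_or_ge p 1029700 with h | h
  · exact (Table.relOK_iff chkPaths 1029000 700).mp pc30 p (by omega) (by omega)
  rcases Nat.lt_or_ge p 1030400 with h | h
  · exact (Table.relOK_iff chkPaths 1029700 700).mp pc31 p (by omega) (by omega)
  rcases Nat.lt_or_ge p 1031100 with h | h
  · exact (Table.relOK_iff chkPaths 1030400 700).mp pc32 p (by omega) (by omega)
  rcases Nat.lt_or_ge p 1031800 with h | h
  · exact (Table.relOK_iff chkPaths 1031100 700).mp pc33 p (by omega) (by omega)
  rcases Nat.lt_or_ge p 1032500 with h | h
  · exact (Table.relOK_iff chkPaths 1031800 700).mp pc34 p (by omega) (by omega)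
  rcases Nat.lt_or_ge p 1033200 with h | h
  · exact (Table.relOK_iff chkPaths 1032500 700).mp pc35 p (by omega) (by omega)
  rcases Nat.lt_or_ge p 1033900 with h | h
  · exact (Table.relOK_iff chkPaths 1033200 700).mp pc36 p (by omega) (by omega)
  rcases Nat.lt_or_ge p 1034600 with h | h
  · exact (Table.relOK_iff chkPaths 1033900 700).mp pc37 p (by omega) (by omega)
  rcases Nat.lt_or_ge p 1035300 with h | h
  · exact (Table.relOK_iff chkPaths 1034600 700).mp pc38 p (by omega) (by omega)
  exact (Table.relOK_iff chkPaths 1035300 700).mp pc39 p (by omega) (by omega)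

end Cfsg.Agent.Lib.Helper16.HNP.C41
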