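import Cfsg.Agent.Lib.Helper28.TC2Range
import Cfsg.Agent.Lib.Helper16.HNP.Table
import Cfsg.Agent.Lib.Helper16.HNP.C32
set_option autoImplicit false
set_option maxRecDepth 100000
set_option maxHeartbeats 0
set_option Elab.async false

namespace Cfsg.Agent.Lib.Helper16.HNP.C42
open Cfsg.Agent.Lib.Helper28.TC2Upper Cfsg.Agent.Lib.Helper28.TC2Lower Cfsg.Agent.Lib.Helper28.TC2Range Cfsg.Agent.Lib.Helper16.HNP.Table

theorem pc0 : table.relOK chkPaths 1036000 700 = true := by decide +kernel
theorem pc1 : table.relOK chkPaths 1036700 700 = true := by decide +kernel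
theorem pc2 : table.relOK chkPaths 1037400 700 = true := by decide +kernel
theorem pc3 : table.relOK chkPaths 1038100 700 = true := by decide +kernel
theorem pc4 : table.relOK chkPaths 1038800 700 = true := by decide +kernel
theorem pc5 : table.relOK chkPaths 1039500 700 = true := by decide +kernel
theorem pc6 : table.relOK chkPaths 1040200 700 = true := by decide +kernel
theorem pc7 : table.relOK chkPaths 1040900 700 = true := by decide +kernel
theorem pc8 : table.relOK chkPaths 1041600 700 = true := by decide +kernel
theorem pc9 : table.relOK chkPaths 1042300 700 = true := by decide +kernel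
theorem pc10 : table.relOK chkPaths 1043000 700 = true := by decide +kernel
theorem pc11 : table.relOK chkPaths 1043700 700 = true := by decide +kernel
theorem pc12 : table.relOK chkPaths 1044400 700 = true := by decide +kernel
theorem pc13 : table.relOK chkPaths 1045100 700 = true := by decide +kernel
theorem pc14 : table.relOK chkPaths 1045800 700 = true := by decide +kernel
theorem pc15 : table.relOK chkPaths 1046500 700 = true := by decide +kernel
theorem pc16 : table.relOK chkPaths 1047200 700 = true := by decide +kernel
theorem pc17 : table.relOK chkPaths 1047900 700 = true := by decide +kernel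
theorem pc18 : table.relOK chkPaths 1048600 700 = true := by decide +kernel
theorem pc19 : table.relOK chkPaths 1049300 700 = true := by decide +kernel
theorem pc20 : table.relOK chkPaths 1050000 700 = true := by decide +kernel
theorem pc21 : table.relOK chkPaths 1050700 700 = true := by decide +kernel
theorem pc22 : table.relOK chkPaths 1051400 700 = true := by decide +kernel
theorem pc23 : table.relOK chkPaths 1052100 700 = true := by decide +kernel
theorem pc24 : table.relOK chkPaths 1052800 700 = true := by decide +kernel
theorem pc25 : table.relOK chkPaths 1053500 700 = true := by decide +kernel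
theorem pc26 : table.relOK chkPaths 1054200 700 = true := by decide +kernel
theorem pc27 : table.relOK chkPaths 1054900 700 = true := by decide +kernel
theorem pc28 : table.relOK chkPaths 1055600 700 = true := by decide +kernel
theorem pc29 : table.relOK chkPaths 1056300 700 = true := by decide +kernel
theorem pc30 : table.relOK chkPaths 1057000 700 = true := by decide +kernel
theorem pc31 : table.relOK chkPaths 1057700 700 = true := by decide +kernel
theorem pc32 : table.relOK chkPaths 1058400 700 = true := by decide +kernel
theorem pc33 : table.relOK chkPaths 1059100 700 = true := by decide +kernel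
theorem pc34 : table.relOK chkPaths 1059800 700 = true := by decide +kernel
theorem pc35 : table.relOK chkPaths 1060500 700 = true := by decide +kernel
theorem pc36 : table.relOK chkPaths 1061200 700 = true := by decide +kernel
theorem pc37 : table.relOK chkPaths 1061900 700 = true := by decide +kernel
theorem pc38 : table.relOK chkPaths 1062600 700 = true := by decide +kernel
theorem pc39 : table.relOK chkPaths 1063300 700 = true := by decide +kernel

theorem range : ∀ p, 1036000 ≤ p → p < 1064000 → ∀ r ∈ chkPaths, table.walkT r p = p := by
  intro p h1 h2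
  rcases Nat.lt_or_ge p 1036700 with h | h
  · exact (Table.relOK_iff chkPaths 1036000 700).mp pc0 p (by omega) (by omega)
  rcases Nat.lt_or_ge p 1037400 with h | h
  · exact (Table.relOK_iff chkPaths 1036700 700).mp pc1 p (by omega) (by omega)
  rcases Nat.lt_or_ge p 1038100 with h | h
  · exact (Table.relOK_iff chkPaths 1037400 700).mp pc2 p (by omega) (by omega)
  rcases Nat.lt_or_ge p 1038800 with h | h
  · exact (Table.relOK_iff chkPaths 1038100 700).mp pc3 p (by omega) (by omega)
  rcases Nat.lt_or_ge p 1039500 with h | h
  · exact (Table.relOK_iff chkPaths 1038800 700).mp pc4 p (by omega) (by omega)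
  rcases Nat.lt_or_ge p 1040200 with h | h
  · exact (Table.relOK_iff chkPaths 1039500 700).mp pc5 p (by omega) (by omega)
  rcases Nat.lt_or_ge p 1040900 with h | h
  · exact (Table.relOK_iff chkPaths 1040200 700).mp pc6 p (by omega) (by omega)
  rcases Nat.lt_or_ge p 1041600 with h | h
  · exact (Table.relOK_iff chkPaths 1040900 700).mp pc7 p (by omega) (by omega)
  rcases Nat.lt_or_ge p 1042300 with h | h
  · exact (Table.relOK_iff chkPaths 1041600 700).mp pc8 p (by omega) (by omega)
  rcases Nat.lt_or_ge p 1043000 with h | h
  · exact (Table.relOK_iff chkPaths 1042300 700).mp pc9 p (by omega) (by omega)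
  rcases Nat.lt_or_ge p 1043700 with h | h
  · exact (Table.relOK_iff chkPaths 1043000 700).mp pc10 p (by omega) (by omega)
  rcases Nat.lt_or_ge p 1044400 with h | h
  · exact (Table.relOK_iff chkPaths 1043700 700).mp pc11 p (by omega) (by omega)
  rcases Nat.lt_or_ge p 1045100 with h | h
  · exact (Table.relOK_iff chkPaths 1044400 700).mp pc12 p (by omega) (by omega)
  rcases Nat.lt_or_ge p 1045800 with h | h
  · exact (Table.relOK_iff chkPaths 1045100 700).mp pc13 p (by omega) (by omega)
  rcases Nat.lt_or_ge p 1046500 with h | h
  · exact (Table.relOK_iff chkPaths 1045800 700).mp pc14 p (by omega) (by omega)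
  rcases Nat.lt_or_ge p 1047200 with h | h
  · exact (Table.relOK_iff chkPaths 1046500 700).mp pc15 p (by omega) (by omega)
  rcases Nat.lt_or_ge p 1047900 with h | h
  · exact (Table.relOK_iff chkPaths 1047200 700).mp pc16 p (by omega) (by omega)
  rcases Nat.lt_or_ge p 1048600 with h | h
  · exact (Table.relOK_iff chkPaths 1047900 700).mp pc17 p (by omega) (by omega)
  rcases Nat.lt_or_ge p 1049300 with h | h
  · exact (Table.relOK_iff chkPaths 1048600 700).mp pc18 p (by omega) (by omega)
  rcases Nat.lt_or_ge p 1050000 with h | h
  · exact (Table.relOK_iff chkPaths 1049300 700).mp pc19 p (by omega) (by omega)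
  rcases Nat.lt_or_ge p 1050700 with h | h
  · exact (Table.relOK_iff chkPaths 1050000 700).mp pc20 p (by omega) (by omega)
  rcases Nat.lt_or_ge p 1051400 with h | h
  · exact (Table.relOK_iff chkPaths 1050700 700).mp pc21 p (by omega) (by omega)
  rcases Nat.lt_or_ge p 1052100 with h | h
  · exact (Table.relOK_iff chkPaths 1051400 700).mp pc22 p (by omega) (by omega)
  rcases Nat.lt_or_ge p 1052800 with h | h
  · exact (Table.relOK_iff chkPaths 1052100 700).mp pc23 p (by omega) (by omega)
  rcases Nat.lt_or_ge p 1053500 with h | h
  · exact (Table.relOK_iff chkPaths 1052800 700).mp pc24 p (by omega) (by omega)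
  rcases Nat.lt_or_ge p 1054200 with h | h
  · exact (Table.relOK_iff chkPaths 1053500 700).mp pc25 p (by omega) (by omega)
  rcases Nat.lt_or_ge p 1054900 with h | h
  · exact (Table.relOK_iff chkPaths 1054200 700).mp pc26 p (by omega) (by omega)
  rcases Nat.lt_or_ge p 1055600 with h | h
  · exact (Table.relOK_iff chkPaths 1054900 700).mp pc27 p (by omega) (by omega)
  rcases Nat.lt_or_ge p 1056300 with h | h
  · exact (Table.relOK_iff chkPaths 1055600 700).mp pc28 p (by omega) (by omega)
  rcases Nat.lt_or_ge p 1057000 with h | h
  · exact (Table.relOK_iff chkPaths 1056300 700).mp pc29 p (by omega) (by omega)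
  rcases Nat.lt_or_ge p 1057700 with h | h
  · exact (Table.relOK_iff chkPaths 1057000 700).mp pc30 p (by omega) (by omega)
  rcases Nat.lt_or_ge p 1058400 with h | h
  · exact (Table.relOK_iff chkPaths 1057700 700).mp pc31 p (by omega) (by omega)
  rcases Nat.lt_or_ge p 1059100 with h | h
  · exact (Table.relOK_iff chkPaths 1058400 700).mp pc32 p (by omega) (by omega)
  rcases Nat.lt_or_ge p 1059800 with h | h
  · exact (Table.relOK_iff chkPaths 1059100 700).mp pc33 p (by omega) (by omega)
  rcases Nat.lt_or_ge p 1060500 with h | h
  · exact (Table.relOK_iff chkPaths 1059800 700).mp pc34 p (by omega) (by omega)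
  rcases Nat.lt_or_ge p 1061200 with h | h
  · exact (Table.relOK_iff chkPaths 1060500 700).mp pc35 p (by omega) (by omega)
  rcases Nat.lt_or_ge p 1061900 with h | h
  · exact (Table.relOK_iff chkPaths 1061200 700).mp pc36 p (by omega) (by omega)
  rcases Nat.lt_or_ge p 1062600 with h | h
  · exact (Table.relOK_iff chkPaths 1061900 700).mp pc37 p (by omega) (by omega)
  rcases Nat.lt_or_ge p 1063300 with h | h
  · exact (Table.relOK_iff chkPaths 1062600 700).mp pc38 p (by omega) (by omega)
  exact (Table.relOK_iff chkPaths 1063300 700).mp pc39 p (by omega) (by omega)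

end Cfsg.Agent.Lib.Helper16.HNP.C42
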