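import Cfsg.Agent.Lib.Helper28.TC2Range
import Cfsg.Agent.Lib.Helper16.HNP.Table
import Cfsg.Agent.Lib.Helper16.HNP.C33
set_option autoImplicit false
set_option maxRecDepth 100000
set_option maxHeartbeats 0
set_option Elab.async false

namespace Cfsg.Agent.Lib.Helper16.HNP.C43
open Cfsg.Agent.Lib.Helper28.TC2Upper Cfsg.Agent.Lib.Helper28.TC2Lower Cfsg.Agent.Lib.Helper28.TC2Range Cfsg.Agent.Lib.Helper16.HNP.Table

theorem pc0 : table.relOK chkPaths 1064000 700 = true := by decide +kernel
theorem pc1 : table.relOK chkPaths 1064700 700 = true := by decide +kernel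
theorem pc2 : table.relOK chkPaths 1065400 700 = true := by decide +kernel
theorem pc3 : table.relOK chkPaths 1066100 700 = true := by decide +kernel
theorem pc4 : table.relOK chkPaths 1066800 700 = true := by decide +kernel
theorem pc5 : table.relOK chkPaths 1067500 700 = true := by decide +kernel
theorem pc6 : table.relOK chkPaths 1068200 700 = true := by decide +kernel
theorem pc7 : table.relOK chkPaths 1068900 700 = true := by decide +kernel
theorem pc8 : table.relOK chkPaths 1069600 700 = true := by decide +kernel
theorem pc9 : table.relOK chkPaths 1070300 700 = true := by decide +kernel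
theorem pc10 : table.relOK chkPaths 1071000 700 = true := by decide +kernel
theorem pc11 : table.relOK chkPaths 1071700 700 = true := by decide +kernel
theorem pc12 : table.relOK chkPaths 1072400 700 = true := by decide +kernel
theorem pc13 : table.relOK chkPaths 1073100 700 = true := by decide +kernel
theorem pc14 : table.relOK chkPaths 1073800 700 = true := by decide +kernel
theorem pc15 : table.relOK chkPaths 1074500 700 = true := by decide +kernel
theorem pc16 : table.relOK chkPaths 1075200 700 = true := by decide +kernel
theorem pc17 : table.relOK chkPaths 1075900 700 = true := by decide +kernel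
theorem pc18 : table.relOK chkPaths 1076600 700 = true := by decide +kernel
theorem pc19 : table.relOK chkPaths 1077300 700 = true := by decide +kernel
theorem pc20 : table.relOK chkPaths 1078000 700 = true := by decide +kernel
theorem pc21 : table.relOK chkPaths 1078700 700 = true := by decide +kernel
theorem pc22 : table.relOK chkPaths 1079400 700 = true := by decide +kernel
theorem pc23 : table.relOK chkPaths 1080100 700 = true := by decide +kernel
theorem pc24 : table.relOK chkPaths 1080800 700 = true := by decide +kernel
theorem pc25 : table.relOK chkPaths 1081500 700 = true := by decide +kernel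
theorem pc26 : table.relOK chkPaths 1082200 700 = true := by decide +kernel
theorem pc27 : table.relOK chkPaths 1082900 700 = true := by decide +kernel
theorem pc28 : table.relOK chkPaths 1083600 700 = true := by decide +kernel
theorem pc29 : table.relOK chkPaths 1084300 700 = true := by decide +kernel
theorem pc30 : table.relOK chkPaths 1085000 700 = true := by decide +kernel
theorem pc31 : table.relOK chkPaths 1085700 700 = true := by decide +kernel
theorem pc32 : table.relOK chkPaths 1086400 700 = true := by decide +kernel
theorem pc33 : table.relOK chkPaths 1087100 700 = true := by decide +kernel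
theorem pc34 : table.relOK chkPaths 1087800 700 = true := by decide +kernel
theorem pc35 : table.relOK chkPaths 1088500 700 = true := by decide +kernel
theorem pc36 : table.relOK chkPaths 1089200 700 = true := by decide +kernel
theorem pc37 : table.relOK chkPaths 1089900 700 = true := by decide +kernel
theorem pc38 : table.relOK chkPaths 1090600 700 = true := by decide +kernel
theorem pc39 : table.relOK chkPaths 1091300 700 = true := by decide +kernel

theorem range : ∀ p, 1064000 ≤ p → p < 1092000 → ∀ r ∈ chkPaths, table.walkT r p = p := by
  intro p h1 h2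
  rcases Nat.lt_or_ge p 1064700 with h | h
  · exact (Table.relOK_iff chkPaths 1064000 700).mp pc0 p (by omega) (by omega)
  rcases Nat.lt_or_ge p 1065400 with h | h
  · exact (Table.relOK_iff chkPaths 1064700 700).mp pc1 p (by omega) (by omega)
  rcases Nat.lt_or_ge p 1066100 with h | h
  · exact (Table.relOK_iff chkPaths 1065400 700).mp pc2 p (by omega) (by omega)
  rcases Nat.lt_or_ge p 1066800 with h | h
  · exact (Table.relOK_iff chkPaths 1066100 700).mp pc3 p (by omega) (by omega)
  rcases Nat.lt_or_ge p 1067500 with h | h
  · exact (Table.relOK_iff chkPaths 1066800 700).mp pc4 p (by omega) (by omega)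
  rcases Nat.lt_or_ge p 1068200 with h | h
  · exact (Table.relOK_iff chkPaths 1067500 700).mp pc5 p (by omega) (by omega)
  rcases Nat.lt_or_ge p 1068900 with h | h
  · exact (Table.relOK_iff chkPaths 1068200 700).mp pc6 p (by omega) (by omega)
  rcases Nat.lt_or_ge p 1069600 with h | h
  · exact (Table.relOK_iff chkPaths 1068900 700).mp pc7 p (by omega) (by omega)
  rcases Nat.lt_or_ge p 1070300 with h | h
  · exact (Table.relOK_iff chkPaths 1069600 700).mp pc8 p (by omega) (by omega)
  rcases Nat.lt_or_ge p 1071000 with h | h
  · exact (Table.relOK_iff chkPaths 1070300 700).mp pc9 p (by omega) (by omega)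
  rcases Nat.lt_or_ge p 1071700 with h | h
  · exact (Table.relOK_iff chkPaths 1071000 700).mp pc10 p (by omega) (by omega)
  rcases Nat.lt_or_ge p 1072400 with h | h
  · exact (Table.relOK_iff chkPaths 1071700 700).mp pc11 p (by omega) (by omega)
  rcases Nat.lt_or_ge p 1073100 with h | h
  · exact (Table.relOK_iff chkPaths 1072400 700).mp pc12 p (by omega) (by omega)
  rcases Nat.lt_or_ge p 1073800 with h | h
  · exact (Table.relOK_iff chkPaths 1073100 700).mp pc13 p (by omega) (by omega)
  rcases Nat.lt_or_ge p 1074500 with h | h
  · exact (Table.relOK_iff chkPaths 1073800 700).mp pc14 p (by omega) (by omega)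
  rcases Nat.lt_or_ge p 1075200 with h | h
  · exact (Table.relOK_iff chkPaths 1074500 700).mp pc15 p (by omega) (by omega)
  rcases Nat.lt_or_ge p 1075900 with h | h
  · exact (Table.relOK_iff chkPaths 1075200 700).mp pc16 p (by omega) (by omega)
  rcases Nat.lt_or_ge p 1076600 with h | h
  · exact (Table.relOK_iff chkPaths 1075900 700).mp pc17 p (by omega) (by omega)
  rcases Nat.lt_or_ge p 1077300 with h | h
  · exact (Table.relOK_iff chkPaths 1076600 700).mp pc18 p (by omega) (by omega)
  rcases Nat.lt_or_ge p 1078000 with h | h
  · exact (Table.relOK_iff chkPaths 1077300 700).mp pc19 p (by omega) (by omega)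
  rcases Nat.lt_or_ge p 1078700 with h | h
  · exact (Table.relOK_iff chkPaths 1078000 700).mp pc20 p (by omega) (by omega)
  rcases Nat.lt_or_ge p 1079400 with h | h
  · exact (Table.relOK_iff chkPaths 1078700 700).mp pc21 p (by omega) (by omega)
  rcases Nat.lt_or_ge p 1080100 with h | h
  · exact (Table.relOK_iff chkPaths 1079400 700).mp pc22 p (by omega) (by omega)
  rcases Nat.lt_or_ge p 1080800 with h | h
  · exact (Table.relOK_iff chkPaths 1080100 700).mp pc23 p (by omega) (by omega)
  rcases Nat.lt_or_ge p 1081500 with h | h
  · exact (Table.relOK_iff chkPaths 1080800 700).mp pc24 p (by omega) (by omega)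
  rcases Nat.lt_or_ge p 1082200 with h | h
  · exact (Table.relOK_iff chkPaths 1081500 700).mp pc25 p (by omega) (by omega)
  rcases Nat.lt_or_ge p 1082900 with h | h
  · exact (Table.relOK_iff chkPaths 1082200 700).mp pc26 p (by omega) (by omega)
  rcases Nat.lt_or_ge p 1083600 with h | h
  · exact (Table.relOK_iff chkPaths 1082900 700).mp pc27 p (by omega) (by omega)
  rcases Nat.lt_or_ge p 1084300 with h | h
  · exact (Table.relOK_iff chkPaths 1083600 700).mp pc28 p (by omega) (by omega)
  rcases Nat.lt_or_ge p 1085000 with h | h
  · exact (Table.relOK_iff chkPaths 1084300 700).mp pc29 p (by omega) (by omega)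
  rcases Nat.lt_or_ge p 1085700 with h | h
  · exact (Table.relOK_iff chkPaths 1085000 700).mp pc30 p (by omega) (by omega)
  rcases Nat.lt_or_ge p 1086400 with h | h
  · exact (Table.relOK_iff chkPaths 1085700 700).mp pc31 p (by omega) (by omega)
  rcases Nat.lt_or_ge p 1087100 with h | h
  · exact (Table.relOK_iff chkPaths 1086400 700).mp pc32 p (by omega) (by omega)
  rcases Nat.lt_or_ge p 1087800 with h | h
  · exact (Table.relOK_iff chkPaths 1087100 700).mp pc33 p (by omega) (by omega)
  rcases Nat.lt_or_ge p 1088500 with h | h
  · exact (Table.relOK_iff chkPaths 1087800 700).mp pc34 p (by omega) (by omega)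
  rcases Nat.lt_or_ge p 1089200 with h | h
  · exact (Table.relOK_iff chkPaths 1088500 700).mp pc35 p (by omega) (by omega)
  rcases Nat.lt_or_ge p 1089900 with h | h
  · exact (Table.relOK_iff chkPaths 1089200 700).mp pc36 p (by omega) (by omega)
  rcases Nat.lt_or_ge p 1090600 with h | h
  · exact (Table.relOK_iff chkPaths 1089900 700).mp pc37 p (by omega) (by omega)
  rcases Nat.lt_or_ge p 1091300 with h | h
  · exact (Table.relOK_iff chkPaths 1090600 700).mp pc38 p (by omega) (by omega)
  exact (Table.relOK_iff chkPaths 1091300 700).mp pc39 p (by omega) (by omega)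

end Cfsg.Agent.Lib.Helper16.HNP.C43
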