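import Cfsg.Agent.Lib.Helper28.TC2Range
import Cfsg.Agent.Lib.Helper16.HNP.Table
import Cfsg.Agent.Lib.Helper16.HNP.C34
set_option autoImplicit false
set_option maxRecDepth 100000
set_option maxHeartbeats 0
set_option Elab.async false

namespace Cfsg.Agent.Lib.Helper16.HNP.C44
open Cfsg.Agent.Lib.Helper28.TC2Upper Cfsg.Agent.Lib.Helper28.TC2Lower Cfsg.Agent.Lib.Helper28.TC2Range Cfsg.Agent.Lib.Helper16.HNP.Table

theorem pc0 : table.relOK chkPaths 1092000 700 = true := by decide +kernel
theorem pc1 : table.relOK chkPaths 1092700 700 = true := by decide +kernel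
theorem pc2 : table.relOK chkPaths 1093400 700 = true := by decide +kernel
theorem pc3 : table.relOK chkPaths 1094100 700 = true := by decide +kernel
theorem pc4 : table.relOK chkPaths 1094800 700 = true := by decide +kernel
theorem pc5 : table.relOK chkPaths 1095500 700 = true := by decide +kernel
theorem pc6 : table.relOK chkPaths 1096200 700 = true := by decide +kernel
theorem pc7 : table.relOK chkPaths 1096900 700 = true := by decide +kernel
theorem pc8 : table.relOK chkPaths 1097600 700 = true := by decide +kernel
theorem pc9 : table.relOK chkPaths 1098300 700 = true := by decide +kernel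
theorem pc10 : table.relOK chkPaths 1099000 700 = true := by decide +kernel
theorem pc11 : table.relOK chkPaths 1099700 700 = true := by decide +kernel
theorem pc12 : table.relOK chkPaths 1100400 700 = true := by decide +kernel
theorem pc13 : table.relOK chkPaths 1101100 700 = true := by decide +kernel
theorem pc14 : table.relOK chkPaths 1101800 700 = true := by decide +kernel
theorem pc15 : table.relOK chkPaths 1102500 700 = true := by decide +kernel
theorem pc16 : table.relOK chkPaths 1103200 700 = true := by decide +kernel
theorem pc17 : table.relOK chkPaths 1103900 700 = true := by decide +kernel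
theorem pc18 : table.relOK chkPaths 1104600 700 = true := by decide +kernel
theorem pc19 : table.relOK chkPaths 1105300 700 = true := by decide +kernel
theorem pc20 : table.relOK chkPaths 1106000 700 = true := by decide +kernel
theorem pc21 : table.relOK chkPaths 1106700 700 = true := by decide +kernel
theorem pc22 : table.relOK chkPaths 1107400 700 = true := by decide +kernel
theorem pc23 : table.relOK chkPaths 1108100 700 = true := by decide +kernel
theorem pc24 : table.relOK chkPaths 1108800 700 = true := by decide +kernel
theorem pc25 : table.relOK chkPaths 1109500 700 = true := by decide +kernel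
theorem pc26 : table.relOK chkPaths 1110200 700 = true := by decide +kernel
theorem pc27 : table.relOK chkPaths 1110900 700 = true := by decide +kernel
theorem pc28 : table.relOK chkPaths 1111600 700 = true := by decide +kernel
theorem pc29 : table.relOK chkPaths 1112300 700 = true := by decide +kernel
theorem pc30 : table.relOK chkPaths 1113000 700 = true := by decide +kernel
theorem pc31 : table.relOK chkPaths 1113700 700 = true := by decide +kernel
theorem pc32 : table.relOK chkPaths 1114400 700 = true := by decide +kernel
theorem pc33 : table.relOK chkPaths 1115100 700 = true := by decide +kernel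
theorem pc34 : table.relOK chkPaths 1115800 700 = true := by decide +kernel
theorem pc35 : table.relOK chkPaths 1116500 700 = true := by decide +kernel
theorem pc36 : table.relOK chkPaths 1117200 700 = true := by decide +kernel
theorem pc37 : table.relOK chkPaths 1117900 700 = true := by decide +kernel
theorem pc38 : table.relOK chkPaths 1118600 700 = true := by decide +kernel
theorem pc39 : table.relOK chkPaths 1119300 700 = true := by decide +kernel

theorem range : ∀ p, 1092000 ≤ p → p < 1120000 → ∀ r ∈ chkPaths, table.walkT r p = p := by
  intro p h1 h2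
  rcases Nat.lt_or_ge p 1092700 with h | h
  · exact (Table.relOK_iff chkPaths 1092000 700).mp pc0 p (by omega) (by omega)
  rcases Nat.lt_or_ge p 1093400 with h | h
  · exact (Table.relOK_iff chkPaths 1092700 700).mp pc1 p (by omega) (by omega)
  rcases Nat.lt_or_ge p 1094100 with h | h
  · exact (Table.relOK_iff chkPaths 1093400 700).mp pc2 p (by omega) (by omega)
  rcases Nat.lt_or_ge p 1094800 with h | h
  · exact (Table.relOK_iff chkPaths 1094100 700).mp pc3 p (by omega) (by omega)
  rcases Nat.lt_or_ge p 1095500 with h | h
  · exact (Table.relOK_iff chkPaths 1094800 700).mp pc4 p (by omega) (by omega)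
  rcases Nat.lt_or_ge p 1096200 with h | h
  · exact (Table.relOK_iff chkPaths 1095500 700).mp pc5 p (by omega) (by omega)
  rcases Nat.lt_or_ge p 1096900 with h | h
  · exact (Table.relOK_iff chkPaths 1096200 700).mp pc6 p (by omega) (by omega)
  rcases Nat.lt_or_ge p 1097600 with h | h
  · exact (Table.relOK_iff chkPaths 1096900 700).mp pc7 p (by omega) (by omega)
  rcases Nat.lt_or_ge p 1098300 with h | h
  · exact (Table.relOK_iff chkPaths 1097600 700).mp pc8 p (by omega) (by omega)
  rcases Nat.lt_or_ge p 1099000 with h | h
  · exact (Table.relOK_iff chkPaths 1098300 700).mp pc9 p (by omega) (by omega)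
  rcases Nat.lt_or_ge p 1099700 with h | h
  · exact (Table.relOK_iff chkPaths 1099000 700).mp pc10 p (by omega) (by omega)
  rcases Nat.lt_or_ge p 1100400 with h | h
  · exact (Table.relOK_iff chkPaths 1099700 700).mp pc11 p (by omega) (by omega)
  rcases Nat.lt_or_ge p 1101100 with h | h
  · exact (Table.relOK_iff chkPaths 1100400 700).mp pc12 p (by omega) (by omega)
  rcases Nat.lt_or_ge p 1101800 with h | h
  · exact (Table.relOK_iff chkPaths 1101100 700).mp pc13 p (by omega) (by omega)
  rcases Nat.lt_or_ge p 1102500 with h | h
  · exact (Table.relOK_iff chkPaths 1101800 700).mp pc14 p (by omega) (by omega)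
  rcases Nat.lt_or_ge p 1103200 with h | h
  · exact (Table.relOK_iff chkPaths 1102500 700).mp pc15 p (by omega) (by omega)
  rcases Nat.lt_or_ge p 1103900 with h | h
  · exact (Table.relOK_iff chkPaths 1103200 700).mp pc16 p (by omega) (by omega)
  rcases Nat.lt_or_ge p 1104600 with h | h
  · exact (Table.relOK_iff chkPaths 1103900 700).mp pc17 p (by omega) (by omega)
  rcases Nat.lt_or_ge p 1105300 with h | h
  · exact (Table.relOK_iff chkPaths 1104600 700).mp pc18 p (by omega) (by omega)
  rcases Nat.lt_or_ge p 1106000 with h | h
  · exact (Table.relOK_iff chkPaths 1105300 700).mp pc19 p (by omega) (by omega)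
  rcases Nat.lt_or_ge p 1106700 with h | h
  · exact (Table.relOK_iff chkPaths 1106000 700).mp pc20 p (by omega) (by omega)
  rcases Nat.lt_or_ge p 1107400 with h | h
  · exact (Table.relOK_iff chkPaths 1106700 700).mp pc21 p (by omega) (by omega)
  rcases Nat.lt_or_ge p 1108100 with h | h
  · exact (Table.relOK_iff chkPaths 1107400 700).mp pc22 p (by omega) (by omega)
  rcases Nat.lt_or_ge p 1108800 with h | h
  · exact (Table.relOK_iff chkPaths 1108100 700).mp pc23 p (by omega) (by omega)
  rcases Nat.lt_or_ge p 1109500 with h | h
  · exact (Table.relOK_iff chkPaths 1108800 700).mp pc24 p (by omega) (by omega)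
  rcases Nat.lt_or_ge p 1110200 with h | h
  · exact (Table.relOK_iff chkPaths 1109500 700).mp pc25 p (by omega) (by omega)
  rcases Nat.lt_or_ge p 1110900 with h | h
  · exact (Table.relOK_iff chkPaths 1110200 700).mp pc26 p (by omega) (by omega)
  rcases Nat.lt_or_ge p 1111600 with h | h
  · exact (Table.relOK_iff chkPaths 1110900 700).mp pc27 p (by omega) (by omega)
  rcases Nat.lt_or_ge p 1112300 with h | h
  · exact (Table.relOK_iff chkPaths 1111600 700).mp pc28 p (by omega) (by omega)
  rcases Nat.lt_or_ge p 1113000 with h | h
  · exact (Table.relOK_iff chkPaths 1112300 700).mp pc29 p (by omega) (by omega)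
  rcases Nat.lt_or_ge p 1113700 with h | h
  · exact (Table.relOK_iff chkPaths 1113000 700).mp pc30 p (by omega) (by omega)
  rcases Nat.lt_or_ge p 1114400 with h | h
  · exact (Table.relOK_iff chkPaths 1113700 700).mp pc31 p (by omega) (by omega)
  rcases Nat.lt_or_ge p 1115100 with h | h
  · exact (Table.relOK_iff chkPaths 1114400 700).mp pc32 p (by omega) (by omega)
  rcases Nat.lt_or_ge p 1115800 with h | h
  · exact (Table.relOK_iff chkPaths 1115100 700).mp pc33 p (by omega) (by omega)
  rcases Nat.lt_or_ge p 1116500 with h | h
  · exact (Table.relOK_iff chkPaths 1115800 700).mp pc34 p (by omega) (by omega)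
  rcases Nat.lt_or_ge p 1117200 with h | h
  · exact (Table.relOK_iff chkPaths 1116500 700).mp pc35 p (by omega) (by omega)
  rcases Nat.lt_or_ge p 1117900 with h | h
  · exact (Table.relOK_iff chkPaths 1117200 700).mp pc36 p (by omega) (by omega)
  rcases Nat.lt_or_ge p 1118600 with h | h
  · exact (Table.relOK_iff chkPaths 1117900 700).mp pc37 p (by omega) (by omega)
  rcases Nat.lt_or_ge p 1119300 with h | h
  · exact (Table.relOK_iff chkPaths 1118600 700).mp pc38 p (by omega) (by omega)
  exact (Table.relOK_iff chkPaths 1119300 700).mp pc39 p (by omega) (by omega)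

end Cfsg.Agent.Lib.Helper16.HNP.C44
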