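import Cfsg.Agent.Lib.Helper28.TC2Range
import Cfsg.Agent.Lib.Helper16.HNP.Table
import Cfsg.Agent.Lib.Helper16.HNP.C25
set_option autoImplicit false
set_option maxRecDepth 100000
set_option maxHeartbeats 0
set_option Elab.async false

namespace Cfsg.Agent.Lib.Helper16.HNP.C35
open Cfsg.Agent.Lib.Helper28.TC2Upper Cfsg.Agent.Lib.Helper28.TC2Lower Cfsg.Agent.Lib.Helper28.TC2Range Cfsg.Agent.Lib.Helper16.HNP.Table

theorem pc0 : table.relOK chkPaths 840000 700 = true := by decide +kernel
theorem pc1 : table.relOK chkPaths 840700 700 = true := by decide +kernel
theorem pc2 : table.relOK chkPaths 841400 700 = true := by decide +kernel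
theorem pc3 : table.relOK chkPaths 842100 700 = true := by decide +kernel
theorem pc4 : table.relOK chkPaths 842800 700 = true := by decide +kernel
theorem pc5 : table.relOK chkPaths 843500 700 = true := by decide +kernel
theorem pc6 : table.relOK chkPaths 844200 700 = true := by decide +kernel
theorem pc7 : table.relOK chkPaths 844900 700 = true := by decide +kernel
theorem pc8 : table.relOK chkPaths 845600 700 = true := by decide +kernel
theorem pc9 : table.relOK chkPaths 846300 700 = true := by decide +kernel
theorem pc10 : table.relOK chkPaths 847000 700 = true := by decide +kernel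
theorem pc11 : table.relOK chkPaths 847700 700 = true := by decide +kernel
theorem pc12 : table.relOK chkPaths 848400 700 = true := by decide +kernel
theorem pc13 : table.relOK chkPaths 849100 700 = true := by decide +kernel
theorem pc14 : table.relOK chkPaths 849800 700 = true := by decide +kernel
theorem pc15 : table.relOK chkPaths 850500 700 = true := by decide +kernel
theorem pc16 : table.relOK chkPaths 851200 700 = true := by decide +kernel
theorem pc17 : table.relOK chkPaths 851900 700 = true := by decide +kernel
theorem pc18 : table.relOK chkPaths 852600 700 = true := by decide +kernel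
theorem pc19 : table.relOK chkPaths 853300 700 = true := by decide +kernel
theorem pc20 : table.relOK chkPaths 854000 700 = true := by decide +kernel
theorem pc21 : table.relOK chkPaths 854700 700 = true := by decide +kernel
theorem pc22 : table.relOK chkPaths 855400 700 = true := by decide +kernel
theorem pc23 : table.relOK chkPaths 856100 700 = true := by decide +kernel
theorem pc24 : table.relOK chkPaths 856800 700 = true := by decide +kernel
theorem pc25 : table.relOK chkPaths 857500 700 = true := by decide +kernel
theorem pc26 : table.relOK chkPaths 858200 700 = true := by decide +kernel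
theorem pc27 : table.relOK chkPaths 858900 700 = true := by decide +kernel
theorem pc28 : table.relOK chkPaths 859600 700 = true := by decide +kernel
theorem pc29 : table.relOK chkPaths 860300 700 = true := by decide +kernel
theorem pc30 : table.relOK chkPaths 861000 700 = true := by decide +kernel
theorem pc31 : table.relOK chkPaths 861700 700 = true := by decide +kernel
theorem pc32 : table.relOK chkPaths 862400 700 = true := by decide +kernel
theorem pc33 : table.relOK chkPaths 863100 700 = true := by decide +kernel
theorem pc34 : table.relOK chkPaths 863800 700 = true := by decide +kernel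
theorem pc35 : table.relOK chkPaths 864500 700 = true := by decide +kernel
theorem pc36 : table.relOK chkPaths 865200 700 = true := by decide +kernel
theorem pc37 : table.relOK chkPaths 865900 700 = true := by decide +kernel
theorem pc38 : table.relOK chkPaths 866600 700 = true := by decide +kernel
theorem pc39 : table.relOK chkPaths 867300 700 = true := by decide +kernel

theorem range : ∀ p, 840000 ≤ p → p < 868000 → ∀ r ∈ chkPaths, table.walkT r p = p := by
  intro p h1 h2
  rcases Nat.lt_or_ge p 840700 with h | h
  · exact (Table.relOK_iff chkPaths 840000 700).mp pc0 p (by omega) (by omega)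
  rcases Nat.lt_or_ge p 841400 with h | h
  · exact (Table.relOK_iff chkPaths 840700 700).mp pc1 p (by omega) (by omega)
  rcases Nat.lt_or_ge p 842100 with h | h
  · exact (Table.relOK_iff chkPaths 841400 700).mp pc2 p (by omega) (by omega)
  rcases Nat.lt_or_ge p 842800 with h | h
  · exact (Table.relOK_iff chkPaths 842100 700).mp pc3 p (by omega) (by omega)
  rcases Nat.lt_or_ge p 843500 with h | h
  · exact (Table.relOK_iff chkPaths 842800 700).mp pc4 p (by omega) (by omega)
  rcases Nat.lt_or_ge p 844200 with h | h
  · exact (Table.relOK_iff chkPaths 843500 700).mp pc5 p (by omega) (by omega)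
  rcases Nat.lt_or_ge p 844900 with h | h
  · exact (Table.relOK_iff chkPaths 844200 700).mp pc6 p (by omega) (by omega)
  rcases Nat.lt_or_ge p 845600 with h | h
  · exact (Table.relOK_iff chkPaths 844900 700).mp pc7 p (by omega) (by omega)
  rcases Nat.lt_or_ge p 846300 with h | h
  · exact (Table.relOK_iff chkPaths 845600 700).mp pc8 p (by omega) (by omega)
  rcases Nat.lt_or_ge p 847000 with h | h
  · exact (Table.relOK_iff chkPaths 846300 700).mp pc9 p (by omega) (by omega)
  rcases Nat.lt_or_ge p 847700 with h | h
  · exact (Table.relOK_iff chkPaths 847000 700).mp pc10 p (by omega) (by omega)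
  rcases Nat.lt_or_ge p 848400 with h | h
  · exact (Table.relOK_iff chkPaths 847700 700).mp pc11 p (by omega) (by omega)
  rcases Nat.lt_or_ge p 849100 with h | h
  · exact (Table.relOK_iff chkPaths 848400 700).mp pc12 p (by omega) (by omega)
  rcases Nat.lt_or_ge p 849800 with h | h
  · exact (Table.relOK_iff chkPaths 849100 700).mp pc13 p (by omega) (by omega)
  rcases Nat.lt_or_ge p 850500 with h | h
  · exact (Table.relOK_iff chkPaths 849800 700).mp pc14 p (by omega) (by omega)
  rcases Nat.lt_or_ge p 851200 with h | h
  · exact (Table.relOK_iff chkPaths 850500 700).mp pc15 p (by omega) (by omega)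
  rcases Nat.lt_or_ge p 851900 with h | h
  · exact (Table.relOK_iff chkPaths 851200 700).mp pc16 p (by omega) (by omega)
  rcases Nat.lt_or_ge p 852600 with h | h
  · exact (Table.relOK_iff chkPaths 851900 700).mp pc17 p (by omega) (by omega)
  rcases Nat.lt_or_ge p 853300 with h | h
  · exact (Table.relOK_iff chkPaths 852600 700).mp pc18 p (by omega) (by omega)
  rcases Nat.lt_or_ge p 854000 with h | h
  · exact (Table.relOK_iff chkPaths 853300 700).mp pc19 p (by omega) (by omega)
  rcases Nat.lt_or_ge p 854700 with h | h
  · exact (Table.relOK_iff chkPaths 854000 700).mp pc20 p (by omega) (by omega)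
  rcases Nat.lt_or_ge p 855400 with h | h
  · exact (Table.relOK_iff chkPaths 854700 700).mp pc21 p (by omega) (by omega)
  rcases Nat.lt_or_ge p 856100 with h | h
  · exact (Table.relOK_iff chkPaths 855400 700).mp pc22 p (by omega) (by omega)
  rcases Nat.lt_or_ge p 856800 with h | h
  · exact (Table.relOK_iff chkPaths 856100 700).mp pc23 p (by omega) (by omega)
  rcases Nat.lt_or_ge p 857500 with h | h
  · exact (Table.relOK_iff chkPaths 856800 700).mp pc24 p (by omega) (by omega)
  rcases Nat.lt_or_ge p 858200 with h | h
  · exact (Table.relOK_iff chkPaths 857500 700).mp pc25 p (by omega) (by omega)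
  rcases Nat.lt_or_ge p 858900 with h | h
  · exact (Table.relOK_iff chkPaths 858200 700).mp pc26 p (by omega) (by omega)
  rcases Nat.lt_or_ge p 859600 with h | h
  · exact (Table.relOK_iff chkPaths 858900 700).mp pc27 p (by omega) (by omega)
  rcases Nat.lt_or_ge p 860300 with h | h
  · exact (Table.relOK_iff chkPaths 859600 700).mp pc28 p (by omega) (by omega)
  rcases Nat.lt_or_ge p 861000 with h | h
  · exact (Table.relOK_iff chkPaths 860300 700).mp pc29 p (by omega) (by omega)
  rcases Nat.lt_or_ge p 861700 with h | h
  · exact (Table.relOK_iff chkPaths 861000 700).mp pc30 p (by omega) (by omega)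
  rcases Nat.lt_or_ge p 862400 with h | h
  · exact (Table.relOK_iff chkPaths 861700 700).mp pc31 p (by omega) (by omega)
  rcases Nat.lt_or_ge p 863100 with h | h
  · exact (Table.relOK_iff chkPaths 862400 700).mp pc32 p (by omega) (by omega)
  rcases Nat.lt_or_ge p 863800 with h | h
  · exact (Table.relOK_iff chkPaths 863100 700).mp pc33 p (by omega) (by omega)
  rcases Nat.lt_or_ge p 864500 with h | h
  · exact (Table.relOK_iff chkPaths 863800 700).mp pc34 p (by omega) (by omega)
  rcases Nat.lt_or_ge p 865200 with h | h
  · exact (Table.relOK_iff chkPaths 864500 700).mp pc35 p (by omega) (by omega)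
  rcases Nat.lt_or_ge p 865900 with h | h
  · exact (Table.relOK_iff chkPaths 865200 700).mp pc36 p (by omega) (by omega)
  rcases Nat.lt_or_ge p 866600 with h | h
  · exact (Table.relOK_iff chkPaths 865900 700).mp pc37 p (by omega) (by omega)
  rcases Nat.lt_or_ge p 867300 with h | h
  · exact (Table.relOK_iff chkPaths 866600 700).mp pc38 p (by omega) (by omega)
  exact (Table.relOK_iff chkPaths 867300 700).mp pc39 p (by omega) (by omega)

end Cfsg.Agent.Lib.Helper16.HNP.C35
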