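import Cfsg.Agent.Lib.Helper28.TC2Range
import Cfsg.Agent.Lib.Helper16.HNP.Table
import Cfsg.Agent.Lib.Helper16.HNP.C35
set_option autoImplicit false
set_option maxRecDepth 100000
set_option maxHeartbeats 0
set_option Elab.async false

namespace Cfsg.Agent.Lib.Helper16.HNP.C45
open Cfsg.Agent.Lib.Helper28.TC2Upper Cfsg.Agent.Lib.Helper28.TC2Lower Cfsg.Agent.Lib.Helper28.TC2Range Cfsg.Agent.Lib.Helper16.HNP.Table

theorem pc0 : table.relOK chkPaths 1120000 700 = true := by decide +kernel
theorem pc1 : table.relOK chkPaths 1120700 700 = true := by decide +kernel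
theorem pc2 : table.relOK chkPaths 1121400 700 = true := by decide +kernel
theorem pc3 : table.relOK chkPaths 1122100 700 = true := by decide +kernel
theorem pc4 : table.relOK chkPaths 1122800 700 = true := by decide +kernel
theorem pc5 : table.relOK chkPaths 1123500 700 = true := by decide +kernel
theorem pc6 : table.relOK chkPaths 1124200 700 = true := by decide +kernel
theorem pc7 : table.relOK chkPaths 1124900 700 = true := by decide +kernel
theorem pc8 : table.relOK chkPaths 1125600 700 = true := by decide +kernel
theorem pc9 : table.relOK chkPaths 1126300 700 = true := by decide +kernel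
theorem pc10 : table.relOK chkPaths 1127000 700 = true := by decide +kernel
theorem pc11 : table.relOK chkPaths 1127700 700 = true := by decide +kernel
theorem pc12 : table.relOK chkPaths 1128400 700 = true := by decide +kernel
theorem pc13 : table.relOK chkPaths 1129100 700 = true := by decide +kernel
theorem pc14 : table.relOK chkPaths 1129800 700 = true := by decide +kernel
theorem pc15 : table.relOK chkPaths 1130500 700 = true := by decide +kernel
theorem pc16 : table.relOK chkPaths 1131200 700 = true := by decide +kernel
theorem pc17 : table.relOK chkPaths 1131900 700 = true := by decide +kernel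
theorem pc18 : table.relOK chkPaths 1132600 700 = true := by decide +kernel
theorem pc19 : table.relOK chkPaths 1133300 700 = true := by decide +kernel
theorem pc20 : table.relOK chkPaths 1134000 700 = true := by decide +kernel
theorem pc21 : table.relOK chkPaths 1134700 700 = true := by decide +kernel
theorem pc22 : table.relOK chkPaths 1135400 700 = true := by decide +kernel
theorem pc23 : table.relOK chkPaths 1136100 700 = true := by decide +kernel
theorem pc24 : table.relOK chkPaths 1136800 700 = true := by decide +kernel
theorem pc25 : table.relOK chkPaths 1137500 700 = true := by decide +kernel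
theorem pc26 : table.relOK chkPaths 1138200 700 = true := by decide +kernel
theorem pc27 : table.relOK chkPaths 1138900 700 = true := by decide +kernel
theorem pc28 : table.relOK chkPaths 1139600 700 = true := by decide +kernel
theorem pc29 : table.relOK chkPaths 1140300 700 = true := by decide +kernel
theorem pc30 : table.relOK chkPaths 1141000 700 = true := by decide +kernel
theorem pc31 : table.relOK chkPaths 1141700 700 = true := by decide +kernel
theorem pc32 : table.relOK chkPaths 1142400 700 = true := by decide +kernel
theorem pc33 : table.relOK chkPaths 1143100 700 = true := by decide +kernel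
theorem pc34 : table.relOK chkPaths 1143800 700 = true := by decide +kernel
theorem pc35 : table.relOK chkPaths 1144500 700 = true := by decide +kernel
theorem pc36 : table.relOK chkPaths 1145200 700 = true := by decide +kernel
theorem pc37 : table.relOK chkPaths 1145900 700 = true := by decide +kernel
theorem pc38 : table.relOK chkPaths 1146600 700 = true := by decide +kernel
theorem pc39 : table.relOK chkPaths 1147300 700 = true := by decide +kernel

theorem range : ∀ p, 1120000 ≤ p → p < 1148000 → ∀ r ∈ chkPaths, table.walkT r p = p := by
  intro p h1 h2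
  rcases Nat.lt_or_ge p 1120700 with h | h
  · exact (Table.relOK_iff chkPaths 1120000 700).mp pc0 p (by omega) (by omega)
  rcases Nat.lt_or_ge p 1121400 with h | h
  · exact (Table.relOK_iff chkPaths 1120700 700).mp pc1 p (by omega) (by omega)
  rcases Nat.lt_or_ge p 1122100 with h | h
  · exact (Table.relOK_iff chkPaths 1121400 700).mp pc2 p (by omega) (by omega)
  rcases Nat.lt_or_ge p 1122800 with h | h
  · exact (Table.relOK_iff chkPaths 1122100 700).mp pc3 p (by omega) (by omega)
  rcases Nat.lt_or_ge p 1123500 with h | h
  · exact (Table.relOK_iff chkPaths 1122800 700).mp pc4 p (by omega) (by omega)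
  rcases Nat.lt_or_ge p 1124200 with h | h
  · exact (Table.relOK_iff chkPaths 1123500 700).mp pc5 p (by omega) (by omega)
  rcases Nat.lt_or_ge p 1124900 with h | h
  · exact (Table.relOK_iff chkPaths 1124200 700).mp pc6 p (by omega) (by omega)
  rcases Nat.lt_or_ge p 1125600 with h | h
  · exact (Table.relOK_iff chkPaths 1124900 700).mp pc7 p (by omega) (by omega)
  rcases Nat.lt_or_ge p 1126300 with h | h
  · exact (Table.relOK_iff chkPaths 1125600 700).mp pc8 p (by omega) (by omega)
  rcases Nat.lt_or_ge p 1127000 with h | h
  · exact (Table.relOK_iff chkPaths 1126300 700).mp pc9 p (by omega) (by omega)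
  rcases Nat.lt_or_ge p 1127700 with h | h
  · exact (Table.relOK_iff chkPaths 1127000 700).mp pc10 p (by omega) (by omega)
  rcases Nat.lt_or_ge p 1128400 with h | h
  · exact (Table.relOK_iff chkPaths 1127700 700).mp pc11 p (by omega) (by omega)
  rcases Nat.lt_or_ge p 1129100 with h | h
  · exact (Table.relOK_iff chkPaths 1128400 700).mp pc12 p (by omega) (by omega)
  rcases Nat.lt_or_ge p 1129800 with h | h
  · exact (Table.relOK_iff chkPaths 1129100 700).mp pc13 p (by omega) (by omega)
  rcases Nat.lt_or_ge p 1130500 with h | h
  · exact (Table.relOK_iff chkPaths 1129800 700).mp pc14 p (by omega) (by omega)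
  rcases Nat.lt_or_ge p 1131200 with h | h
  · exact (Table.relOK_iff chkPaths 1130500 700).mp pc15 p (by omega) (by omega)
  rcases Nat.lt_or_ge p 1131900 with h | h
  · exact (Table.relOK_iff chkPaths 1131200 700).mp pc16 p (by omega) (by omega)
  rcases Nat.lt_or_ge p 1132600 with h | h
  · exact (Table.relOK_iff chkPaths 1131900 700).mp pc17 p (by omega) (by omega)
  rcases Nat.lt_or_ge p 1133300 with h | h
  · exact (Table.relOK_iff chkPaths 1132600 700).mp pc18 p (by omega) (by omega)
  rcases Nat.lt_or_ge p 1134000 with h | h
  · exact (Table.relOK_iff chkPaths 1133300 700).mp pc19 p (by omega) (by omega)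
  rcases Nat.lt_or_ge p 1134700 with h | h
  · exact (Table.relOK_iff chkPaths 1134000 700).mp pc20 p (by omega) (by omega)
  rcases Nat.lt_or_ge p 1135400 with h | h
  · exact (Table.relOK_iff chkPaths 1134700 700).mp pc21 p (by omega) (by omega)
  rcases Nat.lt_or_ge p 1136100 with h | h
  · exact (Table.relOK_iff chkPaths 1135400 700).mp pc22 p (by omega) (by omega)
  rcases Nat.lt_or_ge p 1136800 with h | h
  · exact (Table.relOK_iff chkPaths 1136100 700).mp pc23 p (by omega) (by omega)
  rcases Nat.lt_or_ge p 1137500 with h | h
  · exact (Table.relOK_iff chkPaths 1136800 700).mp pc24 p (by omega) (by omega)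
  rcases Nat.lt_or_ge p 1138200 with h | h
  · exact (Table.relOK_iff chkPaths 1137500 700).mp pc25 p (by omega) (by omega)
  rcases Nat.lt_or_ge p 1138900 with h | h
  · exact (Table.relOK_iff chkPaths 1138200 700).mp pc26 p (by omega) (by omega)
  rcases Nat.lt_or_ge p 1139600 with h | h
  · exact (Table.relOK_iff chkPaths 1138900 700).mp pc27 p (by omega) (by omega)
  rcases Nat.lt_or_ge p 1140300 with h | h
  · exact (Table.relOK_iff chkPaths 1139600 700).mp pc28 p (by omega) (by omega)
  rcases Nat.lt_or_ge p 1141000 with h | h
  · exact (Table.relOK_iff chkPaths 1140300 700).mp pc29 p (by omega) (by omega)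
  rcases Nat.lt_or_ge p 1141700 with h | h
  · exact (Table.relOK_iff chkPaths 1141000 700).mp pc30 p (by omega) (by omega)
  rcases Nat.lt_or_ge p 1142400 with h | h
  · exact (Table.relOK_iff chkPaths 1141700 700).mp pc31 p (by omega) (by omega)
  rcases Nat.lt_or_ge p 1143100 with h | h
  · exact (Table.relOK_iff chkPaths 1142400 700).mp pc32 p (by omega) (by omega)
  rcases Nat.lt_or_ge p 1143800 with h | h
  · exact (Table.relOK_iff chkPaths 1143100 700).mp pc33 p (by omega) (by omega)
  rcases Nat.lt_or_ge p 1144500 with h | h
  · exact (Table.relOK_iff chkPaths 1143800 700).mp pc34 p (by omega) (by omega)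
  rcases Nat.lt_or_ge p 1145200 with h | h
  · exact (Table.relOK_iff chkPaths 1144500 700).mp pc35 p (by omega) (by omega)
  rcases Nat.lt_or_ge p 1145900 with h | h
  · exact (Table.relOK_iff chkPaths 1145200 700).mp pc36 p (by omega) (by omega)
  rcases Nat.lt_or_ge p 1146600 with h | h
  · exact (Table.relOK_iff chkPaths 1145900 700).mp pc37 p (by omega) (by omega)
  rcases Nat.lt_or_ge p 1147300 with h | h
  · exact (Table.relOK_iff chkPaths 1146600 700).mp pc38 p (by omega) (by omega)
  exact (Table.relOK_iff chkPaths 1147300 700).mp pc39 p (by omega) (by omega)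

end Cfsg.Agent.Lib.Helper16.HNP.C45
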