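import Cfsg.Agent.Lib.Helper28.TC2Range
import Cfsg.Agent.Lib.Helper16.HNP.Table
import Cfsg.Agent.Lib.Helper16.HNP.C36
set_option autoImplicit false
set_option maxRecDepth 100000
set_option maxHeartbeats 0
set_option Elab.async false

namespace Cfsg.Agent.Lib.Helper16.HNP.C46
open Cfsg.Agent.Lib.Helper28.TC2Upper Cfsg.Agent.Lib.Helper28.TC2Lower Cfsg.Agent.Lib.Helper28.TC2Range Cfsg.Agent.Lib.Helper16.HNP.Table

theorem pc0 : table.relOK chkPaths 1148000 700 = true := by decide +kernel
theorem pc1 : table.relOK chkPaths 1148700 700 = true := by decide +kernel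
theorem pc2 : table.relOK chkPaths 1149400 700 = true := by decide +kernel
theorem pc3 : table.relOK chkPaths 1150100 700 = true := by decide +kernel
theorem pc4 : table.relOK chkPaths 1150800 700 = true := by decide +kernel
theorem pc5 : table.relOK chkPaths 1151500 700 = true := by decide +kernel
theorem pc6 : table.relOK chkPaths 1152200 700 = true := by decide +kernel
theorem pc7 : table.relOK chkPaths 1152900 700 = true := by decide +kernel
theorem pc8 : table.relOK chkPaths 1153600 700 = true := by decide +kernel
theorem pc9 : table.relOK chkPaths 1154300 700 = true := by decide +kernel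
theorem pc10 : table.relOK chkPaths 1155000 700 = true := by decide +kernel
theorem pc11 : table.relOK chkPaths 1155700 700 = true := by decide +kernel
theorem pc12 : table.relOK chkPaths 1156400 700 = true := by decide +kernel
theorem pc13 : table.relOK chkPaths 1157100 700 = true := by decide +kernel
theorem pc14 : table.relOK chkPaths 1157800 700 = true := by decide +kernel
theorem pc15 : table.relOK chkPaths 1158500 700 = true := by decide +kernel
theorem pc16 : table.relOK chkPaths 1159200 700 = true := by decide +kernel
theorem pc17 : table.relOK chkPaths 1159900 700 = true := by decide +kernel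
theorem pc18 : table.relOK chkPaths 1160600 700 = true := by decide +kernel
theorem pc19 : table.relOK chkPaths 1161300 700 = true := by decide +kernel
theorem pc20 : table.relOK chkPaths 1162000 700 = true := by decide +kernel
theorem pc21 : table.relOK chkPaths 1162700 700 = true := by decide +kernel
theorem pc22 : table.relOK chkPaths 1163400 700 = true := by decide +kernel
theorem pc23 : table.relOK chkPaths 1164100 700 = true := by decide +kernel
theorem pc24 : table.relOK chkPaths 1164800 700 = true := by decide +kernel
theorem pc25 : table.relOK chkPaths 1165500 700 = true := by decide +kernel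
theorem pc26 : table.relOK chkPaths 1166200 700 = true := by decide +kernel
theorem pc27 : table.relOK chkPaths 1166900 700 = true := by decide +kernel
theorem pc28 : table.relOK chkPaths 1167600 700 = true := by decide +kernel
theorem pc29 : table.relOK chkPaths 1168300 700 = true := by decide +kernel
theorem pc30 : table.relOK chkPaths 1169000 700 = true := by decide +kernel
theorem pc31 : table.relOK chkPaths 1169700 700 = true := by decide +kernel
theorem pc32 : table.relOK chkPaths 1170400 700 = true := by decide +kernel
theorem pc33 : table.relOK chkPaths 1171100 700 = true := by decide +kernel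
theorem pc34 : table.relOK chkPaths 1171800 700 = true := by decide +kernel
theorem pc35 : table.relOK chkPaths 1172500 700 = true := by decide +kernel
theorem pc36 : table.relOK chkPaths 1173200 700 = true := by decide +kernel
theorem pc37 : table.relOK chkPaths 1173900 700 = true := by decide +kernel
theorem pc38 : table.relOK chkPaths 1174600 700 = true := by decide +kernel
theorem pc39 : table.relOK chkPaths 1175300 700 = true := by decide +kernel

theorem range : ∀ p, 1148000 ≤ p → p < 1176000 → ∀ r ∈ chkPaths, table.walkT r p = p := by
  intro p h1 h2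
  rcases Nat.lt_or_ge p 1148700 with h | h
  · exact (Table.relOK_iff chkPaths 1148000 700).mp pc0 p (by omega) (by omega)
  rcases Nat.lt_or_ge p 1149400 with h | h
  · exact (Table.relOK_iff chkPaths 1148700 700).mp pc1 p (by omega) (by omega)
  rcases Nat.lt_or_ge p 1150100 with h | h
  · exact (Table.relOK_iff chkPaths 1149400 700).mp pc2 p (by omega) (by omega)
  rcases Nat.lt_or_ge p 1150800 with h | h
  · exact (Table.relOK_iff chkPaths 1150100 700).mp pc3 p (by omega) (by omega)
  rcases Nat.lt_or_ge p 1151500 with h | h
  · exact (Table.relOK_iff chkPaths 1150800 700).mp pc4 p (by omega) (by omega)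
  rcases Nat.lt_or_ge p 1152200 with h | h
  · exact (Table.relOK_iff chkPaths 1151500 700).mp pc5 p (by omega) (by omega)
  rcases Nat.lt_or_ge p 1152900 with h | h
  · exact (Table.relOK_iff chkPaths 1152200 700).mp pc6 p (by omega) (by omega)
  rcases Nat.lt_or_ge p 1153600 with h | h
  · exact (Table.relOK_iff chkPaths 1152900 700).mp pc7 p (by omega) (by omega)
  rcases Nat.lt_or_ge p 1154300 with h | h
  · exact (Table.relOK_iff chkPaths 1153600 700).mp pc8 p (by omega) (by omega)
  rcases Nat.lt_or_ge p 1155000 with h | h
  · exact (Table.relOK_iff chkPaths 1154300 700).mp pc9 p (by omega) (by omega)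
  rcases Nat.lt_or_ge p 1155700 with h | h
  · exact (Table.relOK_iff chkPaths 1155000 700).mp pc10 p (by omega) (by omega)
  rcases Nat.lt_or_ge p 1156400 with h | h
  · exact (Table.relOK_iff chkPaths 1155700 700).mp pc11 p (by omega) (by omega)
  rcases Nat.lt_or_ge p 1157100 with h | h
  · exact (Table.relOK_iff chkPaths 1156400 700).mp pc12 p (by omega) (by omega)
  rcases Nat.lt_or_ge p 1157800 with h | h
  · exact (Table.relOK_iff chkPaths 1157100 700).mp pc13 p (by omega) (by omega)
  rcases Nat.lt_or_ge p 1158500 with h | h
  · exact (Table.relOK_iff chkPaths 1157800 700).mp pc14 p (by omega) (by omega)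
  rcases Nat.lt_or_ge p 1159200 with h | h
  · exact (Table.relOK_iff chkPaths 1158500 700).mp pc15 p (by omega) (by omega)
  rcases Nat.lt_or_ge p 1159900 with h | h
  · exact (Table.relOK_iff chkPaths 1159200 700).mp pc16 p (by omega) (by omega)
  rcases Nat.lt_or_ge p 1160600 with h | h
  · exact (Table.relOK_iff chkPaths 1159900 700).mp pc17 p (by omega) (by omega)
  rcases Nat.lt_or_ge p 1161300 with h | h
  · exact (Table.relOK_iff chkPaths 1160600 700).mp pc18 p (by omega) (by omega)
  rcases Nat.lt_or_ge p 1162000 with h | h
  · exact (Table.relOK_iff chkPaths 1161300 700).mp pc19 p (by omega) (by omega)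
  rcases Nat.lt_or_ge p 1162700 with h | h
  · exact (Table.relOK_iff chkPaths 1162000 700).mp pc20 p (by omega) (by omega)
  rcases Nat.lt_or_ge p 1163400 with h | h
  · exact (Table.relOK_iff chkPaths 1162700 700).mp pc21 p (by omega) (by omega)
  rcases Nat.lt_or_ge p 1164100 with h | h
  · exact (Table.relOK_iff chkPaths 1163400 700).mp pc22 p (by omega) (by omega)
  rcases Nat.lt_or_ge p 1164800 with h | h
  · exact (Table.relOK_iff chkPaths 1164100 700).mp pc23 p (by omega) (by omega)
  rcases Nat.lt_or_ge p 1165500 with h | h
  · exact (Table.relOK_iff chkPaths 1164800 700).mp pc24 p (by omega) (by omega)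
  rcases Nat.lt_or_ge p 1166200 with h | h
  · exact (Table.relOK_iff chkPaths 1165500 700).mp pc25 p (by omega) (by omega)
  rcases Nat.lt_or_ge p 1166900 with h | h
  · exact (Table.relOK_iff chkPaths 1166200 700).mp pc26 p (by omega) (by omega)
  rcases Nat.lt_or_ge p 1167600 with h | h
  · exact (Table.relOK_iff chkPaths 1166900 700).mp pc27 p (by omega) (by omega)
  rcases Nat.lt_or_ge p 1168300 with h | h
  · exact (Table.relOK_iff chkPaths 1167600 700).mp pc28 p (by omega) (by omega)
  rcases Nat.lt_or_ge p 1169000 with h | h
  · exact (Table.relOK_iff chkPaths 1168300 700).mp pc29 p (by omega) (by omega)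
  rcases Nat.lt_or_ge p 1169700 with h | h
  · exact (Table.relOK_iff chkPaths 1169000 700).mp pc30 p (by omega) (by omega)
  rcases Nat.lt_or_ge p 1170400 with h | h
  · exact (Table.relOK_iff chkPaths 1169700 700).mp pc31 p (by omega) (by omega)
  rcases Nat.lt_or_ge p 1171100 with h | h
  · exact (Table.relOK_iff chkPaths 1170400 700).mp pc32 p (by omega) (by omega)
  rcases Nat.lt_or_ge p 1171800 with h | h
  · exact (Table.relOK_iff chkPaths 1171100 700).mp pc33 p (by omega) (by omega)
  rcases Nat.lt_or_ge p 1172500 with h | h
  · exact (Table.relOK_iff chkPaths 1171800 700).mp pc34 p (by omega) (by omega)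
  rcases Nat.lt_or_ge p 1173200 with h | h
  · exact (Table.relOK_iff chkPaths 1172500 700).mp pc35 p (by omega) (by omega)
  rcases Nat.lt_or_ge p 1173900 with h | h
  · exact (Table.relOK_iff chkPaths 1173200 700).mp pc36 p (by omega) (by omega)
  rcases Nat.lt_or_ge p 1174600 with h | h
  · exact (Table.relOK_iff chkPaths 1173900 700).mp pc37 p (by omega) (by omega)
  rcases Nat.lt_or_ge p 1175300 with h | h
  · exact (Table.relOK_iff chkPaths 1174600 700).mp pc38 p (by omega) (by omega)
  exact (Table.relOK_iff chkPaths 1175300 700).mp pc39 p (by omega) (by omega)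

end Cfsg.Agent.Lib.Helper16.HNP.C46
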