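import Cfsg.Agent.Lib.Helper28.TC2Range
import Cfsg.Agent.Lib.Helper16.HNP.Table
import Cfsg.Agent.Lib.Helper16.HNP.C37
set_option autoImplicit false
set_option maxRecDepth 100000
set_option maxHeartbeats 0
set_option Elab.async false

namespace Cfsg.Agent.Lib.Helper16.HNP.C47
open Cfsg.Agent.Lib.Helper28.TC2Upper Cfsg.Agent.Lib.Helper28.TC2Lower Cfsg.Agent.Lib.Helper28.TC2Range Cfsg.Agent.Lib.Helper16.HNP.Table

theorem pc0 : table.relOK chkPaths 1176000 700 = true := by decide +kernel
theorem pc1 : table.relOK chkPaths 1176700 700 = true := by decide +kernel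
theorem pc2 : table.relOK chkPaths 1177400 700 = true := by decide +kernel
theorem pc3 : table.relOK chkPaths 1178100 700 = true := by decide +kernel
theorem pc4 : table.relOK chkPaths 1178800 700 = true := by decide +kernel
theorem pc5 : table.relOK chkPaths 1179500 700 = true := by decide +kernel
theorem pc6 : table.relOK chkPaths 1180200 700 = true := by decide +kernel
theorem pc7 : table.relOK chkPaths 1180900 700 = true := by decide +kernel
theorem pc8 : table.relOK chkPaths 1181600 700 = true := by decide +kernel
theorem pc9 : table.relOK chkPaths 1182300 700 = true := by decide +kernel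
theorem pc10 : table.relOK chkPaths 1183000 700 = true := by decide +kernel
theorem pc11 : table.relOK chkPaths 1183700 700 = true := by decide +kernel
theorem pc12 : table.relOK chkPaths 1184400 700 = true := by decide +kernel
theorem pc13 : table.relOK chkPaths 1185100 700 = true := by decide +kernel
theorem pc14 : table.relOK chkPaths 1185800 700 = true := by decide +kernel
theorem pc15 : table.relOK chkPaths 1186500 700 = true := by decide +kernel
theorem pc16 : table.relOK chkPaths 1187200 700 = true := by decide +kernel
theorem pc17 : table.relOK chkPaths 1187900 700 = true := by decide +kernel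
theorem pc18 : table.relOK chkPaths 1188600 700 = true := by decide +kernel
theorem pc19 : table.relOK chkPaths 1189300 700 = true := by decide +kernel
theorem pc20 : table.relOK chkPaths 1190000 700 = true := by decide +kernel
theorem pc21 : table.relOK chkPaths 1190700 700 = true := by decide +kernel
theorem pc22 : table.relOK chkPaths 1191400 700 = true := by decide +kernel
theorem pc23 : table.relOK chkPaths 1192100 700 = true := by decide +kernel
theorem pc24 : table.relOK chkPaths 1192800 700 = true := by decide +kernel
theorem pc25 : table.relOK chkPaths 1193500 700 = true := by decide +kernel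
theorem pc26 : table.relOK chkPaths 1194200 700 = true := by decide +kernel
theorem pc27 : table.relOK chkPaths 1194900 700 = true := by decide +kernel
theorem pc28 : table.relOK chkPaths 1195600 700 = true := by decide +kernel
theorem pc29 : table.relOK chkPaths 1196300 700 = true := by decide +kernel
theorem pc30 : table.relOK chkPaths 1197000 700 = true := by decide +kernel
theorem pc31 : table.relOK chkPaths 1197700 700 = true := by decide +kernel
theorem pc32 : table.relOK chkPaths 1198400 700 = true := by decide +kernel
theorem pc33 : table.relOK chkPaths 1199100 700 = true := by decide +kernel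
theorem pc34 : table.relOK chkPaths 1199800 700 = true := by decide +kernel
theorem pc35 : table.relOK chkPaths 1200500 700 = true := by decide +kernel
theorem pc36 : table.relOK chkPaths 1201200 700 = true := by decide +kernel
theorem pc37 : table.relOK chkPaths 1201900 700 = true := by decide +kernel
theorem pc38 : table.relOK chkPaths 1202600 700 = true := by decide +kernel
theorem pc39 : table.relOK chkPaths 1203300 700 = true := by decide +kernel

theorem range : ∀ p, 1176000 ≤ p → p < 1204000 → ∀ r ∈ chkPaths, table.walkT r p = p := by
  intro p h1 h2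
  rcases Nat.lt_or_ge p 1176700 with h | h
  · exact (Table.relOK_iff chkPaths 1176000 700).mp pc0 p (by omega) (by omega)
  rcases Nat.lt_or_ge p 1177400 with h | h
  · exact (Table.relOK_iff chkPaths 1176700 700).mp pc1 p (by omega) (by omega)
  rcases Nat.lt_or_ge p 1178100 with h | h
  · exact (Table.relOK_iff chkPaths 1177400 700).mp pc2 p (by omega) (by omega)
  rcases Nat.lt_or_ge p 1178800 with h | h
  · exact (Table.relOK_iff chkPaths 1178100 700).mp pc3 p (by omega) (by omega)
  rcases Nat.lt_or_ge p 1179500 with h | h
  · exact (Table.relOK_iff chkPaths 1178800 700).mp pc4 p (by omega) (by omega)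
  rcases Nat.lt_or_ge p 1180200 with h | h
  · exact (Table.relOK_iff chkPaths 1179500 700).mp pc5 p (by omega) (by omega)
  rcases Nat.lt_or_ge p 1180900 with h | h
  · exact (Table.relOK_iff chkPaths 1180200 700).mp pc6 p (by omega) (by omega)
  rcases Nat.lt_or_ge p 1181600 with h | h
  · exact (Table.relOK_iff chkPaths 1180900 700).mp pc7 p (by omega) (by omega)
  rcases Nat.lt_or_ge p 1182300 with h | h
  · exact (Table.relOK_iff chkPaths 1181600 700).mp pc8 p (by omega) (by omega)
  rcases Nat.lt_or_ge p 1183000 with h | h
  · exact (Table.relOK_iff chkPaths 1182300 700).mp pc9 p (by omega) (by omega)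
  rcases Nat.lt_or_ge p 1183700 with h | h
  · exact (Table.relOK_iff chkPaths 1183000 700).mp pc10 p (by omega) (by omega)
  rcases Nat.lt_or_ge p 1184400 with h | h
  · exact (Table.relOK_iff chkPaths 1183700 700).mp pc11 p (by omega) (by omega)
  rcases Nat.lt_or_ge p 1185100 with h | h
  · exact (Table.relOK_iff chkPaths 1184400 700).mp pc12 p (by omega) (by omega)
  rcases Nat.lt_or_ge p 1185800 with h | h
  · exact (Table.relOK_iff chkPaths 1185100 700).mp pc13 p (by omega) (by omega)
  rcases Nat.lt_or_ge p 1186500 with h | h
  · exact (Table.relOK_iff chkPaths 1185800 700).mp pc14 p (by omega) (by omega)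
  rcases Nat.lt_or_ge p 1187200 with h | h
  · exact (Table.relOK_iff chkPaths 1186500 700).mp pc15 p (by omega) (by omega)
  rcases Nat.lt_or_ge p 1187900 with h | h
  · exact (Table.relOK_iff chkPaths 1187200 700).mp pc16 p (by omega) (by omega)
  rcases Nat.lt_or_ge p 1188600 with h | h
  · exact (Table.relOK_iff chkPaths 1187900 700).mp pc17 p (by omega) (by omega)
  rcases Nat.lt_or_ge p 1189300 with h | h
  · exact (Table.relOK_iff chkPaths 1188600 700).mp pc18 p (by omega) (by omega)
  rcases Nat.lt_or_ge p 1190000 with h | h
  · exact (Table.relOK_iff chkPaths 1189300 700).mp pc19 p (by omega) (by omega)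
  rcases Nat.lt_or_ge p 1190700 with h | h
  · exact (Table.relOK_iff chkPaths 1190000 700).mp pc20 p (by omega) (by omega)
  rcases Nat.lt_or_ge p 1191400 with h | h
  · exact (Table.relOK_iff chkPaths 1190700 700).mp pc21 p (by omega) (by omega)
  rcases Nat.lt_or_ge p 1192100 with h | h
  · exact (Table.relOK_iff chkPaths 1191400 700).mp pc22 p (by omega) (by omega)
  rcases Nat.lt_or_ge p 1192800 with h | h
  · exact (Table.relOK_iff chkPaths 1192100 700).mp pc23 p (by omega) (by omega)
  rcases Nat.lt_or_ge p 1193500 with h | h
  · exact (Table.relOK_iff chkPaths 1192800 700).mp pc24 p (by omega) (by omega)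
  rcases Nat.lt_or_ge p 1194200 with h | h
  · exact (Table.relOK_iff chkPaths 1193500 700).mp pc25 p (by omega) (by omega)
  rcases Nat.lt_or_ge p 1194900 with h | h
  · exact (Table.relOK_iff chkPaths 1194200 700).mp pc26 p (by omega) (by omega)
  rcases Nat.lt_or_ge p 1195600 with h | h
  · exact (Table.relOK_iff chkPaths 1194900 700).mp pc27 p (by omega) (by omega)
  rcases Nat.lt_or_ge p 1196300 with h | h
  · exact (Table.relOK_iff chkPaths 1195600 700).mp pc28 p (by omega) (by omega)
  rcases Nat.lt_or_ge p 1197000 with h | h
  · exact (Table.relOK_iff chkPaths 1196300 700).mp pc29 p (by omega) (by omega)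
  rcases Nat.lt_or_ge p 1197700 with h | h
  · exact (Table.relOK_iff chkPaths 1197000 700).mp pc30 p (by omega) (by omega)
  rcases Nat.lt_or_ge p 1198400 with h | h
  · exact (Table.relOK_iff chkPaths 1197700 700).mp pc31 p (by omega) (by omega)
  rcases Nat.lt_or_ge p 1199100 with h | h
  · exact (Table.relOK_iff chkPaths 1198400 700).mp pc32 p (by omega) (by omega)
  rcases Nat.lt_or_ge p 1199800 with h | h
  · exact (Table.relOK_iff chkPaths 1199100 700).mp pc33 p (by omega) (by omega)
  rcases Nat.lt_or_ge p 1200500 with h | h
  · exact (Table.relOK_iff chkPaths 1199800 700).mp pc34 p (by omega) (by omega)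
  rcases Nat.lt_or_ge p 1201200 with h | h
  · exact (Table.relOK_iff chkPaths 1200500 700).mp pc35 p (by omega) (by omega)
  rcases Nat.lt_or_ge p 1201900 with h | h
  · exact (Table.relOK_iff chkPaths 1201200 700).mp pc36 p (by omega) (by omega)
  rcases Nat.lt_or_ge p 1202600 with h | h
  · exact (Table.relOK_iff chkPaths 1201900 700).mp pc37 p (by omega) (by omega)
  rcases Nat.lt_or_ge p 1203300 with h | h
  · exact (Table.relOK_iff chkPaths 1202600 700).mp pc38 p (by omega) (by omega)
  exact (Table.relOK_iff chkPaths 1203300 700).mp pc39 p (by omega) (by omega)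

end Cfsg.Agent.Lib.Helper16.HNP.C47
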