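import Cfsg.Agent.Lib.Helper28.TC2Range
import Cfsg.Agent.Lib.Helper16.HNP.Table
import Cfsg.Agent.Lib.Helper16.HNP.C39
set_option autoImplicit false
set_option maxRecDepth 100000
set_option maxHeartbeats 0
set_option Elab.async false

namespace Cfsg.Agent.Lib.Helper16.HNP.C49
open Cfsg.Agent.Lib.Helper28.TC2Upper Cfsg.Agent.Lib.Helper28.TC2Lower Cfsg.Agent.Lib.Helper28.TC2Range Cfsg.Agent.Lib.Helper16.HNP.Table

theorem pc0 : table.relOK chkPaths 1232000 700 = true := by decide +kernel
theorem pc1 : table.relOK chkPaths 1232700 700 = true := by decide +kernel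
theorem pc2 : table.relOK chkPaths 1233400 700 = true := by decide +kernel
theorem pc3 : table.relOK chkPaths 1234100 700 = true := by decide +kernel
theorem pc4 : table.relOK chkPaths 1234800 700 = true := by decide +kernel
theorem pc5 : table.relOK chkPaths 1235500 700 = true := by decide +kernel
theorem pc6 : table.relOK chkPaths 1236200 700 = true := by decide +kernel
theorem pc7 : table.relOK chkPaths 1236900 700 = true := by decide +kernel
theorem pc8 : table.relOK chkPaths 1237600 700 = true := by decide +kernel
theorem pc9 : table.relOK chkPaths 1238300 700 = true := by decide +kernel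
theorem pc10 : table.relOK chkPaths 1239000 700 = true := by decide +kernel
theorem pc11 : table.relOK chkPaths 1239700 700 = true := by decide +kernel
theorem pc12 : table.relOK chkPaths 1240400 700 = true := by decide +kernel
theorem pc13 : table.relOK chkPaths 1241100 700 = true := by decide +kernel
theorem pc14 : table.relOK chkPaths 1241800 700 = true := by decide +kernel
theorem pc15 : table.relOK chkPaths 1242500 700 = true := by decide +kernel
theorem pc16 : table.relOK chkPaths 1243200 700 = true := by decide +kernel
theorem pc17 : table.relOK chkPaths 1243900 700 = true := by decide +kernel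
theorem pc18 : table.relOK chkPaths 1244600 700 = true := by decide +kernel
theorem pc19 : table.relOK chkPaths 1245300 700 = true := by decide +kernel
theorem pc20 : table.relOK chkPaths 1246000 700 = true := by decide +kernel
theorem pc21 : table.relOK chkPaths 1246700 700 = true := by decide +kernel
theorem pc22 : table.relOK chkPaths 1247400 700 = true := by decide +kernel
theorem pc23 : table.relOK chkPaths 1248100 700 = true := by decide +kernel
theorem pc24 : table.relOK chkPaths 1248800 700 = true := by decide +kernel
theorem pc25 : table.relOK chkPaths 1249500 700 = true := by decide +kernel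
theorem pc26 : table.relOK chkPaths 1250200 700 = true := by decide +kernel
theorem pc27 : table.relOK chkPaths 1250900 700 = true := by decide +kernel
theorem pc28 : table.relOK chkPaths 1251600 700 = true := by decide +kernel
theorem pc29 : table.relOK chkPaths 1252300 700 = true := by decide +kernel
theorem pc30 : table.relOK chkPaths 1253000 700 = true := by decide +kernel
theorem pc31 : table.relOK chkPaths 1253700 700 = true := by decide +kernel
theorem pc32 : table.relOK chkPaths 1254400 700 = true := by decide +kernel
theorem pc33 : table.relOK chkPaths 1255100 700 = true := by decide +kernel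
theorem pc34 : table.relOK chkPaths 1255800 700 = true := by decide +kernel
theorem pc35 : table.relOK chkPaths 1256500 700 = true := by decide +kernel
theorem pc36 : table.relOK chkPaths 1257200 700 = true := by decide +kernel
theorem pc37 : table.relOK chkPaths 1257900 700 = true := by decide +kernel
theorem pc38 : table.relOK chkPaths 1258600 700 = true := by decide +kernel
theorem pc39 : table.relOK chkPaths 1259300 700 = true := by decide +kernel

theorem range : ∀ p, 1232000 ≤ p → p < 1260000 → ∀ r ∈ chkPaths, table.walkT r p = p := by
  intro p h1 h2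
  rcases Nat.lt_or_ge p 1232700 with h | h
  · exact (Table.relOK_iff chkPaths 1232000 700).mp pc0 p (by omega) (by omega)
  rcases Nat.lt_or_ge p 1233400 with h | h
  · exact (Table.relOK_iff chkPaths 1232700 700).mp pc1 p (by omega) (by omega)
  rcases Nat.lt_or_ge p 1234100 with h | h
  · exact (Table.relOK_iff chkPaths 1233400 700).mp pc2 p (by omega) (by omega)
  rcases Nat.lt_or_ge p 1234800 with h | h
  · exact (Table.relOK_iff chkPaths 1234100 700).mp pc3 p (by omega) (by omega)
  rcases Nat.lt_or_ge p 1235500 with h | h
  · exact (Table.relOK_iff chkPaths 1234800 700).mp pc4 p (by omega) (by omega)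
  rcases Nat.lt_or_ge p 1236200 with h | h
  · exact (Table.relOK_iff chkPaths 1235500 700).mp pc5 p (by omega) (by omega)
  rcases Nat.lt_or_ge p 1236900 with h | h
  · exact (Table.relOK_iff chkPaths 1236200 700).mp pc6 p (by omega) (by omega)
  rcases Nat.lt_or_ge p 1237600 with h | h
  · exact (Table.relOK_iff chkPaths 1236900 700).mp pc7 p (by omega) (by omega)
  rcases Nat.lt_or_ge p 1238300 with h | h
  · exact (Table.relOK_iff chkPaths 1237600 700).mp pc8 p (by omega) (by omega)
  rcases Nat.lt_or_ge p 1239000 with h | h
  · exact (Table.relOK_iff chkPaths 1238300 700).mp pc9 p (by omega) (by omega)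
  rcases Nat.lt_or_ge p 1239700 with h | h
  · exact (Table.relOK_iff chkPaths 1239000 700).mp pc10 p (by omega) (by omega)
  rcases Nat.lt_or_ge p 1240400 with h | h
  · exact (Table.relOK_iff chkPaths 1239700 700).mp pc11 p (by omega) (by omega)
  rcases Nat.lt_or_ge p 1241100 with h | h
  · exact (Table.relOK_iff chkPaths 1240400 700).mp pc12 p (by omega) (by omega)
  rcases Nat.lt_or_ge p 1241800 with h | h
  · exact (Table.relOK_iff chkPaths 1241100 700).mp pc13 p (by omega) (by omega)
  rcases Nat.lt_or_ge p 1242500 with h | h
  · exact (Table.relOK_iff chkPaths 1241800 700).mp pc14 p (by omega) (by omega)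
  rcases Nat.lt_or_ge p 1243200 with h | h
  · exact (Table.relOK_iff chkPaths 1242500 700).mp pc15 p (by omega) (by omega)
  rcases Nat.lt_or_ge p 1243900 with h | h
  · exact (Table.relOK_iff chkPaths 1243200 700).mp pc16 p (by omega) (by omega)
  rcases Nat.lt_or_ge p 1244600 with h | h
  · exact (Table.relOK_iff chkPaths 1243900 700).mp pc17 p (by omega) (by omega)
  rcases Nat.lt_or_ge p 1245300 with h | h
  · exact (Table.relOK_iff chkPaths 1244600 700).mp pc18 p (by omega) (by omega)
  rcases Nat.lt_or_ge p 1246000 with h | h
  · exact (Table.relOK_iff chkPaths 1245300 700).mp pc19 p (by omega) (by omega)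
  rcases Nat.lt_or_ge p 1246700 with h | h
  · exact (Table.relOK_iff chkPaths 1246000 700).mp pc20 p (by omega) (by omega)
  rcases Nat.lt_or_ge p 1247400 with h | h
  · exact (Table.relOK_iff chkPaths 1246700 700).mp pc21 p (by omega) (by omega)
  rcases Nat.lt_or_ge p 1248100 with h | h
  · exact (Table.relOK_iff chkPaths 1247400 700).mp pc22 p (by omega) (by omega)
  rcases Nat.lt_or_ge p 1248800 with h | h
  · exact (Table.relOK_iff chkPaths 1248100 700).mp pc23 p (by omega) (by omega)
  rcases Nat.lt_or_ge p 1249500 with h | h
  · exact (Table.relOK_iff chkPaths 1248800 700).mp pc24 p (by omega) (by omega)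
  rcases Nat.lt_or_ge p 1250200 with h | h
  · exact (Table.relOK_iff chkPaths 1249500 700).mp pc25 p (by omega) (by omega)
  rcases Nat.lt_or_ge p 1250900 with h | h
  · exact (Table.relOK_iff chkPaths 1250200 700).mp pc26 p (by omega) (by omega)
  rcases Nat.lt_or_ge p 1251600 with h | h
  · exact (Table.relOK_iff chkPaths 1250900 700).mp pc27 p (by omega) (by omega)
  rcases Nat.lt_or_ge p 1252300 with h | h
  · exact (Table.relOK_iff chkPaths 1251600 700).mp pc28 p (by omega) (by omega)
  rcases Nat.lt_or_ge p 1253000 with h | h
  · exact (Table.relOK_iff chkPaths 1252300 700).mp pc29 p (by omega) (by omega)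
  rcases Nat.lt_or_ge p 1253700 with h | h
  · exact (Table.relOK_iff chkPaths 1253000 700).mp pc30 p (by omega) (by omega)
  rcases Nat.lt_or_ge p 1254400 with h | h
  · exact (Table.relOK_iff chkPaths 1253700 700).mp pc31 p (by omega) (by omega)
  rcases Nat.lt_or_ge p 1255100 with h | h
  · exact (Table.relOK_iff chkPaths 1254400 700).mp pc32 p (by omega) (by omega)
  rcases Nat.lt_or_ge p 1255800 with h | h
  · exact (Table.relOK_iff chkPaths 1255100 700).mp pc33 p (by omega) (by omega)
  rcases Nat.lt_or_ge p 1256500 with h | h
  · exact (Table.relOK_iff chkPaths 1255800 700).mp pc34 p (by omega) (by omega)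
  rcases Nat.lt_or_ge p 1257200 with h | h
  · exact (Table.relOK_iff chkPaths 1256500 700).mp pc35 p (by omega) (by omega)
  rcases Nat.lt_or_ge p 1257900 with h | h
  · exact (Table.relOK_iff chkPaths 1257200 700).mp pc36 p (by omega) (by omega)
  rcases Nat.lt_or_ge p 1258600 with h | h
  · exact (Table.relOK_iff chkPaths 1257900 700).mp pc37 p (by omega) (by omega)
  rcases Nat.lt_or_ge p 1259300 with h | h
  · exact (Table.relOK_iff chkPaths 1258600 700).mp pc38 p (by omega) (by omega)
  exact (Table.relOK_iff chkPaths 1259300 700).mp pc39 p (by omega) (by omega)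

end Cfsg.Agent.Lib.Helper16.HNP.C49
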