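import Cfsg.Agent.Lib.Helper28.TC2Range
import Cfsg.Agent.Lib.Helper16.HNP.Table
import Cfsg.Agent.Lib.Helper16.HNP.C40
set_option autoImplicit false
set_option maxRecDepth 100000
set_option maxHeartbeats 0
set_option Elab.async false

namespace Cfsg.Agent.Lib.Helper16.HNP.C50
open Cfsg.Agent.Lib.Helper28.TC2Upper Cfsg.Agent.Lib.Helper28.TC2Lower Cfsg.Agent.Lib.Helper28.TC2Range Cfsg.Agent.Lib.Helper16.HNP.Table

theorem pc0 : table.relOK chkPaths 1260000 700 = true := by decide +kernel
theorem pc1 : table.relOK chkPaths 1260700 700 = true := by decide +kernel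
theorem pc2 : table.relOK chkPaths 1261400 700 = true := by decide +kernel
theorem pc3 : table.relOK chkPaths 1262100 700 = true := by decide +kernel
theorem pc4 : table.relOK chkPaths 1262800 700 = true := by decide +kernel
theorem pc5 : table.relOK chkPaths 1263500 700 = true := by decide +kernel
theorem pc6 : table.relOK chkPaths 1264200 700 = true := by decide +kernel
theorem pc7 : table.relOK chkPaths 1264900 700 = true := by decide +kernel
theorem pc8 : table.relOK chkPaths 1265600 700 = true := by decide +kernel
theorem pc9 : table.relOK chkPaths 1266300 700 = true := by decide +kernel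
theorem pc10 : table.relOK chkPaths 1267000 700 = true := by decide +kernel
theorem pc11 : table.relOK chkPaths 1267700 700 = true := by decide +kernel
theorem pc12 : table.relOK chkPaths 1268400 700 = true := by decide +kernel
theorem pc13 : table.relOK chkPaths 1269100 700 = true := by decide +kernel
theorem pc14 : table.relOK chkPaths 1269800 700 = true := by decide +kernel
theorem pc15 : table.relOK chkPaths 1270500 700 = true := by decide +kernel
theorem pc16 : table.relOK chkPaths 1271200 700 = true := by decide +kernel
theorem pc17 : table.relOK chkPaths 1271900 700 = true := by decide +kernel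
theorem pc18 : table.relOK chkPaths 1272600 700 = true := by decide +kernel
theorem pc19 : table.relOK chkPaths 1273300 700 = true := by decide +kernel
theorem pc20 : table.relOK chkPaths 1274000 700 = true := by decide +kernel
theorem pc21 : table.relOK chkPaths 1274700 700 = true := by decide +kernel
theorem pc22 : table.relOK chkPaths 1275400 700 = true := by decide +kernel
theorem pc23 : table.relOK chkPaths 1276100 700 = true := by decide +kernel
theorem pc24 : table.relOK chkPaths 1276800 700 = true := by decide +kernel
theorem pc25 : table.relOK chkPaths 1277500 700 = true := by decide +kernel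
theorem pc26 : table.relOK chkPaths 1278200 700 = true := by decide +kernel
theorem pc27 : table.relOK chkPaths 1278900 700 = true := by decide +kernel
theorem pc28 : table.relOK chkPaths 1279600 700 = true := by decide +kernel
theorem pc29 : table.relOK chkPaths 1280300 700 = true := by decide +kernel
theorem pc30 : table.relOK chkPaths 1281000 700 = true := by decide +kernel
theorem pc31 : table.relOK chkPaths 1281700 700 = true := by decide +kernel
theorem pc32 : table.relOK chkPaths 1282400 700 = true := by decide +kernel
theorem pc33 : table.relOK chkPaths 1283100 700 = true := by decide +kernel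
theorem pc34 : table.relOK chkPaths 1283800 700 = true := by decide +kernel
theorem pc35 : table.relOK chkPaths 1284500 700 = true := by decide +kernel
theorem pc36 : table.relOK chkPaths 1285200 700 = true := by decide +kernel
theorem pc37 : table.relOK chkPaths 1285900 700 = true := by decide +kernel
theorem pc38 : table.relOK chkPaths 1286600 700 = true := by decide +kernel
theorem pc39 : table.relOK chkPaths 1287300 700 = true := by decide +kernel

theorem range : ∀ p, 1260000 ≤ p → p < 1288000 → ∀ r ∈ chkPaths, table.walkT r p = p := by
  intro p h1 h2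
  rcases Nat.lt_or_ge p 1260700 with h | h
  · exact (Table.relOK_iff chkPaths 1260000 700).mp pc0 p (by omega) (by omega)
  rcases Nat.lt_or_ge p 1261400 with h | h
  · exact (Table.relOK_iff chkPaths 1260700 700).mp pc1 p (by omega) (by omega)
  rcases Nat.lt_or_ge p 1262100 with h | h
  · exact (Table.relOK_iff chkPaths 1261400 700).mp pc2 p (by omega) (by omega)
  rcases Nat.lt_or_ge p 1262800 with h | h
  · exact (Table.relOK_iff chkPaths 1262100 700).mp pc3 p (by omega) (by omega)
  rcases Nat.lt_or_ge p 1263500 with h | h
  · exact (Table.relOK_iff chkPaths 1262800 700).mp pc4 p (by omega) (by omega)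
  rcases Nat.lt_or_ge p 1264200 with h | h
  · exact (Table.relOK_iff chkPaths 1263500 700).mp pc5 p (by omega) (by omega)
  rcases Nat.lt_or_ge p 1264900 with h | h
  · exact (Table.relOK_iff chkPaths 1264200 700).mp pc6 p (by omega) (by omega)
  rcases Nat.lt_or_ge p 1265600 with h | h
  · exact (Table.relOK_iff chkPaths 1264900 700).mp pc7 p (by omega) (by omega)
  rcases Nat.lt_or_ge p 1266300 with h | h
  · exact (Table.relOK_iff chkPaths 1265600 700).mp pc8 p (by omega) (by omega)
  rcases Nat.lt_or_ge p 1267000 with h | h
  · exact (Table.relOK_iff chkPaths 1266300 700).mp pc9 p (by omega) (by omega)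
  rcases Nat.lt_or_ge p 1267700 with h | h
  · exact (Table.relOK_iff chkPaths 1267000 700).mp pc10 p (by omega) (by omega)
  rcases Nat.lt_or_ge p 1268400 with h | h
  · exact (Table.relOK_iff chkPaths 1267700 700).mp pc11 p (by omega) (by omega)
  rcases Nat.lt_or_ge p 1269100 with h | h
  · exact (Table.relOK_iff chkPaths 1268400 700).mp pc12 p (by omega) (by omega)
  rcases Nat.lt_or_ge p 1269800 with h | h
  · exact (Table.relOK_iff chkPaths 1269100 700).mp pc13 p (by omega) (by omega)
  rcases Nat.lt_or_ge p 1270500 with h | h
  · exact (Table.relOK_iff chkPaths 1269800 700).mp pc14 p (by omega) (by omega)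
  rcases Nat.lt_or_ge p 1271200 with h | h
  · exact (Table.relOK_iff chkPaths 1270500 700).mp pc15 p (by omega) (by omega)
  rcases Nat.lt_or_ge p 1271900 with h | h
  · exact (Table.relOK_iff chkPaths 1271200 700).mp pc16 p (by omega) (by omega)
  rcases Nat.lt_or_ge p 1272600 with h | h
  · exact (Table.relOK_iff chkPaths 1271900 700).mp pc17 p (by omega) (by omega)
  rcases Nat.lt_or_ge p 1273300 with h | h
  · exact (Table.relOK_iff chkPaths 1272600 700).mp pc18 p (by omega) (by omega)
  rcases Nat.lt_or_ge p 1274000 with h | h
  · exact (Table.relOK_iff chkPaths 1273300 700).mp pc19 p (by omega) (by omega)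
  rcases Nat.lt_or_ge p 1274700 with h | h
  · exact (Table.relOK_iff chkPaths 1274000 700).mp pc20 p (by omega) (by omega)
  rcases Nat.lt_or_ge p 1275400 with h | h
  · exact (Table.relOK_iff chkPaths 1274700 700).mp pc21 p (by omega) (by omega)
  rcases Nat.lt_or_ge p 1276100 with h | h
  · exact (Table.relOK_iff chkPaths 1275400 700).mp pc22 p (by omega) (by omega)
  rcases Nat.lt_or_ge p 1276800 with h | h
  · exact (Table.relOK_iff chkPaths 1276100 700).mp pc23 p (by omega) (by omega)
  rcases Nat.lt_or_ge p 1277500 with h | h
  · exact (Table.relOK_iff chkPaths 1276800 700).mp pc24 p (by omega) (by omega)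
  rcases Nat.lt_or_ge p 1278200 with h | h
  · exact (Table.relOK_iff chkPaths 1277500 700).mp pc25 p (by omega) (by omega)
  rcases Nat.lt_or_ge p 1278900 with h | h
  · exact (Table.relOK_iff chkPaths 1278200 700).mp pc26 p (by omega) (by omega)
  rcases Nat.lt_or_ge p 1279600 with h | h
  · exact (Table.relOK_iff chkPaths 1278900 700).mp pc27 p (by omega) (by omega)
  rcases Nat.lt_or_ge p 1280300 with h | h
  · exact (Table.relOK_iff chkPaths 1279600 700).mp pc28 p (by omega) (by omega)
  rcases Nat.lt_or_ge p 1281000 with h | h
  · exact (Table.relOK_iff chkPaths 1280300 700).mp pc29 p (by omega) (by omega)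
  rcases Nat.lt_or_ge p 1281700 with h | h
  · exact (Table.relOK_iff chkPaths 1281000 700).mp pc30 p (by omega) (by omega)
  rcases Nat.lt_or_ge p 1282400 with h | h
  · exact (Table.relOK_iff chkPaths 1281700 700).mp pc31 p (by omega) (by omega)
  rcases Nat.lt_or_ge p 1283100 with h | h
  · exact (Table.relOK_iff chkPaths 1282400 700).mp pc32 p (by omega) (by omega)
  rcases Nat.lt_or_ge p 1283800 with h | h
  · exact (Table.relOK_iff chkPaths 1283100 700).mp pc33 p (by omega) (by omega)
  rcases Nat.lt_or_ge p 1284500 with h | h
  · exact (Table.relOK_iff chkPaths 1283800 700).mp pc34 p (by omega) (by omega)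
  rcases Nat.lt_or_ge p 1285200 with h | h
  · exact (Table.relOK_iff chkPaths 1284500 700).mp pc35 p (by omega) (by omega)
  rcases Nat.lt_or_ge p 1285900 with h | h
  · exact (Table.relOK_iff chkPaths 1285200 700).mp pc36 p (by omega) (by omega)
  rcases Nat.lt_or_ge p 1286600 with h | h
  · exact (Table.relOK_iff chkPaths 1285900 700).mp pc37 p (by omega) (by omega)
  rcases Nat.lt_or_ge p 1287300 with h | h
  · exact (Table.relOK_iff chkPaths 1286600 700).mp pc38 p (by omega) (by omega)
  exact (Table.relOK_iff chkPaths 1287300 700).mp pc39 p (by omega) (by omega)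

end Cfsg.Agent.Lib.Helper16.HNP.C50
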