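import Cfsg.Agent.Lib.Helper28.TC2Range
import Cfsg.Agent.Lib.Helper16.HNP.Table
import Cfsg.Agent.Lib.Helper16.HNP.C41
set_option autoImplicit false
set_option maxRecDepth 100000
set_option maxHeartbeats 0
set_option Elab.async false

namespace Cfsg.Agent.Lib.Helper16.HNP.C51
open Cfsg.Agent.Lib.Helper28.TC2Upper Cfsg.Agent.Lib.Helper28.TC2Lower Cfsg.Agent.Lib.Helper28.TC2Range Cfsg.Agent.Lib.Helper16.HNP.Table

theorem pc0 : table.relOK chkPaths 1288000 700 = true := by decide +kernel
theorem pc1 : table.relOK chkPaths 1288700 700 = true := by decide +kernel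
theorem pc2 : table.relOK chkPaths 1289400 700 = true := by decide +kernel
theorem pc3 : table.relOK chkPaths 1290100 700 = true := by decide +kernel
theorem pc4 : table.relOK chkPaths 1290800 700 = true := by decide +kernel
theorem pc5 : table.relOK chkPaths 1291500 700 = true := by decide +kernel
theorem pc6 : table.relOK chkPaths 1292200 700 = true := by decide +kernel
theorem pc7 : table.relOK chkPaths 1292900 700 = true := by decide +kernel
theorem pc8 : table.relOK chkPaths 1293600 700 = true := by decide +kernel
theorem pc9 : table.relOK chkPaths 1294300 700 = true := by decide +kernel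
theorem pc10 : table.relOK chkPaths 1295000 700 = true := by decide +kernel
theorem pc11 : table.relOK chkPaths 1295700 700 = true := by decide +kernel
theorem pc12 : table.relOK chkPaths 1296400 700 = true := by decide +kernel
theorem pc13 : table.relOK chkPaths 1297100 700 = true := by decide +kernel
theorem pc14 : table.relOK chkPaths 1297800 700 = true := by decide +kernel
theorem pc15 : table.relOK chkPaths 1298500 700 = true := by decide +kernel
theorem pc16 : table.relOK chkPaths 1299200 700 = true := by decide +kernel
theorem pc17 : table.relOK chkPaths 1299900 700 = true := by decide +kernel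
theorem pc18 : table.relOK chkPaths 1300600 700 = true := by decide +kernel
theorem pc19 : table.relOK chkPaths 1301300 700 = true := by decide +kernel
theorem pc20 : table.relOK chkPaths 1302000 700 = true := by decide +kernel
theorem pc21 : table.relOK chkPaths 1302700 700 = true := by decide +kernel
theorem pc22 : table.relOK chkPaths 1303400 700 = true := by decide +kernel
theorem pc23 : table.relOK chkPaths 1304100 700 = true := by decide +kernel
theorem pc24 : table.relOK chkPaths 1304800 700 = true := by decide +kernel
theorem pc25 : table.relOK chkPaths 1305500 700 = true := by decide +kernel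
theorem pc26 : table.relOK chkPaths 1306200 700 = true := by decide +kernel
theorem pc27 : table.relOK chkPaths 1306900 700 = true := by decide +kernel
theorem pc28 : table.relOK chkPaths 1307600 700 = true := by decide +kernel
theorem pc29 : table.relOK chkPaths 1308300 700 = true := by decide +kernel
theorem pc30 : table.relOK chkPaths 1309000 700 = true := by decide +kernel
theorem pc31 : table.relOK chkPaths 1309700 700 = true := by decide +kernel
theorem pc32 : table.relOK chkPaths 1310400 700 = true := by decide +kernel
theorem pc33 : table.relOK chkPaths 1311100 700 = true := by decide +kernel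
theorem pc34 : table.relOK chkPaths 1311800 700 = true := by decide +kernel
theorem pc35 : table.relOK chkPaths 1312500 700 = true := by decide +kernel
theorem pc36 : table.relOK chkPaths 1313200 700 = true := by decide +kernel
theorem pc37 : table.relOK chkPaths 1313900 700 = true := by decide +kernel
theorem pc38 : table.relOK chkPaths 1314600 700 = true := by decide +kernel
theorem pc39 : table.relOK chkPaths 1315300 700 = true := by decide +kernel

theorem range : ∀ p, 1288000 ≤ p → p < 1316000 → ∀ r ∈ chkPaths, table.walkT r p = p := by
  intro p h1 h2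
  rcases Nat.lt_or_ge p 1288700 with h | h
  · exact (Table.relOK_iff chkPaths 1288000 700).mp pc0 p (by omega) (by omega)
  rcases Nat.lt_or_ge p 1289400 with h | h
  · exact (Table.relOK_iff chkPaths 1288700 700).mp pc1 p (by omega) (by omega)
  rcases Nat.lt_or_ge p 1290100 with h | h
  · exact (Table.relOK_iff chkPaths 1289400 700).mp pc2 p (by omega) (by omega)
  rcases Nat.lt_or_ge p 1290800 with h | h
  · exact (Table.relOK_iff chkPaths 1290100 700).mp pc3 p (by omega) (by omega)
  rcases Nat.lt_or_ge p 1291500 with h | h
  · exact (Table.relOK_iff chkPaths 1290800 700).mp pc4 p (by omega) (by omega)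
  rcases Nat.lt_or_ge p 1292200 with h | h
  · exact (Table.relOK_iff chkPaths 1291500 700).mp pc5 p (by omega) (by omega)
  rcases Nat.lt_or_ge p 1292900 with h | h
  · exact (Table.relOK_iff chkPaths 1292200 700).mp pc6 p (by omega) (by omega)
  rcases Nat.lt_or_ge p 1293600 with h | h
  · exact (Table.relOK_iff chkPaths 1292900 700).mp pc7 p (by omega) (by omega)
  rcases Nat.lt_or_ge p 1294300 with h | h
  · exact (Table.relOK_iff chkPaths 1293600 700).mp pc8 p (by omega) (by omega)
  rcases Nat.lt_or_ge p 1295000 with h | h
  · exact (Table.relOK_iff chkPaths 1294300 700).mp pc9 p (by omega) (by omega)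
  rcases Nat.lt_or_ge p 1295700 with h | h
  · exact (Table.relOK_iff chkPaths 1295000 700).mp pc10 p (by omega) (by omega)
  rcases Nat.lt_or_ge p 1296400 with h | h
  · exact (Table.relOK_iff chkPaths 1295700 700).mp pc11 p (by omega) (by omega)
  rcases Nat.lt_or_ge p 1297100 with h | h
  · exact (Table.relOK_iff chkPaths 1296400 700).mp pc12 p (by omega) (by omega)
  rcases Nat.lt_or_ge p 1297800 with h | h
  · exact (Table.relOK_iff chkPaths 1297100 700).mp pc13 p (by omega) (by omega)
  rcases Nat.lt_or_ge p 1298500 with h | h
  · exact (Table.relOK_iff chkPaths 1297800 700).mp pc14 p (by omega) (by omega)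
  rcases Nat.lt_or_ge p 1299200 with h | h
  · exact (Table.relOK_iff chkPaths 1298500 700).mp pc15 p (by omega) (by omega)
  rcases Nat.lt_or_ge p 1299900 with h | h
  · exact (Table.relOK_iff chkPaths 1299200 700).mp pc16 p (by omega) (by omega)
  rcases Nat.lt_or_ge p 1300600 with h | h
  · exact (Table.relOK_iff chkPaths 1299900 700).mp pc17 p (by omega) (by omega)
  rcases Nat.lt_or_ge p 1301300 with h | h
  · exact (Table.relOK_iff chkPaths 1300600 700).mp pc18 p (by omega) (by omega)
  rcases Nat.lt_or_ge p 1302000 with h | h
  · exact (Table.relOK_iff chkPaths 1301300 700).mp pc19 p (by omega) (by omega)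
  rcases Nat.lt_or_ge p 1302700 with h | h
  · exact (Table.relOK_iff chkPaths 1302000 700).mp pc20 p (by omega) (by omega)
  rcases Nat.lt_or_ge p 1303400 with h | h
  · exact (Table.relOK_iff chkPaths 1302700 700).mp pc21 p (by omega) (by omega)
  rcases Nat.lt_or_ge p 1304100 with h | h
  · exact (Table.relOK_iff chkPaths 1303400 700).mp pc22 p (by omega) (by omega)
  rcases Nat.lt_or_ge p 1304800 with h | h
  · exact (Table.relOK_iff chkPaths 1304100 700).mp pc23 p (by omega) (by omega)
  rcases Nat.lt_or_ge p 1305500 with h | h
  · exact (Table.relOK_iff chkPaths 1304800 700).mp pc24 p (by omega) (by omega)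
  rcases Nat.lt_or_ge p 1306200 with h | h
  · exact (Table.relOK_iff chkPaths 1305500 700).mp pc25 p (by omega) (by omega)
  rcases Nat.lt_or_ge p 1306900 with h | h
  · exact (Table.relOK_iff chkPaths 1306200 700).mp pc26 p (by omega) (by omega)
  rcases Nat.lt_or_ge p 1307600 with h | h
  · exact (Table.relOK_iff chkPaths 1306900 700).mp pc27 p (by omega) (by omega)
  rcases Nat.lt_or_ge p 1308300 with h | h
  · exact (Table.relOK_iff chkPaths 1307600 700).mp pc28 p (by omega) (by omega)
  rcases Nat.lt_or_ge p 1309000 with h | h
  · exact (Table.relOK_iff chkPaths 1308300 700).mp pc29 p (by omega) (by omega)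
  rcases Nat.lt_or_ge p 1309700 with h | h
  · exact (Table.relOK_iff chkPaths 1309000 700).mp pc30 p (by omega) (by omega)
  rcases Nat.lt_or_ge p 1310400 with h | h
  · exact (Table.relOK_iff chkPaths 1309700 700).mp pc31 p (by omega) (by omega)
  rcases Nat.lt_or_ge p 1311100 with h | h
  · exact (Table.relOK_iff chkPaths 1310400 700).mp pc32 p (by omega) (by omega)
  rcases Nat.lt_or_ge p 1311800 with h | h
  · exact (Table.relOK_iff chkPaths 1311100 700).mp pc33 p (by omega) (by omega)
  rcases Nat.lt_or_ge p 1312500 with h | h
  · exact (Table.relOK_iff chkPaths 1311800 700).mp pc34 p (by omega) (by omega)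
  rcases Nat.lt_or_ge p 1313200 with h | h
  · exact (Table.relOK_iff chkPaths 1312500 700).mp pc35 p (by omega) (by omega)
  rcases Nat.lt_or_ge p 1313900 with h | h
  · exact (Table.relOK_iff chkPaths 1313200 700).mp pc36 p (by omega) (by omega)
  rcases Nat.lt_or_ge p 1314600 with h | h
  · exact (Table.relOK_iff chkPaths 1313900 700).mp pc37 p (by omega) (by omega)
  rcases Nat.lt_or_ge p 1315300 with h | h
  · exact (Table.relOK_iff chkPaths 1314600 700).mp pc38 p (by omega) (by omega)
  exact (Table.relOK_iff chkPaths 1315300 700).mp pc39 p (by omega) (by omega)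

end Cfsg.Agent.Lib.Helper16.HNP.C51
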