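import Cfsg.Agent.Lib.Helper28.TC2Range
import Cfsg.Agent.Lib.Helper16.HNP.Table
import Cfsg.Agent.Lib.Helper16.HNP.C42
set_option autoImplicit false
set_option maxRecDepth 100000
set_option maxHeartbeats 0
set_option Elab.async false

namespace Cfsg.Agent.Lib.Helper16.HNP.C52
open Cfsg.Agent.Lib.Helper28.TC2Upper Cfsg.Agent.Lib.Helper28.TC2Lower Cfsg.Agent.Lib.Helper28.TC2Range Cfsg.Agent.Lib.Helper16.HNP.Table

theorem pc0 : table.relOK chkPaths 1316000 700 = true := by decide +kernel
theorem pc1 : table.relOK chkPaths 1316700 700 = true := by decide +kernel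
theorem pc2 : table.relOK chkPaths 1317400 700 = true := by decide +kernel
theorem pc3 : table.relOK chkPaths 1318100 700 = true := by decide +kernel
theorem pc4 : table.relOK chkPaths 1318800 700 = true := by decide +kernel
theorem pc5 : table.relOK chkPaths 1319500 700 = true := by decide +kernel
theorem pc6 : table.relOK chkPaths 1320200 700 = true := by decide +kernel
theorem pc7 : table.relOK chkPaths 1320900 700 = true := by decide +kernel
theorem pc8 : table.relOK chkPaths 1321600 700 = true := by decide +kernel
theorem pc9 : table.relOK chkPaths 1322300 700 = true := by decide +kernel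
theorem pc10 : table.relOK chkPaths 1323000 700 = true := by decide +kernel
theorem pc11 : table.relOK chkPaths 1323700 700 = true := by decide +kernel
theorem pc12 : table.relOK chkPaths 1324400 700 = true := by decide +kernel
theorem pc13 : table.relOK chkPaths 1325100 700 = true := by decide +kernel
theorem pc14 : table.relOK chkPaths 1325800 700 = true := by decide +kernel
theorem pc15 : table.relOK chkPaths 1326500 700 = true := by decide +kernel
theorem pc16 : table.relOK chkPaths 1327200 700 = true := by decide +kernel
theorem pc17 : table.relOK chkPaths 1327900 700 = true := by decide +kernel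
theorem pc18 : table.relOK chkPaths 1328600 700 = true := by decide +kernel
theorem pc19 : table.relOK chkPaths 1329300 700 = true := by decide +kernel
theorem pc20 : table.relOK chkPaths 1330000 700 = true := by decide +kernel
theorem pc21 : table.relOK chkPaths 1330700 700 = true := by decide +kernel
theorem pc22 : table.relOK chkPaths 1331400 700 = true := by decide +kernel
theorem pc23 : table.relOK chkPaths 1332100 700 = true := by decide +kernel
theorem pc24 : table.relOK chkPaths 1332800 700 = true := by decide +kernel
theorem pc25 : table.relOK chkPaths 1333500 700 = true := by decide +kernel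
theorem pc26 : table.relOK chkPaths 1334200 700 = true := by decide +kernel
theorem pc27 : table.relOK chkPaths 1334900 700 = true := by decide +kernel
theorem pc28 : table.relOK chkPaths 1335600 700 = true := by decide +kernel
theorem pc29 : table.relOK chkPaths 1336300 700 = true := by decide +kernel
theorem pc30 : table.relOK chkPaths 1337000 700 = true := by decide +kernel
theorem pc31 : table.relOK chkPaths 1337700 700 = true := by decide +kernel
theorem pc32 : table.relOK chkPaths 1338400 700 = true := by decide +kernel
theorem pc33 : table.relOK chkPaths 1339100 700 = true := by decide +kernel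
theorem pc34 : table.relOK chkPaths 1339800 700 = true := by decide +kernel
theorem pc35 : table.relOK chkPaths 1340500 700 = true := by decide +kernel
theorem pc36 : table.relOK chkPaths 1341200 700 = true := by decide +kernel
theorem pc37 : table.relOK chkPaths 1341900 700 = true := by decide +kernel
theorem pc38 : table.relOK chkPaths 1342600 700 = true := by decide +kernel
theorem pc39 : table.relOK chkPaths 1343300 700 = true := by decide +kernel

theorem range : ∀ p, 1316000 ≤ p → p < 1344000 → ∀ r ∈ chkPaths, table.walkT r p = p := by
  intro p h1 h2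
  rcases Nat.lt_or_ge p 1316700 with h | h
  · exact (Table.relOK_iff chkPaths 1316000 700).mp pc0 p (by omega) (by omega)
  rcases Nat.lt_or_ge p 1317400 with h | h
  · exact (Table.relOK_iff chkPaths 1316700 700).mp pc1 p (by omega) (by omega)
  rcases Nat.lt_or_ge p 1318100 with h | h
  · exact (Table.relOK_iff chkPaths 1317400 700).mp pc2 p (by omega) (by omega)
  rcases Nat.lt_or_ge p 1318800 with h | h
  · exact (Table.relOK_iff chkPaths 1318100 700).mp pc3 p (by omega) (by omega)
  rcases Nat.lt_or_ge p 1319500 with h | h
  · exact (Table.relOK_iff chkPaths 1318800 700).mp pc4 p (by omega) (by omega)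
  rcases Nat.lt_or_ge p 1320200 with h | h
  · exact (Table.relOK_iff chkPaths 1319500 700).mp pc5 p (by omega) (by omega)
  rcases Nat.lt_or_ge p 1320900 with h | h
  · exact (Table.relOK_iff chkPaths 1320200 700).mp pc6 p (by omega) (by omega)
  rcases Nat.lt_or_ge p 1321600 with h | h
  · exact (Table.relOK_iff chkPaths 1320900 700).mp pc7 p (by omega) (by omega)
  rcases Nat.lt_or_ge p 1322300 with h | h
  · exact (Table.relOK_iff chkPaths 1321600 700).mp pc8 p (by omega) (by omega)
  rcases Nat.lt_or_ge p 1323000 with h | h
  · exact (Table.relOK_iff chkPaths 1322300 700).mp pc9 p (by omega) (by omega)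
  rcases Nat.lt_or_ge p 1323700 with h | h
  · exact (Table.relOK_iff chkPaths 1323000 700).mp pc10 p (by omega) (by omega)
  rcases Nat.lt_or_ge p 1324400 with h | h
  · exact (Table.relOK_iff chkPaths 1323700 700).mp pc11 p (by omega) (by omega)
  rcases Nat.lt_or_ge p 1325100 with h | h
  · exact (Table.relOK_iff chkPaths 1324400 700).mp pc12 p (by omega) (by omega)
  rcases Nat.lt_or_ge p 1325800 with h | h
  · exact (Table.relOK_iff chkPaths 1325100 700).mp pc13 p (by omega) (by omega)
  rcases Nat.lt_or_ge p 1326500 with h | h
  · exact (Table.relOK_iff chkPaths 1325800 700).mp pc14 p (by omega) (by omega)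
  rcases Nat.lt_or_ge p 1327200 with h | h
  · exact (Table.relOK_iff chkPaths 1326500 700).mp pc15 p (by omega) (by omega)
  rcases Nat.lt_or_ge p 1327900 with h | h
  · exact (Table.relOK_iff chkPaths 1327200 700).mp pc16 p (by omega) (by omega)
  rcases Nat.lt_or_ge p 1328600 with h | h
  · exact (Table.relOK_iff chkPaths 1327900 700).mp pc17 p (by omega) (by omega)
  rcases Nat.lt_or_ge p 1329300 with h | h
  · exact (Table.relOK_iff chkPaths 1328600 700).mp pc18 p (by omega) (by omega)
  rcases Nat.lt_or_ge p 1330000 with h | h
  · exact (Table.relOK_iff chkPaths 1329300 700).mp pc19 p (by omega) (by omega)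
  rcases Nat.lt_or_ge p 1330700 with h | h
  · exact (Table.relOK_iff chkPaths 1330000 700).mp pc20 p (by omega) (by omega)
  rcases Nat.lt_or_ge p 1331400 with h | h
  · exact (Table.relOK_iff chkPaths 1330700 700).mp pc21 p (by omega) (by omega)
  rcases Nat.lt_or_ge p 1332100 with h | h
  · exact (Table.relOK_iff chkPaths 1331400 700).mp pc22 p (by omega) (by omega)
  rcases Nat.lt_or_ge p 1332800 with h | h
  · exact (Table.relOK_iff chkPaths 1332100 700).mp pc23 p (by omega) (by omega)
  rcases Nat.lt_or_ge p 1333500 with h | h
  · exact (Table.relOK_iff chkPaths 1332800 700).mp pc24 p (by omega) (by omega)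
  rcases Nat.lt_or_ge p 1334200 with h | h
  · exact (Table.relOK_iff chkPaths 1333500 700).mp pc25 p (by omega) (by omega)
  rcases Nat.lt_or_ge p 1334900 with h | h
  · exact (Table.relOK_iff chkPaths 1334200 700).mp pc26 p (by omega) (by omega)
  rcases Nat.lt_or_ge p 1335600 with h | h
  · exact (Table.relOK_iff chkPaths 1334900 700).mp pc27 p (by omega) (by omega)
  rcases Nat.lt_or_ge p 1336300 with h | h
  · exact (Table.relOK_iff chkPaths 1335600 700).mp pc28 p (by omega) (by omega)
  rcases Nat.lt_or_ge p 1337000 with h | h
  · exact (Table.relOK_iff chkPaths 1336300 700).mp pc29 p (by omega) (by omega)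
  rcases Nat.lt_or_ge p 1337700 with h | h
  · exact (Table.relOK_iff chkPaths 1337000 700).mp pc30 p (by omega) (by omega)
  rcases Nat.lt_or_ge p 1338400 with h | h
  · exact (Table.relOK_iff chkPaths 1337700 700).mp pc31 p (by omega) (by omega)
  rcases Nat.lt_or_ge p 1339100 with h | h
  · exact (Table.relOK_iff chkPaths 1338400 700).mp pc32 p (by omega) (by omega)
  rcases Nat.lt_or_ge p 1339800 with h | h
  · exact (Table.relOK_iff chkPaths 1339100 700).mp pc33 p (by omega) (by omega)
  rcases Nat.lt_or_ge p 1340500 with h | h
  · exact (Table.relOK_iff chkPaths 1339800 700).mp pc34 p (by omega) (by omega)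
  rcases Nat.lt_or_ge p 1341200 with h | h
  · exact (Table.relOK_iff chkPaths 1340500 700).mp pc35 p (by omega) (by omega)
  rcases Nat.lt_or_ge p 1341900 with h | h
  · exact (Table.relOK_iff chkPaths 1341200 700).mp pc36 p (by omega) (by omega)
  rcases Nat.lt_or_ge p 1342600 with h | h
  · exact (Table.relOK_iff chkPaths 1341900 700).mp pc37 p (by omega) (by omega)
  rcases Nat.lt_or_ge p 1343300 with h | h
  · exact (Table.relOK_iff chkPaths 1342600 700).mp pc38 p (by omega) (by omega)
  exact (Table.relOK_iff chkPaths 1343300 700).mp pc39 p (by omega) (by omega)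

end Cfsg.Agent.Lib.Helper16.HNP.C52
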