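import Cfsg.Agent.Lib.Helper28.TC2Range
import Cfsg.Agent.Lib.Helper16.HNP.Table
import Cfsg.Agent.Lib.Helper16.HNP.C43
set_option autoImplicit false
set_option maxRecDepth 100000
set_option maxHeartbeats 0
set_option Elab.async false

namespace Cfsg.Agent.Lib.Helper16.HNP.C53
open Cfsg.Agent.Lib.Helper28.TC2Upper Cfsg.Agent.Lib.Helper28.TC2Lower Cfsg.Agent.Lib.Helper28.TC2Range Cfsg.Agent.Lib.Helper16.HNP.Table

theorem pc0 : table.relOK chkPaths 1344000 700 = true := by decide +kernel
theorem pc1 : table.relOK chkPaths 1344700 700 = true := by decide +kernel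
theorem pc2 : table.relOK chkPaths 1345400 700 = true := by decide +kernel
theorem pc3 : table.relOK chkPaths 1346100 700 = true := by decide +kernel
theorem pc4 : table.relOK chkPaths 1346800 700 = true := by decide +kernel
theorem pc5 : table.relOK chkPaths 1347500 700 = true := by decide +kernel
theorem pc6 : table.relOK chkPaths 1348200 700 = true := by decide +kernel
theorem pc7 : table.relOK chkPaths 1348900 700 = true := by decide +kernel
theorem pc8 : table.relOK chkPaths 1349600 700 = true := by decide +kernel
theorem pc9 : table.relOK chkPaths 1350300 700 = true := by decide +kernel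
theorem pc10 : table.relOK chkPaths 1351000 700 = true := by decide +kernel
theorem pc11 : table.relOK chkPaths 1351700 700 = true := by decide +kernel
theorem pc12 : table.relOK chkPaths 1352400 700 = true := by decide +kernel
theorem pc13 : table.relOK chkPaths 1353100 700 = true := by decide +kernel
theorem pc14 : table.relOK chkPaths 1353800 700 = true := by decide +kernel
theorem pc15 : table.relOK chkPaths 1354500 700 = true := by decide +kernel
theorem pc16 : table.relOK chkPaths 1355200 700 = true := by decide +kernel
theorem pc17 : table.relOK chkPaths 1355900 700 = true := by decide +kernel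
theorem pc18 : table.relOK chkPaths 1356600 700 = true := by decide +kernel
theorem pc19 : table.relOK chkPaths 1357300 700 = true := by decide +kernel
theorem pc20 : table.relOK chkPaths 1358000 700 = true := by decide +kernel
theorem pc21 : table.relOK chkPaths 1358700 700 = true := by decide +kernel
theorem pc22 : table.relOK chkPaths 1359400 700 = true := by decide +kernel
theorem pc23 : table.relOK chkPaths 1360100 700 = true := by decide +kernel
theorem pc24 : table.relOK chkPaths 1360800 700 = true := by decide +kernel
theorem pc25 : table.relOK chkPaths 1361500 700 = true := by decide +kernel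
theorem pc26 : table.relOK chkPaths 1362200 700 = true := by decide +kernel
theorem pc27 : table.relOK chkPaths 1362900 700 = true := by decide +kernel
theorem pc28 : table.relOK chkPaths 1363600 700 = true := by decide +kernel
theorem pc29 : table.relOK chkPaths 1364300 700 = true := by decide +kernel
theorem pc30 : table.relOK chkPaths 1365000 700 = true := by decide +kernel
theorem pc31 : table.relOK chkPaths 1365700 700 = true := by decide +kernel
theorem pc32 : table.relOK chkPaths 1366400 700 = true := by decide +kernel
theorem pc33 : table.relOK chkPaths 1367100 700 = true := by decide +kernel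
theorem pc34 : table.relOK chkPaths 1367800 700 = true := by decide +kernel
theorem pc35 : table.relOK chkPaths 1368500 700 = true := by decide +kernel
theorem pc36 : table.relOK chkPaths 1369200 700 = true := by decide +kernel
theorem pc37 : table.relOK chkPaths 1369900 700 = true := by decide +kernel
theorem pc38 : table.relOK chkPaths 1370600 700 = true := by decide +kernel
theorem pc39 : table.relOK chkPaths 1371300 700 = true := by decide +kernel

theorem range : ∀ p, 1344000 ≤ p → p < 1372000 → ∀ r ∈ chkPaths, table.walkT r p = p := by
  intro p h1 h2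
  rcases Nat.lt_or_ge p 1344700 with h | h
  · exact (Table.relOK_iff chkPaths 1344000 700).mp pc0 p (by omega) (by omega)
  rcases Nat.lt_or_ge p 1345400 with h | h
  · exact (Table.relOK_iff chkPaths 1344700 700).mp pc1 p (by omega) (by omega)
  rcases Nat.lt_or_ge p 1346100 with h | h
  · exact (Table.relOK_iff chkPaths 1345400 700).mp pc2 p (by omega) (by omega)
  rcases Nat.lt_or_ge p 1346800 with h | h
  · exact (Table.relOK_iff chkPaths 1346100 700).mp pc3 p (by omega) (by omega)
  rcases Nat.lt_or_ge p 1347500 with h | h
  · exact (Table.relOK_iff chkPaths 1346800 700).mp pc4 p (by omega) (by omega)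
  rcases Nat.lt_or_ge p 1348200 with h | h
  · exact (Table.relOK_iff chkPaths 1347500 700).mp pc5 p (by omega) (by omega)
  rcases Nat.lt_or_ge p 1348900 with h | h
  · exact (Table.relOK_iff chkPaths 1348200 700).mp pc6 p (by omega) (by omega)
  rcases Nat.lt_or_ge p 1349600 with h | h
  · exact (Table.relOK_iff chkPaths 1348900 700).mp pc7 p (by omega) (by omega)
  rcases Nat.lt_or_ge p 1350300 with h | h
  · exact (Table.relOK_iff chkPaths 1349600 700).mp pc8 p (by omega) (by omega)
  rcases Nat.lt_or_ge p 1351000 with h | h
  · exact (Table.relOK_iff chkPaths 1350300 700).mp pc9 p (by omega) (by omega)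
  rcases Nat.lt_or_ge p 1351700 with h | h
  · exact (Table.relOK_iff chkPaths 1351000 700).mp pc10 p (by omega) (by omega)
  rcases Nat.lt_or_ge p 1352400 with h | h
  · exact (Table.relOK_iff chkPaths 1351700 700).mp pc11 p (by omega) (by omega)
  rcases Nat.lt_or_ge p 1353100 with h | h
  · exact (Table.relOK_iff chkPaths 1352400 700).mp pc12 p (by omega) (by omega)
  rcases Nat.lt_or_ge p 1353800 with h | h
  · exact (Table.relOK_iff chkPaths 1353100 700).mp pc13 p (by omega) (by omega)
  rcases Nat.lt_or_ge p 1354500 with h | h
  · exact (Table.relOK_iff chkPaths 1353800 700).mp pc14 p (by omega) (by omega)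
  rcases Nat.lt_or_ge p 1355200 with h | h
  · exact (Table.relOK_iff chkPaths 1354500 700).mp pc15 p (by omega) (by omega)
  rcases Nat.lt_or_ge p 1355900 with h | h
  · exact (Table.relOK_iff chkPaths 1355200 700).mp pc16 p (by omega) (by omega)
  rcases Nat.lt_or_ge p 1356600 with h | h
  · exact (Table.relOK_iff chkPaths 1355900 700).mp pc17 p (by omega) (by omega)
  rcases Nat.lt_or_ge p 1357300 with h | h
  · exact (Table.relOK_iff chkPaths 1356600 700).mp pc18 p (by omega) (by omega)
  rcases Nat.lt_or_ge p 1358000 with h | h
  · exact (Table.relOK_iff chkPaths 1357300 700).mp pc19 p (by omega) (by omega)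
  rcases Nat.lt_or_ge p 1358700 with h | h
  · exact (Table.relOK_iff chkPaths 1358000 700).mp pc20 p (by omega) (by omega)
  rcases Nat.lt_or_ge p 1359400 with h | h
  · exact (Table.relOK_iff chkPaths 1358700 700).mp pc21 p (by omega) (by omega)
  rcases Nat.lt_or_ge p 1360100 with h | h
  · exact (Table.relOK_iff chkPaths 1359400 700).mp pc22 p (by omega) (by omega)
  rcases Nat.lt_or_ge p 1360800 with h | h
  · exact (Table.relOK_iff chkPaths 1360100 700).mp pc23 p (by omega) (by omega)
  rcases Nat.lt_or_ge p 1361500 with h | h
  · exact (Table.relOK_iff chkPaths 1360800 700).mp pc24 p (by omega) (by omega)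
  rcases Nat.lt_or_ge p 1362200 with h | h
  · exact (Table.relOK_iff chkPaths 1361500 700).mp pc25 p (by omega) (by omega)
  rcases Nat.lt_or_ge p 1362900 with h | h
  · exact (Table.relOK_iff chkPaths 1362200 700).mp pc26 p (by omega) (by omega)
  rcases Nat.lt_or_ge p 1363600 with h | h
  · exact (Table.relOK_iff chkPaths 1362900 700).mp pc27 p (by omega) (by omega)
  rcases Nat.lt_or_ge p 1364300 with h | h
  · exact (Table.relOK_iff chkPaths 1363600 700).mp pc28 p (by omega) (by omega)
  rcases Nat.lt_or_ge p 1365000 with h | h
  · exact (Table.relOK_iff chkPaths 1364300 700).mp pc29 p (by omega) (by omega)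
  rcases Nat.lt_or_ge p 1365700 with h | h
  · exact (Table.relOK_iff chkPaths 1365000 700).mp pc30 p (by omega) (by omega)
  rcases Nat.lt_or_ge p 1366400 with h | h
  · exact (Table.relOK_iff chkPaths 1365700 700).mp pc31 p (by omega) (by omega)
  rcases Nat.lt_or_ge p 1367100 with h | h
  · exact (Table.relOK_iff chkPaths 1366400 700).mp pc32 p (by omega) (by omega)
  rcases Nat.lt_or_ge p 1367800 with h | h
  · exact (Table.relOK_iff chkPaths 1367100 700).mp pc33 p (by omega) (by omega)
  rcases Nat.lt_or_ge p 1368500 with h | h
  · exact (Table.relOK_iff chkPaths 1367800 700).mp pc34 p (by omega) (by omega)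
  rcases Nat.lt_or_ge p 1369200 with h | h
  · exact (Table.relOK_iff chkPaths 1368500 700).mp pc35 p (by omega) (by omega)
  rcases Nat.lt_or_ge p 1369900 with h | h
  · exact (Table.relOK_iff chkPaths 1369200 700).mp pc36 p (by omega) (by omega)
  rcases Nat.lt_or_ge p 1370600 with h | h
  · exact (Table.relOK_iff chkPaths 1369900 700).mp pc37 p (by omega) (by omega)
  rcases Nat.lt_or_ge p 1371300 with h | h
  · exact (Table.relOK_iff chkPaths 1370600 700).mp pc38 p (by omega) (by omega)
  exact (Table.relOK_iff chkPaths 1371300 700).mp pc39 p (by omega) (by omega)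

end Cfsg.Agent.Lib.Helper16.HNP.C53
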