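import Cfsg.Agent.Lib.Helper28.TC2Range
import Cfsg.Agent.Lib.Helper16.HNP.Table
import Cfsg.Agent.Lib.Helper16.HNP.C44
set_option autoImplicit false
set_option maxRecDepth 100000
set_option maxHeartbeats 0
set_option Elab.async false

namespace Cfsg.Agent.Lib.Helper16.HNP.C54
open Cfsg.Agent.Lib.Helper28.TC2Upper Cfsg.Agent.Lib.Helper28.TC2Lower Cfsg.Agent.Lib.Helper28.TC2Range Cfsg.Agent.Lib.Helper16.HNP.Table

theorem pc0 : table.relOK chkPaths 1372000 700 = true := by decide +kernel
theorem pc1 : table.relOK chkPaths 1372700 700 = true := by decide +kernel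
theorem pc2 : table.relOK chkPaths 1373400 700 = true := by decide +kernel
theorem pc3 : table.relOK chkPaths 1374100 700 = true := by decide +kernel
theorem pc4 : table.relOK chkPaths 1374800 700 = true := by decide +kernel
theorem pc5 : table.relOK chkPaths 1375500 700 = true := by decide +kernel
theorem pc6 : table.relOK chkPaths 1376200 700 = true := by decide +kernel
theorem pc7 : table.relOK chkPaths 1376900 700 = true := by decide +kernel
theorem pc8 : table.relOK chkPaths 1377600 700 = true := by decide +kernel
theorem pc9 : table.relOK chkPaths 1378300 700 = true := by decide +kernel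
theorem pc10 : table.relOK chkPaths 1379000 700 = true := by decide +kernel
theorem pc11 : table.relOK chkPaths 1379700 700 = true := by decide +kernel
theorem pc12 : table.relOK chkPaths 1380400 700 = true := by decide +kernel
theorem pc13 : table.relOK chkPaths 1381100 700 = true := by decide +kernel
theorem pc14 : table.relOK chkPaths 1381800 700 = true := by decide +kernel
theorem pc15 : table.relOK chkPaths 1382500 700 = true := by decide +kernel
theorem pc16 : table.relOK chkPaths 1383200 700 = true := by decide +kernel
theorem pc17 : table.relOK chkPaths 1383900 700 = true := by decide +kernel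
theorem pc18 : table.relOK chkPaths 1384600 700 = true := by decide +kernel
theorem pc19 : table.relOK chkPaths 1385300 700 = true := by decide +kernel
theorem pc20 : table.relOK chkPaths 1386000 700 = true := by decide +kernel
theorem pc21 : table.relOK chkPaths 1386700 700 = true := by decide +kernel
theorem pc22 : table.relOK chkPaths 1387400 700 = true := by decide +kernel
theorem pc23 : table.relOK chkPaths 1388100 700 = true := by decide +kernel
theorem pc24 : table.relOK chkPaths 1388800 700 = true := by decide +kernel
theorem pc25 : table.relOK chkPaths 1389500 700 = true := by decide +kernel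
theorem pc26 : table.relOK chkPaths 1390200 700 = true := by decide +kernel
theorem pc27 : table.relOK chkPaths 1390900 700 = true := by decide +kernel
theorem pc28 : table.relOK chkPaths 1391600 700 = true := by decide +kernel
theorem pc29 : table.relOK chkPaths 1392300 700 = true := by decide +kernel
theorem pc30 : table.relOK chkPaths 1393000 700 = true := by decide +kernel
theorem pc31 : table.relOK chkPaths 1393700 700 = true := by decide +kernel
theorem pc32 : table.relOK chkPaths 1394400 700 = true := by decide +kernel
theorem pc33 : table.relOK chkPaths 1395100 700 = true := by decide +kernel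
theorem pc34 : table.relOK chkPaths 1395800 700 = true := by decide +kernel
theorem pc35 : table.relOK chkPaths 1396500 700 = true := by decide +kernel
theorem pc36 : table.relOK chkPaths 1397200 700 = true := by decide +kernel
theorem pc37 : table.relOK chkPaths 1397900 700 = true := by decide +kernel
theorem pc38 : table.relOK chkPaths 1398600 700 = true := by decide +kernel
theorem pc39 : table.relOK chkPaths 1399300 700 = true := by decide +kernel

theorem range : ∀ p, 1372000 ≤ p → p < 1400000 → ∀ r ∈ chkPaths, table.walkT r p = p := by
  intro p h1 h2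
  rcases Nat.lt_or_ge p 1372700 with h | h
  · exact (Table.relOK_iff chkPaths 1372000 700).mp pc0 p (by omega) (by omega)
  rcases Nat.lt_or_ge p 1373400 with h | h
  · exact (Table.relOK_iff chkPaths 1372700 700).mp pc1 p (by omega) (by omega)
  rcases Nat.lt_or_ge p 1374100 with h | h
  · exact (Table.relOK_iff chkPaths 1373400 700).mp pc2 p (by omega) (by omega)
  rcases Nat.lt_or_ge p 1374800 with h | h
  · exact (Table.relOK_iff chkPaths 1374100 700).mp pc3 p (by omega) (by omega)
  rcases Nat.lt_or_ge p 1375500 with h | h
  · exact (Table.relOK_iff chkPaths 1374800 700).mp pc4 p (by omega) (by omega)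
  rcases Nat.lt_or_ge p 1376200 with h | h
  · exact (Table.relOK_iff chkPaths 1375500 700).mp pc5 p (by omega) (by omega)
  rcases Nat.lt_or_ge p 1376900 with h | h
  · exact (Table.relOK_iff chkPaths 1376200 700).mp pc6 p (by omega) (by omega)
  rcases Nat.lt_or_ge p 1377600 with h | h
  · exact (Table.relOK_iff chkPaths 1376900 700).mp pc7 p (by omega) (by omega)
  rcases Nat.lt_or_ge p 1378300 with h | h
  · exact (Table.relOK_iff chkPaths 1377600 700).mp pc8 p (by omega) (by omega)
  rcases Nat.lt_or_ge p 1379000 with h | h
  · exact (Table.relOK_iff chkPaths 1378300 700).mp pc9 p (by omega) (by omega)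
  rcases Nat.lt_or_ge p 1379700 with h | h
  · exact (Table.relOK_iff chkPaths 1379000 700).mp pc10 p (by omega) (by omega)
  rcases Nat.lt_or_ge p 1380400 with h | h
  · exact (Table.relOK_iff chkPaths 1379700 700).mp pc11 p (by omega) (by omega)
  rcases Nat.lt_or_ge p 1381100 with h | h
  · exact (Table.relOK_iff chkPaths 1380400 700).mp pc12 p (by omega) (by omega)
  rcases Nat.lt_or_ge p 1381800 with h | h
  · exact (Table.relOK_iff chkPaths 1381100 700).mp pc13 p (by omega) (by omega)
  rcases Nat.lt_or_ge p 1382500 with h | h
  · exact (Table.relOK_iff chkPaths 1381800 700).mp pc14 p (by omega) (by omega)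
  rcases Nat.lt_or_ge p 1383200 with h | h
  · exact (Table.relOK_iff chkPaths 1382500 700).mp pc15 p (by omega) (by omega)
  rcases Nat.lt_or_ge p 1383900 with h | h
  · exact (Table.relOK_iff chkPaths 1383200 700).mp pc16 p (by omega) (by omega)
  rcases Nat.lt_or_ge p 1384600 with h | h
  · exact (Table.relOK_iff chkPaths 1383900 700).mp pc17 p (by omega) (by omega)
  rcases Nat.lt_or_ge p 1385300 with h | h
  · exact (Table.relOK_iff chkPaths 1384600 700).mp pc18 p (by omega) (by omega)
  rcases Nat.lt_or_ge p 1386000 with h | h
  · exact (Table.relOK_iff chkPaths 1385300 700).mp pc19 p (by omega) (by omega)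
  rcases Nat.lt_or_ge p 1386700 with h | h
  · exact (Table.relOK_iff chkPaths 1386000 700).mp pc20 p (by omega) (by omega)
  rcases Nat.lt_or_ge p 1387400 with h | h
  · exact (Table.relOK_iff chkPaths 1386700 700).mp pc21 p (by omega) (by omega)
  rcases Nat.lt_or_ge p 1388100 with h | h
  · exact (Table.relOK_iff chkPaths 1387400 700).mp pc22 p (by omega) (by omega)
  rcases Nat.lt_or_ge p 1388800 with h | h
  · exact (Table.relOK_iff chkPaths 1388100 700).mp pc23 p (by omega) (by omega)
  rcases Nat.lt_or_ge p 1389500 with h | h
  · exact (Table.relOK_iff chkPaths 1388800 700).mp pc24 p (by omega) (by omega)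
  rcases Nat.lt_or_ge p 1390200 with h | h
  · exact (Table.relOK_iff chkPaths 1389500 700).mp pc25 p (by omega) (by omega)
  rcases Nat.lt_or_ge p 1390900 with h | h
  · exact (Table.relOK_iff chkPaths 1390200 700).mp pc26 p (by omega) (by omega)
  rcases Nat.lt_or_ge p 1391600 with h | h
  · exact (Table.relOK_iff chkPaths 1390900 700).mp pc27 p (by omega) (by omega)
  rcases Nat.lt_or_ge p 1392300 with h | h
  · exact (Table.relOK_iff chkPaths 1391600 700).mp pc28 p (by omega) (by omega)
  rcases Nat.lt_or_ge p 1393000 with h | h
  · exact (Table.relOK_iff chkPaths 1392300 700).mp pc29 p (by omega) (by omega)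
  rcases Nat.lt_or_ge p 1393700 with h | h
  · exact (Table.relOK_iff chkPaths 1393000 700).mp pc30 p (by omega) (by omega)
  rcases Nat.lt_or_ge p 1394400 with h | h
  · exact (Table.relOK_iff chkPaths 1393700 700).mp pc31 p (by omega) (by omega)
  rcases Nat.lt_or_ge p 1395100 with h | h
  · exact (Table.relOK_iff chkPaths 1394400 700).mp pc32 p (by omega) (by omega)
  rcases Nat.lt_or_ge p 1395800 with h | h
  · exact (Table.relOK_iff chkPaths 1395100 700).mp pc33 p (by omega) (by omega)
  rcases Nat.lt_or_ge p 1396500 with h | h
  · exact (Table.relOK_iff chkPaths 1395800 700).mp pc34 p (by omega) (by omega)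
  rcases Nat.lt_or_ge p 1397200 with h | h
  · exact (Table.relOK_iff chkPaths 1396500 700).mp pc35 p (by omega) (by omega)
  rcases Nat.lt_or_ge p 1397900 with h | h
  · exact (Table.relOK_iff chkPaths 1397200 700).mp pc36 p (by omega) (by omega)
  rcases Nat.lt_or_ge p 1398600 with h | h
  · exact (Table.relOK_iff chkPaths 1397900 700).mp pc37 p (by omega) (by omega)
  rcases Nat.lt_or_ge p 1399300 with h | h
  · exact (Table.relOK_iff chkPaths 1398600 700).mp pc38 p (by omega) (by omega)
  exact (Table.relOK_iff chkPaths 1399300 700).mp pc39 p (by omega) (by omega)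

end Cfsg.Agent.Lib.Helper16.HNP.C54
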