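import Cfsg.Agent.Lib.Helper28.TC2Range
import Cfsg.Agent.Lib.Helper16.HNP.Table
import Cfsg.Agent.Lib.Helper16.HNP.C45
set_option autoImplicit false
set_option maxRecDepth 100000
set_option maxHeartbeats 0
set_option Elab.async false

namespace Cfsg.Agent.Lib.Helper16.HNP.C55
open Cfsg.Agent.Lib.Helper28.TC2Upper Cfsg.Agent.Lib.Helper28.TC2Lower Cfsg.Agent.Lib.Helper28.TC2Range Cfsg.Agent.Lib.Helper16.HNP.Table

theorem pc0 : table.relOK chkPaths 1400000 700 = true := by decide +kernel
theorem pc1 : table.relOK chkPaths 1400700 700 = true := by decide +kernel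
theorem pc2 : table.relOK chkPaths 1401400 700 = true := by decide +kernel
theorem pc3 : table.relOK chkPaths 1402100 700 = true := by decide +kernel
theorem pc4 : table.relOK chkPaths 1402800 700 = true := by decide +kernel
theorem pc5 : table.relOK chkPaths 1403500 700 = true := by decide +kernel
theorem pc6 : table.relOK chkPaths 1404200 700 = true := by decide +kernel
theorem pc7 : table.relOK chkPaths 1404900 700 = true := by decide +kernel
theorem pc8 : table.relOK chkPaths 1405600 700 = true := by decide +kernel
theorem pc9 : table.relOK chkPaths 1406300 700 = true := by decide +kernel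
theorem pc10 : table.relOK chkPaths 1407000 700 = true := by decide +kernel
theorem pc11 : table.relOK chkPaths 1407700 700 = true := by decide +kernel
theorem pc12 : table.relOK chkPaths 1408400 700 = true := by decide +kernel
theorem pc13 : table.relOK chkPaths 1409100 700 = true := by decide +kernel
theorem pc14 : table.relOK chkPaths 1409800 700 = true := by decide +kernel
theorem pc15 : table.relOK chkPaths 1410500 700 = true := by decide +kernel
theorem pc16 : table.relOK chkPaths 1411200 700 = true := by decide +kernel
theorem pc17 : table.relOK chkPaths 1411900 700 = true := by decide +kernel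
theorem pc18 : table.relOK chkPaths 1412600 700 = true := by decide +kernel
theorem pc19 : table.relOK chkPaths 1413300 700 = true := by decide +kernel
theorem pc20 : table.relOK chkPaths 1414000 700 = true := by decide +kernel
theorem pc21 : table.relOK chkPaths 1414700 700 = true := by decide +kernel
theorem pc22 : table.relOK chkPaths 1415400 700 = true := by decide +kernel
theorem pc23 : table.relOK chkPaths 1416100 700 = true := by decide +kernel
theorem pc24 : table.relOK chkPaths 1416800 700 = true := by decide +kernel
theorem pc25 : table.relOK chkPaths 1417500 700 = true := by decide +kernel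
theorem pc26 : table.relOK chkPaths 1418200 700 = true := by decide +kernel
theorem pc27 : table.relOK chkPaths 1418900 700 = true := by decide +kernel
theorem pc28 : table.relOK chkPaths 1419600 700 = true := by decide +kernel
theorem pc29 : table.relOK chkPaths 1420300 700 = true := by decide +kernel
theorem pc30 : table.relOK chkPaths 1421000 700 = true := by decide +kernel
theorem pc31 : table.relOK chkPaths 1421700 700 = true := by decide +kernel
theorem pc32 : table.relOK chkPaths 1422400 700 = true := by decide +kernel
theorem pc33 : table.relOK chkPaths 1423100 700 = true := by decide +kernel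
theorem pc34 : table.relOK chkPaths 1423800 700 = true := by decide +kernel
theorem pc35 : table.relOK chkPaths 1424500 700 = true := by decide +kernel
theorem pc36 : table.relOK chkPaths 1425200 700 = true := by decide +kernel
theorem pc37 : table.relOK chkPaths 1425900 700 = true := by decide +kernel
theorem pc38 : table.relOK chkPaths 1426600 700 = true := by decide +kernel
theorem pc39 : table.relOK chkPaths 1427300 700 = true := by decide +kernel

theorem range : ∀ p, 1400000 ≤ p → p < 1428000 → ∀ r ∈ chkPaths, table.walkT r p = p := by
  intro p h1 h2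
  rcases Nat.lt_or_ge p 1400700 with h | h
  · exact (Table.relOK_iff chkPaths 1400000 700).mp pc0 p (by omega) (by omega)
  rcases Nat.lt_or_ge p 1401400 with h | h
  · exact (Table.relOK_iff chkPaths 1400700 700).mp pc1 p (by omega) (by omega)
  rcases Nat.lt_or_ge p 1402100 with h | h
  · exact (Table.relOK_iff chkPaths 1401400 700).mp pc2 p (by omega) (by omega)
  rcases Nat.lt_or_ge p 1402800 with h | h
  · exact (Table.relOK_iff chkPaths 1402100 700).mp pc3 p (by omega) (by omega)
  rcases Nat.lt_or_ge p 1403500 with h | h
  · exact (Table.relOK_iff chkPaths 1402800 700).mp pc4 p (by omega) (by omega)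
  rcases Nat.lt_or_ge p 1404200 with h | h
  · exact (Table.relOK_iff chkPaths 1403500 700).mp pc5 p (by omega) (by omega)
  rcases Nat.lt_or_ge p 1404900 with h | h
  · exact (Table.relOK_iff chkPaths 1404200 700).mp pc6 p (by omega) (by omega)
  rcases Nat.lt_or_ge p 1405600 with h | h
  · exact (Table.relOK_iff chkPaths 1404900 700).mp pc7 p (by omega) (by omega)
  rcases Nat.lt_or_ge p 1406300 with h | h
  · exact (Table.relOK_iff chkPaths 1405600 700).mp pc8 p (by omega) (by omega)
  rcases Nat.lt_or_ge p 1407000 with h | h
  · exact (Table.relOK_iff chkPaths 1406300 700).mp pc9 p (by omega) (by omega)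
  rcases Nat.lt_or_ge p 1407700 with h | h
  · exact (Table.relOK_iff chkPaths 1407000 700).mp pc10 p (by omega) (by omega)
  rcases Nat.lt_or_ge p 1408400 with h | h
  · exact (Table.relOK_iff chkPaths 1407700 700).mp pc11 p (by omega) (by omega)
  rcases Nat.lt_or_ge p 1409100 with h | h
  · exact (Table.relOK_iff chkPaths 1408400 700).mp pc12 p (by omega) (by omega)
  rcases Nat.lt_or_ge p 1409800 with h | h
  · exact (Table.relOK_iff chkPaths 1409100 700).mp pc13 p (by omega) (by omega)
  rcases Nat.lt_or_ge p 1410500 with h | h
  · exact (Table.relOK_iff chkPaths 1409800 700).mp pc14 p (by omega) (by omega)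
  rcases Nat.lt_or_ge p 1411200 with h | h
  · exact (Table.relOK_iff chkPaths 1410500 700).mp pc15 p (by omega) (by omega)
  rcases Nat.lt_or_ge p 1411900 with h | h
  · exact (Table.relOK_iff chkPaths 1411200 700).mp pc16 p (by omega) (by omega)
  rcases Nat.lt_or_ge p 1412600 with h | h
  · exact (Table.relOK_iff chkPaths 1411900 700).mp pc17 p (by omega) (by omega)
  rcases Nat.lt_or_ge p 1413300 with h | h
  · exact (Table.relOK_iff chkPaths 1412600 700).mp pc18 p (by omega) (by omega)
  rcases Nat.lt_or_ge p 1414000 with h | h
  · exact (Table.relOK_iff chkPaths 1413300 700).mp pc19 p (by omega) (by omega)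
  rcases Nat.lt_or_ge p 1414700 with h | h
  · exact (Table.relOK_iff chkPaths 1414000 700).mp pc20 p (by omega) (by omega)
  rcases Nat.lt_or_ge p 1415400 with h | h
  · exact (Table.relOK_iff chkPaths 1414700 700).mp pc21 p (by omega) (by omega)
  rcases Nat.lt_or_ge p 1416100 with h | h
  · exact (Table.relOK_iff chkPaths 1415400 700).mp pc22 p (by omega) (by omega)
  rcases Nat.lt_or_ge p 1416800 with h | h
  · exact (Table.relOK_iff chkPaths 1416100 700).mp pc23 p (by omega) (by omega)
  rcases Nat.lt_or_ge p 1417500 with h | h
  · exact (Table.relOK_iff chkPaths 1416800 700).mp pc24 p (by omega) (by omega)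
  rcases Nat.lt_or_ge p 1418200 with h | h
  · exact (Table.relOK_iff chkPaths 1417500 700).mp pc25 p (by omega) (by omega)
  rcases Nat.lt_or_ge p 1418900 with h | h
  · exact (Table.relOK_iff chkPaths 1418200 700).mp pc26 p (by omega) (by omega)
  rcases Nat.lt_or_ge p 1419600 with h | h
  · exact (Table.relOK_iff chkPaths 1418900 700).mp pc27 p (by omega) (by omega)
  rcases Nat.lt_or_ge p 1420300 with h | h
  · exact (Table.relOK_iff chkPaths 1419600 700).mp pc28 p (by omega) (by omega)
  rcases Nat.lt_or_ge p 1421000 with h | h
  · exact (Table.relOK_iff chkPaths 1420300 700).mp pc29 p (by omega) (by omega)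
  rcases Nat.lt_or_ge p 1421700 with h | h
  · exact (Table.relOK_iff chkPaths 1421000 700).mp pc30 p (by omega) (by omega)
  rcases Nat.lt_or_ge p 1422400 with h | h
  · exact (Table.relOK_iff chkPaths 1421700 700).mp pc31 p (by omega) (by omega)
  rcases Nat.lt_or_ge p 1423100 with h | h
  · exact (Table.relOK_iff chkPaths 1422400 700).mp pc32 p (by omega) (by omega)
  rcases Nat.lt_or_ge p 1423800 with h | h
  · exact (Table.relOK_iff chkPaths 1423100 700).mp pc33 p (by omega) (by omega)
  rcases Nat.lt_or_ge p 1424500 with h | h
  · exact (Table.relOK_iff chkPaths 1423800 700).mp pc34 p (by omega) (by omega)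
  rcases Nat.lt_or_ge p 1425200 with h | h
  · exact (Table.relOK_iff chkPaths 1424500 700).mp pc35 p (by omega) (by omega)
  rcases Nat.lt_or_ge p 1425900 with h | h
  · exact (Table.relOK_iff chkPaths 1425200 700).mp pc36 p (by omega) (by omega)
  rcases Nat.lt_or_ge p 1426600 with h | h
  · exact (Table.relOK_iff chkPaths 1425900 700).mp pc37 p (by omega) (by omega)
  rcases Nat.lt_or_ge p 1427300 with h | h
  · exact (Table.relOK_iff chkPaths 1426600 700).mp pc38 p (by omega) (by omega)
  exact (Table.relOK_iff chkPaths 1427300 700).mp pc39 p (by omega) (by omega)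

end Cfsg.Agent.Lib.Helper16.HNP.C55
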