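import Cfsg.Agent.Lib.Helper28.TC2Range
import Cfsg.Agent.Lib.Helper16.HNP.Table
import Cfsg.Agent.Lib.Helper16.HNP.C46
set_option autoImplicit false
set_option maxRecDepth 100000
set_option maxHeartbeats 0
set_option Elab.async false

namespace Cfsg.Agent.Lib.Helper16.HNP.C56
open Cfsg.Agent.Lib.Helper28.TC2Upper Cfsg.Agent.Lib.Helper28.TC2Lower Cfsg.Agent.Lib.Helper28.TC2Range Cfsg.Agent.Lib.Helper16.HNP.Table

theorem pc0 : table.relOK chkPaths 1428000 700 = true := by decide +kernel
theorem pc1 : table.relOK chkPaths 1428700 700 = true := by decide +kernel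
theorem pc2 : table.relOK chkPaths 1429400 700 = true := by decide +kernel
theorem pc3 : table.relOK chkPaths 1430100 700 = true := by decide +kernel
theorem pc4 : table.relOK chkPaths 1430800 700 = true := by decide +kernel
theorem pc5 : table.relOK chkPaths 1431500 700 = true := by decide +kernel
theorem pc6 : table.relOK chkPaths 1432200 700 = true := by decide +kernel
theorem pc7 : table.relOK chkPaths 1432900 700 = true := by decide +kernel
theorem pc8 : table.relOK chkPaths 1433600 700 = true := by decide +kernel
theorem pc9 : table.relOK chkPaths 1434300 700 = true := by decide +kernel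
theorem pc10 : table.relOK chkPaths 1435000 700 = true := by decide +kernel
theorem pc11 : table.relOK chkPaths 1435700 700 = true := by decide +kernel
theorem pc12 : table.relOK chkPaths 1436400 700 = true := by decide +kernel
theorem pc13 : table.relOK chkPaths 1437100 700 = true := by decide +kernel
theorem pc14 : table.relOK chkPaths 1437800 700 = true := by decide +kernel
theorem pc15 : table.relOK chkPaths 1438500 700 = true := by decide +kernel
theorem pc16 : table.relOK chkPaths 1439200 700 = true := by decide +kernel
theorem pc17 : table.relOK chkPaths 1439900 700 = true := by decide +kernel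
theorem pc18 : table.relOK chkPaths 1440600 700 = true := by decide +kernel
theorem pc19 : table.relOK chkPaths 1441300 700 = true := by decide +kernel
theorem pc20 : table.relOK chkPaths 1442000 700 = true := by decide +kernel
theorem pc21 : table.relOK chkPaths 1442700 700 = true := by decide +kernel
theorem pc22 : table.relOK chkPaths 1443400 700 = true := by decide +kernel
theorem pc23 : table.relOK chkPaths 1444100 700 = true := by decide +kernel
theorem pc24 : table.relOK chkPaths 1444800 700 = true := by decide +kernel
theorem pc25 : table.relOK chkPaths 1445500 700 = true := by decide +kernel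
theorem pc26 : table.relOK chkPaths 1446200 700 = true := by decide +kernel
theorem pc27 : table.relOK chkPaths 1446900 700 = true := by decide +kernel
theorem pc28 : table.relOK chkPaths 1447600 700 = true := by decide +kernel
theorem pc29 : table.relOK chkPaths 1448300 700 = true := by decide +kernel
theorem pc30 : table.relOK chkPaths 1449000 700 = true := by decide +kernel
theorem pc31 : table.relOK chkPaths 1449700 700 = true := by decide +kernel
theorem pc32 : table.relOK chkPaths 1450400 700 = true := by decide +kernel
theorem pc33 : table.relOK chkPaths 1451100 700 = true := by decide +kernel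
theorem pc34 : table.relOK chkPaths 1451800 700 = true := by decide +kernel
theorem pc35 : table.relOK chkPaths 1452500 700 = true := by decide +kernel
theorem pc36 : table.relOK chkPaths 1453200 700 = true := by decide +kernel
theorem pc37 : table.relOK chkPaths 1453900 700 = true := by decide +kernel
theorem pc38 : table.relOK chkPaths 1454600 700 = true := by decide +kernel
theorem pc39 : table.relOK chkPaths 1455300 700 = true := by decide +kernel

theorem range : ∀ p, 1428000 ≤ p → p < 1456000 → ∀ r ∈ chkPaths, table.walkT r p = p := by
  intro p h1 h2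
  rcases Nat.lt_or_ge p 1428700 with h | h
  · exact (Table.relOK_iff chkPaths 1428000 700).mp pc0 p (by omega) (by omega)
  rcases Nat.lt_or_ge p 1429400 with h | h
  · exact (Table.relOK_iff chkPaths 1428700 700).mp pc1 p (by omega) (by omega)
  rcases Nat.lt_or_ge p 1430100 with h | h
  · exact (Table.relOK_iff chkPaths 1429400 700).mp pc2 p (by omega) (by omega)
  rcases Nat.lt_or_ge p 1430800 with h | h
  · exact (Table.relOK_iff chkPaths 1430100 700).mp pc3 p (by omega) (by omega)
  rcases Nat.lt_or_ge p 1431500 with h | h
  · exact (Table.relOK_iff chkPaths 1430800 700).mp pc4 p (by omega) (by omega)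
  rcases Nat.lt_or_ge p 1432200 with h | h
  · exact (Table.relOK_iff chkPaths 1431500 700).mp pc5 p (by omega) (by omega)
  rcases Nat.lt_or_ge p 1432900 with h | h
  · exact (Table.relOK_iff chkPaths 1432200 700).mp pc6 p (by omega) (by omega)
  rcases Nat.lt_or_ge p 1433600 with h | h
  · exact (Table.relOK_iff chkPaths 1432900 700).mp pc7 p (by omega) (by omega)
  rcases Nat.lt_or_ge p 1434300 with h | h
  · exact (Table.relOK_iff chkPaths 1433600 700).mp pc8 p (by omega) (by omega)
  rcases Nat.lt_or_ge p 1435000 with h | h
  · exact (Table.relOK_iff chkPaths 1434300 700).mp pc9 p (by omega) (by omega)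
  rcases Nat.lt_or_ge p 1435700 with h | h
  · exact (Table.relOK_iff chkPaths 1435000 700).mp pc10 p (by omega) (by omega)
  rcases Nat.lt_or_ge p 1436400 with h | h
  · exact (Table.relOK_iff chkPaths 1435700 700).mp pc11 p (by omega) (by omega)
  rcases Nat.lt_or_ge p 1437100 with h | h
  · exact (Table.relOK_iff chkPaths 1436400 700).mp pc12 p (by omega) (by omega)
  rcases Nat.lt_or_ge p 1437800 with h | h
  · exact (Table.relOK_iff chkPaths 1437100 700).mp pc13 p (by omega) (by omega)
  rcases Nat.lt_or_ge p 1438500 with h | h
  · exact (Table.relOK_iff chkPaths 1437800 700).mp pc14 p (by omega) (by omega)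
  rcases Nat.lt_or_ge p 1439200 with h | h
  · exact (Table.relOK_iff chkPaths 1438500 700).mp pc15 p (by omega) (by omega)
  rcases Nat.lt_or_ge p 1439900 with h | h
  · exact (Table.relOK_iff chkPaths 1439200 700).mp pc16 p (by omega) (by omega)
  rcases Nat.lt_or_ge p 1440600 with h | h
  · exact (Table.relOK_iff chkPaths 1439900 700).mp pc17 p (by omega) (by omega)
  rcases Nat.lt_or_ge p 1441300 with h | h
  · exact (Table.relOK_iff chkPaths 1440600 700).mp pc18 p (by omega) (by omega)
  rcases Nat.lt_or_ge p 1442000 with h | h
  · exact (Table.relOK_iff chkPaths 1441300 700).mp pc19 p (by omega) (by omega)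
  rcases Nat.lt_or_ge p 1442700 with h | h
  · exact (Table.relOK_iff chkPaths 1442000 700).mp pc20 p (by omega) (by omega)
  rcases Nat.lt_or_ge p 1443400 with h | h
  · exact (Table.relOK_iff chkPaths 1442700 700).mp pc21 p (by omega) (by omega)
  rcases Nat.lt_or_ge p 1444100 with h | h
  · exact (Table.relOK_iff chkPaths 1443400 700).mp pc22 p (by omega) (by omega)
  rcases Nat.lt_or_ge p 1444800 with h | h
  · exact (Table.relOK_iff chkPaths 1444100 700).mp pc23 p (by omega) (by omega)
  rcases Nat.lt_or_ge p 1445500 with h | h
  · exact (Table.relOK_iff chkPaths 1444800 700).mp pc24 p (by omega) (by omega)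
  rcases Nat.lt_or_ge p 1446200 with h | h
  · exact (Table.relOK_iff chkPaths 1445500 700).mp pc25 p (by omega) (by omega)
  rcases Nat.lt_or_ge p 1446900 with h | h
  · exact (Table.relOK_iff chkPaths 1446200 700).mp pc26 p (by omega) (by omega)
  rcases Nat.lt_or_ge p 1447600 with h | h
  · exact (Table.relOK_iff chkPaths 1446900 700).mp pc27 p (by omega) (by omega)
  rcases Nat.lt_or_ge p 1448300 with h | h
  · exact (Table.relOK_iff chkPaths 1447600 700).mp pc28 p (by omega) (by omega)
  rcases Nat.lt_or_ge p 1449000 with h | h
  · exact (Table.relOK_iff chkPaths 1448300 700).mp pc29 p (by omega) (by omega)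
  rcases Nat.lt_or_ge p 1449700 with h | h
  · exact (Table.relOK_iff chkPaths 1449000 700).mp pc30 p (by omega) (by omega)
  rcases Nat.lt_or_ge p 1450400 with h | h
  · exact (Table.relOK_iff chkPaths 1449700 700).mp pc31 p (by omega) (by omega)
  rcases Nat.lt_or_ge p 1451100 with h | h
  · exact (Table.relOK_iff chkPaths 1450400 700).mp pc32 p (by omega) (by omega)
  rcases Nat.lt_or_ge p 1451800 with h | h
  · exact (Table.relOK_iff chkPaths 1451100 700).mp pc33 p (by omega) (by omega)
  rcases Nat.lt_or_ge p 1452500 with h | h
  · exact (Table.relOK_iff chkPaths 1451800 700).mp pc34 p (by omega) (by omega)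
  rcases Nat.lt_or_ge p 1453200 with h | h
  · exact (Table.relOK_iff chkPaths 1452500 700).mp pc35 p (by omega) (by omega)
  rcases Nat.lt_or_ge p 1453900 with h | h
  · exact (Table.relOK_iff chkPaths 1453200 700).mp pc36 p (by omega) (by omega)
  rcases Nat.lt_or_ge p 1454600 with h | h
  · exact (Table.relOK_iff chkPaths 1453900 700).mp pc37 p (by omega) (by omega)
  rcases Nat.lt_or_ge p 1455300 with h | h
  · exact (Table.relOK_iff chkPaths 1454600 700).mp pc38 p (by omega) (by omega)
  exact (Table.relOK_iff chkPaths 1455300 700).mp pc39 p (by omega) (by omega)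

end Cfsg.Agent.Lib.Helper16.HNP.C56
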