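import Cfsg.Agent.Lib.Helper28.TC2Range
import Cfsg.Agent.Lib.Helper16.HNP.Table
import Cfsg.Agent.Lib.Helper16.HNP.C47
set_option autoImplicit false
set_option maxRecDepth 100000
set_option maxHeartbeats 0
set_option Elab.async false

namespace Cfsg.Agent.Lib.Helper16.HNP.C57
open Cfsg.Agent.Lib.Helper28.TC2Upper Cfsg.Agent.Lib.Helper28.TC2Lower Cfsg.Agent.Lib.Helper28.TC2Range Cfsg.Agent.Lib.Helper16.HNP.Table

theorem pc0 : table.relOK chkPaths 1456000 700 = true := by decide +kernel
theorem pc1 : table.relOK chkPaths 1456700 700 = true := by decide +kernel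
theorem pc2 : table.relOK chkPaths 1457400 700 = true := by decide +kernel
theorem pc3 : table.relOK chkPaths 1458100 700 = true := by decide +kernel
theorem pc4 : table.relOK chkPaths 1458800 700 = true := by decide +kernel
theorem pc5 : table.relOK chkPaths 1459500 700 = true := by decide +kernel
theorem pc6 : table.relOK chkPaths 1460200 700 = true := by decide +kernel
theorem pc7 : table.relOK chkPaths 1460900 700 = true := by decide +kernel
theorem pc8 : table.relOK chkPaths 1461600 700 = true := by decide +kernel
theorem pc9 : table.relOK chkPaths 1462300 700 = true := by decide +kernel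
theorem pc10 : table.relOK chkPaths 1463000 700 = true := by decide +kernel
theorem pc11 : table.relOK chkPaths 1463700 700 = true := by decide +kernel
theorem pc12 : table.relOK chkPaths 1464400 700 = true := by decide +kernel
theorem pc13 : table.relOK chkPaths 1465100 700 = true := by decide +kernel
theorem pc14 : table.relOK chkPaths 1465800 700 = true := by decide +kernel
theorem pc15 : table.relOK chkPaths 1466500 700 = true := by decide +kernel
theorem pc16 : table.relOK chkPaths 1467200 700 = true := by decide +kernel
theorem pc17 : table.relOK chkPaths 1467900 700 = true := by decide +kernel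
theorem pc18 : table.relOK chkPaths 1468600 700 = true := by decide +kernel
theorem pc19 : table.relOK chkPaths 1469300 700 = true := by decide +kernel
theorem pc20 : table.relOK chkPaths 1470000 700 = true := by decide +kernel
theorem pc21 : table.relOK chkPaths 1470700 700 = true := by decide +kernel
theorem pc22 : table.relOK chkPaths 1471400 700 = true := by decide +kernel
theorem pc23 : table.relOK chkPaths 1472100 700 = true := by decide +kernel
theorem pc24 : table.relOK chkPaths 1472800 700 = true := by decide +kernel
theorem pc25 : table.relOK chkPaths 1473500 700 = true := by decide +kernel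
theorem pc26 : table.relOK chkPaths 1474200 700 = true := by decide +kernel
theorem pc27 : table.relOK chkPaths 1474900 700 = true := by decide +kernel
theorem pc28 : table.relOK chkPaths 1475600 700 = true := by decide +kernel
theorem pc29 : table.relOK chkPaths 1476300 700 = true := by decide +kernel
theorem pc30 : table.relOK chkPaths 1477000 700 = true := by decide +kernel
theorem pc31 : table.relOK chkPaths 1477700 700 = true := by decide +kernel
theorem pc32 : table.relOK chkPaths 1478400 700 = true := by decide +kernel
theorem pc33 : table.relOK chkPaths 1479100 700 = true := by decide +kernel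
theorem pc34 : table.relOK chkPaths 1479800 700 = true := by decide +kernel
theorem pc35 : table.relOK chkPaths 1480500 700 = true := by decide +kernel
theorem pc36 : table.relOK chkPaths 1481200 700 = true := by decide +kernel
theorem pc37 : table.relOK chkPaths 1481900 700 = true := by decide +kernel
theorem pc38 : table.relOK chkPaths 1482600 700 = true := by decide +kernel
theorem pc39 : table.relOK chkPaths 1483300 700 = true := by decide +kernel

theorem range : ∀ p, 1456000 ≤ p → p < 1484000 → ∀ r ∈ chkPaths, table.walkT r p = p := by
  intro p h1 h2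
  rcases Nat.lt_or_ge p 1456700 with h | h
  · exact (Table.relOK_iff chkPaths 1456000 700).mp pc0 p (by omega) (by omega)
  rcases Nat.lt_or_ge p 1457400 with h | h
  · exact (Table.relOK_iff chkPaths 1456700 700).mp pc1 p (by omega) (by omega)
  rcases Nat.lt_or_ge p 1458100 with h | h
  · exact (Table.relOK_iff chkPaths 1457400 700).mp pc2 p (by omega) (by omega)
  rcases Nat.lt_or_ge p 1458800 with h | h
  · exact (Table.relOK_iff chkPaths 1458100 700).mp pc3 p (by omega) (by omega)
  rcases Nat.lt_or_ge p 1459500 with h | h
  · exact (Table.relOK_iff chkPaths 1458800 700).mp pc4 p (by omega) (by omega)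
  rcases Nat.lt_or_ge p 1460200 with h | h
  · exact (Table.relOK_iff chkPaths 1459500 700).mp pc5 p (by omega) (by omega)
  rcases Nat.lt_or_ge p 1460900 with h | h
  · exact (Table.relOK_iff chkPaths 1460200 700).mp pc6 p (by omega) (by omega)
  rcases Nat.lt_or_ge p 1461600 with h | h
  · exact (Table.relOK_iff chkPaths 1460900 700).mp pc7 p (by omega) (by omega)
  rcases Nat.lt_or_ge p 1462300 with h | h
  · exact (Table.relOK_iff chkPaths 1461600 700).mp pc8 p (by omega) (by omega)
  rcases Nat.lt_or_ge p 1463000 with h | h
  · exact (Table.relOK_iff chkPaths 1462300 700).mp pc9 p (by omega) (by omega)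
  rcases Nat.lt_or_ge p 1463700 with h | h
  · exact (Table.relOK_iff chkPaths 1463000 700).mp pc10 p (by omega) (by omega)
  rcases Nat.lt_or_ge p 1464400 with h | h
  · exact (Table.relOK_iff chkPaths 1463700 700).mp pc11 p (by omega) (by omega)
  rcases Nat.lt_or_ge p 1465100 with h | h
  · exact (Table.relOK_iff chkPaths 1464400 700).mp pc12 p (by omega) (by omega)
  rcases Nat.lt_or_ge p 1465800 with h | h
  · exact (Table.relOK_iff chkPaths 1465100 700).mp pc13 p (by omega) (by omega)
  rcases Nat.lt_or_ge p 1466500 with h | h
  · exact (Table.relOK_iff chkPaths 1465800 700).mp pc14 p (by omega) (by omega)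
  rcases Nat.lt_or_ge p 1467200 with h | h
  · exact (Table.relOK_iff chkPaths 1466500 700).mp pc15 p (by omega) (by omega)
  rcases Nat.lt_or_ge p 1467900 with h | h
  · exact (Table.relOK_iff chkPaths 1467200 700).mp pc16 p (by omega) (by omega)
  rcases Nat.lt_or_ge p 1468600 with h | h
  · exact (Table.relOK_iff chkPaths 1467900 700).mp pc17 p (by omega) (by omega)
  rcases Nat.lt_or_ge p 1469300 with h | h
  · exact (Table.relOK_iff chkPaths 1468600 700).mp pc18 p (by omega) (by omega)
  rcases Nat.lt_or_ge p 1470000 with h | h
  · exact (Table.relOK_iff chkPaths 1469300 700).mp pc19 p (by omega) (by omega)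
  rcases Nat.lt_or_ge p 1470700 with h | h
  · exact (Table.relOK_iff chkPaths 1470000 700).mp pc20 p (by omega) (by omega)
  rcases Nat.lt_or_ge p 1471400 with h | h
  · exact (Table.relOK_iff chkPaths 1470700 700).mp pc21 p (by omega) (by omega)
  rcases Nat.lt_or_ge p 1472100 with h | h
  · exact (Table.relOK_iff chkPaths 1471400 700).mp pc22 p (by omega) (by omega)
  rcases Nat.lt_or_ge p 1472800 with h | h
  · exact (Table.relOK_iff chkPaths 1472100 700).mp pc23 p (by omega) (by omega)
  rcases Nat.lt_or_ge p 1473500 with h | h
  · exact (Table.relOK_iff chkPaths 1472800 700).mp pc24 p (by omega) (by omega)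
  rcases Nat.lt_or_ge p 1474200 with h | h
  · exact (Table.relOK_iff chkPaths 1473500 700).mp pc25 p (by omega) (by omega)
  rcases Nat.lt_or_ge p 1474900 with h | h
  · exact (Table.relOK_iff chkPaths 1474200 700).mp pc26 p (by omega) (by omega)
  rcases Nat.lt_or_ge p 1475600 with h | h
  · exact (Table.relOK_iff chkPaths 1474900 700).mp pc27 p (by omega) (by omega)
  rcases Nat.lt_or_ge p 1476300 with h | h
  · exact (Table.relOK_iff chkPaths 1475600 700).mp pc28 p (by omega) (by omega)
  rcases Nat.lt_or_ge p 1477000 with h | h
  · exact (Table.relOK_iff chkPaths 1476300 700).mp pc29 p (by omega) (by omega)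
  rcases Nat.lt_or_ge p 1477700 with h | h
  · exact (Table.relOK_iff chkPaths 1477000 700).mp pc30 p (by omega) (by omega)
  rcases Nat.lt_or_ge p 1478400 with h | h
  · exact (Table.relOK_iff chkPaths 1477700 700).mp pc31 p (by omega) (by omega)
  rcases Nat.lt_or_ge p 1479100 with h | h
  · exact (Table.relOK_iff chkPaths 1478400 700).mp pc32 p (by omega) (by omega)
  rcases Nat.lt_or_ge p 1479800 with h | h
  · exact (Table.relOK_iff chkPaths 1479100 700).mp pc33 p (by omega) (by omega)
  rcases Nat.lt_or_ge p 1480500 with h | h
  · exact (Table.relOK_iff chkPaths 1479800 700).mp pc34 p (by omega) (by omega)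
  rcases Nat.lt_or_ge p 1481200 with h | h
  · exact (Table.relOK_iff chkPaths 1480500 700).mp pc35 p (by omega) (by omega)
  rcases Nat.lt_or_ge p 1481900 with h | h
  · exact (Table.relOK_iff chkPaths 1481200 700).mp pc36 p (by omega) (by omega)
  rcases Nat.lt_or_ge p 1482600 with h | h
  · exact (Table.relOK_iff chkPaths 1481900 700).mp pc37 p (by omega) (by omega)
  rcases Nat.lt_or_ge p 1483300 with h | h
  · exact (Table.relOK_iff chkPaths 1482600 700).mp pc38 p (by omega) (by omega)
  exact (Table.relOK_iff chkPaths 1483300 700).mp pc39 p (by omega) (by omega)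

end Cfsg.Agent.Lib.Helper16.HNP.C57
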