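import Cfsg.Agent.Lib.Helper28.TC2Range
import Cfsg.Agent.Lib.Helper16.HNP.Table
import Cfsg.Agent.Lib.Helper16.HNP.C38
set_option autoImplicit false
set_option maxRecDepth 100000
set_option maxHeartbeats 0
set_option Elab.async false

namespace Cfsg.Agent.Lib.Helper16.HNP.C48
open Cfsg.Agent.Lib.Helper28.TC2Upper Cfsg.Agent.Lib.Helper28.TC2Lower Cfsg.Agent.Lib.Helper28.TC2Range Cfsg.Agent.Lib.Helper16.HNP.Table

theorem pc0 : table.relOK chkPaths 1204000 700 = true := by decide +kernel
theorem pc1 : table.relOK chkPaths 1204700 700 = true := by decide +kernel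
theorem pc2 : table.relOK chkPaths 1205400 700 = true := by decide +kernel
theorem pc3 : table.relOK chkPaths 1206100 700 = true := by decide +kernel
theorem pc4 : table.relOK chkPaths 1206800 700 = true := by decide +kernel
theorem pc5 : table.relOK chkPaths 1207500 700 = true := by decide +kernel
theorem pc6 : table.relOK chkPaths 1208200 700 = true := by decide +kernel
theorem pc7 : table.relOK chkPaths 1208900 700 = true := by decide +kernel
theorem pc8 : table.relOK chkPaths 1209600 700 = true := by decide +kernel
theorem pc9 : table.relOK chkPaths 1210300 700 = true := by decide +kernel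
theorem pc10 : table.relOK chkPaths 1211000 700 = true := by decide +kernel
theorem pc11 : table.relOK chkPaths 1211700 700 = true := by decide +kernel
theorem pc12 : table.relOK chkPaths 1212400 700 = true := by decide +kernel
theorem pc13 : table.relOK chkPaths 1213100 700 = true := by decide +kernel
theorem pc14 : table.relOK chkPaths 1213800 700 = true := by decide +kernel
theorem pc15 : table.relOK chkPaths 1214500 700 = true := by decide +kernel
theorem pc16 : table.relOK chkPaths 1215200 700 = true := by decide +kernel
theorem pc17 : table.relOK chkPaths 1215900 700 = true := by decide +kernel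
theorem pc18 : table.relOK chkPaths 1216600 700 = true := by decide +kernel
theorem pc19 : table.relOK chkPaths 1217300 700 = true := by decide +kernel
theorem pc20 : table.relOK chkPaths 1218000 700 = true := by decide +kernel
theorem pc21 : table.relOK chkPaths 1218700 700 = true := by decide +kernel
theorem pc22 : table.relOK chkPaths 1219400 700 = true := by decide +kernel
theorem pc23 : table.relOK chkPaths 1220100 700 = true := by decide +kernel
theorem pc24 : table.relOK chkPaths 1220800 700 = true := by decide +kernel
theorem pc25 : table.relOK chkPaths 1221500 700 = true := by decide +kernel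
theorem pc26 : table.relOK chkPaths 1222200 700 = true := by decide +kernel
theorem pc27 : table.relOK chkPaths 1222900 700 = true := by decide +kernel
theorem pc28 : table.relOK chkPaths 1223600 700 = true := by decide +kernel
theorem pc29 : table.relOK chkPaths 1224300 700 = true := by decide +kernel
theorem pc30 : table.relOK chkPaths 1225000 700 = true := by decide +kernel
theorem pc31 : table.relOK chkPaths 1225700 700 = true := by decide +kernel
theorem pc32 : table.relOK chkPaths 1226400 700 = true := by decide +kernel
theorem pc33 : table.relOK chkPaths 1227100 700 = true := by decide +kernel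
theorem pc34 : table.relOK chkPaths 1227800 700 = true := by decide +kernel
theorem pc35 : table.relOK chkPaths 1228500 700 = true := by decide +kernel
theorem pc36 : table.relOK chkPaths 1229200 700 = true := by decide +kernel
theorem pc37 : table.relOK chkPaths 1229900 700 = true := by decide +kernel
theorem pc38 : table.relOK chkPaths 1230600 700 = true := by decide +kernel
theorem pc39 : table.relOK chkPaths 1231300 700 = true := by decide +kernel

theorem range : ∀ p, 1204000 ≤ p → p < 1232000 → ∀ r ∈ chkPaths, table.walkT r p = p := by
  intro p h1 h2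
  rcases Nat.lt_or_ge p 1204700 with h | h
  · exact (Table.relOK_iff chkPaths 1204000 700).mp pc0 p (by omega) (by omega)
  rcases Nat.lt_or_ge p 1205400 with h | h
  · exact (Table.relOK_iff chkPaths 1204700 700).mp pc1 p (by omega) (by omega)
  rcases Nat.lt_or_ge p 1206100 with h | h
  · exact (Table.relOK_iff chkPaths 1205400 700).mp pc2 p (by omega) (by omega)
  rcases Nat.lt_or_ge p 1206800 with h | h
  · exact (Table.relOK_iff chkPaths 1206100 700).mp pc3 p (by omega) (by omega)
  rcases Nat.lt_or_ge p 1207500 with h | h
  · exact (Table.relOK_iff chkPaths 1206800 700).mp pc4 p (by omega) (by omega)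
  rcases Nat.lt_or_ge p 1208200 with h | h
  · exact (Table.relOK_iff chkPaths 1207500 700).mp pc5 p (by omega) (by omega)
  rcases Nat.lt_or_ge p 1208900 with h | h
  · exact (Table.relOK_iff chkPaths 1208200 700).mp pc6 p (by omega) (by omega)
  rcases Nat.lt_or_ge p 1209600 with h | h
  · exact (Table.relOK_iff chkPaths 1208900 700).mp pc7 p (by omega) (by omega)
  rcases Nat.lt_or_ge p 1210300 with h | h
  · exact (Table.relOK_iff chkPaths 1209600 700).mp pc8 p (by omega) (by omega)
  rcases Nat.lt_or_ge p 1211000 with h | h
  · exact (Table.relOK_iff chkPaths 1210300 700).mp pc9 p (by omega) (by omega)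
  rcases Nat.lt_or_ge p 1211700 with h | h
  · exact (Table.relOK_iff chkPaths 1211000 700).mp pc10 p (by omega) (by omega)
  rcases Nat.lt_or_ge p 1212400 with h | h
  · exact (Table.relOK_iff chkPaths 1211700 700).mp pc11 p (by omega) (by omega)
  rcases Nat.lt_or_ge p 1213100 with h | h
  · exact (Table.relOK_iff chkPaths 1212400 700).mp pc12 p (by omega) (by omega)
  rcases Nat.lt_or_ge p 1213800 with h | h
  · exact (Table.relOK_iff chkPaths 1213100 700).mp pc13 p (by omega) (by omega)
  rcases Nat.lt_or_ge p 1214500 with h | h
  · exact (Table.relOK_iff chkPaths 1213800 700).mp pc14 p (by omega) (by omega)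
  rcases Nat.lt_or_ge p 1215200 with h | h
  · exact (Table.relOK_iff chkPaths 1214500 700).mp pc15 p (by omega) (by omega)
  rcases Nat.lt_or_ge p 1215900 with h | h
  · exact (Table.relOK_iff chkPaths 1215200 700).mp pc16 p (by omega) (by omega)
  rcases Nat.lt_or_ge p 1216600 with h | h
  · exact (Table.relOK_iff chkPaths 1215900 700).mp pc17 p (by omega) (by omega)
  rcases Nat.lt_or_ge p 1217300 with h | h
  · exact (Table.relOK_iff chkPaths 1216600 700).mp pc18 p (by omega) (by omega)
  rcases Nat.lt_or_ge p 1218000 with h | h
  · exact (Table.relOK_iff chkPaths 1217300 700).mp pc19 p (by omega) (by omega)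
  rcases Nat.lt_or_ge p 1218700 with h | h
  · exact (Table.relOK_iff chkPaths 1218000 700).mp pc20 p (by omega) (by omega)
  rcases Nat.lt_or_ge p 1219400 with h | h
  · exact (Table.relOK_iff chkPaths 1218700 700).mp pc21 p (by omega) (by omega)
  rcases Nat.lt_or_ge p 1220100 with h | h
  · exact (Table.relOK_iff chkPaths 1219400 700).mp pc22 p (by omega) (by omega)
  rcases Nat.lt_or_ge p 1220800 with h | h
  · exact (Table.relOK_iff chkPaths 1220100 700).mp pc23 p (by omega) (by omega)
  rcases Nat.lt_or_ge p 1221500 with h | h
  · exact (Table.relOK_iff chkPaths 1220800 700).mp pc24 p (by omega) (by omega)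
  rcases Nat.lt_or_ge p 1222200 with h | h
  · exact (Table.relOK_iff chkPaths 1221500 700).mp pc25 p (by omega) (by omega)
  rcases Nat.lt_or_ge p 1222900 with h | h
  · exact (Table.relOK_iff chkPaths 1222200 700).mp pc26 p (by omega) (by omega)
  rcases Nat.lt_or_ge p 1223600 with h | h
  · exact (Table.relOK_iff chkPaths 1222900 700).mp pc27 p (by omega) (by omega)
  rcases Nat.lt_or_ge p 1224300 with h | h
  · exact (Table.relOK_iff chkPaths 1223600 700).mp pc28 p (by omega) (by omega)
  rcases Nat.lt_or_ge p 1225000 with h | h
  · exact (Table.relOK_iff chkPaths 1224300 700).mp pc29 p (by omega) (by omega)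
  rcases Nat.lt_or_ge p 1225700 with h | h
  · exact (Table.relOK_iff chkPaths 1225000 700).mp pc30 p (by omega) (by omega)
  rcases Nat.lt_or_ge p 1226400 with h | h
  · exact (Table.relOK_iff chkPaths 1225700 700).mp pc31 p (by omega) (by omega)
  rcases Nat.lt_or_ge p 1227100 with h | h
  · exact (Table.relOK_iff chkPaths 1226400 700).mp pc32 p (by omega) (by omega)
  rcases Nat.lt_or_ge p 1227800 with h | h
  · exact (Table.relOK_iff chkPaths 1227100 700).mp pc33 p (by omega) (by omega)
  rcases Nat.lt_or_ge p 1228500 with h | h
  · exact (Table.relOK_iff chkPaths 1227800 700).mp pc34 p (by omega) (by omega)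
  rcases Nat.lt_or_ge p 1229200 with h | h
  · exact (Table.relOK_iff chkPaths 1228500 700).mp pc35 p (by omega) (by omega)
  rcases Nat.lt_or_ge p 1229900 with h | h
  · exact (Table.relOK_iff chkPaths 1229200 700).mp pc36 p (by omega) (by omega)
  rcases Nat.lt_or_ge p 1230600 with h | h
  · exact (Table.relOK_iff chkPaths 1229900 700).mp pc37 p (by omega) (by omega)
  rcases Nat.lt_or_ge p 1231300 with h | h
  · exact (Table.relOK_iff chkPaths 1230600 700).mp pc38 p (by omega) (by omega)
  exact (Table.relOK_iff chkPaths 1231300 700).mp pc39 p (by omega) (by omega)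

end Cfsg.Agent.Lib.Helper16.HNP.C48
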