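import Cfsg.Agent.Lib.Helper28.TC2Range
import Cfsg.Agent.Lib.Helper16.HNP.Table
import Cfsg.Agent.Lib.Helper16.HNP.C48
set_option autoImplicit false
set_option maxRecDepth 100000
set_option maxHeartbeats 0
set_option Elab.async false

namespace Cfsg.Agent.Lib.Helper16.HNP.C58
open Cfsg.Agent.Lib.Helper28.TC2Upper Cfsg.Agent.Lib.Helper28.TC2Lower Cfsg.Agent.Lib.Helper28.TC2Range Cfsg.Agent.Lib.Helper16.HNP.Table

theorem pc0 : table.relOK chkPaths 1484000 700 = true := by decide +kernel
theorem pc1 : table.relOK chkPaths 1484700 700 = true := by decide +kernel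
theorem pc2 : table.relOK chkPaths 1485400 700 = true := by decide +kernel
theorem pc3 : table.relOK chkPaths 1486100 700 = true := by decide +kernel
theorem pc4 : table.relOK chkPaths 1486800 700 = true := by decide +kernel
theorem pc5 : table.relOK chkPaths 1487500 700 = true := by decide +kernel
theorem pc6 : table.relOK chkPaths 1488200 700 = true := by decide +kernel
theorem pc7 : table.relOK chkPaths 1488900 700 = true := by decide +kernel
theorem pc8 : table.relOK chkPaths 1489600 700 = true := by decide +kernel
theorem pc9 : table.relOK chkPaths 1490300 700 = true := by decide +kernel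
theorem pc10 : table.relOK chkPaths 1491000 700 = true := by decide +kernel
theorem pc11 : table.relOK chkPaths 1491700 700 = true := by decide +kernel
theorem pc12 : table.relOK chkPaths 1492400 700 = true := by decide +kernel
theorem pc13 : table.relOK chkPaths 1493100 700 = true := by decide +kernel
theorem pc14 : table.relOK chkPaths 1493800 700 = true := by decide +kernel
theorem pc15 : table.relOK chkPaths 1494500 700 = true := by decide +kernel
theorem pc16 : table.relOK chkPaths 1495200 700 = true := by decide +kernel
theorem pc17 : table.relOK chkPaths 1495900 700 = true := by decide +kernel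
theorem pc18 : table.relOK chkPaths 1496600 700 = true := by decide +kernel
theorem pc19 : table.relOK chkPaths 1497300 700 = true := by decide +kernel
theorem pc20 : table.relOK chkPaths 1498000 700 = true := by decide +kernel
theorem pc21 : table.relOK chkPaths 1498700 700 = true := by decide +kernel
theorem pc22 : table.relOK chkPaths 1499400 700 = true := by decide +kernel
theorem pc23 : table.relOK chkPaths 1500100 700 = true := by decide +kernel
theorem pc24 : table.relOK chkPaths 1500800 700 = true := by decide +kernel
theorem pc25 : table.relOK chkPaths 1501500 700 = true := by decide +kernel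
theorem pc26 : table.relOK chkPaths 1502200 700 = true := by decide +kernel
theorem pc27 : table.relOK chkPaths 1502900 700 = true := by decide +kernel
theorem pc28 : table.relOK chkPaths 1503600 700 = true := by decide +kernel
theorem pc29 : table.relOK chkPaths 1504300 700 = true := by decide +kernel
theorem pc30 : table.relOK chkPaths 1505000 700 = true := by decide +kernel
theorem pc31 : table.relOK chkPaths 1505700 700 = true := by decide +kernel
theorem pc32 : table.relOK chkPaths 1506400 700 = true := by decide +kernel
theorem pc33 : table.relOK chkPaths 1507100 700 = true := by decide +kernel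
theorem pc34 : table.relOK chkPaths 1507800 700 = true := by decide +kernel
theorem pc35 : table.relOK chkPaths 1508500 700 = true := by decide +kernel
theorem pc36 : table.relOK chkPaths 1509200 700 = true := by decide +kernel
theorem pc37 : table.relOK chkPaths 1509900 700 = true := by decide +kernel
theorem pc38 : table.relOK chkPaths 1510600 700 = true := by decide +kernel
theorem pc39 : table.relOK chkPaths 1511300 700 = true := by decide +kernel

theorem range : ∀ p, 1484000 ≤ p → p < 1512000 → ∀ r ∈ chkPaths, table.walkT r p = p := by
  intro p h1 h2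
  rcases Nat.lt_or_ge p 1484700 with h | h
  · exact (Table.relOK_iff chkPaths 1484000 700).mp pc0 p (by omega) (by omega)
  rcases Nat.lt_or_ge p 1485400 with h | h
  · exact (Table.relOK_iff chkPaths 1484700 700).mp pc1 p (by omega) (by omega)
  rcases Nat.lt_or_ge p 1486100 with h | h
  · exact (Table.relOK_iff chkPaths 1485400 700).mp pc2 p (by omega) (by omega)
  rcases Nat.lt_or_ge p 1486800 with h | h
  · exact (Table.relOK_iff chkPaths 1486100 700).mp pc3 p (by omega) (by omega)
  rcases Nat.lt_or_ge p 1487500 with h | h
  · exact (Table.relOK_iff chkPaths 1486800 700).mp pc4 p (by omega) (by omega)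
  rcases Nat.lt_or_ge p 1488200 with h | h
  · exact (Table.relOK_iff chkPaths 1487500 700).mp pc5 p (by omega) (by omega)
  rcases Nat.lt_or_ge p 1488900 with h | h
  · exact (Table.relOK_iff chkPaths 1488200 700).mp pc6 p (by omega) (by omega)
  rcases Nat.lt_or_ge p 1489600 with h | h
  · exact (Table.relOK_iff chkPaths 1488900 700).mp pc7 p (by omega) (by omega)
  rcases Nat.lt_or_ge p 1490300 with h | h
  · exact (Table.relOK_iff chkPaths 1489600 700).mp pc8 p (by omega) (by omega)
  rcases Nat.lt_or_ge p 1491000 with h | h
  · exact (Table.relOK_iff chkPaths 1490300 700).mp pc9 p (by omega) (by omega)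
  rcases Nat.lt_or_ge p 1491700 with h | h
  · exact (Table.relOK_iff chkPaths 1491000 700).mp pc10 p (by omega) (by omega)
  rcases Nat.lt_or_ge p 1492400 with h | h
  · exact (Table.relOK_iff chkPaths 1491700 700).mp pc11 p (by omega) (by omega)
  rcases Nat.lt_or_ge p 1493100 with h | h
  · exact (Table.relOK_iff chkPaths 1492400 700).mp pc12 p (by omega) (by omega)
  rcases Nat.lt_or_ge p 1493800 with h | h
  · exact (Table.relOK_iff chkPaths 1493100 700).mp pc13 p (by omega) (by omega)
  rcases Nat.lt_or_ge p 1494500 with h | h
  · exact (Table.relOK_iff chkPaths 1493800 700).mp pc14 p (by omega) (by omega)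
  rcases Nat.lt_or_ge p 1495200 with h | h
  · exact (Table.relOK_iff chkPaths 1494500 700).mp pc15 p (by omega) (by omega)
  rcases Nat.lt_or_ge p 1495900 with h | h
  · exact (Table.relOK_iff chkPaths 1495200 700).mp pc16 p (by omega) (by omega)
  rcases Nat.lt_or_ge p 1496600 with h | h
  · exact (Table.relOK_iff chkPaths 1495900 700).mp pc17 p (by omega) (by omega)
  rcases Nat.lt_or_ge p 1497300 with h | h
  · exact (Table.relOK_iff chkPaths 1496600 700).mp pc18 p (by omega) (by omega)
  rcases Nat.lt_or_ge p 1498000 with h | h
  · exact (Table.relOK_iff chkPaths 1497300 700).mp pc19 p (by omega) (by omega)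
  rcases Nat.lt_or_ge p 1498700 with h | h
  · exact (Table.relOK_iff chkPaths 1498000 700).mp pc20 p (by omega) (by omega)
  rcases Nat.lt_or_ge p 1499400 with h | h
  · exact (Table.relOK_iff chkPaths 1498700 700).mp pc21 p (by omega) (by omega)
  rcases Nat.lt_or_ge p 1500100 with h | h
  · exact (Table.relOK_iff chkPaths 1499400 700).mp pc22 p (by omega) (by omega)
  rcases Nat.lt_or_ge p 1500800 with h | h
  · exact (Table.relOK_iff chkPaths 1500100 700).mp pc23 p (by omega) (by omega)
  rcases Nat.lt_or_ge p 1501500 with h | h
  · exact (Table.relOK_iff chkPaths 1500800 700).mp pc24 p (by omega) (by omega)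
  rcases Nat.lt_or_ge p 1502200 with h | h
  · exact (Table.relOK_iff chkPaths 1501500 700).mp pc25 p (by omega) (by omega)
  rcases Nat.lt_or_ge p 1502900 with h | h
  · exact (Table.relOK_iff chkPaths 1502200 700).mp pc26 p (by omega) (by omega)
  rcases Nat.lt_or_ge p 1503600 with h | h
  · exact (Table.relOK_iff chkPaths 1502900 700).mp pc27 p (by omega) (by omega)
  rcases Nat.lt_or_ge p 1504300 with h | h
  · exact (Table.relOK_iff chkPaths 1503600 700).mp pc28 p (by omega) (by omega)
  rcases Nat.lt_or_ge p 1505000 with h | h
  · exact (Table.relOK_iff chkPaths 1504300 700).mp pc29 p (by omega) (by omega)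
  rcases Nat.lt_or_ge p 1505700 with h | h
  · exact (Table.relOK_iff chkPaths 1505000 700).mp pc30 p (by omega) (by omega)
  rcases Nat.lt_or_ge p 1506400 with h | h
  · exact (Table.relOK_iff chkPaths 1505700 700).mp pc31 p (by omega) (by omega)
  rcases Nat.lt_or_ge p 1507100 with h | h
  · exact (Table.relOK_iff chkPaths 1506400 700).mp pc32 p (by omega) (by omega)
  rcases Nat.lt_or_ge p 1507800 with h | h
  · exact (Table.relOK_iff chkPaths 1507100 700).mp pc33 p (by omega) (by omega)
  rcases Nat.lt_or_ge p 1508500 with h | h
  · exact (Table.relOK_iff chkPaths 1507800 700).mp pc34 p (by omega) (by omega)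
  rcases Nat.lt_or_ge p 1509200 with h | h
  · exact (Table.relOK_iff chkPaths 1508500 700).mp pc35 p (by omega) (by omega)
  rcases Nat.lt_or_ge p 1509900 with h | h
  · exact (Table.relOK_iff chkPaths 1509200 700).mp pc36 p (by omega) (by omega)
  rcases Nat.lt_or_ge p 1510600 with h | h
  · exact (Table.relOK_iff chkPaths 1509900 700).mp pc37 p (by omega) (by omega)
  rcases Nat.lt_or_ge p 1511300 with h | h
  · exact (Table.relOK_iff chkPaths 1510600 700).mp pc38 p (by omega) (by omega)
  exact (Table.relOK_iff chkPaths 1511300 700).mp pc39 p (by omega) (by omega)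

end Cfsg.Agent.Lib.Helper16.HNP.C58
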