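import Cfsg.Agent.Lib.Helper28.TC2Range
import Cfsg.Agent.Lib.Helper16.HNP.Table
import Cfsg.Agent.Lib.Helper16.HNP.C49
set_option autoImplicit false
set_option maxRecDepth 100000
set_option maxHeartbeats 0
set_option Elab.async false

namespace Cfsg.Agent.Lib.Helper16.HNP.C59
open Cfsg.Agent.Lib.Helper28.TC2Upper Cfsg.Agent.Lib.Helper28.TC2Lower Cfsg.Agent.Lib.Helper28.TC2Range Cfsg.Agent.Lib.Helper16.HNP.Table

theorem pc0 : table.relOK chkPaths 1512000 700 = true := by decide +kernel
theorem pc1 : table.relOK chkPaths 1512700 700 = true := by decide +kernel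
theorem pc2 : table.relOK chkPaths 1513400 700 = true := by decide +kernel
theorem pc3 : table.relOK chkPaths 1514100 700 = true := by decide +kernel
theorem pc4 : table.relOK chkPaths 1514800 700 = true := by decide +kernel
theorem pc5 : table.relOK chkPaths 1515500 700 = true := by decide +kernel
theorem pc6 : table.relOK chkPaths 1516200 700 = true := by decide +kernel
theorem pc7 : table.relOK chkPaths 1516900 700 = true := by decide +kernel
theorem pc8 : table.relOK chkPaths 1517600 700 = true := by decide +kernel
theorem pc9 : table.relOK chkPaths 1518300 700 = true := by decide +kernel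
theorem pc10 : table.relOK chkPaths 1519000 700 = true := by decide +kernel
theorem pc11 : table.relOK chkPaths 1519700 700 = true := by decide +kernel
theorem pc12 : table.relOK chkPaths 1520400 700 = true := by decide +kernel
theorem pc13 : table.relOK chkPaths 1521100 700 = true := by decide +kernel
theorem pc14 : table.relOK chkPaths 1521800 700 = true := by decide +kernel
theorem pc15 : table.relOK chkPaths 1522500 700 = true := by decide +kernel
theorem pc16 : table.relOK chkPaths 1523200 700 = true := by decide +kernel
theorem pc17 : table.relOK chkPaths 1523900 700 = true := by decide +kernel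
theorem pc18 : table.relOK chkPaths 1524600 700 = true := by decide +kernel
theorem pc19 : table.relOK chkPaths 1525300 700 = true := by decide +kernel
theorem pc20 : table.relOK chkPaths 1526000 700 = true := by decide +kernel
theorem pc21 : table.relOK chkPaths 1526700 700 = true := by decide +kernel
theorem pc22 : table.relOK chkPaths 1527400 700 = true := by decide +kernel
theorem pc23 : table.relOK chkPaths 1528100 700 = true := by decide +kernel
theorem pc24 : table.relOK chkPaths 1528800 700 = true := by decide +kernel
theorem pc25 : table.relOK chkPaths 1529500 700 = true := by decide +kernel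
theorem pc26 : table.relOK chkPaths 1530200 700 = true := by decide +kernel
theorem pc27 : table.relOK chkPaths 1530900 700 = true := by decide +kernel
theorem pc28 : table.relOK chkPaths 1531600 700 = true := by decide +kernel
theorem pc29 : table.relOK chkPaths 1532300 700 = true := by decide +kernel
theorem pc30 : table.relOK chkPaths 1533000 700 = true := by decide +kernel
theorem pc31 : table.relOK chkPaths 1533700 700 = true := by decide +kernel
theorem pc32 : table.relOK chkPaths 1534400 700 = true := by decide +kernel
theorem pc33 : table.relOK chkPaths 1535100 700 = true := by decide +kernel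
theorem pc34 : table.relOK chkPaths 1535800 700 = true := by decide +kernel
theorem pc35 : table.relOK chkPaths 1536500 700 = true := by decide +kernel
theorem pc36 : table.relOK chkPaths 1537200 700 = true := by decide +kernel
theorem pc37 : table.relOK chkPaths 1537900 700 = true := by decide +kernel
theorem pc38 : table.relOK chkPaths 1538600 400 = true := by decide +kernel

theorem range : ∀ p, 1512000 ≤ p → p < 1539000 → ∀ r ∈ chkPaths, table.walkT r p = p := by
  intro p h1 h2
  rcases Nat.lt_or_ge p 1512700 with h | h
  · exact (Table.relOK_iff chkPaths 1512000 700).mp pc0 p (by omega) (by omega)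
  rcases Nat.lt_or_ge p 1513400 with h | h
  · exact (Table.relOK_iff chkPaths 1512700 700).mp pc1 p (by omega) (by omega)
  rcases Nat.lt_or_ge p 1514100 with h | h
  · exact (Table.relOK_iff chkPaths 1513400 700).mp pc2 p (by omega) (by omega)
  rcases Nat.lt_or_ge p 1514800 with h | h
  · exact (Table.relOK_iff chkPaths 1514100 700).mp pc3 p (by omega) (by omega)
  rcases Nat.lt_or_ge p 1515500 with h | h
  · exact (Table.relOK_iff chkPaths 1514800 700).mp pc4 p (by omega) (by omega)
  rcases Nat.lt_or_ge p 1516200 with h | h
  · exact (Table.relOK_iff chkPaths 1515500 700).mp pc5 p (by omega) (by omega)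
  rcases Nat.lt_or_ge p 1516900 with h | h
  · exact (Table.relOK_iff chkPaths 1516200 700).mp pc6 p (by omega) (by omega)
  rcases Nat.lt_or_ge p 1517600 with h | h
  · exact (Table.relOK_iff chkPaths 1516900 700).mp pc7 p (by omega) (by omega)
  rcases Nat.lt_or_ge p 1518300 with h | h
  · exact (Table.relOK_iff chkPaths 1517600 700).mp pc8 p (by omega) (by omega)
  rcases Nat.lt_or_ge p 1519000 with h | h
  · exact (Table.relOK_iff chkPaths 1518300 700).mp pc9 p (by omega) (by omega)
  rcases Nat.lt_or_ge p 1519700 with h | h
  · exact (Table.relOK_iff chkPaths 1519000 700).mp pc10 p (by omega) (by omega)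
  rcases Nat.lt_or_ge p 1520400 with h | h
  · exact (Table.relOK_iff chkPaths 1519700 700).mp pc11 p (by omega) (by omega)
  rcases Nat.lt_or_ge p 1521100 with h | h
  · exact (Table.relOK_iff chkPaths 1520400 700).mp pc12 p (by omega) (by omega)
  rcases Nat.lt_or_ge p 1521800 with h | h
  · exact (Table.relOK_iff chkPaths 1521100 700).mp pc13 p (by omega) (by omega)
  rcases Nat.lt_or_ge p 1522500 with h | h
  · exact (Table.relOK_iff chkPaths 1521800 700).mp pc14 p (by omega) (by omega)
  rcases Nat.lt_or_ge p 1523200 with h | h
  · exact (Table.relOK_iff chkPaths 1522500 700).mp pc15 p (by omega) (by omega)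
  rcases Nat.lt_or_ge p 1523900 with h | h
  · exact (Table.relOK_iff chkPaths 1523200 700).mp pc16 p (by omega) (by omega)
  rcases Nat.lt_or_ge p 1524600 with h | h
  · exact (Table.relOK_iff chkPaths 1523900 700).mp pc17 p (by omega) (by omega)
  rcases Nat.lt_or_ge p 1525300 with h | h
  · exact (Table.relOK_iff chkPaths 1524600 700).mp pc18 p (by omega) (by omega)
  rcases Nat.lt_or_ge p 1526000 with h | h
  · exact (Table.relOK_iff chkPaths 1525300 700).mp pc19 p (by omega) (by omega)
  rcases Nat.lt_or_ge p 1526700 with h | h
  · exact (Table.relOK_iff chkPaths 1526000 700).mp pc20 p (by omega) (by omega)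
  rcases Nat.lt_or_ge p 1527400 with h | h
  · exact (Table.relOK_iff chkPaths 1526700 700).mp pc21 p (by omega) (by omega)
  rcases Nat.lt_or_ge p 1528100 with h | h
  · exact (Table.relOK_iff chkPaths 1527400 700).mp pc22 p (by omega) (by omega)
  rcases Nat.lt_or_ge p 1528800 with h | h
  · exact (Table.relOK_iff chkPaths 1528100 700).mp pc23 p (by omega) (by omega)
  rcases Nat.lt_or_ge p 1529500 with h | h
  · exact (Table.relOK_iff chkPaths 1528800 700).mp pc24 p (by omega) (by omega)
  rcases Nat.lt_or_ge p 1530200 with h | h
  · exact (Table.relOK_iff chkPaths 1529500 700).mp pc25 p (by omega) (by omega)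
  rcases Nat.lt_or_ge p 1530900 with h | h
  · exact (Table.relOK_iff chkPaths 1530200 700).mp pc26 p (by omega) (by omega)
  rcases Nat.lt_or_ge p 1531600 with h | h
  · exact (Table.relOK_iff chkPaths 1530900 700).mp pc27 p (by omega) (by omega)
  rcases Nat.lt_or_ge p 1532300 with h | h
  · exact (Table.relOK_iff chkPaths 1531600 700).mp pc28 p (by omega) (by omega)
  rcases Nat.lt_or_ge p 1533000 with h | h
  · exact (Table.relOK_iff chkPaths 1532300 700).mp pc29 p (by omega) (by omega)
  rcases Nat.lt_or_ge p 1533700 with h | h
  · exact (Table.relOK_iff chkPaths 1533000 700).mp pc30 p (by omega) (by omega)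
  rcases Nat.lt_or_ge p 1534400 with h | h
  · exact (Table.relOK_iff chkPaths 1533700 700).mp pc31 p (by omega) (by omega)
  rcases Nat.lt_or_ge p 1535100 with h | h
  · exact (Table.relOK_iff chkPaths 1534400 700).mp pc32 p (by omega) (by omega)
  rcases Nat.lt_or_ge p 1535800 with h | h
  · exact (Table.relOK_iff chkPaths 1535100 700).mp pc33 p (by omega) (by omega)
  rcases Nat.lt_or_ge p 1536500 with h | h
  · exact (Table.relOK_iff chkPaths 1535800 700).mp pc34 p (by omega) (by omega)
  rcases Nat.lt_or_ge p 1537200 with h | h
  · exact (Table.relOK_iff chkPaths 1536500 700).mp pc35 p (by omega) (by omega)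
  rcases Nat.lt_or_ge p 1537900 with h | h
  · exact (Table.relOK_iff chkPaths 1537200 700).mp pc36 p (by omega) (by omega)
  rcases Nat.lt_or_ge p 1538600 with h | h
  · exact (Table.relOK_iff chkPaths 1537900 700).mp pc37 p (by omega) (by omega)
  exact (Table.relOK_iff chkPaths 1538600 400).mp pc38 p (by omega) (by omega)

end Cfsg.Agent.Lib.Helper16.HNP.C59
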