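import Cfsg.Agent.Lib.Helper28.TC2Range
import Cfsg.Agent.Lib.Helper16.HNP.Table
import Cfsg.Agent.Lib.Helper16.HNP.C0
import Cfsg.Agent.Lib.Helper16.HNP.C0
import Cfsg.Agent.Lib.Helper16.HNP.C1
import Cfsg.Agent.Lib.Helper16.HNP.C2
import Cfsg.Agent.Lib.Helper16.HNP.C3
import Cfsg.Agent.Lib.Helper16.HNP.C4
import Cfsg.Agent.Lib.Helper16.HNP.C5
import Cfsg.Agent.Lib.Helper16.HNP.C6
import Cfsg.Agent.Lib.Helper16.HNP.C7
import Cfsg.Agent.Lib.Helper16.HNP.C8
import Cfsg.Agent.Lib.Helper16.HNP.C9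
import Cfsg.Agent.Lib.Helper16.HNP.C10
import Cfsg.Agent.Lib.Helper16.HNP.C11
import Cfsg.Agent.Lib.Helper16.HNP.C12
import Cfsg.Agent.Lib.Helper16.HNP.C13
import Cfsg.Agent.Lib.Helper16.HNP.C14
import Cfsg.Agent.Lib.Helper16.HNP.C15
import Cfsg.Agent.Lib.Helper16.HNP.C16
import Cfsg.Agent.Lib.Helper16.HNP.C17
import Cfsg.Agent.Lib.Helper16.HNP.C18
import Cfsg.Agent.Lib.Helper16.HNP.C19
import Cfsg.Agent.Lib.Helper16.HNP.C20
import Cfsg.Agent.Lib.Helper16.HNP.C21
import Cfsg.Agent.Lib.Helper16.HNP.C22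
import Cfsg.Agent.Lib.Helper16.HNP.C23
import Cfsg.Agent.Lib.Helper16.HNP.C24
import Cfsg.Agent.Lib.Helper16.HNP.C25
import Cfsg.Agent.Lib.Helper16.HNP.C26
import Cfsg.Agent.Lib.Helper16.HNP.C27
import Cfsg.Agent.Lib.Helper16.HNP.C28
import Cfsg.Agent.Lib.Helper16.HNP.C29
import Cfsg.Agent.Lib.Helper16.HNP.C30
import Cfsg.Agent.Lib.Helper16.HNP.C31
import Cfsg.Agent.Lib.Helper16.HNP.C32
import Cfsg.Agent.Lib.Helper16.HNP.C33
import Cfsg.Agent.Lib.Helper16.HNP.C34
import Cfsg.Agent.Lib.Helper16.HNP.C35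
import Cfsg.Agent.Lib.Helper16.HNP.C36
import Cfsg.Agent.Lib.Helper16.HNP.C37
import Cfsg.Agent.Lib.Helper16.HNP.C38
import Cfsg.Agent.Lib.Helper16.HNP.C39
import Cfsg.Agent.Lib.Helper16.HNP.C40
import Cfsg.Agent.Lib.Helper16.HNP.C41
import Cfsg.Agent.Lib.Helper16.HNP.C42
import Cfsg.Agent.Lib.Helper16.HNP.C43
import Cfsg.Agent.Lib.Helper16.HNP.C44
import Cfsg.Agent.Lib.Helper16.HNP.C45
import Cfsg.Agent.Lib.Helper16.HNP.C46
import Cfsg.Agent.Lib.Helper16.HNP.C47
import Cfsg.Agent.Lib.Helper16.HNP.C48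
import Cfsg.Agent.Lib.Helper16.HNP.C49
import Cfsg.Agent.Lib.Helper16.HNP.C50
import Cfsg.Agent.Lib.Helper16.HNP.C51
import Cfsg.Agent.Lib.Helper16.HNP.C52
import Cfsg.Agent.Lib.Helper16.HNP.C53
import Cfsg.Agent.Lib.Helper16.HNP.C54
import Cfsg.Agent.Lib.Helper16.HNP.C55
import Cfsg.Agent.Lib.Helper16.HNP.C56
import Cfsg.Agent.Lib.Helper16.HNP.C57
import Cfsg.Agent.Lib.Helper16.HNP.C58
import Cfsg.Agent.Lib.Helper16.HNP.C59

set_option autoImplicit false
set_option maxRecDepth 100000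

namespace Cfsg.Agent.Lib.Helper16.HNP.Low
open Cfsg.Agent.Lib.Helper28.TC2Upper Cfsg.Agent.Lib.Helper28.TC2Lower Cfsg.Agent.Lib.Helper28.TC2Range Cfsg.Agent.Lib.Helper16.HNP.Table

theorem hinvOK : table.invOK = true := by decide +kernel

theorem hpermAll : ∀ p, p < table.n → Table.permRow table p = true := by
  intro p hv
  have hv' : p < 1539000 := hv
  rcases Nat.lt_or_ge p 360000 with h | h
  · exact Cfsg.Agent.Lib.Helper16.HNP.C0.range p (by omega) (by omega)
  rcases Nat.lt_or_ge p 720000 with h | h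
  · exact Cfsg.Agent.Lib.Helper16.HNP.C1.range p (by omega) (by omega)
  rcases Nat.lt_or_ge p 1080000 with h | h
  · exact Cfsg.Agent.Lib.Helper16.HNP.C2.range p (by omega) (by omega)
  rcases Nat.lt_or_ge p 1440000 with h | h
  · exact Cfsg.Agent.Lib.Helper16.HNP.C3.range p (by omega) (by omega)
  exact Cfsg.Agent.Lib.Helper16.HNP.C4.range p (by omega) (by omega)

theorem hT : table.OK := Table.ok_of_rows table hinvOK hpermAll

theorem hchkT : ∀ P ∈ chkPaths, ∀ p, p < table.n → table.walkT P p = p := by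
  intro P hm p hv
  have hv' : p < 1539000 := hv
  rcases Nat.lt_or_ge p 28000 with h | h
  · exact Cfsg.Agent.Lib.Helper16.HNP.C5.range p (by omega) (by omega) P hm
  rcases Nat.lt_or_ge p 56000 with h | h
  · exact Cfsg.Agent.Lib.Helper16.HNP.C6.range p (by omega) (by omega) P hm
  rcases Nat.lt_or_ge p 84000 with h | h
  · exact Cfsg.Agent.Lib.Helper16.HNP.C7.range p (by omega) (by omega) P hm
  rcases Nat.lt_or_ge p 112000 with h | h
  · exact Cfsg.Agent.Lib.Helper16.HNP.C8.range p (by omega) (by omega) P hm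
  rcases Nat.lt_or_ge p 140000 with h | h
  · exact Cfsg.Agent.Lib.Helper16.HNP.C9.range p (by omega) (by omega) P hm
  rcases Nat.lt_or_ge p 168000 with h | h
  · exact Cfsg.Agent.Lib.Helper16.HNP.C10.range p (by omega) (by omega) P hm
  rcases Nat.lt_or_ge p 196000 with h | h
  · exact Cfsg.Agent.Lib.Helper16.HNP.C11.range p (by omega) (by omega) P hm
  rcases Nat.lt_or_ge p 224000 with h | h
  · exact Cfsg.Agent.Lib.Helper16.HNP.C12.range p (by omega) (by omega) P hm
  rcases Nat.lt_or_ge p 252000 with h | h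
  · exact Cfsg.Agent.Lib.Helper16.HNP.C13.range p (by omega) (by omega) P hm
  rcases Nat.lt_or_ge p 280000 with h | h
  · exact Cfsg.Agent.Lib.Helper16.HNP.C14.range p (by omega) (by omega) P hm
  rcases Nat.lt_or_ge p 308000 with h | h
  · exact Cfsg.Agent.Lib.Helper16.HNP.C15.range p (by omega) (by omega) P hm
  rcases Nat.lt_or_ge p 336000 with h | h
  · exact Cfsg.Agent.Lib.Helper16.HNP.C16.range p (by omega) (by omega) P hm
  rcases Nat.lt_or_ge p 364000 with h | h
  · exact Cfsg.Agent.Lib.Helper16.HNP.C17.range p (by omega) (by omega) P hm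
  rcases Nat.lt_or_ge p 392000 with h | h
  · exact Cfsg.Agent.Lib.Helper16.HNP.C18.range p (by omega) (by omega) P hm
  rcases Nat.lt_or_ge p 420000 with h | h
  · exact Cfsg.Agent.Lib.Helper16.HNP.C19.range p (by omega) (by omega) P hm
  rcases Nat.lt_or_ge p 448000 with h | h
  · exact Cfsg.Agent.Lib.Helper16.HNP.C20.range p (by omega) (by omega) P hm
  rcases Nat.lt_or_ge p 476000 with h | h
  · exact Cfsg.Agent.Lib.Helper16.HNP.C21.range p (by omega) (by omega) P hm
  rcases Nat.lt_or_ge p 504000 with h | h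
  · exact Cfsg.Agent.Lib.Helper16.HNP.C22.range p (by omega) (by omega) P hm
  rcases Nat.lt_or_ge p 532000 with h | h
  · exact Cfsg.Agent.Lib.Helper16.HNP.C23.range p (by omega) (by omega) P hm
  rcases Nat.lt_or_ge p 560000 with h | h
  · exact Cfsg.Agent.Lib.Helper16.HNP.C24.range p (by omega) (by omega) P hm
  rcases Nat.lt_or_ge p 588000 with h | h
  · exact Cfsg.Agent.Lib.Helper16.HNP.C25.range p (by omega) (by omega) P hm
  rcases Nat.lt_or_ge p 616000 with h | h
  · exact Cfsg.Agent.Lib.Helper16.HNP.C26.range p (by omega) (by omega) P hm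
  rcases Nat.lt_or_ge p 644000 with h | h
  · exact Cfsg.Agent.Lib.Helper16.HNP.C27.range p (by omega) (by omega) P hm
  rcases Nat.lt_or_ge p 672000 with h | h
  · exact Cfsg.Agent.Lib.Helper16.HNP.C28.range p (by omega) (by omega) P hm
  rcases Nat.lt_or_ge p 700000 with h | h
  · exact Cfsg.Agent.Lib.Helper16.HNP.C29.range p (by omega) (by omega) P hm
  rcases Nat.lt_or_ge p 728000 with h | h
  · exact Cfsg.Agent.Lib.Helper16.HNP.C30.range p (by omega) (by omega) P hm
  rcases Nat.lt_or_ge p 756000 with h | h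
  · exact Cfsg.Agent.Lib.Helper16.HNP.C31.range p (by omega) (by omega) P hm
  rcases Nat.lt_or_ge p 784000 with h | h
  · exact Cfsg.Agent.Lib.Helper16.HNP.C32.range p (by omega) (by omega) P hm
  rcases Nat.lt_or_ge p 812000 with h | h
  · exact Cfsg.Agent.Lib.Helper16.HNP.C33.range p (by omega) (by omega) P hm
  rcases Nat.lt_or_ge p 840000 with h | h
  · exact Cfsg.Agent.Lib.Helper16.HNP.C34.range p (by omega) (by omega) P hm
  rcases Nat.lt_or_ge p 868000 with h | h
  · exact Cfsg.Agent.Lib.Helper16.HNP.C35.range p (by omega) (by omega) P hm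
  rcases Nat.lt_or_ge p 896000 with h | h
  · exact Cfsg.Agent.Lib.Helper16.HNP.C36.range p (by omega) (by omega) P hm
  rcases Nat.lt_or_ge p 924000 with h | h
  · exact Cfsg.Agent.Lib.Helper16.HNP.C37.range p (by omega) (by omega) P hm
  rcases Nat.lt_or_ge p 952000 with h | h
  · exact Cfsg.Agent.Lib.Helper16.HNP.C38.range p (by omega) (by omega) P hm
  rcases Nat.lt_or_ge p 980000 with h | h
  · exact Cfsg.Agent.Lib.Helper16.HNP.C39.range p (by omega) (by omega) P hm
  rcases Nat.lt_or_ge p 1008000 with h | h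
  · exact Cfsg.Agent.Lib.Helper16.HNP.C40.range p (by omega) (by omega) P hm
  rcases Nat.lt_or_ge p 1036000 with h | h
  · exact Cfsg.Agent.Lib.Helper16.HNP.C41.range p (by omega) (by omega) P hm
  rcases Nat.lt_or_ge p 1064000 with h | h
  · exact Cfsg.Agent.Lib.Helper16.HNP.C42.range p (by omega) (by omega) P hm
  rcases Nat.lt_or_ge p 1092000 with h | h
  · exact Cfsg.Agent.Lib.Helper16.HNP.C43.range p (by omega) (by omega) P hm
  rcases Nat.lt_or_ge p 1120000 with h | h
  · exact Cfsg.Agent.Lib.Helper16.HNP.C44.range p (by omega) (by omega) P hm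
  rcases Nat.lt_or_ge p 1148000 with h | h
  · exact Cfsg.Agent.Lib.Helper16.HNP.C45.range p (by omega) (by omega) P hm
  rcases Nat.lt_or_ge p 1176000 with h | h
  · exact Cfsg.Agent.Lib.Helper16.HNP.C46.range p (by omega) (by omega) P hm
  rcases Nat.lt_or_ge p 1204000 with h | h
  · exact Cfsg.Agent.Lib.Helper16.HNP.C47.range p (by omega) (by omega) P hm
  rcases Nat.lt_or_ge p 1232000 with h | h
  · exact Cfsg.Agent.Lib.Helper16.HNP.C48.range p (by omega) (by omega) P hm
  rcases Nat.lt_or_ge p 1260000 with h | h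
  · exact Cfsg.Agent.Lib.Helper16.HNP.C49.range p (by omega) (by omega) P hm
  rcases Nat.lt_or_ge p 1288000 with h | h
  · exact Cfsg.Agent.Lib.Helper16.HNP.C50.range p (by omega) (by omega) P hm
  rcases Nat.lt_or_ge p 1316000 with h | h
  · exact Cfsg.Agent.Lib.Helper16.HNP.C51.range p (by omega) (by omega) P hm
  rcases Nat.lt_or_ge p 1344000 with h | h
  · exact Cfsg.Agent.Lib.Helper16.HNP.C52.range p (by omega) (by omega) P hm
  rcases Nat.lt_or_ge p 1372000 with h | h
  · exact Cfsg.Agent.Lib.Helper16.HNP.C53.range p (by omega) (by omega) P hm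
  rcases Nat.lt_or_ge p 1400000 with h | h
  · exact Cfsg.Agent.Lib.Helper16.HNP.C54.range p (by omega) (by omega) P hm
  rcases Nat.lt_or_ge p 1428000 with h | h
  · exact Cfsg.Agent.Lib.Helper16.HNP.C55.range p (by omega) (by omega) P hm
  rcases Nat.lt_or_ge p 1456000 with h | h
  · exact Cfsg.Agent.Lib.Helper16.HNP.C56.range p (by omega) (by omega) P hm
  rcases Nat.lt_or_ge p 1484000 with h | h
  · exact Cfsg.Agent.Lib.Helper16.HNP.C57.range p (by omega) (by omega) P hm
  rcases Nat.lt_or_ge p 1512000 with h | h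
  · exact Cfsg.Agent.Lib.Helper16.HNP.C58.range p (by omega) (by omega) P hm
  exact Cfsg.Agent.Lib.Helper16.HNP.C59.range p (by omega) (by omega) P hm

end Cfsg.Agent.Lib.Helper16.HNP.Low
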