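import Cfsg.Agent.Lib.Helper28.TC2Hom
import Cfsg.Agent.Lib.Helper16.HNP.Low
import Cfsg.Prelude.Def_Spor_HN
set_option autoImplicit false
set_option maxRecDepth 100000

/-!
# The permutation representation of the presented group `Spor.HN` on 1539000 points

The coset table of `⟨x, y, z⟩` in `Spor.HN` is checked to be a table of mutually inverse maps on which all
relators act trivially; this gives a homomorphism to the symmetric group in which `x ^ 2` moves a point.
-/

namespace Cfsg.Agent.Lib.Helper16.HNP.Main
open Cfsg.Agent.Lib.Helper28.TC2Upper Cfsg.Agent.Lib.Helper28.TC2Lower Cfsg.Agent.Lib.Helper28.TC2Glue Cfsg.Agent.Lib.Helper28.TC2Hom Cfsg.Agent.Lib.Helper16.HNP.Table Cfsg.Agent.Lib.Helper16.HNP.Low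

/-- the relators in list form -/
def extraWords : List (List (Cfsg.Spor.HN.Gen × Bool)) := [
  [(.y, true), (.y, true), (.y, true), (.y, true), (.y, true), (.y, true)],
  [(.x, true), (.x, true), (.y, true), (.x, true), (.x, true), (.y, false)],
  [(.x, false), (.y, false), (.x, true), (.y, true), (.x, false), (.y, false), (.x, true), (.y, true), (.x, false), (.y, false), (.x, true), (.y, true)],
  [(.x, false), (.y, true), (.y, true), (.x, true), (.y, true), (.y, true), (.y, true), (.x, false), (.y, true), (.y, true), (.x, true), (.y, true), (.y, true), (.y, true), (.x, false), (.y, true), (.y, true), (.x, true), (.y, true), (.y, true), (.y, true)],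
  [(.x, true), (.y, true), (.x, true), (.y, true), (.x, true), (.y, true), (.x, true), (.y, true), (.x, true), (.y, true), (.x, true), (.y, true), (.x, true), (.y, true), (.x, true), (.y, true)],
  [(.x, true), (.y, true), (.x, true), (.y, true), (.y, true), (.y, true), (.x, true), (.y, true), (.x, true), (.y, true), (.y, true), (.y, true), (.x, true), (.y, true), (.x, true), (.y, true), (.y, true), (.y, true), (.x, true), (.y, true), (.x, true), (.y, true), (.y, true), (.y, true)],
  [(.z, true), (.z, true)],
  [(.z, true), (.x, true), (.z, true), (.x, true)],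
  [(.z, false), (.y, true), (.x, false), (.y, false), (.y, false), (.x, false), (.y, false), (.x, false), (.y, false), (.z, true), (.y, true), (.x, true), (.y, true), (.x, true), (.y, true), (.y, true), (.x, true), (.y, false), (.x, false), (.x, false)],
  [(.z, true), (.y, false), (.x, false), (.y, false), (.x, false), (.y, false), (.y, false), (.y, false), (.z, true), (.y, true), (.y, true), (.y, true), (.x, true), (.y, true), (.x, true), (.y, true), (.x, true), (.y, false), (.x, false), (.y, false), (.x, false), (.y, false), (.y, false), (.y, false), (.z, true), (.y, true), (.y, true), (.y, true), (.x, true), (.y, true), (.x, true), (.y, true), (.x, true), (.y, false), (.x, false), (.y, false), (.x, false), (.y, false), (.y, false), (.y, false), (.z, true), (.y, true), (.y, true), (.y, true), (.x, true), (.y, true), (.x, true), (.y, true), (.x, true)],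
  [(.t, true), (.t, true), (.t, true), (.t, true), (.t, true)],
  [(.x, false), (.t, true), (.x, true), (.t, true), (.t, true)],
  [(.t, false), (.y, false), (.t, true), (.y, true)],
  [(.z, true), (.t, true), (.z, true), (.t, true), (.z, true), (.t, true)] ]

theorem hextra : Cfsg.Spor.HN.extra = extraWords.map FreeGroup.mk := by
  rfl

/-- all relators in list form -/
def relWords : List (List (Cfsg.Spor.HN.Gen × Bool)) := coxWords Cfsg.Spor.HN.edges ++ extraWords

/-- coding of the letters -/
def lw : Cfsg.Spor.HN.Gen × Bool → ℕ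
  | (.x, true) => 0
  | (.x, false) => 1
  | (.y, true) => 2
  | (.y, false) => 3
  | (.z, _) => 4
  | (.t, true) => 5
  | (.t, false) => 6

/-- the relators -/
abbrev rels : Set (FreeGroup Cfsg.Spor.HN.Gen) := Cfsg.Spor.coxRelators Cfsg.Spor.HN.edges ∪ {r | r ∈ Cfsg.Spor.HN.extra}

theorem hrelmem : ∀ L ∈ relWords, pathOf lw L ∈ chkPaths := by decide +kernel

theorem hrelT : ∀ L ∈ relWords, ∀ p, p < table.n → table.walkT (pathOf lw L) p = p :=
  fun L hL => hchkT _ (hrelmem L hL)

/-- the permutation representation of `Spor.HN` on the cosets of `⟨x, y, z⟩` -/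
theorem perm_rep : ∃ φ : Cfsg.Spor.HN →* Equiv.Perm (Fin table.n),
    ∀ (L : List (Cfsg.Spor.HN.Gen × Bool)) (p : Fin table.n),
      (φ (PresentedGroup.mk rels (FreeGroup.mk L)) p).val = table.walkT (pathOf lw L) p.val :=
  hom_of_table rels relWords (fun r h => (mem_rels_iff _ _ _ hextra r).mp h) lw table hT
    (by rintro ⟨g, b⟩; cases g <;> cases b <;> decide)
    (by intro g; cases g <;> decide +kernel) hrelT

theorem walk_xx : table.walkT (pathOf lw [(.x, true), (.x, true)]) 1 = 4 := by decide +kernel

/-- `x ^ 2` is not trivial in `Spor.HN` -/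
theorem x_sq_ne_one : (PresentedGroup.mk rels Cfsg.Spor.HN.x : Cfsg.Spor.HN) ^ 2 ≠ 1 := by
  obtain ⟨φ, hφ⟩ := perm_rep
  intro h
  have hn : 1 < table.n := by show 1 < 1539000; omega
  have h1 := hφ [(.x, true), (.x, true)] ⟨1, hn⟩
  have e : (PresentedGroup.mk rels (FreeGroup.mk [(Cfsg.Spor.HN.Gen.x, true), (Cfsg.Spor.HN.Gen.x, true)]) : Cfsg.Spor.HN) =
      (PresentedGroup.mk rels Cfsg.Spor.HN.x : Cfsg.Spor.HN) ^ 2 := by
    rw [pow_two]; rfl
  rw [e, h, map_one, walk_xx] at h1
  have h2 : ((1 : Equiv.Perm (Fin table.n)) ⟨1, hn⟩).val = 1 := rfl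
  omega

end Cfsg.Agent.Lib.Helper16.HNP.Main
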